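import Cfsg.Agent.Lib.KnownB.Fi24Mult.Hurwitz

/-! Braid moves for the relation of the arms (generated data). -/

set_option autoImplicit false
set_option maxRecDepth 100000

namespace CfsgLib.KnownB.Fi24Mult

/-- moves -/
def armMoves0 : List (ℕ × ℕ × ℕ × List ℕ) := [
  (11, 0, 5, []),
  (12, 0, 5, []),
  (13, 2, 0, []),
  (23, 0, 5, []),
  (24, 0, 5, []),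
  (25, 2, 0, []),
  (35, 0, 5, []),
  (36, 0, 5, []),
  (37, 2, 0, []),
  (47, 0, 5, []),
  (48, 0, 5, []),
  (49, 2, 0, []),
  (59, 0, 5, []),
  (60, 0, 5, []),
  (61, 2, 0, []),
  (71, 0, 5, []),
  (72, 0, 5, []),
  (73, 2, 0, []),
  (83, 0, 5, []),
  (84, 0, 5, []),
  (85, 2, 0, []),
  (95, 0, 5, []),
  (96, 0, 5, []),
  (97, 2, 0, []),
  (107, 0, 5, []),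
  (108, 0, 5, []),
  (109, 2, 0, []),
  (119, 0, 5, []),
  (120, 0, 5, []),
  (121, 2, 0, []),
  (131, 0, 5, []),
  (132, 0, 5, []),
  (133, 2, 0, []),
  (143, 0, 5, []),
  (144, 0, 5, []),
  (145, 2, 0, []),
  (155, 0, 5, []),
  (156, 0, 5, []),
  (157, 2, 0, []),
  (167, 0, 5, []),
  (168, 0, 5, []),
  (169, 2, 0, []),
  (179, 0, 5, []),
  (180, 0, 5, []),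
  (181, 2, 0, []),
  (191, 0, 5, []),
  (192, 0, 5, []),
  (193, 2, 0, []),
  (198, 0, 5, []),
  (199, 0, 5, []),
  (200, 0, 5, []),
  (201, 0, 5, []),
  (202, 2, 0, []),
  (0, 0, 5, []),
  (1, 0, 5, []),
  (2, 0, 5, []),
  (3, 0, 5, []),
  (4, 0, 5, []),
  (5, 2, 0, []),
  (1, 0, 3, []),
  (2, 0, 3, []),
  (3, 0, 3, []),
  (4, 0, 3, []),
  (5, 0, 3, []),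
  (6, 0, 3, []),
  (7, 0, 3, []),
  (8, 0, 3, []),
  (9, 0, 3, []),
  (10, 0, 3, []),
  (11, 2, 0, []),
  (2, 0, 1, []),
  (3, 0, 1, []),
  (4, 0, 1, []),
  (5, 0, 1, []),
  (6, 0, 1, []),
  (7, 0, 1, []),
  (8, 0, 1, []),
  (9, 0, 1, []),
  (10, 0, 1, []),
  (11, 2, 0, []),
  (3, 0, 6, []),
  (4, 0, 6, []),
  (5, 0, 6, []),
  (6, 0, 6, []),
  (7, 0, 6, []),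
  (8, 0, 6, []),
  (9, 0, 6, []),
  (10, 0, 6, []),
  (11, 0, 6, []),
  (12, 2, 0, []),
  (4, 0, 8, []),
  (5, 0, 8, []),
  (6, 0, 8, []),
  (7, 0, 8, []),
  (8, 0, 8, []),
  (9, 0, 8, []),
  (10, 0, 8, []),
  (11, 0, 8, []),
  (12, 2, 0, []),
  (6, 0, 11, [])]

/-- moves -/
def armMoves1 : List (ℕ × ℕ × ℕ × List ℕ) := [
  (7, 0, 11, []),
  (8, 0, 11, []),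
  (9, 0, 11, []),
  (10, 0, 11, []),
  (11, 0, 11, []),
  (12, 0, 11, []),
  (13, 2, 0, []),
  (6, 0, 3, [4]),
  (7, 0, 3, [4]),
  (8, 0, 3, [4]),
  (9, 0, 3, [4]),
  (10, 0, 3, [4]),
  (11, 0, 3, [4]),
  (12, 1, 4, []),
  (13, 2, 0, []),
  (7, 0, 0, []),
  (8, 0, 0, []),
  (9, 0, 0, []),
  (10, 0, 0, []),
  (11, 0, 0, []),
  (12, 0, 0, []),
  (13, 0, 0, []),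
  (14, 2, 0, []),
  (8, 0, 7, [8]),
  (9, 0, 7, [8]),
  (10, 0, 7, [8]),
  (11, 0, 7, [8]),
  (12, 0, 7, [8]),
  (13, 0, 7, [8]),
  (14, 0, 7, [8]),
  (15, 1, 7, []),
  (16, 2, 0, []),
  (10, 0, 4, []),
  (11, 0, 4, []),
  (12, 0, 4, []),
  (13, 0, 4, []),
  (14, 0, 4, []),
  (15, 0, 4, []),
  (16, 0, 4, []),
  (17, 0, 4, []),
  (18, 2, 0, []),
  (2, 0, 0, [1]),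
  (3, 0, 0, [1]),
  (4, 0, 0, [1]),
  (5, 0, 0, [1]),
  (6, 0, 0, [1]),
  (7, 0, 0, [1]),
  (8, 0, 0, [1]),
  (9, 0, 0, [1]),
  (10, 2, 0, []),
  (3, 0, 8, [9]),
  (4, 0, 8, [9]),
  (5, 0, 8, [9]),
  (6, 1, 7, [9, 8]),
  (7, 0, 7, []),
  (8, 0, 7, []),
  (9, 0, 7, []),
  (10, 0, 7, []),
  (11, 2, 0, []),
  (0, 0, 4, [5]),
  (1, 0, 4, [5]),
  (2, 0, 4, [5]),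
  (3, 0, 4, [5]),
  (4, 0, 4, [5]),
  (5, 0, 4, [5]),
  (6, 0, 4, [5]),
  (7, 0, 4, [5]),
  (8, 2, 0, []),
  (7, 0, 0, [2, 1]),
  (8, 0, 0, [2, 1]),
  (9, 0, 0, [2, 1]),
  (10, 0, 0, [2, 1]),
  (11, 0, 0, [2, 1]),
  (12, 1, 2, []),
  (13, 1, 1, []),
  (14, 2, 0, []),
  (7, 0, 6, [8, 7]),
  (8, 0, 6, [8, 7]),
  (9, 0, 6, [8, 7]),
  (10, 0, 6, [8, 7]),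
  (11, 0, 6, [8, 7]),
  (12, 0, 6, [8, 7]),
  (13, 0, 6, [8, 7]),
  (14, 1, 6, []),
  (15, 1, 7, []),
  (16, 2, 0, []),
  (5, 0, 7, [9, 8]),
  (6, 1, 6, [9, 8, 7]),
  (7, 0, 6, []),
  (8, 0, 6, []),
  (9, 0, 6, []),
  (10, 0, 6, []),
  (11, 0, 6, []),
  (12, 0, 6, []),
  (13, 2, 0, []),
  (8, 0, 11, []),
  (9, 0, 11, []),
  (10, 0, 11, []),
  (11, 0, 11, []),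
  (12, 0, 11, [])]

/-- moves -/
def armMoves2 : List (ℕ × ℕ × ℕ × List ℕ) := [
  (13, 0, 11, []),
  (14, 0, 11, []),
  (15, 2, 0, []),
  (9, 0, 2, []),
  (10, 0, 2, []),
  (11, 0, 2, []),
  (12, 0, 2, []),
  (13, 0, 2, []),
  (14, 0, 2, []),
  (15, 0, 2, []),
  (16, 2, 0, []),
  (8, 0, 0, [3, 2, 1]),
  (9, 0, 0, [3, 2, 1]),
  (10, 0, 0, [3, 2, 1]),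
  (11, 0, 0, [3, 2, 1]),
  (12, 0, 0, [3, 2, 1]),
  (13, 0, 0, [3, 2, 1]),
  (14, 1, 2, [3]),
  (15, 1, 1, []),
  (16, 2, 0, []),
  (10, 0, 7, []),
  (11, 0, 7, []),
  (12, 0, 7, []),
  (13, 0, 7, []),
  (14, 0, 7, []),
  (15, 0, 7, []),
  (16, 0, 7, []),
  (17, 2, 0, []),
  (9, 0, 5, [8, 7, 6]),
  (10, 0, 5, [8, 7, 6]),
  (11, 0, 5, [8, 7, 6]),
  (12, 0, 5, [8, 7, 6]),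
  (13, 0, 5, [8, 7, 6]),
  (14, 1, 5, []),
  (15, 1, 6, [7]),
  (16, 2, 0, []),
  (6, 0, 6, [9, 8, 7]),
  (7, 0, 6, [9, 8, 7]),
  (8, 1, 5, [9, 8, 7, 6]),
  (9, 0, 5, []),
  (10, 0, 5, []),
  (11, 0, 5, []),
  (12, 0, 5, []),
  (13, 2, 0, []),
  (11, 0, 2, [3]),
  (12, 0, 2, [3]),
  (13, 0, 2, [3]),
  (14, 0, 2, [3]),
  (15, 0, 2, [3]),
  (16, 0, 2, [3]),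
  (17, 1, 3, []),
  (18, 2, 0, []),
  (7, 0, 1, [2]),
  (8, 0, 1, [2]),
  (9, 0, 1, [2]),
  (10, 1, 1, [3, 2]),
  (11, 0, 3, []),
  (12, 0, 3, []),
  (13, 0, 3, []),
  (14, 0, 3, []),
  (15, 0, 3, []),
  (16, 2, 0, []),
  (11, 0, 6, [7]),
  (12, 0, 6, [7]),
  (13, 0, 6, [7]),
  (14, 0, 6, [7]),
  (15, 0, 6, [7]),
  (16, 0, 6, [7]),
  (17, 0, 6, [7]),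
  (18, 1, 6, []),
  (19, 2, 0, []),
  (11, 0, 9, []),
  (12, 0, 9, []),
  (13, 0, 9, []),
  (14, 0, 9, []),
  (15, 0, 9, []),
  (16, 0, 9, []),
  (17, 0, 9, []),
  (18, 0, 9, []),
  (19, 2, 0, []),
  (12, 0, 11, []),
  (13, 0, 11, []),
  (14, 0, 11, []),
  (15, 0, 11, []),
  (16, 0, 11, []),
  (17, 0, 11, []),
  (18, 0, 11, []),
  (19, 2, 0, []),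
  (12, 0, 2, [4, 3]),
  (13, 0, 2, [4, 3]),
  (14, 0, 2, [4, 3]),
  (15, 0, 2, [4, 3]),
  (16, 0, 2, [4, 3]),
  (17, 0, 2, [4, 3]),
  (18, 1, 4, []),
  (19, 1, 3, []),
  (20, 2, 0, []),
  (10, 0, 1, [3, 2]),
  (11, 1, 1, [4, 3, 2]),
  (12, 0, 4, [])]

/-- moves -/
def armMoves3 : List (ℕ × ℕ × ℕ × List ℕ) := [
  (13, 0, 4, []),
  (14, 0, 4, []),
  (15, 0, 4, []),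
  (16, 0, 4, []),
  (17, 2, 0, []),
  (12, 0, 0, []),
  (13, 0, 0, []),
  (14, 0, 0, []),
  (15, 0, 0, []),
  (16, 0, 0, []),
  (17, 0, 0, []),
  (18, 2, 0, []),
  (13, 0, 6, []),
  (14, 0, 6, []),
  (15, 0, 6, []),
  (16, 0, 6, []),
  (17, 0, 6, []),
  (18, 2, 0, []),
  (13, 0, 8, [9]),
  (14, 0, 8, [9]),
  (15, 0, 8, [9]),
  (16, 0, 8, [9]),
  (17, 0, 8, [9]),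
  (18, 1, 8, []),
  (19, 2, 0, []),
  (3, 0, 1, [4, 3, 2]),
  (4, 0, 1, [4, 3, 2]),
  (5, 0, 1, [4, 3, 2]),
  (6, 0, 1, [4, 3, 2]),
  (7, 0, 1, [4, 3, 2]),
  (8, 0, 1, [4, 3, 2]),
  (9, 0, 1, [4, 3, 2]),
  (10, 2, 0, []),
  (12, 0, 3, []),
  (13, 0, 3, []),
  (14, 0, 3, []),
  (15, 0, 3, []),
  (16, 0, 3, []),
  (17, 0, 3, []),
  (18, 0, 3, []),
  (19, 2, 0, []),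
  (12, 0, 0, [1]),
  (13, 0, 0, [1]),
  (14, 0, 0, [1]),
  (15, 0, 0, [1]),
  (16, 0, 0, [1]),
  (17, 0, 0, [1]),
  (18, 0, 0, [1]),
  (19, 1, 1, []),
  (20, 2, 0, []),
  (12, 0, 5, [6]),
  (13, 0, 5, [6]),
  (14, 0, 5, [6]),
  (15, 0, 5, [6]),
  (16, 0, 5, [6]),
  (17, 0, 5, [6]),
  (18, 0, 5, [6]),
  (19, 1, 5, []),
  (20, 2, 0, []),
  (13, 0, 8, []),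
  (14, 0, 8, []),
  (15, 0, 8, []),
  (16, 0, 8, []),
  (17, 0, 8, []),
  (18, 0, 8, []),
  (19, 0, 8, []),
  (20, 2, 0, []),
  (13, 0, 5, [10]),
  (14, 0, 5, [10]),
  (15, 0, 5, [10]),
  (16, 0, 5, [10]),
  (17, 0, 5, [10]),
  (18, 0, 5, [10]),
  (19, 0, 5, [10]),
  (20, 2, 0, []),
  (16, 0, 1, []),
  (17, 0, 1, []),
  (18, 0, 1, []),
  (19, 0, 1, []),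
  (20, 0, 1, []),
  (21, 0, 1, []),
  (22, 0, 1, []),
  (23, 2, 0, []),
  (15, 0, 0, [2, 1]),
  (16, 0, 0, [2, 1]),
  (17, 0, 0, [2, 1]),
  (18, 0, 0, [2, 1]),
  (19, 0, 0, [2, 1]),
  (20, 0, 0, [2, 1]),
  (21, 1, 1, [2]),
  (22, 2, 0, []),
  (16, 0, 7, [8]),
  (17, 0, 7, [8]),
  (18, 0, 7, [8]),
  (19, 0, 7, [8]),
  (20, 0, 7, [8]),
  (21, 0, 7, [8]),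
  (22, 0, 7, [8]),
  (23, 1, 7, []),
  (24, 2, 0, [])]

/-- moves -/
def armMoves4 : List (ℕ × ℕ × ℕ × List ℕ) := [
  (17, 0, 11, []),
  (18, 0, 11, []),
  (19, 0, 11, []),
  (20, 0, 11, []),
  (21, 0, 11, []),
  (22, 0, 11, []),
  (23, 0, 11, []),
  (24, 0, 11, []),
  (25, 2, 0, []),
  (17, 0, 4, []),
  (18, 0, 4, []),
  (19, 0, 4, []),
  (20, 0, 4, []),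
  (21, 0, 4, []),
  (22, 0, 4, []),
  (23, 0, 4, []),
  (24, 2, 0, []),
  (18, 0, 1, [2]),
  (19, 0, 1, [2]),
  (20, 0, 1, [2]),
  (21, 0, 1, [2]),
  (22, 0, 1, [2]),
  (23, 0, 1, [2]),
  (24, 1, 2, []),
  (25, 2, 0, []),
  (20, 0, 7, []),
  (21, 0, 7, []),
  (22, 0, 7, []),
  (23, 0, 7, []),
  (24, 0, 7, []),
  (25, 0, 7, []),
  (26, 0, 7, []),
  (27, 2, 0, []),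
  (19, 0, 6, [8, 7]),
  (20, 0, 6, [8, 7]),
  (21, 0, 6, [8, 7]),
  (22, 0, 6, [8, 7]),
  (23, 0, 6, [8, 7]),
  (24, 0, 6, [8, 7]),
  (25, 1, 6, [7]),
  (26, 2, 0, []),
  (22, 0, 2, []),
  (23, 0, 2, []),
  (24, 0, 2, []),
  (25, 0, 2, []),
  (26, 0, 2, []),
  (27, 0, 2, []),
  (28, 0, 2, []),
  (29, 0, 2, []),
  (30, 2, 0, []),
  (21, 0, 1, [3, 2]),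
  (22, 0, 1, [3, 2]),
  (23, 0, 1, [3, 2]),
  (24, 0, 1, [3, 2]),
  (25, 0, 1, [3, 2]),
  (26, 0, 1, [3, 2]),
  (27, 0, 1, [3, 2]),
  (28, 1, 2, [3]),
  (29, 2, 0, []),
  (23, 0, 6, [7]),
  (24, 0, 6, [7]),
  (25, 0, 6, [7]),
  (26, 0, 6, [7]),
  (27, 0, 6, [7]),
  (28, 0, 6, [7]),
  (29, 0, 6, [7]),
  (30, 1, 6, []),
  (31, 2, 0, []),
  (22, 0, 5, [8, 7, 6]),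
  (23, 0, 5, [8, 7, 6]),
  (24, 0, 5, [8, 7, 6]),
  (25, 0, 5, [8, 7, 6]),
  (26, 0, 5, [8, 7, 6]),
  (27, 0, 5, [8, 7, 6]),
  (28, 1, 5, [7, 6]),
  (29, 0, 8, []),
  (30, 2, 0, []),
  (24, 0, 11, []),
  (25, 0, 11, []),
  (26, 0, 11, []),
  (27, 0, 11, []),
  (28, 0, 11, []),
  (29, 0, 11, []),
  (30, 0, 11, []),
  (31, 2, 0, []),
  (25, 0, 2, [3]),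
  (26, 0, 2, [3]),
  (27, 0, 2, [3]),
  (28, 0, 2, [3]),
  (29, 0, 2, [3]),
  (30, 0, 2, [3]),
  (31, 1, 3, []),
  (32, 2, 0, []),
  (25, 0, 0, []),
  (26, 0, 0, []),
  (27, 0, 0, []),
  (28, 0, 0, []),
  (29, 0, 0, []),
  (30, 0, 0, []),
  (31, 0, 0, [])]

/-- moves -/
def armMoves5 : List (ℕ × ℕ × ℕ × List ℕ) := [
  (32, 2, 0, []),
  (26, 0, 6, []),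
  (27, 0, 6, []),
  (28, 0, 6, []),
  (29, 0, 6, []),
  (30, 0, 6, []),
  (31, 0, 6, []),
  (32, 2, 0, []),
  (25, 0, 5, [7, 6]),
  (26, 0, 5, [7, 6]),
  (27, 0, 5, [7, 6]),
  (28, 0, 5, [7, 6]),
  (29, 0, 5, [7, 6]),
  (30, 1, 5, [6]),
  (31, 2, 0, []),
  (25, 0, 9, []),
  (26, 0, 9, []),
  (27, 0, 9, []),
  (28, 0, 9, []),
  (29, 0, 9, []),
  (30, 0, 9, []),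
  (31, 2, 0, []),
  (27, 0, 3, []),
  (28, 0, 3, []),
  (29, 0, 3, []),
  (30, 0, 3, []),
  (31, 0, 3, []),
  (32, 0, 3, []),
  (33, 2, 0, []),
  (27, 0, 0, [1]),
  (28, 0, 0, [1]),
  (29, 0, 0, [1]),
  (30, 0, 0, [1]),
  (31, 0, 0, [1]),
  (32, 0, 0, [1]),
  (33, 1, 1, []),
  (34, 2, 0, []),
  (27, 0, 5, [6]),
  (28, 0, 5, [6]),
  (29, 0, 5, [6]),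
  (30, 0, 5, [6]),
  (31, 0, 5, [6]),
  (32, 0, 5, [6]),
  (33, 1, 5, []),
  (34, 2, 0, []),
  (27, 0, 8, [9]),
  (28, 0, 8, [9]),
  (29, 0, 8, [9]),
  (30, 0, 8, [9]),
  (31, 0, 8, [9]),
  (32, 0, 8, [9]),
  (33, 0, 8, [9]),
  (34, 1, 8, []),
  (35, 2, 0, []),
  (27, 0, 5, [10]),
  (28, 0, 5, [10]),
  (29, 0, 5, [10]),
  (30, 0, 5, [10]),
  (31, 0, 5, [10]),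
  (32, 0, 5, [10]),
  (33, 0, 5, [10]),
  (34, 2, 0, []),
  (30, 0, 1, []),
  (31, 0, 1, []),
  (32, 0, 1, []),
  (33, 0, 1, []),
  (34, 0, 1, []),
  (35, 0, 1, []),
  (36, 0, 1, []),
  (37, 2, 0, []),
  (29, 0, 0, [2, 1]),
  (30, 0, 0, [2, 1]),
  (31, 0, 0, [2, 1]),
  (32, 0, 0, [2, 1]),
  (33, 0, 0, [2, 1]),
  (34, 0, 0, [2, 1]),
  (35, 1, 1, [2]),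
  (36, 2, 0, []),
  (31, 0, 8, []),
  (32, 0, 8, []),
  (33, 0, 8, []),
  (34, 0, 8, []),
  (35, 0, 8, []),
  (36, 0, 8, []),
  (37, 0, 8, []),
  (38, 2, 0, []),
  (30, 0, 7, [9, 8]),
  (31, 0, 7, [9, 8]),
  (32, 0, 7, [9, 8]),
  (33, 0, 7, [9, 8]),
  (34, 0, 7, [9, 8]),
  (35, 0, 7, [9, 8]),
  (36, 1, 7, [8]),
  (37, 2, 0, []),
  (29, 0, 10, []),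
  (30, 0, 10, []),
  (31, 0, 10, []),
  (32, 0, 10, []),
  (33, 1, 5, []),
  (34, 0, 5, [10])]

/-- moves -/
def armMoves6 : List (ℕ × ℕ × ℕ × List ℕ) := [
  (35, 0, 5, [10]),
  (36, 2, 0, []),
  (27, 0, 5, [11, 10]),
  (28, 1, 10, [11]),
  (29, 0, 5, []),
  (30, 0, 5, []),
  (31, 0, 5, []),
  (32, 2, 0, []),
  (31, 0, 1, [2]),
  (32, 0, 1, [2]),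
  (33, 0, 1, [2]),
  (34, 0, 1, [2]),
  (35, 0, 1, [2]),
  (36, 1, 2, []),
  (37, 2, 0, []),
  (30, 0, 0, [3, 2, 1]),
  (31, 0, 0, [3, 2, 1]),
  (32, 0, 0, [3, 2, 1]),
  (33, 0, 0, [3, 2, 1]),
  (34, 1, 1, [3, 2]),
  (35, 0, 0, []),
  (36, 2, 0, []),
  (31, 0, 7, [8]),
  (32, 0, 7, [8]),
  (33, 0, 7, [8]),
  (34, 0, 7, [8]),
  (35, 0, 7, [8]),
  (36, 0, 7, [8]),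
  (37, 1, 7, []),
  (38, 2, 0, []),
  (22, 0, 5, [9, 8, 7, 6]),
  (23, 0, 5, [9, 8, 7, 6]),
  (24, 0, 5, [9, 8, 7, 6]),
  (25, 0, 5, [9, 8, 7, 6]),
  (26, 0, 5, [9, 8, 7, 6]),
  (27, 1, 10, [11]),
  (28, 0, 5, [11, 10, 9, 8, 7, 6]),
  (29, 1, 5, [10, 9, 8, 7, 6]),
  (30, 2, 0, []),
  (32, 0, 2, []),
  (33, 0, 2, []),
  (34, 0, 2, []),
  (35, 0, 2, []),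
  (36, 0, 2, []),
  (37, 0, 2, []),
  (38, 0, 2, []),
  (39, 0, 2, []),
  (40, 2, 0, []),
  (31, 0, 1, [3, 2]),
  (32, 0, 1, [3, 2]),
  (33, 0, 1, [3, 2]),
  (34, 0, 1, [3, 2]),
  (35, 0, 1, [3, 2]),
  (36, 0, 1, [3, 2]),
  (37, 0, 1, [3, 2]),
  (38, 1, 2, [3]),
  (39, 2, 0, []),
  (27, 0, 10, [11]),
  (28, 0, 10, [11]),
  (29, 0, 10, [11]),
  (30, 1, 5, []),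
  (31, 0, 5, [11, 10]),
  (32, 0, 5, [11, 10]),
  (33, 0, 5, [11, 10]),
  (34, 1, 5, [10]),
  (35, 2, 0, []),
  (29, 0, 0, [4, 3, 2, 1]),
  (30, 0, 0, [4, 3, 2, 1]),
  (31, 0, 0, [4, 3, 2, 1]),
  (32, 0, 0, [4, 3, 2, 1]),
  (33, 0, 0, [4, 3, 2, 1]),
  (34, 1, 1, [4, 3, 2]),
  (35, 0, 0, []),
  (36, 2, 0, []),
  (31, 0, 7, []),
  (32, 0, 7, []),
  (33, 0, 7, []),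
  (34, 0, 7, []),
  (35, 0, 7, []),
  (36, 0, 7, []),
  (37, 2, 0, []),
  (31, 0, 9, []),
  (32, 0, 9, []),
  (33, 0, 9, []),
  (34, 0, 9, []),
  (35, 0, 9, []),
  (36, 0, 9, []),
  (37, 2, 0, []),
  (28, 1, 0, [5, 4, 3, 2, 1]),
  (29, 0, 0, [5, 10, 9, 8, 7, 6, 5, 4, 3, 2, 1]),
  (30, 1, 0, [10, 5, 4, 3, 2, 1]),
  (31, 0, 5, [9, 8, 7, 6]),
  (32, 0, 5, [9, 8, 7, 6]),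
  (33, 1, 5, []),
  (34, 1, 6, [7]),
  (35, 2, 0, []),
  (28, 0, 0, [5, 4, 3, 2, 1]),
  (29, 1, 0, [10, 5, 4, 3, 2, 1]),
  (30, 0, 10, []),
  (31, 0, 10, [])]

/-- moves -/
def armMoves7 : List (ℕ × ℕ × ℕ × List ℕ) := [
  (32, 1, 5, []),
  (33, 0, 5, [10]),
  (34, 2, 0, []),
  (31, 0, 2, [3]),
  (32, 0, 2, [3]),
  (33, 0, 2, [3]),
  (34, 0, 2, [3]),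
  (35, 1, 3, []),
  (36, 2, 0, []),
  (22, 0, 5, [10, 7, 6]),
  (23, 0, 5, [10, 7, 6]),
  (24, 0, 5, [10, 7, 6]),
  (25, 0, 5, [10, 7, 6]),
  (26, 0, 5, [10, 7, 6]),
  (27, 0, 5, [10, 7, 6]),
  (28, 0, 5, [10, 7, 6]),
  (29, 0, 5, [10, 7, 6]),
  (30, 0, 5, [10, 7, 6]),
  (31, 2, 0, []),
  (31, 0, 11, []),
  (32, 0, 11, []),
  (33, 0, 11, []),
  (34, 0, 11, []),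
  (35, 0, 11, []),
  (36, 0, 11, []),
  (37, 0, 11, []),
  (38, 0, 11, []),
  (39, 0, 11, []),
  (40, 2, 0, []),
  (14, 0, 3, [5, 10, 6, 5, 4]),
  (15, 0, 3, [5, 10, 6, 5, 4]),
  (16, 0, 3, [5, 10, 6, 5, 4]),
  (17, 0, 3, [5, 10, 6, 5, 4]),
  (18, 0, 3, [5, 10, 6, 5, 4]),
  (19, 0, 3, [5, 10, 6, 5, 4]),
  (20, 0, 3, [5, 10, 6, 5, 4]),
  (21, 0, 3, [5, 10, 6, 5, 4]),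
  (22, 0, 3, [5, 10, 6, 5, 4]),
  (23, 0, 3, [5, 10, 6, 5, 4]),
  (24, 2, 0, []),
  (14, 0, 10, []),
  (15, 0, 10, []),
  (16, 1, 4, [5]),
  (17, 0, 4, [10, 5]),
  (18, 0, 4, [10, 5]),
  (19, 1, 0, [3, 2, 1]),
  (20, 0, 0, [10, 5, 4, 3, 2, 1]),
  (21, 0, 0, [10, 5, 4, 3, 2, 1]),
  (22, 0, 0, [10, 5, 4, 3, 2, 1]),
  (23, 0, 0, [10, 5, 4, 3, 2, 1]),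
  (24, 0, 0, [10, 5, 4, 3, 2, 1]),
  (25, 2, 0, []),
  (8, 1, 1, [10, 7, 6, 5, 4, 3, 2]),
  (9, 0, 0, [7, 6, 1, 2, 3, 4, 5, 10, 8, 7, 6, 5, 4, 3, 2, 1]),
  (10, 0, 0, [7, 6, 1, 2, 3, 4, 5, 10, 8, 7, 6, 5, 4, 3, 2, 1]),
  (11, 1, 5, [9, 8, 7, 6]),
  (12, 0, 2, [10, 7, 8, 6, 7, 4, 5, 6, 3, 4, 5, 10, 9, 8, 7, 6, 5, 4, 3]),
  (13, 0, 2, [10, 7, 8, 6, 7, 4, 5, 6, 3, 4, 5, 10, 9, 8, 7, 6, 5, 4, 3]),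
  (14, 0, 2, [10, 7, 8, 6, 7, 4, 5, 6, 3, 4, 5, 10, 9, 8, 7, 6, 5, 4, 3]),
  (15, 1, 4, [5]),
  (16, 1, 3, [10, 5, 6, 4, 5, 10, 9, 8, 7, 6, 5, 4]),
  (17, 0, 2, [10, 6, 7, 5, 6, 4, 5, 10, 8, 7, 6, 5, 4, 3]),
  (18, 0, 2, [10, 6, 7, 5, 6, 4, 5, 10, 8, 7, 6, 5, 4, 3]),
  (19, 2, 0, []),
  (2, 0, 4, [5, 10, 6, 5]),
  (3, 0, 4, [5, 10, 6, 5]),
  (4, 0, 4, [5, 10, 6, 5]),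
  (5, 0, 4, [5, 10, 6, 5]),
  (6, 0, 4, [5, 10, 6, 5]),
  (7, 1, 1, [10, 7, 6, 5, 4, 3, 2]),
  (8, 1, 2, [7, 6, 5, 4, 3]),
  (9, 0, 0, [3, 4, 5, 10, 6, 5, 4, 3, 2, 1]),
  (10, 0, 0, [3, 4, 5, 10, 6, 5, 4, 3, 2, 1]),
  (11, 0, 0, [3, 4, 5, 10, 6, 5, 4, 3, 2, 1]),
  (12, 0, 0, [3, 4, 5, 10, 6, 5, 4, 3, 2, 1]),
  (13, 2, 0, []),
  (3, 1, 4, [10, 8, 7, 6, 5]),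
  (4, 0, 3, [4, 5, 10, 11, 5, 6, 4, 5, 10, 8, 7, 6, 5, 4]),
  (5, 1, 4, [10, 11, 5, 10, 6, 5]),
  (6, 1, 1, [10, 7, 6, 5, 4, 3, 2]),
  (7, 1, 2, [7, 6, 5, 4, 3]),
  (8, 1, 1, [6, 5, 10, 4, 5, 6, 3, 4, 5, 10, 11, 7, 4, 5, 6, 3, 4, 5, 10, 8, 7, 6, 5, 4, 3, 2]),
  (9, 0, 0, [7, 6, 5, 10, 3, 4, 5, 6, 1, 2, 3, 4, 5, 10, 11, 7, 5, 6, 2, 3, 4, 5, 10, 8, 7, 6, 5, 4, 3, 2, 1]),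
  (10, 0, 0, [7, 6, 5, 10, 3, 4, 5, 6, 1, 2, 3, 4, 5, 10, 11, 7, 5, 6, 2, 3, 4, 5, 10, 8, 7, 6, 5, 4, 3, 2, 1]),
  (11, 0, 0, [7, 6, 5, 10, 3, 4, 5, 6, 1, 2, 3, 4, 5, 10, 11, 7, 5, 6, 2, 3, 4, 5, 10, 8, 7, 6, 5, 4, 3, 2, 1]),
  (12, 0, 0, [7, 6, 5, 10, 3, 4, 5, 6, 1, 2, 3, 4, 5, 10, 11, 7, 5, 6, 2, 3, 4, 5, 10, 8, 7, 6, 5, 4, 3, 2, 1]),
  (13, 0, 0, [7, 6, 5, 10, 3, 4, 5, 6, 1, 2, 3, 4, 5, 10, 11, 7, 5, 6, 2, 3, 4, 5, 10, 8, 7, 6, 5, 4, 3, 2, 1]),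
  (14, 1, 2, [5, 10, 6, 7, 4, 5, 6, 3, 4, 5, 10, 11, 10, 6, 7, 4, 5, 6, 3, 4, 5, 10, 8, 7, 6, 5, 4, 3]),
  (15, 1, 1, [6, 7, 4, 5, 6, 3, 4, 5, 10, 8, 7, 6, 5, 4, 3, 2]),
  (16, 2, 0, []),
  (1, 0, 4, [7, 6, 5]),
  (2, 0, 4, [7, 6, 5]),
  (3, 0, 4, [7, 6, 5]),
  (4, 1, 4, [10, 11, 5, 10, 6, 5]),
  (5, 0, 4, [4, 5, 10, 11, 6, 5, 10, 7, 6, 5]),
  (6, 1, 2, [7, 6, 5, 4, 3]),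
  (7, 1, 1, [6, 5, 10, 4, 5, 6, 3, 4, 5, 10, 11, 7, 4, 5, 6, 3, 4, 5, 10, 8, 7, 6, 5, 4, 3, 2]),
  (8, 1, 0, [10, 5, 6, 4, 5, 10, 7, 8, 6, 7, 2, 3, 4, 5, 6, 0, 1, 2, 3, 4, 5, 10, 11, 6, 7, 5, 6, 3, 4, 5, 10, 9, 8, 7, 6, 5, 4, 3, 2, 1]),
  (9, 0, 0, [6, 5, 10, 9, 8, 5, 6, 7, 4, 5, 6, 1, 2, 3, 4, 5, 10, 11, 8, 7, 5, 6, 4, 5, 10, 9, 8, 7, 6, 5, 4, 3, 2, 1]),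
  (10, 0, 0, [6, 5, 10, 9, 8, 5, 6, 7, 4, 5, 6, 1, 2, 3, 4, 5, 10, 11, 8, 7, 5, 6, 4, 5, 10, 9, 8, 7, 6, 5, 4, 3, 2, 1])]

/-- moves -/
def armMoves8 : List (ℕ × ℕ × ℕ × List ℕ) := [
  (11, 1, 0, [10, 7, 2, 3, 4, 5, 6, 0, 1, 2, 3, 4, 5, 10, 11, 7, 5, 6, 3, 4, 5, 10, 8, 7, 6, 5, 4, 3, 2, 1]),
  (12, 1, 0, [6, 7, 5, 6, 4, 5, 10, 7, 8, 5, 6, 7, 3, 4, 5, 6, 2, 3, 4, 5, 10, 11, 7, 5, 6, 3, 4, 5, 10, 9, 8, 7, 6, 5, 4, 3, 2, 1]),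
  (13, 0, 0, [8, 7, 6, 5, 10, 4, 5, 6, 3, 4, 5, 10, 7, 8, 6, 7, 4, 5, 6, 2, 3, 4, 5, 10, 11, 8, 7, 5, 6, 3, 4, 5, 10, 9, 8, 7, 6, 5, 4, 3, 2, 1]),
  (14, 1, 1, [6, 7, 4, 5, 6, 3, 4, 5, 10, 8, 7, 6, 5, 4, 3, 2]),
  (15, 1, 1, [6, 4, 5, 10, 7, 6, 5, 4, 3, 2]),
  (16, 2, 0, []),
  (0, 0, 2, [5, 4, 3]),
  (1, 0, 2, [5, 4, 3]),
  (2, 1, 1, [4, 5, 10, 6, 7, 8, 5, 6, 7, 4, 5, 6, 3, 4, 5, 10, 11, 10, 7, 5, 6, 4, 5, 10, 9, 8, 7, 6, 5, 4, 3, 2]),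
  (3, 0, 0, [5, 6, 4, 5, 10, 7, 8, 6, 7, 5, 6, 1, 2, 3, 4, 5, 10, 11, 8, 7, 6, 3, 4, 5, 10, 9, 8, 7, 6, 5, 4, 3, 2, 1]),
  (4, 0, 0, [5, 6, 4, 5, 10, 7, 8, 6, 7, 5, 6, 1, 2, 3, 4, 5, 10, 11, 8, 7, 6, 3, 4, 5, 10, 9, 8, 7, 6, 5, 4, 3, 2, 1]),
  (5, 0, 0, [5, 6, 4, 5, 10, 7, 8, 6, 7, 5, 6, 1, 2, 3, 4, 5, 10, 11, 8, 7, 6, 3, 4, 5, 10, 9, 8, 7, 6, 5, 4, 3, 2, 1]),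
  (6, 0, 0, [5, 6, 4, 5, 10, 7, 8, 6, 7, 5, 6, 1, 2, 3, 4, 5, 10, 11, 8, 7, 6, 3, 4, 5, 10, 9, 8, 7, 6, 5, 4, 3, 2, 1]),
  (7, 1, 0, [10, 5, 6, 4, 5, 10, 7, 8, 6, 7, 2, 3, 4, 5, 6, 0, 1, 2, 3, 4, 5, 10, 11, 6, 7, 5, 6, 3, 4, 5, 10, 9, 8, 7, 6, 5, 4, 3, 2, 1]),
  (8, 1, 1, [11, 3, 4, 5, 10, 5, 6, 7, 4, 5, 6, 2, 3, 4, 5, 10, 11, 5, 6, 3, 4, 5, 10, 8, 7, 6, 5, 4, 3, 2]),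
  (9, 1, 1, [2, 3, 4, 5, 10, 9, 7, 8, 5, 6, 7, 3, 4, 5, 6, 2, 3, 4, 5, 10, 11, 8, 7, 5, 6, 3, 4, 5, 10, 9, 8, 7, 6, 5, 4, 3, 2]),
  (10, 0, 3, [9, 8, 7, 6, 5, 10, 11, 10, 5, 6, 4, 5, 10, 9, 8, 7, 6, 5, 4]),
  (11, 0, 3, [9, 8, 7, 6, 5, 10, 11, 10, 5, 6, 4, 5, 10, 9, 8, 7, 6, 5, 4]),
  (12, 1, 1, [10, 8, 7, 5, 6, 4, 5, 10, 9, 8, 7, 3, 4, 5, 6, 2, 3, 4, 5, 10, 11, 8, 7, 5, 6, 4, 5, 10, 9, 8, 7, 6, 5, 4, 3, 2]),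
  (13, 0, 0, [5, 6, 1, 2, 3, 4, 5, 10, 7, 8, 6, 7, 5, 6, 4, 5, 10, 11, 7, 4, 5, 6, 3, 4, 5, 10, 9, 8, 7, 6, 5, 4, 3, 2, 1]),
  (14, 1, 1, [6, 4, 5, 10, 7, 6, 5, 4, 3, 2]),
  (15, 1, 0, [10, 11, 8, 7, 6, 5, 10, 9, 8, 7, 6, 5, 4, 3, 2, 1]),
  (16, 1, 1, [10, 9, 8, 7, 6, 5, 4, 3, 2]),
  (17, 2, 0, []),
  (24, 1, 10, [11]),
  (6, 1, 0, [10, 5, 6, 4, 5, 10, 7, 8, 6, 7, 2, 3, 4, 5, 6, 0, 1, 2, 3, 4, 5, 10, 11, 6, 7, 5, 6, 3, 4, 5, 10, 9, 8, 7, 6, 5, 4, 3, 2, 1]),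
  (1, 1, 1, [4, 5, 10, 6, 7, 8, 5, 6, 7, 4, 5, 6, 3, 4, 5, 10, 11, 10, 7, 5, 6, 4, 5, 10, 9, 8, 7, 6, 5, 4, 3, 2]),
  (15, 1, 1, [10, 9, 8, 7, 6, 5, 4, 3, 2]),
  (2, 1, 1, [4, 5, 10, 11, 6, 4, 5, 10, 6, 7, 8, 4, 5, 6, 7, 3, 4, 5, 6, 2, 3, 4, 5, 10, 11, 5, 6, 4, 5, 10, 9, 8, 7, 6, 5, 4, 3, 2]),
  (12, 0, 1, [10, 8, 7, 5, 6, 4, 5, 10, 9, 8, 7, 3, 4, 5, 6, 2, 3, 4, 5, 10, 11, 8, 7, 5, 6, 4, 5, 10, 9, 8, 7, 6, 5, 4, 3, 2]),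
  (11, 1, 2, [11, 5, 10, 6, 7, 8, 5, 6, 7, 4, 5, 6, 3, 4, 5, 10, 11, 6, 7, 4, 5, 6, 3, 4, 5, 10, 9, 8, 7, 6, 5, 4, 3]),
  (6, 0, 0, [10, 5, 6, 4, 5, 10, 7, 8, 6, 7, 2, 3, 4, 5, 6, 0, 1, 2, 3, 4, 5, 10, 11, 6, 7, 5, 6, 3, 4, 5, 10, 9, 8, 7, 6, 5, 4, 3, 2, 1]),
  (17, 0, 2, [4, 3]),
  (23, 0, 8, []),
  (0, 1, 1, [4, 5, 10, 6, 7, 8, 5, 6, 7, 4, 5, 6, 3, 4, 5, 10, 11, 10, 7, 5, 6, 4, 5, 10, 9, 8, 7, 6, 5, 4, 3, 2]),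
  (1, 0, 1, [4, 5, 10, 9, 8, 6, 7, 5, 6, 4, 5, 10, 11, 10, 8, 7, 5, 6, 3, 4, 5, 10, 9, 8, 7, 6, 5, 4, 3, 2]),
  (1, 0, 1, [4, 5, 10, 11, 6, 4, 5, 10, 6, 7, 8, 4, 5, 6, 7, 3, 4, 5, 6, 2, 3, 4, 5, 10, 11, 5, 6, 4, 5, 10, 9, 8, 7, 6, 5, 4, 3, 2]),
  (3, 0, 0, [5, 10, 8, 4, 5, 6, 7, 3, 4, 5, 6, 0, 1, 2, 3, 4, 5, 10, 11, 8, 7, 5, 6, 3, 4, 5, 10, 9, 8, 7, 6, 5, 4, 3, 2, 1]),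
  (4, 0, 0, [5, 10, 8, 4, 5, 6, 7, 3, 4, 5, 6, 0, 1, 2, 3, 4, 5, 10, 11, 8, 7, 5, 6, 3, 4, 5, 10, 9, 8, 7, 6, 5, 4, 3, 2, 1]),
  (9, 0, 1, [2, 3, 4, 5, 10, 9, 7, 8, 5, 6, 7, 3, 4, 5, 6, 2, 3, 4, 5, 10, 11, 8, 7, 5, 6, 3, 4, 5, 10, 9, 8, 7, 6, 5, 4, 3, 2]),
  (17, 0, 3, []),
  (7, 0, 0, [10, 5, 6, 4, 5, 10, 7, 8, 6, 7, 2, 3, 4, 5, 6, 0, 1, 2, 3, 4, 5, 10, 11, 6, 7, 5, 6, 3, 4, 5, 10, 9, 8, 7, 6, 5, 4, 3, 2, 1]),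
  (16, 1, 2, [4, 3]),
  (19, 0, 1, []),
  (14, 0, 1, [6, 4, 5, 10, 7, 6, 5, 4, 3, 2]),
  (13, 1, 1, [10, 9, 8, 7, 6, 5, 4, 3, 2]),
  (22, 0, 7, []),
  (23, 1, 8, []),
  (11, 1, 1, [4, 5, 10, 11, 5, 6, 3, 4, 5, 10, 6, 7, 3, 4, 5, 6, 2, 3, 4, 5, 10, 11, 6, 7, 5, 6, 2, 3, 4, 5, 10, 9, 8, 7, 6, 5, 4, 3, 2]),
  (5, 1, 0, [6, 4, 5, 10, 11, 6, 3, 4, 5, 10, 9, 8, 6, 7, 3, 4, 5, 6, 2, 3, 4, 5, 10, 11, 8, 7, 5, 6, 3, 4, 5, 10, 9, 8, 7, 6, 5, 4, 3, 2, 1]),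
  (22, 0, 10, [11]),
  (16, 1, 0, [10, 11, 8, 7, 6, 2, 3, 4, 5, 10, 9, 8, 7, 6, 5, 4, 3, 2, 1]),
  (20, 1, 5, [6]),
  (21, 0, 1, []),
  (10, 0, 1, [2, 3, 4, 5, 10, 9, 7, 8, 5, 6, 7, 3, 4, 5, 6, 2, 3, 4, 5, 10, 11, 8, 7, 5, 6, 3, 4, 5, 10, 9, 8, 7, 6, 5, 4, 3, 2]),
  (18, 1, 0, [1]),
  (8, 0, 0, [10, 5, 6, 4, 5, 10, 7, 8, 6, 7, 2, 3, 4, 5, 6, 0, 1, 2, 3, 4, 5, 10, 11, 6, 7, 5, 6, 3, 4, 5, 10, 9, 8, 7, 6, 5, 4, 3, 2, 1]),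
  (9, 1, 0, [8, 7, 6, 3, 4, 5, 10, 11, 10, 5, 6, 4, 5, 10, 9, 7, 8, 6, 7, 4, 5, 6, 3, 4, 5, 10, 11, 8, 7, 4, 5, 6, 3, 4, 5, 10, 9, 8, 7, 6, 5, 4, 3, 2, 1]),
  (10, 0, 1, [10, 11, 7, 6, 4, 5, 10, 8, 6, 7, 3, 4, 5, 6, 2, 3, 4, 5, 10, 11, 8, 6, 7, 5, 6, 3, 4, 5, 10, 9, 8, 7, 6, 5, 4, 3, 2]),
  (11, 1, 0, [6, 7, 5, 6, 4, 5, 10, 7, 8, 5, 6, 7, 3, 4, 5, 6, 2, 3, 4, 5, 10, 11, 7, 5, 6, 3, 4, 5, 10, 9, 8, 7, 6, 5, 4, 3, 2, 1]),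
  (12, 0, 0, [10, 11, 8, 7, 6, 2, 3, 4, 5, 10, 9, 8, 7, 6, 5, 4, 3, 2, 1]),
  (13, 0, 0, [10, 11, 8, 7, 6, 2, 3, 4, 5, 10, 9, 8, 7, 6, 5, 4, 3, 2, 1]),
  (14, 0, 0, [10, 11, 8, 7, 6, 2, 3, 4, 5, 10, 9, 8, 7, 6, 5, 4, 3, 2, 1]),
  (15, 2, 0, []),
  (2, 0, 1, [4, 5, 10, 11, 6, 4, 5, 10, 6, 7, 8, 4, 5, 6, 7, 3, 4, 5, 6, 2, 3, 4, 5, 10, 11, 5, 6, 4, 5, 10, 9, 8, 7, 6, 5, 4, 3, 2]),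
  (3, 1, 0, [7, 5, 6, 4, 5, 10, 7, 8, 6, 7, 2, 3, 4, 5, 6, 1, 2, 3, 4, 5, 10, 11, 8, 7, 5, 6, 2, 3, 4, 5, 10, 9, 8, 7, 6, 5, 4, 3, 2, 1]),
  (4, 0, 3, [7, 6, 2, 3, 4, 5, 10, 11, 6, 4, 5, 10, 7, 6, 5, 4]),
  (5, 0, 3, [7, 6, 2, 3, 4, 5, 10, 11, 6, 4, 5, 10, 7, 6, 5, 4]),
  (6, 0, 3, [7, 6, 2, 3, 4, 5, 10, 11, 6, 4, 5, 10, 7, 6, 5, 4]),
  (7, 0, 3, [7, 6, 2, 3, 4, 5, 10, 11, 6, 4, 5, 10, 7, 6, 5, 4]),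
  (8, 1, 0, [8, 7, 6, 3, 4, 5, 10, 11, 10, 5, 6, 4, 5, 10, 9, 7, 8, 6, 7, 4, 5, 6, 3, 4, 5, 10, 11, 8, 7, 4, 5, 6, 3, 4, 5, 10, 9, 8, 7, 6, 5, 4, 3, 2, 1]),
  (9, 1, 2, [5, 6, 3, 4, 5, 10, 11, 5, 6, 3, 4, 5, 10, 7, 8, 5, 6, 7, 4, 5, 6, 3, 4, 5, 10, 11, 10, 8, 7, 4, 5, 6, 3, 4, 5, 10, 9, 8, 7, 6, 5, 4, 3]),
  (10, 0, 0, [11, 10, 5, 6, 7, 4, 5, 6, 2, 3, 4, 5, 10, 11, 5, 6, 4, 5, 10, 9, 8, 7, 6, 5, 4, 3, 2, 1]),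
  (11, 0, 0, [11, 10, 5, 6, 7, 4, 5, 6, 2, 3, 4, 5, 10, 11, 5, 6, 4, 5, 10, 9, 8, 7, 6, 5, 4, 3, 2, 1]),
  (12, 1, 0, [11, 10, 5, 6, 7, 3, 4, 5, 6, 2, 3, 4, 5, 10, 11, 5, 6, 4, 5, 10, 9, 8, 7, 6, 5, 4, 3, 2, 1]),
  (13, 0, 3, []),
  (14, 0, 3, []),
  (15, 0, 3, []),
  (16, 2, 0, []),
  (8, 1, 2, [5, 6, 3, 4, 5, 10, 11, 5, 6, 3, 4, 5, 10, 7, 8, 5, 6, 7, 4, 5, 6, 3, 4, 5, 10, 11, 10, 8, 7, 4, 5, 6, 3, 4, 5, 10, 9, 8, 7, 6, 5, 4, 3]),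
  (12, 0, 0, [11, 10, 5, 6, 7, 3, 4, 5, 6, 2, 3, 4, 5, 10, 11, 5, 6, 4, 5, 10, 9, 8, 7, 6, 5, 4, 3, 2, 1]),
  (20, 0, 7, [8]),
  (1, 0, 1, [4, 5, 10, 9, 8, 6, 7, 5, 6, 4, 5, 10, 11, 10, 8, 7, 5, 6, 3, 4, 5, 10, 9, 8, 7, 6, 5, 4, 3, 2]),
  (0, 0, 1, [4, 5, 10, 6, 7, 8, 5, 6, 7, 4, 5, 6, 3, 4, 5, 10, 11, 10, 7, 5, 6, 4, 5, 10, 9, 8, 7, 6, 5, 4, 3, 2]),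
  (1, 0, 1, [4, 5, 10, 6, 7, 8, 5, 6, 7, 4, 5, 6, 3, 4, 5, 10, 11, 10, 7, 5, 6, 4, 5, 10, 9, 8, 7, 6, 5, 4, 3, 2]),
  (7, 0, 2, [2, 3, 4, 5, 10, 11, 6, 5, 10, 9, 7, 8, 6, 7, 4, 5, 6, 2, 3, 4, 5, 10, 11, 8, 6, 7, 5, 6, 3, 4, 5, 10, 9, 8, 7, 6, 5, 4, 3]),
  (4, 0, 1, [11, 7, 5, 6, 3, 4, 5, 10, 9, 7, 8, 6, 7, 3, 4, 5, 6, 2, 3, 4, 5, 10, 11, 8, 7, 5, 6, 3, 4, 5, 10, 9, 8, 7, 6, 5, 4, 3, 2]),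
  (1, 0, 3, [6, 5, 4]),
  (7, 0, 2, [10, 4, 5, 6, 3, 4, 5, 10, 7, 8, 6, 7, 5, 6, 3, 4, 5, 10, 11, 8, 7, 5, 6, 3, 4, 5, 10, 9, 8, 7, 6, 5, 4, 3]),
  (6, 0, 0, [5, 6, 3, 4, 5, 10, 11, 10, 7, 5, 6, 4, 5, 10, 8, 7, 6, 5, 4, 3, 2, 1]),
  (11, 1, 1, [3, 4, 5, 6, 2, 3, 4, 5, 10, 11, 7, 6, 5, 10, 8, 7, 4, 5, 6, 2, 3, 4, 5, 10, 11, 7, 6, 2, 3, 4, 5, 10, 9, 8, 7, 6, 5, 4, 3, 2]),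
  (4, 0, 0, [11, 8, 7, 6, 4, 5, 10, 8, 6, 7, 3, 4, 5, 6, 2, 3, 4, 5, 10, 11, 8, 7, 6, 2, 3, 4, 5, 10, 9, 8, 7, 6, 5, 4, 3, 2, 1]),
  (5, 0, 0, [11, 8, 7, 6, 4, 5, 10, 8, 6, 7, 3, 4, 5, 6, 2, 3, 4, 5, 10, 11, 8, 7, 6, 2, 3, 4, 5, 10, 9, 8, 7, 6, 5, 4, 3, 2, 1]),
  (5, 1, 0, [11, 8, 7, 6, 4, 5, 10, 8, 6, 7, 3, 4, 5, 6, 2, 3, 4, 5, 10, 11, 8, 7, 6, 2, 3, 4, 5, 10, 9, 8, 7, 6, 5, 4, 3, 2, 1]),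
  (10, 1, 1, [3, 4, 5, 6, 2, 3, 4, 5, 10, 11, 7, 6, 5, 10, 8, 7, 4, 5, 6, 2, 3, 4, 5, 10, 11, 7, 6, 2, 3, 4, 5, 10, 9, 8, 7, 6, 5, 4, 3, 2]),
  (5, 0, 0, [11, 8, 7, 6, 4, 5, 10, 8, 6, 7, 3, 4, 5, 6, 2, 3, 4, 5, 10, 11, 8, 7, 6, 2, 3, 4, 5, 10, 9, 8, 7, 6, 5, 4, 3, 2, 1]),
  (15, 1, 5, [6]),
  (17, 1, 1, []),
  (3, 0, 0, [7, 5, 6, 4, 5, 10, 7, 8, 6, 7, 2, 3, 4, 5, 6, 1, 2, 3, 4, 5, 10, 11, 8, 7, 5, 6, 2, 3, 4, 5, 10, 9, 8, 7, 6, 5, 4, 3, 2, 1]),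
  (5, 1, 0, [11, 8, 7, 6, 4, 5, 10, 8, 6, 7, 3, 4, 5, 6, 2, 3, 4, 5, 10, 11, 8, 7, 6, 2, 3, 4, 5, 10, 9, 8, 7, 6, 5, 4, 3, 2, 1])]

/-- moves -/
def armMoves9 : List (ℕ × ℕ × ℕ × List ℕ) := [
  (18, 0, 8, []),
  (12, 0, 0, [10, 5, 6, 7, 2, 3, 4, 5, 6, 1, 2, 3, 4, 5, 10, 11, 10, 8, 6, 7, 5, 6, 4, 5, 10, 9, 8, 7, 6, 5, 4, 3, 2, 1]),
  (9, 0, 0, [6, 4, 5, 10, 7, 8, 5, 6, 7, 4, 5, 6, 0, 1, 2, 3, 4, 5, 10, 11, 8, 7, 5, 6, 2, 3, 4, 5, 10, 9, 8, 7, 6, 5, 4, 3, 2, 1]),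
  (16, 1, 1, []),
  (6, 0, 0, [10, 11, 7, 6, 5, 10, 8, 5, 6, 7, 2, 3, 4, 5, 6, 1, 2, 3, 4, 5, 10, 11, 8, 7, 5, 6, 3, 4, 5, 10, 9, 8, 7, 6, 5, 4, 3, 2, 1]),
  (16, 0, 1, []),
  (3, 1, 0, [7, 5, 6, 4, 5, 10, 7, 8, 6, 7, 2, 3, 4, 5, 6, 1, 2, 3, 4, 5, 10, 11, 8, 7, 5, 6, 2, 3, 4, 5, 10, 9, 8, 7, 6, 5, 4, 3, 2, 1]),
  (4, 1, 0, [11, 8, 7, 6, 4, 5, 10, 8, 6, 7, 3, 4, 5, 6, 2, 3, 4, 5, 10, 11, 8, 7, 6, 2, 3, 4, 5, 10, 9, 8, 7, 6, 5, 4, 3, 2, 1]),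
  (5, 0, 1, [11, 7, 5, 6, 3, 4, 5, 10, 9, 7, 8, 6, 7, 3, 4, 5, 6, 2, 3, 4, 5, 10, 11, 8, 7, 5, 6, 3, 4, 5, 10, 9, 8, 7, 6, 5, 4, 3, 2]),
  (6, 0, 1, [11, 7, 5, 6, 3, 4, 5, 10, 9, 7, 8, 6, 7, 3, 4, 5, 6, 2, 3, 4, 5, 10, 11, 8, 7, 5, 6, 3, 4, 5, 10, 9, 8, 7, 6, 5, 4, 3, 2]),
  (7, 1, 2, [10, 4, 5, 6, 3, 4, 5, 10, 7, 8, 6, 7, 5, 6, 3, 4, 5, 10, 11, 8, 7, 5, 6, 3, 4, 5, 10, 9, 8, 7, 6, 5, 4, 3]),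
  (8, 1, 1, [7, 6, 5, 10, 11, 6, 2, 3, 4, 5, 10, 9, 7, 8, 5, 6, 7, 4, 5, 6, 2, 3, 4, 5, 10, 11, 8, 7, 5, 6, 3, 4, 5, 10, 9, 8, 7, 6, 5, 4, 3, 2]),
  (9, 0, 0, [6, 5, 10, 8, 5, 6, 7, 3, 4, 5, 6, 1, 2, 3, 4, 5, 10, 11, 8, 7, 5, 6, 4, 5, 10, 9, 8, 7, 6, 5, 4, 3, 2, 1]),
  (10, 1, 0, [11, 5, 6, 3, 4, 5, 10, 6, 7, 3, 4, 5, 6, 2, 3, 4, 5, 10, 11, 6, 7, 5, 6, 3, 4, 5, 10, 8, 7, 6, 5, 4, 3, 2, 1]),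
  (11, 0, 0, [10, 5, 6, 7, 2, 3, 4, 5, 6, 1, 2, 3, 4, 5, 10, 11, 10, 8, 6, 7, 5, 6, 4, 5, 10, 9, 8, 7, 6, 5, 4, 3, 2, 1]),
  (12, 2, 0, []),
  (12, 0, 0, [10, 11, 8, 7, 6, 5, 10, 9, 8, 7, 6, 5, 4, 3, 2, 1]),
  (17, 0, 8, []),
  (2, 0, 3, [6, 5, 4]),
  (1, 1, 0, [4, 5, 6, 2, 3, 4, 5, 10, 9, 7, 8, 6, 7, 5, 6, 3, 4, 5, 10, 11, 7, 4, 5, 6, 3, 4, 5, 10, 9, 8, 7, 6, 5, 4, 3, 2, 1]),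
  (17, 1, 8, []),
  (9, 0, 0, [5, 10, 11, 1, 2, 3, 4, 5, 10, 6, 7, 8, 5, 6, 7, 4, 5, 6, 3, 4, 5, 10, 11, 5, 6, 3, 4, 5, 10, 9, 8, 7, 6, 5, 4, 3, 2, 1]),
  (1, 1, 0, [6, 5, 10, 6, 7, 8, 5, 6, 7, 4, 5, 6, 2, 3, 4, 5, 10, 11, 8, 6, 7, 5, 6, 3, 4, 5, 10, 9, 8, 7, 6, 5, 4, 3, 2, 1]),
  (18, 0, 7, [9, 8]),
  (5, 1, 0, [10, 9, 8, 7, 5, 6, 4, 5, 10, 11, 7, 6, 4, 5, 10, 8, 7, 6, 5, 4, 3, 2, 1]),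
  (3, 0, 3, [6, 5, 4]),
  (6, 1, 2, [10, 4, 5, 6, 3, 4, 5, 10, 7, 8, 6, 7, 5, 6, 3, 4, 5, 10, 11, 8, 7, 5, 6, 3, 4, 5, 10, 9, 8, 7, 6, 5, 4, 3]),
  (8, 0, 1, [7, 6, 5, 10, 11, 6, 2, 3, 4, 5, 10, 9, 7, 8, 5, 6, 7, 4, 5, 6, 2, 3, 4, 5, 10, 11, 8, 7, 5, 6, 3, 4, 5, 10, 9, 8, 7, 6, 5, 4, 3, 2]),
  (14, 0, 0, [1]),
  (16, 1, 8, []),
  (17, 0, 10, [11]),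
  (6, 0, 2, [10, 4, 5, 6, 3, 4, 5, 10, 7, 8, 6, 7, 5, 6, 3, 4, 5, 10, 11, 8, 7, 5, 6, 3, 4, 5, 10, 9, 8, 7, 6, 5, 4, 3]),
  (2, 0, 1, [4, 5, 10, 9, 8, 6, 7, 5, 6, 4, 5, 10, 11, 10, 8, 7, 5, 6, 3, 4, 5, 10, 9, 8, 7, 6, 5, 4, 3, 2]),
  (14, 1, 0, [1]),
  (14, 0, 0, [1]),
  (2, 0, 1, [10, 8, 9, 7, 8, 5, 6, 7, 4, 5, 6, 2, 3, 4, 5, 10, 11, 8, 6, 7, 4, 5, 6, 3, 4, 5, 10, 9, 8, 7, 6, 5, 4, 3, 2]),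
  (16, 1, 9, []),
  (2, 0, 1, [11, 8, 7, 6, 4, 5, 10, 9, 7, 8, 6, 7, 3, 4, 5, 6, 2, 3, 4, 5, 10, 11, 8, 7, 5, 6, 3, 4, 5, 10, 9, 8, 7, 6, 5, 4, 3, 2]),
  (9, 0, 1, [7, 6, 5, 10, 11, 6, 2, 3, 4, 5, 10, 9, 7, 8, 5, 6, 7, 4, 5, 6, 2, 3, 4, 5, 10, 11, 8, 7, 5, 6, 3, 4, 5, 10, 9, 8, 7, 6, 5, 4, 3, 2]),
  (17, 1, 10, [11]),
  (1, 1, 1, [4, 5, 10, 9, 8, 6, 7, 5, 6, 4, 5, 10, 11, 10, 8, 7, 5, 6, 3, 4, 5, 10, 9, 8, 7, 6, 5, 4, 3, 2]),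
  (6, 1, 2, [10, 4, 5, 6, 3, 4, 5, 10, 7, 8, 6, 7, 5, 6, 3, 4, 5, 10, 11, 8, 7, 5, 6, 3, 4, 5, 10, 9, 8, 7, 6, 5, 4, 3]),
  (17, 1, 8, [9]),
  (11, 0, 0, [11, 10, 5, 6, 7, 3, 4, 5, 6, 2, 3, 4, 5, 10, 11, 5, 6, 4, 5, 10, 9, 8, 7, 6, 5, 4, 3, 2, 1]),
  (11, 0, 0, [6, 4, 5, 10, 8, 6, 7, 4, 5, 6, 1, 2, 3, 4, 5, 10, 11, 10, 8, 7, 5, 6, 4, 5, 10, 9, 8, 7, 6, 5, 4, 3, 2, 1]),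
  (14, 0, 0, []),
  (13, 1, 1, []),
  (4, 1, 0, [10, 9, 8, 7, 5, 6, 4, 5, 10, 11, 7, 6, 4, 5, 10, 8, 7, 6, 5, 4, 3, 2, 1]),
  (10, 1, 0, [6, 5, 10, 11, 8, 7, 6, 5, 10, 9, 8, 7, 6, 5, 4, 3, 2, 1]),
  (5, 1, 2, [10, 4, 5, 6, 3, 4, 5, 10, 7, 8, 6, 7, 5, 6, 3, 4, 5, 10, 11, 8, 7, 5, 6, 3, 4, 5, 10, 9, 8, 7, 6, 5, 4, 3]),
  (16, 0, 9, []),
  (10, 0, 0, [6, 5, 10, 11, 8, 7, 6, 5, 10, 9, 8, 7, 6, 5, 4, 3, 2, 1]),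
  (0, 0, 0, [11, 5, 10, 6, 7, 3, 4, 5, 6, 2, 3, 4, 5, 10, 11, 10, 8, 6, 7, 5, 6, 3, 4, 5, 10, 9, 8, 7, 6, 5, 4, 3, 2, 1]),
  (18, 1, 7, [9, 8]),
  (15, 0, 0, []),
  (14, 0, 0, [10, 11, 8, 7, 6, 5, 10, 9, 8, 7, 6, 5, 4, 3, 2, 1]),
  (8, 1, 1, [11, 5, 6, 4, 5, 10, 7, 8, 4, 5, 6, 7, 3, 4, 5, 6, 2, 3, 4, 5, 10, 11, 8, 7, 4, 5, 6, 3, 4, 5, 10, 9, 8, 7, 6, 5, 4, 3, 2]),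
  (1, 0, 0, [11, 5, 10, 6, 7, 3, 4, 5, 6, 2, 3, 4, 5, 10, 11, 10, 8, 6, 7, 5, 6, 3, 4, 5, 10, 9, 8, 7, 6, 5, 4, 3, 2, 1]),
  (7, 0, 1, [5, 10, 11, 6, 5, 10, 4, 5, 6, 7, 3, 4, 5, 6, 2, 3, 4, 5, 10, 11, 6, 7, 5, 6, 2, 3, 4, 5, 10, 9, 8, 7, 6, 5, 4, 3, 2]),
  (12, 0, 0, [6, 4, 5, 10, 8, 6, 7, 4, 5, 6, 1, 2, 3, 4, 5, 10, 11, 10, 8, 7, 5, 6, 4, 5, 10, 9, 8, 7, 6, 5, 4, 3, 2, 1]),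
  (13, 0, 0, [6, 4, 5, 10, 8, 6, 7, 4, 5, 6, 1, 2, 3, 4, 5, 10, 11, 10, 8, 7, 5, 6, 4, 5, 10, 9, 8, 7, 6, 5, 4, 3, 2, 1]),
  (6, 0, 1, [8, 7, 6, 5, 10, 7, 8, 6, 7, 4, 5, 6, 3, 4, 5, 10, 11, 7, 4, 5, 6, 3, 4, 5, 10, 9, 8, 7, 6, 5, 4, 3, 2]),
  (4, 1, 2, [10, 4, 5, 6, 3, 4, 5, 10, 7, 8, 6, 7, 5, 6, 3, 4, 5, 10, 11, 8, 7, 5, 6, 3, 4, 5, 10, 9, 8, 7, 6, 5, 4, 3]),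
  (1, 0, 1, [10, 11, 10, 9, 8, 7, 5, 6, 4, 5, 10, 7, 8, 6, 7, 4, 5, 6, 3, 4, 5, 10, 11, 7, 5, 6, 3, 4, 5, 10, 9, 8, 7, 6, 5, 4, 3, 2]),
  (1, 0, 0, [4, 5, 6, 2, 3, 4, 5, 10, 9, 7, 8, 6, 7, 5, 6, 3, 4, 5, 10, 11, 7, 4, 5, 6, 3, 4, 5, 10, 9, 8, 7, 6, 5, 4, 3, 2, 1]),
  (2, 1, 1, [11, 8, 7, 6, 4, 5, 10, 9, 7, 8, 6, 7, 3, 4, 5, 6, 2, 3, 4, 5, 10, 11, 8, 7, 5, 6, 3, 4, 5, 10, 9, 8, 7, 6, 5, 4, 3, 2]),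
  (3, 1, 2, [10, 4, 5, 6, 3, 4, 5, 10, 7, 8, 6, 7, 5, 6, 3, 4, 5, 10, 11, 8, 7, 5, 6, 3, 4, 5, 10, 9, 8, 7, 6, 5, 4, 3]),
  (4, 0, 0, [10, 11, 3, 4, 5, 10, 8, 6, 7, 4, 5, 6, 0, 1, 2, 3, 4, 5, 10, 11, 8, 7, 5, 6, 3, 4, 5, 10, 9, 8, 7, 6, 5, 4, 3, 2, 1]),
  (5, 0, 0, [10, 11, 3, 4, 5, 10, 8, 6, 7, 4, 5, 6, 0, 1, 2, 3, 4, 5, 10, 11, 8, 7, 5, 6, 3, 4, 5, 10, 9, 8, 7, 6, 5, 4, 3, 2, 1]),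
  (6, 1, 1, [8, 7, 6, 5, 10, 7, 8, 6, 7, 4, 5, 6, 3, 4, 5, 10, 11, 7, 4, 5, 6, 3, 4, 5, 10, 9, 8, 7, 6, 5, 4, 3, 2]),
  (7, 1, 1, [5, 10, 11, 6, 5, 10, 4, 5, 6, 7, 3, 4, 5, 6, 2, 3, 4, 5, 10, 11, 6, 7, 5, 6, 2, 3, 4, 5, 10, 9, 8, 7, 6, 5, 4, 3, 2]),
  (8, 0, 0, [6, 5, 10, 11, 8, 7, 6, 5, 10, 9, 8, 7, 6, 5, 4, 3, 2, 1]),
  (9, 0, 0, [6, 5, 10, 11, 8, 7, 6, 5, 10, 9, 8, 7, 6, 5, 4, 3, 2, 1]),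
  (10, 2, 0, []),
  (0, 1, 0, [11, 5, 10, 6, 7, 3, 4, 5, 6, 2, 3, 4, 5, 10, 11, 10, 8, 6, 7, 5, 6, 3, 4, 5, 10, 9, 8, 7, 6, 5, 4, 3, 2, 1]),
  (1, 1, 1, [11, 8, 7, 6, 4, 5, 10, 9, 7, 8, 6, 7, 3, 4, 5, 6, 2, 3, 4, 5, 10, 11, 8, 7, 5, 6, 3, 4, 5, 10, 9, 8, 7, 6, 5, 4, 3, 2]),
  (2, 0, 1, [10, 8, 9, 7, 8, 5, 6, 7, 4, 5, 6, 2, 3, 4, 5, 10, 11, 8, 6, 7, 4, 5, 6, 3, 4, 5, 10, 9, 8, 7, 6, 5, 4, 3, 2]),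
  (3, 0, 1, [10, 8, 9, 7, 8, 5, 6, 7, 4, 5, 6, 2, 3, 4, 5, 10, 11, 8, 6, 7, 4, 5, 6, 3, 4, 5, 10, 9, 8, 7, 6, 5, 4, 3, 2]),
  (4, 0, 1, [10, 8, 9, 7, 8, 5, 6, 7, 4, 5, 6, 2, 3, 4, 5, 10, 11, 8, 6, 7, 4, 5, 6, 3, 4, 5, 10, 9, 8, 7, 6, 5, 4, 3, 2]),
  (5, 0, 1, [10, 8, 9, 7, 8, 5, 6, 7, 4, 5, 6, 2, 3, 4, 5, 10, 11, 8, 6, 7, 4, 5, 6, 3, 4, 5, 10, 9, 8, 7, 6, 5, 4, 3, 2]),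
  (6, 1, 1, [5, 10, 11, 6, 5, 10, 4, 5, 6, 7, 3, 4, 5, 6, 2, 3, 4, 5, 10, 11, 6, 7, 5, 6, 2, 3, 4, 5, 10, 9, 8, 7, 6, 5, 4, 3, 2]),
  (7, 0, 0, [11, 6, 5, 10, 7, 8, 5, 6, 7, 3, 4, 5, 6, 2, 3, 4, 5, 10, 11, 8, 7, 6, 3, 4, 5, 10, 9, 8, 7, 6, 5, 4, 3, 2, 1]),
  (8, 0, 0, [11, 6, 5, 10, 7, 8, 5, 6, 7, 3, 4, 5, 6, 2, 3, 4, 5, 10, 11, 8, 7, 6, 3, 4, 5, 10, 9, 8, 7, 6, 5, 4, 3, 2, 1]),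
  (9, 0, 0, [11, 6, 5, 10, 7, 8, 5, 6, 7, 3, 4, 5, 6, 2, 3, 4, 5, 10, 11, 8, 7, 6, 3, 4, 5, 10, 9, 8, 7, 6, 5, 4, 3, 2, 1]),
  (10, 0, 0, [11, 6, 5, 10, 7, 8, 5, 6, 7, 3, 4, 5, 6, 2, 3, 4, 5, 10, 11, 8, 7, 6, 3, 4, 5, 10, 9, 8, 7, 6, 5, 4, 3, 2, 1]),
  (11, 1, 0, [6, 4, 5, 10, 8, 6, 7, 4, 5, 6, 1, 2, 3, 4, 5, 10, 11, 10, 8, 7, 5, 6, 4, 5, 10, 9, 8, 7, 6, 5, 4, 3, 2, 1]),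
  (12, 0, 9, []),
  (13, 0, 9, []),
  (14, 2, 0, []),
  (8, 1, 0, [6, 4, 5, 10, 8, 6, 7, 4, 5, 6, 2, 3, 4, 5, 10, 11, 10, 8, 7, 5, 6, 4, 5, 10, 9, 8, 7, 6, 5, 4, 3, 2, 1]),
  (13, 0, 0, []),
  (7, 0, 1, [3, 4, 5, 10, 11, 6, 3, 4, 5, 10, 8, 4, 5, 6, 7, 3, 4, 5, 6, 2, 3, 4, 5, 10, 11, 8, 7, 5, 6, 3, 4, 5, 10, 9, 8, 7, 6, 5, 4, 3, 2]),
  (0, 1, 1, [11, 8, 7, 6, 4, 5, 10, 9, 7, 8, 6, 7, 3, 4, 5, 6, 2, 3, 4, 5, 10, 11, 8, 7, 5, 6, 3, 4, 5, 10, 9, 8, 7, 6, 5, 4, 3, 2]),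
  (12, 1, 7, [9, 8]),
  (10, 0, 0, [5, 6, 7, 3, 4, 5, 6, 2, 3, 4, 5, 10, 11, 10, 7, 8, 6, 7, 5, 6, 3, 4, 5, 10, 9, 8, 7, 6, 5, 4, 3, 2, 1]),
  (0, 1, 0, [11, 5, 10, 6, 7, 3, 4, 5, 6, 2, 3, 4, 5, 10, 11, 10, 8, 6, 7, 5, 6, 3, 4, 5, 10, 9, 8, 7, 6, 5, 4, 3, 2, 1]),
  (12, 0, 7, [9, 8]),
  (7, 1, 1, [3, 4, 5, 10, 11, 6, 3, 4, 5, 10, 8, 4, 5, 6, 7, 3, 4, 5, 6, 2, 3, 4, 5, 10, 11, 8, 7, 5, 6, 3, 4, 5, 10, 9, 8, 7, 6, 5, 4, 3, 2]),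
  (4, 0, 0, [6, 5, 10, 11, 5, 6, 3, 4, 5, 10, 5, 6, 7, 3, 4, 5, 6, 2, 3, 4, 5, 10, 11, 7, 5, 6, 3, 4, 5, 10, 9, 8, 7, 6, 5, 4, 3, 2, 1]),
  (14, 0, 0, [])]

/-- moves -/
def armMoves10 : List (ℕ × ℕ × ℕ × List ℕ) := [
  (5, 1, 1, [5, 10, 11, 6, 5, 10, 4, 5, 6, 7, 3, 4, 5, 6, 2, 3, 4, 5, 10, 11, 6, 7, 5, 6, 2, 3, 4, 5, 10, 9, 8, 7, 6, 5, 4, 3, 2]),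
  (2, 0, 2, [10, 4, 5, 6, 3, 4, 5, 10, 7, 8, 6, 7, 5, 6, 3, 4, 5, 10, 11, 8, 7, 5, 6, 3, 4, 5, 10, 9, 8, 7, 6, 5, 4, 3]),
  (14, 1, 0, []),
  (9, 1, 0, [10, 11, 7, 6, 5, 10, 8, 7, 6, 5, 4, 3, 2, 1]),
  (8, 1, 0, [10, 11, 7, 6, 5, 10, 8, 7, 6, 5, 4, 3, 2, 1]),
  (6, 1, 1, [3, 4, 5, 10, 11, 6, 3, 4, 5, 10, 8, 4, 5, 6, 7, 3, 4, 5, 6, 2, 3, 4, 5, 10, 11, 8, 7, 5, 6, 3, 4, 5, 10, 9, 8, 7, 6, 5, 4, 3, 2]),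
  (0, 1, 1, [11, 8, 7, 6, 4, 5, 10, 9, 7, 8, 6, 7, 3, 4, 5, 6, 2, 3, 4, 5, 10, 11, 8, 7, 5, 6, 3, 4, 5, 10, 9, 8, 7, 6, 5, 4, 3, 2]),
  (3, 0, 2, [10, 4, 5, 6, 3, 4, 5, 10, 7, 8, 6, 7, 5, 6, 3, 4, 5, 10, 11, 8, 7, 5, 6, 3, 4, 5, 10, 9, 8, 7, 6, 5, 4, 3]),
  (4, 0, 2, [10, 4, 5, 6, 3, 4, 5, 10, 7, 8, 6, 7, 5, 6, 3, 4, 5, 10, 11, 8, 7, 5, 6, 3, 4, 5, 10, 9, 8, 7, 6, 5, 4, 3]),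
  (5, 0, 2, [10, 4, 5, 6, 3, 4, 5, 10, 7, 8, 6, 7, 5, 6, 3, 4, 5, 10, 11, 8, 7, 5, 6, 3, 4, 5, 10, 9, 8, 7, 6, 5, 4, 3]),
  (6, 1, 0, [11, 4, 5, 10, 7, 8, 6, 7, 5, 6, 3, 4, 5, 10, 11, 6, 7, 5, 6, 2, 3, 4, 5, 10, 9, 8, 7, 6, 5, 4, 3, 2, 1]),
  (7, 1, 0, [10, 11, 7, 6, 5, 10, 8, 7, 6, 5, 4, 3, 2, 1]),
  (8, 0, 0, [3, 4, 5, 6, 2, 3, 4, 5, 10, 7, 8, 6, 7, 5, 6, 3, 4, 5, 10, 11, 5, 6, 3, 4, 5, 10, 9, 8, 7, 6, 5, 4, 3, 2, 1]),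
  (9, 0, 0, [3, 4, 5, 6, 2, 3, 4, 5, 10, 7, 8, 6, 7, 5, 6, 3, 4, 5, 10, 11, 5, 6, 3, 4, 5, 10, 9, 8, 7, 6, 5, 4, 3, 2, 1]),
  (10, 1, 0, [5, 6, 7, 3, 4, 5, 6, 2, 3, 4, 5, 10, 11, 10, 7, 8, 6, 7, 5, 6, 3, 4, 5, 10, 9, 8, 7, 6, 5, 4, 3, 2, 1]),
  (11, 0, 7, [9, 8]),
  (12, 2, 0, []),
  (0, 1, 0, [11, 5, 10, 6, 7, 3, 4, 5, 6, 2, 3, 4, 5, 10, 11, 10, 8, 6, 7, 5, 6, 3, 4, 5, 10, 9, 8, 7, 6, 5, 4, 3, 2, 1]),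
  (2, 0, 1, [10, 7, 5, 6, 4, 5, 10, 11, 4, 5, 6, 3, 4, 5, 10, 8, 7, 6, 5, 4, 3, 2]),
  (1, 1, 1, [7, 6, 4, 5, 10, 8, 9, 7, 8, 6, 7, 3, 4, 5, 6, 2, 3, 4, 5, 10, 11, 8, 6, 7, 5, 6, 3, 4, 5, 10, 9, 8, 7, 6, 5, 4, 3, 2]),
  (3, 1, 1, [10, 11, 10, 4, 5, 6, 3, 4, 5, 10, 7, 8, 6, 7, 4, 5, 6, 2, 3, 4, 5, 10, 11, 6, 7, 5, 6, 3, 4, 5, 10, 9, 8, 7, 6, 5, 4, 3, 2]),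
  (6, 0, 0, [11, 4, 5, 10, 7, 8, 6, 7, 5, 6, 3, 4, 5, 10, 11, 6, 7, 5, 6, 2, 3, 4, 5, 10, 9, 8, 7, 6, 5, 4, 3, 2, 1]),
  (11, 1, 0, []),
  (10, 0, 0, [5, 6, 7, 3, 4, 5, 6, 2, 3, 4, 5, 10, 11, 10, 7, 8, 6, 7, 5, 6, 3, 4, 5, 10, 9, 8, 7, 6, 5, 4, 3, 2, 1]),
  (3, 0, 1, [10, 11, 10, 4, 5, 6, 3, 4, 5, 10, 7, 8, 6, 7, 4, 5, 6, 2, 3, 4, 5, 10, 11, 6, 7, 5, 6, 3, 4, 5, 10, 9, 8, 7, 6, 5, 4, 3, 2]),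
  (7, 0, 0, [11, 4, 5, 10, 7, 8, 6, 7, 5, 6, 3, 4, 5, 10, 11, 6, 7, 5, 6, 2, 3, 4, 5, 10, 9, 8, 7, 6, 5, 4, 3, 2, 1]),
  (10, 1, 0, [5, 6, 7, 3, 4, 5, 6, 2, 3, 4, 5, 10, 11, 10, 7, 8, 6, 7, 5, 6, 3, 4, 5, 10, 9, 8, 7, 6, 5, 4, 3, 2, 1]),
  (0, 1, 1, [7, 6, 4, 5, 10, 8, 9, 7, 8, 6, 7, 3, 4, 5, 6, 2, 3, 4, 5, 10, 11, 8, 6, 7, 5, 6, 3, 4, 5, 10, 9, 8, 7, 6, 5, 4, 3, 2]),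
  (9, 0, 0, [4, 5, 10, 11, 10, 5, 6, 2, 3, 4, 5, 10, 6, 7, 8, 5, 6, 7, 4, 5, 6, 2, 3, 4, 5, 10, 11, 5, 6, 3, 4, 5, 10, 9, 8, 7, 6, 5, 4, 3, 2, 1]),
  (8, 1, 0, [5, 6, 4, 5, 10, 11, 7, 6, 3, 4, 5, 10, 6, 7, 3, 4, 5, 6, 2, 3, 4, 5, 10, 11, 7, 4, 5, 6, 3, 4, 5, 10, 8, 7, 6, 5, 4, 3, 2, 1]),
  (10, 1, 0, []),
  (2, 1, 1, [10, 7, 5, 6, 4, 5, 10, 11, 4, 5, 6, 3, 4, 5, 10, 8, 7, 6, 5, 4, 3, 2]),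
  (11, 1, 1, [10, 11, 6, 5, 10, 8, 7, 6, 5, 4, 3, 2]),
  (5, 0, 0, [5, 10, 11, 7, 6, 5, 10, 7, 8, 5, 6, 7, 3, 4, 5, 6, 2, 3, 4, 5, 10, 11, 8, 7, 5, 6, 3, 4, 5, 10, 9, 8, 7, 6, 5, 4, 3, 2, 1]),
  (2, 0, 1, [10, 7, 5, 6, 4, 5, 10, 11, 4, 5, 6, 3, 4, 5, 10, 8, 7, 6, 5, 4, 3, 2]),
  (10, 0, 0, []),
  (3, 0, 1, [10, 7, 5, 6, 4, 5, 10, 11, 4, 5, 6, 3, 4, 5, 10, 8, 7, 6, 5, 4, 3, 2]),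
  (7, 0, 0, [10, 5, 6, 4, 5, 10, 11, 3, 4, 5, 10, 9, 8, 6, 7, 4, 5, 6, 2, 3, 4, 5, 10, 11, 8, 7, 4, 5, 6, 3, 4, 5, 10, 9, 8, 7, 6, 5, 4, 3, 2, 1]),
  (0, 0, 1, [7, 6, 4, 5, 10, 8, 9, 7, 8, 6, 7, 3, 4, 5, 6, 2, 3, 4, 5, 10, 11, 8, 6, 7, 5, 6, 3, 4, 5, 10, 9, 8, 7, 6, 5, 4, 3, 2]),
  (1, 0, 1, [7, 6, 4, 5, 10, 8, 9, 7, 8, 6, 7, 3, 4, 5, 6, 2, 3, 4, 5, 10, 11, 8, 6, 7, 5, 6, 3, 4, 5, 10, 9, 8, 7, 6, 5, 4, 3, 2]),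
  (2, 1, 1, [10, 11, 10, 4, 5, 6, 3, 4, 5, 10, 7, 8, 6, 7, 4, 5, 6, 2, 3, 4, 5, 10, 11, 6, 7, 5, 6, 3, 4, 5, 10, 9, 8, 7, 6, 5, 4, 3, 2]),
  (3, 1, 1, [10, 7, 5, 6, 4, 5, 10, 11, 4, 5, 6, 3, 4, 5, 10, 8, 7, 6, 5, 4, 3, 2]),
  (4, 1, 0, [6, 5, 10, 11, 7, 6, 4, 5, 10, 4, 5, 6, 7, 3, 4, 5, 6, 2, 3, 4, 5, 10, 11, 7, 5, 6, 2, 3, 4, 5, 10, 9, 8, 7, 6, 5, 4, 3, 2, 1]),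
  (5, 0, 0, [4, 5, 6, 7, 2, 3, 4, 5, 6, 0, 1, 2, 3, 4, 5, 10, 11, 8, 7, 5, 6, 4, 5, 10, 9, 8, 7, 6, 5, 4, 3, 2, 1]),
  (6, 1, 1, [3, 4, 5, 6, 0, 1, 2, 3, 4, 5, 10, 11, 8, 7, 5, 6, 4, 5, 10, 9, 8, 7, 6, 5, 4, 3, 2]),
  (7, 0, 0, [6, 7, 1, 2, 3, 4, 5, 6, 0, 1, 2, 3, 4, 5, 10, 11, 10, 8, 7, 5, 6, 3, 4, 5, 10, 9, 8, 7, 6, 5, 4, 3, 2, 1]),
  (8, 1, 0, [11, 5, 10, 9, 7, 8, 5, 6, 7, 4, 5, 6, 2, 3, 4, 5, 10, 11, 6, 7, 4, 5, 6, 3, 4, 5, 10, 9, 8, 7, 6, 5, 4, 3, 2, 1]),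
  (9, 1, 0, [10, 11, 6, 5, 10, 8, 7, 6, 5, 4, 3, 2, 1]),
  (10, 1, 0, []),
  (11, 1, 0, [6, 3, 4, 5, 10, 5, 6, 7, 4, 5, 6, 2, 3, 4, 5, 10, 11, 6, 7, 4, 5, 6, 3, 4, 5, 10, 9, 8, 7, 6, 5, 4, 3, 2, 1]),
  (12, 2, 0, []),
  (1, 1, 1, [10, 11, 10, 4, 5, 6, 3, 4, 5, 10, 7, 8, 6, 7, 4, 5, 6, 2, 3, 4, 5, 10, 11, 6, 7, 5, 6, 3, 4, 5, 10, 9, 8, 7, 6, 5, 4, 3, 2]),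
  (2, 1, 1, [10, 7, 5, 6, 4, 5, 10, 11, 4, 5, 6, 3, 4, 5, 10, 8, 7, 6, 5, 4, 3, 2]),
  (3, 0, 1, [7, 6, 5, 10, 8, 6, 7, 3, 4, 5, 6, 2, 3, 4, 5, 10, 11, 10, 8, 7, 5, 6, 3, 4, 5, 10, 9, 8, 7, 6, 5, 4, 3, 2]),
  (4, 0, 1, [7, 6, 5, 10, 8, 6, 7, 3, 4, 5, 6, 2, 3, 4, 5, 10, 11, 10, 8, 7, 5, 6, 3, 4, 5, 10, 9, 8, 7, 6, 5, 4, 3, 2]),
  (5, 0, 1, [7, 6, 5, 10, 8, 6, 7, 3, 4, 5, 6, 2, 3, 4, 5, 10, 11, 10, 8, 7, 5, 6, 3, 4, 5, 10, 9, 8, 7, 6, 5, 4, 3, 2]),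
  (6, 1, 0, [7, 6, 5, 10, 8, 6, 7, 3, 4, 5, 6, 2, 3, 4, 5, 10, 11, 10, 8, 7, 5, 6, 3, 4, 5, 10, 9, 8, 7, 6, 5, 4, 3, 2, 1]),
  (7, 0, 0, []),
  (8, 0, 0, []),
  (9, 2, 0, []),
  (3, 0, 1, [6, 5, 10, 11, 5, 6, 3, 4, 5, 10, 7, 8, 6, 7, 3, 4, 5, 6, 2, 3, 4, 5, 10, 11, 7, 6, 3, 4, 5, 10, 9, 8, 7, 6, 5, 4, 3, 2]),
  (4, 1, 1, [3, 4, 5, 6, 0, 1, 2, 3, 4, 5, 10, 11, 8, 7, 5, 6, 4, 5, 10, 9, 8, 7, 6, 5, 4, 3, 2]),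
  (2, 1, 0, [5, 10, 11, 8, 7, 6, 3, 4, 5, 10, 6, 7, 8, 4, 5, 6, 7, 3, 4, 5, 6, 2, 3, 4, 5, 10, 11, 5, 6, 3, 4, 5, 10, 9, 8, 7, 6, 5, 4, 3, 2, 1]),
  (3, 0, 0, [9, 8, 7, 6, 5, 10, 4, 5, 6, 0, 1, 2, 3, 4, 5, 10, 11, 10, 7, 5, 6, 3, 4, 5, 10, 8, 7, 6, 5, 4, 3, 2, 1]),
  (4, 1, 1, [3, 4, 5, 10, 11, 8, 7, 6, 5, 10, 8, 5, 6, 7, 4, 5, 6, 2, 3, 4, 5, 10, 11, 7, 4, 5, 6, 3, 4, 5, 10, 9, 8, 7, 6, 5, 4, 3, 2]),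
  (5, 2, 0, []),
  (1, 1, 0, [5, 10, 11, 8, 7, 6, 3, 4, 5, 10, 6, 7, 8, 4, 5, 6, 7, 3, 4, 5, 6, 2, 3, 4, 5, 10, 11, 5, 6, 3, 4, 5, 10, 9, 8, 7, 6, 5, 4, 3, 2, 1]),
  (2, 0, 1, [11, 1, 2, 3, 4, 5, 10, 7, 8, 6, 7, 4, 5, 6, 2, 3, 4, 5, 10, 11, 8, 7, 4, 5, 6, 3, 4, 5, 10, 9, 8, 7, 6, 5, 4, 3, 2]),
  (3, 1, 1, [3, 4, 5, 10, 11, 8, 7, 6, 5, 10, 8, 5, 6, 7, 4, 5, 6, 2, 3, 4, 5, 10, 11, 7, 4, 5, 6, 3, 4, 5, 10, 9, 8, 7, 6, 5, 4, 3, 2]),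
  (4, 0, 1, [10, 11, 6, 5, 10, 8, 7, 6, 5, 4, 3, 2]),
  (5, 2, 0, []),
  (0, 0, 0, [11, 5, 10, 6, 7, 3, 4, 5, 6, 2, 3, 4, 5, 10, 11, 10, 8, 6, 7, 5, 6, 3, 4, 5, 10, 9, 8, 7, 6, 5, 4, 3, 2, 1]),
  (1, 2, 0, []),
  (0, 0, 2, [7, 6, 3, 4, 5, 10, 11, 6, 3, 4, 5, 10, 6, 7, 8, 5, 6, 7, 4, 5, 6, 3, 4, 5, 10, 11, 7, 5, 6, 3, 4, 5, 10, 9, 8, 7, 6, 5, 4, 3]),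
  (1, 2, 0, []),
  (0, 2, 0, [])]

/-- all moves -/
def armMovesAll : List (ℕ × ℕ × ℕ × List ℕ) := armMoves0 ++ armMoves1 ++ armMoves2 ++ armMoves3 ++ armMoves4 ++ armMoves5 ++ armMoves6 ++ armMoves7 ++ armMoves8 ++ armMoves9 ++ armMoves10

end CfsgLib.KnownB.Fi24Mult
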