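import Cfsg.Agent.Lib.KnownB.Fi24Mult.TabData
import Cfsg.Agent.Lib.KnownB.Fi24Mult.ArmData

/-! The braid moves for the relation of the arms. -/

set_option Elab.async false
set_option maxRecDepth 100000

namespace CfsgLib.KnownB.Fi24Mult

theorem arm_hur : hurEmpty (lookTabs tabsAll) armMovesAll (repW 17 armW) = true := by
  decide +kernel

end CfsgLib.KnownB.Fi24Mult
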