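import Cfsg.Agent.Lib.KnownB.Fi24Mult.Hurwitz

/-! Braid moves for the relation of E₇ (generated data). -/

set_option autoImplicit false
set_option maxRecDepth 100000

namespace CfsgLib.KnownB.Fi24Mult

/-- moves -/
def sevenMoves0 : List (ℕ × ℕ × ℕ × List ℕ) := [
  (0, 0, 2, []),
  (1, 0, 2, []),
  (2, 0, 2, []),
  (3, 0, 2, []),
  (4, 0, 2, []),
  (5, 0, 2, []),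
  (6, 2, 0, []),
  (1, 0, 4, []),
  (2, 0, 4, []),
  (3, 0, 4, []),
  (4, 0, 4, []),
  (5, 0, 4, []),
  (6, 2, 0, []),
  (2, 0, 6, []),
  (3, 0, 6, []),
  (4, 0, 6, []),
  (5, 0, 6, []),
  (6, 2, 0, []),
  (3, 0, 10, []),
  (4, 0, 10, []),
  (5, 0, 10, []),
  (6, 2, 0, []),
  (3, 0, 3, [4]),
  (4, 0, 3, [4]),
  (5, 0, 3, [4]),
  (6, 1, 3, []),
  (7, 2, 0, []),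
  (4, 0, 7, []),
  (5, 0, 7, []),
  (6, 0, 7, []),
  (7, 0, 7, []),
  (8, 2, 0, []),
  (2, 0, 6, [7]),
  (3, 0, 6, [7]),
  (4, 0, 6, [7]),
  (5, 0, 6, [7]),
  (6, 2, 0, []),
  (4, 0, 3, []),
  (5, 0, 3, []),
  (6, 0, 3, []),
  (7, 2, 0, []),
  (3, 0, 2, [4, 3]),
  (4, 0, 2, [4, 3]),
  (5, 1, 2, [3]),
  (6, 2, 0, []),
  (0, 0, 2, [3]),
  (1, 0, 2, [3]),
  (2, 0, 2, [3]),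
  (3, 0, 2, [3]),
  (4, 2, 0, []),
  (3, 0, 10, []),
  (4, 0, 10, []),
  (5, 0, 10, []),
  (6, 2, 0, []),
  (4, 0, 6, []),
  (5, 0, 6, []),
  (6, 0, 6, []),
  (7, 0, 6, []),
  (8, 0, 6, []),
  (9, 2, 0, []),
  (5, 0, 2, []),
  (6, 0, 2, []),
  (7, 0, 2, []),
  (8, 0, 2, []),
  (9, 0, 2, []),
  (10, 2, 0, []),
  (6, 0, 4, []),
  (7, 0, 4, []),
  (8, 0, 4, []),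
  (9, 0, 4, []),
  (10, 2, 0, []),
  (2, 0, 4, [7, 6, 5]),
  (3, 0, 4, [7, 6, 5]),
  (4, 0, 4, [7, 6, 5]),
  (5, 1, 4, [6, 5]),
  (6, 2, 0, []),
  (6, 0, 10, []),
  (7, 0, 10, []),
  (8, 0, 10, []),
  (9, 0, 10, []),
  (10, 2, 0, []),
  (3, 0, 4, [5]),
  (4, 1, 4, [6, 5]),
  (5, 0, 6, []),
  (6, 0, 6, []),
  (7, 2, 0, []),
  (1, 0, 3, [10, 6, 5, 4]),
  (2, 0, 3, [10, 6, 5, 4]),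
  (3, 0, 3, [10, 6, 5, 4]),
  (4, 1, 3, [4]),
  (5, 2, 0, []),
  (4, 0, 3, [4]),
  (5, 0, 3, [4]),
  (6, 1, 3, []),
  (7, 2, 0, []),
  (4, 0, 7, []),
  (5, 0, 7, []),
  (6, 0, 7, []),
  (7, 0, 7, []),
  (8, 2, 0, [])]

/-- moves -/
def sevenMoves1 : List (ℕ × ℕ × ℕ × List ℕ) := [
  (5, 0, 3, []),
  (6, 0, 3, []),
  (7, 0, 3, []),
  (8, 0, 3, []),
  (9, 2, 0, []),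
  (0, 0, 2, [5, 4, 3]),
  (1, 0, 2, [5, 4, 3]),
  (2, 0, 2, [5, 4, 3]),
  (3, 1, 2, [4, 3]),
  (4, 2, 0, []),
  (3, 0, 2, [4, 3]),
  (4, 0, 2, [4, 3]),
  (5, 1, 2, [3]),
  (6, 2, 0, []),
  (3, 0, 6, [7]),
  (4, 0, 6, [7]),
  (5, 0, 6, [7]),
  (6, 1, 6, []),
  (7, 2, 0, []),
  (3, 0, 10, []),
  (4, 0, 10, []),
  (5, 0, 10, []),
  (6, 2, 0, []),
  (3, 0, 2, [3]),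
  (4, 0, 2, [3]),
  (5, 1, 2, []),
  (6, 2, 0, []),
  (4, 0, 6, []),
  (5, 0, 6, []),
  (6, 0, 6, []),
  (7, 2, 0, []),
  (5, 3, 1, []),
  (4, 3, 4, []),
  (3, 3, 5, []),
  (10, 0, 1, []),
  (4, 0, 5, []),
  (6, 1, 4, []),
  (11, 1, 5, [6]),
  (4, 1, 5, []),
  (0, 1, 2, [6, 3, 4, 5, 10, 7, 6, 5, 4, 3]),
  (12, 0, 1, []),
  (13, 0, 1, []),
  (5, 0, 5, [10, 7, 6]),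
  (12, 0, 7, []),
  (14, 0, 1, []),
  (12, 1, 7, []),
  (3, 1, 5, []),
  (2, 1, 5, []),
  (4, 1, 4, [10, 7, 6, 5]),
  (11, 1, 7, []),
  (10, 1, 7, []),
  (14, 1, 1, []),
  (2, 1, 4, [6, 5]),
  (9, 1, 7, []),
  (14, 1, 0, []),
  (10, 0, 1, []),
  (10, 0, 4, []),
  (11, 1, 5, [7, 6]),
  (9, 0, 7, []),
  (6, 1, 4, []),
  (14, 0, 0, []),
  (11, 1, 4, [7, 6, 5]),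
  (4, 0, 4, [10, 7, 6, 5]),
  (13, 0, 10, []),
  (3, 0, 5, []),
  (6, 1, 4, [10, 7, 6, 5]),
  (1, 0, 0, [6, 1, 2, 3, 4, 5, 10, 7, 6, 5, 4, 3, 2, 1]),
  (0, 1, 4, [6, 5]),
  (1, 1, 0, [6, 1, 2, 3, 4, 5, 10, 7, 6, 5, 4, 3, 2, 1]),
  (6, 1, 5, [10, 7, 6]),
  (4, 0, 5, []),
  (7, 1, 2, []),
  (6, 1, 2, []),
  (12, 0, 4, []),
  (3, 1, 4, [5, 10, 7, 6, 5]),
  (7, 0, 5, [10, 7, 6]),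
  (7, 0, 4, [10, 7, 6, 5]),
  (8, 0, 4, [10, 7, 6, 5]),
  (6, 1, 4, []),
  (10, 1, 4, [7, 6, 5]),
  (10, 1, 4, [6, 5]),
  (5, 0, 5, []),
  (1, 1, 2, [6, 3, 4, 5, 10, 7, 6, 5, 4, 3]),
  (8, 0, 1, []),
  (3, 0, 4, [5, 10, 7, 6, 5]),
  (3, 1, 4, [5, 10, 7, 6, 5]),
  (12, 1, 4, []),
  (8, 0, 4, [10, 7, 6, 5]),
  (13, 0, 1, []),
  (10, 1, 7, []),
  (0, 1, 2, [6, 3, 4, 5, 10, 7, 6, 5, 4, 3]),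
  (11, 1, 4, []),
  (14, 1, 0, []),
  (4, 0, 4, [10, 7, 6, 5]),
  (9, 1, 7, []),
  (0, 0, 2, [6, 3, 4, 5, 10, 7, 6, 5, 4, 3]),
  (9, 1, 4, [10, 6, 5]),
  (7, 0, 2, []),
  (6, 1, 1, [2]),
  (2, 1, 4, [5, 10, 7, 6, 5])]

/-- moves -/
def sevenMoves2 : List (ℕ × ℕ × ℕ × List ℕ) := [
  (0, 1, 2, [6, 3, 4, 5, 10, 7, 6, 5, 4, 3]),
  (6, 0, 1, [2]),
  (4, 1, 4, [10, 7, 6, 5]),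
  (11, 0, 4, []),
  (14, 0, 0, []),
  (1, 0, 4, [6, 5]),
  (11, 0, 4, [7, 6, 5]),
  (3, 1, 4, [10, 7, 6, 5]),
  (11, 1, 4, [7, 6, 5]),
  (5, 0, 4, [5]),
  (13, 0, 10, []),
  (1, 0, 4, [5, 10, 7, 6, 5]),
  (13, 0, 1, []),
  (12, 1, 10, []),
  (12, 0, 10, []),
  (2, 0, 4, [5, 10, 7, 6, 5]),
  (1, 0, 4, [6, 5]),
  (13, 0, 10, []),
  (12, 1, 1, []),
  (3, 1, 2, [10, 4, 5, 6, 3, 4, 5, 10, 7, 6, 5, 4, 3]),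
  (7, 0, 1, [2]),
  (11, 0, 4, [7, 6, 5]),
  (11, 0, 1, []),
  (1, 1, 4, [6, 5]),
  (1, 0, 4, [6, 5]),
  (12, 1, 4, []),
  (7, 1, 1, [2]),
  (11, 1, 4, []),
  (6, 1, 1, [2]),
  (1, 1, 4, [6, 5]),
  (10, 1, 4, []),
  (11, 1, 5, [7, 6]),
  (12, 0, 10, []),
  (13, 2, 0, []),
  (2, 0, 5, []),
  (3, 0, 5, []),
  (4, 1, 4, []),
  (5, 0, 4, [5]),
  (6, 2, 0, []),
  (4, 0, 4, []),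
  (5, 0, 4, []),
  (6, 0, 4, []),
  (7, 2, 0, []),
  (4, 3, 11, []),
  (4, 3, 7, []),
  (11, 3, 4, []),
  (7, 0, 11, []),
  (10, 1, 4, []),
  (0, 0, 2, [6, 3, 4, 5, 10, 7, 6, 5, 4, 3]),
  (2, 1, 4, [10, 7, 6, 5]),
  (5, 0, 7, []),
  (10, 0, 4, []),
  (13, 0, 5, [7, 6]),
  (13, 0, 1, []),
  (8, 0, 11, []),
  (6, 1, 1, [2]),
  (9, 0, 11, []),
  (2, 1, 0, [6, 1, 2, 3, 4, 5, 10, 7, 6, 5, 4, 3, 2, 1]),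
  (10, 0, 11, []),
  (7, 1, 2, []),
  (6, 0, 1, [2]),
  (3, 1, 7, []),
  (12, 1, 5, [7, 6]),
  (9, 0, 5, [11, 10, 6]),
  (4, 0, 4, [10, 6, 5]),
  (14, 1, 0, []),
  (2, 1, 7, []),
  (13, 0, 4, [7, 6, 5]),
  (11, 0, 11, []),
  (7, 1, 7, []),
  (11, 0, 5, [7, 6]),
  (14, 0, 4, [7, 6, 5]),
  (7, 0, 7, []),
  (14, 0, 0, [1]),
  (2, 0, 7, []),
  (7, 1, 7, []),
  (8, 0, 1, [2]),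
  (6, 1, 7, []),
  (1, 1, 0, [6, 1, 2, 3, 4, 5, 10, 7, 6, 5, 4, 3, 2, 1]),
  (2, 0, 2, [6, 3, 4, 5, 10, 7, 6, 5, 4, 3]),
  (11, 1, 5, [7, 6]),
  (0, 1, 0, [6, 1, 2, 3, 4, 5, 10, 7, 6, 5, 4, 3, 2, 1]),
  (7, 0, 1, []),
  (11, 1, 11, []),
  (13, 1, 4, [7, 6, 5]),
  (5, 1, 7, []),
  (3, 0, 2, [6, 3, 4, 5, 10, 7, 6, 5, 4, 3]),
  (14, 1, 0, [1]),
  (5, 1, 4, [10, 7, 6, 5]),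
  (2, 0, 7, []),
  (6, 1, 4, [11, 10, 6, 5]),
  (4, 0, 2, [6, 3, 4, 5, 10, 7, 6, 5, 4, 3]),
  (0, 1, 4, [6, 5]),
  (14, 1, 1, []),
  (10, 1, 11, []),
  (7, 1, 1, []),
  (14, 0, 1, []),
  (1, 0, 0, [6, 1, 2, 3, 4, 5, 10, 7, 6, 5, 4, 3, 2, 1]),
  (5, 1, 4, [11, 10, 6, 5]),
  (0, 0, 4, [6, 5])]

/-- moves -/
def sevenMoves3 : List (ℕ × ℕ × ℕ × List ℕ) := [
  (4, 0, 4, [10, 7, 6, 5]),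
  (1, 0, 4, [6, 5]),
  (3, 1, 4, [11, 10, 6, 5]),
  (10, 0, 11, []),
  (6, 1, 1, []),
  (11, 1, 5, [7, 6]),
  (4, 1, 4, [10, 7, 6, 5]),
  (5, 1, 1, []),
  (0, 0, 5, [11, 10, 6]),
  (9, 1, 5, [11, 10, 6]),
  (13, 1, 0, [1]),
  (11, 0, 5, [7, 6]),
  (7, 1, 11, []),
  (6, 0, 11, []),
  (9, 1, 1, [2]),
  (14, 1, 1, []),
  (3, 0, 4, [11, 10, 6, 5]),
  (10, 1, 11, []),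
  (7, 0, 11, []),
  (12, 1, 0, [1]),
  (10, 0, 11, []),
  (12, 0, 0, [1]),
  (0, 1, 5, [11, 10, 6]),
  (7, 0, 1, [6, 4, 5, 10, 11, 3, 4, 5, 10, 7, 6, 5, 4, 3, 2]),
  (1, 1, 4, [6, 5]),
  (12, 1, 0, [1]),
  (0, 0, 5, [11, 10, 6]),
  (1, 1, 0, [6, 1, 2, 3, 4, 5, 10, 7, 6, 5, 4, 3, 2, 1]),
  (14, 1, 4, [7, 6, 5]),
  (2, 0, 2, [7, 6, 4, 5, 10, 11, 3, 4, 5, 10, 7, 6, 5, 4, 3]),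
  (14, 1, 1, []),
  (11, 1, 0, [1]),
  (5, 0, 1, []),
  (4, 1, 11, []),
  (4, 0, 11, []),
  (4, 1, 11, []),
  (10, 1, 0, [1]),
  (10, 0, 0, [1]),
  (2, 1, 2, [7, 6, 4, 5, 10, 11, 3, 4, 5, 10, 7, 6, 5, 4, 3]),
  (12, 0, 11, []),
  (12, 1, 11, []),
  (13, 1, 1, []),
  (4, 0, 11, []),
  (5, 0, 11, []),
  (6, 2, 0, []),
  (5, 0, 1, []),
  (6, 0, 1, []),
  (7, 0, 1, []),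
  (8, 0, 1, []),
  (9, 0, 1, []),
  (10, 2, 0, []),
  (1, 1, 2, [7, 6, 4, 5, 10, 11, 3, 4, 5, 10, 7, 6, 5, 4, 3]),
  (2, 0, 5, [11, 10, 6]),
  (3, 0, 5, [11, 10, 6]),
  (4, 0, 5, [11, 10, 6]),
  (5, 0, 5, [11, 10, 6]),
  (6, 2, 0, []),
  (9, 3, 7, []),
  (5, 3, 4, []),
  (8, 3, 4, []),
  (7, 1, 4, []),
  (6, 1, 4, []),
  (7, 0, 4, []),
  (12, 1, 7, []),
  (11, 0, 11, []),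
  (9, 0, 4, []),
  (1, 1, 4, [10, 11, 6, 5, 10, 7, 6, 5]),
  (14, 0, 7, []),
  (4, 1, 4, []),
  (9, 1, 4, []),
  (6, 1, 2, []),
  (14, 0, 4, [6, 5]),
  (4, 1, 2, [6, 5, 10, 11, 3, 4, 5, 10, 7, 6, 5, 4, 3]),
  (2, 1, 4, []),
  (13, 0, 5, [6]),
  (5, 0, 2, [6, 4, 5, 10, 11, 3, 4, 5, 10, 7, 6, 5, 4, 3]),
  (6, 0, 2, [6, 4, 5, 10, 11, 3, 4, 5, 10, 7, 6, 5, 4, 3]),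
  (3, 1, 2, [6, 5, 10, 11, 3, 4, 5, 10, 7, 6, 5, 4, 3]),
  (2, 1, 2, [6, 5, 10, 11, 3, 4, 5, 10, 7, 6, 5, 4, 3]),
  (12, 0, 11, []),
  (5, 0, 2, []),
  (2, 0, 2, [6, 5, 10, 11, 3, 4, 5, 10, 7, 6, 5, 4, 3]),
  (6, 1, 2, [6, 4, 5, 10, 11, 3, 4, 5, 10, 7, 6, 5, 4, 3]),
  (3, 1, 7, []),
  (13, 1, 5, [6]),
  (10, 1, 7, []),
  (13, 1, 11, []),
  (12, 1, 11, []),
  (3, 0, 7, []),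
  (3, 1, 7, []),
  (12, 1, 4, [7, 6, 5]),
  (3, 0, 7, []),
  (14, 0, 5, [6]),
  (11, 1, 4, [7, 6, 5]),
  (4, 1, 2, [6, 5, 10, 11, 3, 4, 5, 10, 7, 6, 5, 4, 3]),
  (14, 1, 5, [6]),
  (6, 0, 2, [6, 4, 5, 10, 11, 3, 4, 5, 10, 7, 6, 5, 4, 3]),
  (5, 1, 2, []),
  (9, 1, 7, []),
  (1, 1, 4, [])]

/-- moves -/
def sevenMoves4 : List (ℕ × ℕ × ℕ × List ℕ) := [
  (13, 0, 11, []),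
  (7, 0, 2, [6, 4, 5, 10, 11, 3, 4, 5, 10, 7, 6, 5, 4, 3]),
  (6, 1, 2, [6, 5, 10, 11, 3, 4, 5, 10, 7, 6, 5, 4, 3]),
  (5, 0, 2, []),
  (10, 1, 4, [7, 6, 5]),
  (6, 0, 2, []),
  (3, 0, 2, [6, 5, 10, 11, 3, 4, 5, 10, 7, 6, 5, 4, 3]),
  (12, 0, 0, []),
  (2, 1, 2, [6, 5, 10, 11, 3, 4, 5, 10, 7, 6, 5, 4, 3]),
  (9, 0, 7, []),
  (6, 0, 7, []),
  (7, 0, 7, []),
  (14, 1, 4, [6, 5]),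
  (14, 0, 4, [6, 5]),
  (11, 1, 5, [6]),
  (6, 1, 2, [7, 6, 4, 5, 10, 11, 3, 4, 5, 10, 7, 6, 5, 4, 3]),
  (1, 1, 2, [6, 5, 10, 11, 3, 4, 5, 10, 7, 6, 5, 4, 3]),
  (7, 1, 7, []),
  (0, 0, 4, [6, 5]),
  (11, 1, 7, []),
  (0, 1, 4, [6, 5]),
  (8, 1, 4, [6, 5]),
  (14, 1, 4, [6, 5]),
  (5, 0, 2, [6, 5, 10, 11, 3, 4, 5, 10, 7, 6, 5, 4, 3]),
  (3, 0, 4, [10, 11, 6, 5, 10, 7, 6, 5]),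
  (6, 0, 2, [6, 5, 10, 11, 3, 4, 5, 10, 7, 6, 5, 4, 3]),
  (0, 0, 4, [6, 5]),
  (1, 1, 2, [6, 4, 5, 10, 11, 3, 4, 5, 10, 7, 6, 5, 4, 3]),
  (14, 0, 4, [6, 5]),
  (8, 0, 4, [6, 5]),
  (12, 1, 0, []),
  (9, 1, 7, []),
  (12, 0, 0, []),
  (14, 0, 11, []),
  (12, 1, 0, []),
  (0, 1, 2, [6, 4, 5, 10, 11, 3, 4, 5, 10, 7, 6, 5, 4, 3]),
  (6, 0, 2, [7, 6, 5, 10, 11, 3, 4, 5, 10, 7, 6, 5, 4, 3]),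
  (11, 0, 7, []),
  (9, 1, 4, [7, 6, 5]),
  (10, 0, 4, [6, 5]),
  (1, 1, 2, [10, 11, 6, 3, 4, 5, 10, 7, 6, 5, 4, 3]),
  (10, 1, 4, [6, 5]),
  (13, 0, 5, [7, 6]),
  (6, 1, 2, [7, 6, 5, 10, 11, 3, 4, 5, 10, 7, 6, 5, 4, 3]),
  (8, 1, 4, [7, 6, 5]),
  (8, 0, 4, [7, 6, 5]),
  (0, 0, 2, [6, 4, 5, 10, 11, 3, 4, 5, 10, 7, 6, 5, 4, 3]),
  (7, 0, 2, [6, 5, 10, 11, 3, 4, 5, 10, 7, 6, 5, 4, 3]),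
  (14, 0, 5, [7, 6]),
  (14, 0, 11, []),
  (10, 0, 4, [6, 5]),
  (0, 1, 2, [6, 4, 5, 10, 11, 3, 4, 5, 10, 7, 6, 5, 4, 3]),
  (2, 0, 4, []),
  (9, 1, 0, []),
  (11, 0, 4, [6, 5]),
  (7, 0, 2, []),
  (10, 2, 0, []),
  (10, 2, 0, []),
  (0, 0, 2, [6, 4, 5, 10, 11, 3, 4, 5, 10, 7, 6, 5, 4, 3]),
  (1, 2, 0, []),
  (9, 3, 1, []),
  (6, 3, 1, []),
  (8, 3, 0, []),
  (13, 1, 1, []),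
  (11, 0, 0, []),
  (4, 0, 2, [7, 6, 5, 10, 11, 3, 4, 5, 10, 7, 6, 5, 4, 3]),
  (6, 1, 1, []),
  (6, 1, 1, []),
  (13, 1, 1, []),
  (7, 1, 0, []),
  (2, 0, 4, [10, 11, 6, 5, 10, 7, 6, 5]),
  (10, 1, 5, [7, 6]),
  (12, 1, 1, []),
  (11, 1, 1, []),
  (9, 0, 0, []),
  (7, 0, 0, []),
  (11, 0, 1, []),
  (14, 1, 11, []),
  (8, 0, 0, []),
  (11, 0, 2, []),
  (10, 1, 1, [2]),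
  (12, 1, 0, [1]),
  (5, 1, 1, []),
  (5, 0, 1, []),
  (7, 0, 1, []),
  (13, 0, 0, [2, 1]),
  (1, 0, 4, []),
  (4, 0, 7, []),
  (9, 0, 0, []),
  (0, 1, 2, [7, 6, 5, 10, 11, 3, 4, 5, 10, 7, 6, 5, 4, 3]),
  (5, 1, 1, []),
  (7, 0, 5, [7, 6]),
  (12, 1, 11, []),
  (3, 1, 2, [6, 5, 10, 11, 3, 4, 5, 10, 7, 6, 5, 4, 3]),
  (14, 1, 1, []),
  (2, 1, 2, [6, 5, 10, 11, 3, 4, 5, 10, 7, 6, 5, 4, 3]),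
  (14, 1, 0, [2, 1]),
  (12, 1, 0, [1]),
  (12, 0, 0, [1]),
  (2, 0, 2, [6, 5, 10, 11, 3, 4, 5, 10, 7, 6, 5, 4, 3])]

/-- moves -/
def sevenMoves5 : List (ℕ × ℕ × ℕ × List ℕ) := [
  (11, 0, 0, [2, 1]),
  (5, 0, 1, []),
  (3, 1, 4, [10, 11, 6, 5, 10, 7, 6, 5]),
  (3, 0, 4, [10, 11, 6, 5, 10, 7, 6, 5]),
  (1, 0, 0, [10, 11, 6, 1, 2, 3, 4, 5, 10, 7, 6, 5, 4, 3, 2, 1]),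
  (9, 0, 0, [2, 1]),
  (1, 1, 0, [10, 11, 6, 1, 2, 3, 4, 5, 10, 7, 6, 5, 4, 3, 2, 1]),
  (4, 1, 7, []),
  (6, 1, 1, []),
  (14, 1, 1, []),
  (4, 0, 7, []),
  (13, 0, 0, [1]),
  (7, 1, 5, [7, 6]),
  (14, 0, 0, [1]),
  (5, 1, 1, []),
  (2, 0, 4, []),
  (3, 0, 4, []),
  (7, 1, 1, []),
  (3, 0, 4, [10, 11, 6, 5, 10, 7, 6, 5]),
  (10, 1, 11, []),
  (9, 1, 11, []),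
  (0, 0, 2, [7, 6, 5, 10, 11, 3, 4, 5, 10, 7, 6, 5, 4, 3]),
  (7, 1, 5, [7, 6]),
  (13, 0, 0, []),
  (5, 1, 7, []),
  (13, 1, 0, []),
  (10, 1, 0, [2, 1]),
  (13, 1, 2, []),
  (6, 0, 1, []),
  (2, 1, 4, []),
  (14, 1, 0, [1]),
  (3, 0, 2, [6, 5, 10, 11, 3, 4, 5, 10, 7, 6, 5, 4, 3]),
  (11, 0, 0, []),
  (5, 0, 7, []),
  (12, 1, 2, []),
  (8, 1, 11, []),
  (1, 1, 4, []),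
  (3, 1, 2, [6, 5, 10, 11, 3, 4, 5, 10, 7, 6, 5, 4, 3]),
  (13, 1, 0, [1]),
  (3, 1, 4, [10, 11, 6, 5, 10, 7, 6, 5]),
  (4, 0, 2, [6, 5, 10, 11, 3, 4, 5, 10, 7, 6, 5, 4, 3]),
  (10, 1, 1, [2]),
  (12, 1, 0, [1]),
  (1, 0, 4, []),
  (2, 1, 4, [10, 11, 6, 5, 10, 7, 6, 5]),
  (13, 0, 0, [2, 1]),
  (5, 1, 7, []),
  (1, 0, 2, [7, 6, 5, 10, 11, 3, 4, 5, 10, 7, 6, 5, 4, 3]),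
  (10, 0, 1, [2]),
  (4, 0, 2, [10, 11, 6, 3, 4, 5, 10, 7, 6, 5, 4, 3]),
  (1, 0, 4, [10, 11, 6, 5, 10, 7, 6, 5]),
  (13, 0, 1, []),
  (3, 1, 7, []),
  (9, 1, 0, [2, 1]),
  (2, 1, 7, []),
  (11, 1, 0, [1]),
  (2, 1, 4, [10, 11, 6, 5, 10, 7, 6, 5]),
  (12, 0, 1, [2]),
  (4, 0, 4, []),
  (14, 2, 0, []),
  (10, 1, 0, [1]),
  (11, 2, 0, []),
  (1, 0, 2, [7, 6, 5, 10, 11, 3, 4, 5, 10, 7, 6, 5, 4, 3]),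
  (2, 0, 2, [7, 6, 5, 10, 11, 3, 4, 5, 10, 7, 6, 5, 4, 3]),
  (3, 0, 2, [7, 6, 5, 10, 11, 3, 4, 5, 10, 7, 6, 5, 4, 3]),
  (4, 0, 2, [7, 6, 5, 10, 11, 3, 4, 5, 10, 7, 6, 5, 4, 3]),
  (5, 2, 0, []),
  (0, 3, 10, []),
  (12, 3, 3, []),
  (1, 3, 10, []),
  (4, 0, 4, [6, 5]),
  (13, 0, 1, [2]),
  (14, 1, 3, []),
  (0, 1, 10, []),
  (2, 1, 10, []),
  (4, 0, 4, [10, 11, 6, 5, 10, 7, 6, 5]),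
  (8, 0, 2, [7, 6, 4, 5, 10, 11, 3, 4, 5, 10, 7, 6, 5, 4, 3]),
  (0, 0, 10, []),
  (1, 0, 10, []),
  (9, 0, 2, [7, 6, 4, 5, 10, 11, 3, 4, 5, 10, 7, 6, 5, 4, 3]),
  (3, 1, 4, [6, 5]),
  (2, 1, 4, [6, 5]),
  (0, 1, 10, []),
  (0, 0, 10, []),
  (6, 0, 2, [6, 5, 10, 11, 3, 4, 5, 10, 7, 6, 5, 4, 3]),
  (7, 1, 0, [6, 5, 10, 11, 2, 3, 4, 5, 10, 7, 6, 5, 4, 3, 2, 1]),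
  (8, 1, 11, []),
  (5, 0, 4, [10, 11, 6, 5, 10, 7, 6, 5]),
  (2, 0, 4, [6, 5]),
  (2, 0, 10, []),
  (13, 1, 3, []),
  (11, 0, 0, [2, 1]),
  (5, 0, 5, [7, 6]),
  (3, 1, 4, [10, 6, 5]),
  (9, 1, 2, [7, 6, 4, 5, 10, 11, 3, 4, 5, 10, 7, 6, 5, 4, 3]),
  (10, 1, 2, []),
  (14, 1, 1, [3, 2]),
  (7, 1, 11, []),
  (3, 0, 4, [10, 6, 5]),
  (4, 1, 4, [10, 11, 6, 5, 10, 7, 6, 5])]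

/-- moves -/
def sevenMoves6 : List (ℕ × ℕ × ℕ × List ℕ) := [
  (6, 1, 11, []),
  (14, 0, 1, [3, 2]),
  (12, 0, 0, [2, 1]),
  (11, 0, 1, [6, 5, 10, 11, 2, 3, 4, 5, 10, 7, 6, 5, 4, 3, 2]),
  (5, 0, 5, [11, 10, 7, 6]),
  (13, 1, 1, [2]),
  (2, 1, 10, []),
  (11, 1, 1, [6, 5, 10, 11, 2, 3, 4, 5, 10, 7, 6, 5, 4, 3, 2]),
  (11, 1, 0, [3, 2, 1]),
  (0, 1, 10, []),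
  (7, 1, 0, [6, 5, 10, 11, 2, 3, 4, 5, 10, 7, 6, 5, 4, 3, 2, 1]),
  (3, 0, 4, [6, 5]),
  (13, 1, 0, []),
  (10, 1, 0, [3, 2, 1]),
  (1, 0, 10, []),
  (8, 0, 5, [7, 6]),
  (7, 1, 2, [7, 6, 4, 5, 10, 11, 3, 4, 5, 10, 7, 6, 5, 4, 3]),
  (10, 0, 0, [3, 2, 1]),
  (9, 0, 5, [7, 6]),
  (1, 0, 10, []),
  (1, 0, 10, []),
  (10, 0, 5, [7, 6]),
  (0, 0, 10, []),
  (12, 1, 0, []),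
  (1, 1, 10, []),
  (2, 1, 4, [10, 11, 6, 5, 10, 7, 6, 5]),
  (11, 1, 0, []),
  (11, 0, 0, []),
  (1, 1, 4, [10, 11, 6, 5, 10, 7, 6, 5]),
  (12, 0, 0, []),
  (13, 1, 0, [2, 1]),
  (12, 1, 0, [2, 1]),
  (10, 0, 0, [3, 2, 1]),
  (1, 1, 4, [11, 6, 5, 10, 7, 6, 5]),
  (1, 1, 10, []),
  (12, 1, 1, [6, 5, 10, 11, 2, 3, 4, 5, 10, 7, 6, 5, 4, 3, 2]),
  (13, 0, 0, [2, 1]),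
  (14, 1, 1, [3, 2]),
  (4, 1, 5, [10, 7, 6]),
  (6, 1, 2, [7, 6, 4, 5, 10, 11, 3, 4, 5, 10, 7, 6, 5, 4, 3]),
  (8, 0, 1, []),
  (14, 0, 1, [3, 2]),
  (10, 1, 0, [3, 2, 1]),
  (11, 1, 1, [6, 5, 10, 11, 2, 3, 4, 5, 10, 7, 6, 5, 4, 3, 2]),
  (10, 1, 1, [6, 5, 10, 11, 2, 3, 4, 5, 10, 7, 6, 5, 4, 3, 2]),
  (12, 0, 5, [7, 6]),
  (7, 0, 5, [11, 10, 7, 6]),
  (0, 1, 10, []),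
  (0, 0, 10, []),
  (14, 0, 0, [2, 1]),
  (6, 1, 1, [2]),
  (10, 0, 1, [6, 5, 10, 11, 2, 3, 4, 5, 10, 7, 6, 5, 4, 3, 2]),
  (10, 0, 0, [3, 2, 1]),
  (5, 1, 1, [2]),
  (5, 1, 4, [6, 5, 10, 7, 6, 5]),
  (5, 1, 1, [2]),
  (8, 1, 1, []),
  (5, 0, 1, [2]),
  (4, 0, 5, [10, 7, 6]),
  (5, 0, 5, [10, 7, 6]),
  (0, 0, 10, []),
  (1, 1, 4, [10, 11, 6, 5, 10, 7, 6, 5]),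
  (10, 1, 0, [3, 2, 1]),
  (10, 0, 0, [3, 2, 1]),
  (11, 0, 0, [3, 2, 1]),
  (13, 0, 5, [7, 6]),
  (2, 2, 0, []),
  (9, 0, 1, [3, 2]),
  (10, 2, 0, []),
  (3, 0, 1, [2]),
  (4, 1, 0, [6, 5, 10, 11, 3, 4, 5, 10, 7, 6, 5, 4, 3, 2, 1]),
  (5, 1, 1, []),
  (6, 0, 0, [6, 5, 10, 11, 2, 3, 4, 5, 10, 7, 6, 5, 4, 3, 2, 1]),
  (7, 1, 1, [6, 5, 10, 11, 2, 3, 4, 5, 10, 7, 6, 5, 4, 3, 2]),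
  (8, 2, 0, []),
  (3, 3, 5, []),
  (7, 3, 8, []),
  (12, 3, 2, []),
  (7, 0, 8, []),
  (10, 1, 1, [6, 5, 10, 11, 2, 3, 4, 5, 10, 7, 6, 5, 4, 3, 2]),
  (14, 0, 5, [7, 6]),
  (10, 0, 1, [6, 5, 10, 11, 2, 3, 4, 5, 10, 7, 6, 5, 4, 3, 2]),
  (6, 0, 0, [6, 5, 10, 11, 3, 4, 5, 10, 7, 6, 5, 4, 3, 2, 1]),
  (10, 1, 1, [6, 5, 10, 11, 2, 3, 4, 5, 10, 7, 6, 5, 4, 3, 2]),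
  (0, 1, 4, [10, 11, 6, 5, 10, 7, 6, 5]),
  (4, 0, 5, []),
  (6, 1, 0, [6, 5, 10, 11, 3, 4, 5, 10, 7, 6, 5, 4, 3, 2, 1]),
  (11, 1, 2, []),
  (5, 0, 5, []),
  (3, 1, 5, [10, 7, 6]),
  (12, 0, 5, [11, 10, 7, 6]),
  (13, 0, 5, [11, 10, 7, 6]),
  (7, 0, 8, []),
  (5, 0, 0, [6, 5, 10, 11, 6, 3, 4, 5, 10, 7, 6, 5, 4, 3, 2, 1]),
  (1, 1, 4, [6, 5]),
  (7, 1, 8, []),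
  (7, 0, 8, []),
  (14, 1, 5, [7, 6]),
  (1, 0, 4, [6, 5]),
  (6, 1, 8, [])]

/-- moves -/
def sevenMoves7 : List (ℕ × ℕ × ℕ × List ℕ) := [
  (4, 0, 5, []),
  (3, 0, 5, [10, 7, 6]),
  (11, 1, 2, []),
  (14, 1, 10, [11]),
  (9, 1, 1, [6, 5, 10, 11, 2, 3, 4, 5, 10, 7, 6, 5, 4, 3, 2]),
  (0, 0, 4, [10, 11, 6, 5, 10, 7, 6, 5]),
  (7, 0, 0, [6, 5, 10, 11, 6, 3, 4, 5, 10, 8, 7, 6, 5, 4, 3, 2, 1]),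
  (6, 0, 8, []),
  (0, 0, 10, []),
  (13, 0, 0, [2, 1]),
  (13, 0, 10, [11]),
  (5, 1, 0, [6, 5, 10, 11, 6, 3, 4, 5, 10, 8, 7, 6, 5, 4, 3, 2, 1]),
  (11, 1, 2, []),
  (6, 1, 8, []),
  (3, 1, 5, [10, 7, 6]),
  (9, 0, 1, [6, 5, 10, 11, 2, 3, 4, 5, 10, 7, 6, 5, 4, 3, 2]),
  (2, 0, 4, [6, 5]),
  (0, 0, 4, [11, 6, 5, 10, 7, 6, 5]),
  (5, 0, 0, [6, 5, 10, 11, 6, 3, 4, 5, 10, 8, 7, 6, 5, 4, 3, 2, 1]),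
  (14, 1, 5, [11, 10, 7, 6]),
  (13, 0, 0, [2, 1]),
  (10, 1, 2, []),
  (10, 0, 2, []),
  (6, 1, 0, [6, 5, 10, 11, 3, 4, 5, 10, 7, 6, 5, 4, 3, 2, 1]),
  (11, 1, 2, []),
  (14, 1, 5, [7, 6]),
  (5, 1, 0, [6, 5, 10, 11, 3, 4, 5, 10, 7, 6, 5, 4, 3, 2, 1]),
  (1, 1, 4, [6, 5, 10, 7, 6, 5]),
  (11, 0, 2, []),
  (7, 1, 0, [6, 5, 10, 11, 6, 3, 4, 5, 10, 8, 7, 6, 5, 4, 3, 2, 1]),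
  (9, 1, 1, [6, 5, 10, 11, 2, 3, 4, 5, 10, 7, 6, 5, 4, 3, 2]),
  (10, 0, 1, []),
  (14, 0, 5, [7, 6]),
  (8, 0, 0, [6, 5, 10, 11, 6, 3, 4, 5, 10, 8, 7, 6, 5, 4, 3, 2, 1]),
  (3, 0, 4, [6, 5]),
  (10, 0, 1, [2]),
  (9, 0, 0, [6, 5, 10, 11, 6, 3, 4, 5, 10, 8, 7, 6, 5, 4, 3, 2, 1]),
  (8, 0, 1, [6, 5, 10, 11, 2, 3, 4, 5, 10, 7, 6, 5, 4, 3, 2]),
  (13, 1, 0, [2, 1]),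
  (9, 1, 0, [6, 5, 10, 11, 6, 3, 4, 5, 10, 8, 7, 6, 5, 4, 3, 2, 1]),
  (3, 1, 4, [6, 5]),
  (1, 1, 11, []),
  (8, 0, 2, [6, 5, 10, 11, 5, 6, 7, 4, 5, 6, 3, 4, 5, 10, 8, 7, 6, 5, 4, 3]),
  (4, 1, 0, [6, 5, 10, 11, 3, 4, 5, 10, 7, 6, 5, 4, 3, 2, 1]),
  (5, 0, 5, []),
  (7, 0, 0, [6, 5, 10, 11, 6, 3, 4, 5, 10, 8, 7, 6, 5, 4, 3, 2, 1]),
  (1, 0, 11, []),
  (2, 1, 4, [6, 5]),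
  (3, 1, 0, [6, 5, 10, 11, 3, 4, 5, 10, 7, 6, 5, 4, 3, 2, 1]),
  (5, 1, 5, []),
  (9, 1, 1, [6, 5, 10, 11, 2, 3, 4, 5, 10, 7, 6, 5, 4, 3, 2]),
  (10, 0, 0, [6, 5, 10, 11, 6, 2, 3, 4, 5, 10, 8, 7, 6, 5, 4, 3, 2, 1]),
  (10, 0, 1, [2]),
  (12, 0, 2, []),
  (14, 0, 5, [11, 10, 7, 6]),
  (13, 0, 2, []),
  (8, 0, 0, [6, 5, 10, 11, 6, 3, 4, 5, 10, 8, 7, 6, 5, 4, 3, 2, 1]),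
  (13, 0, 10, [11]),
  (7, 1, 1, [6, 5, 10, 11, 2, 3, 4, 5, 10, 7, 6, 5, 4, 3, 2]),
  (9, 0, 0, [6, 5, 10, 11, 6, 3, 4, 5, 10, 8, 7, 6, 5, 4, 3, 2, 1]),
  (7, 0, 1, [6, 5, 10, 11, 2, 3, 4, 5, 10, 7, 6, 5, 4, 3, 2]),
  (1, 1, 4, [6, 5]),
  (7, 1, 1, [6, 5, 10, 11, 2, 3, 4, 5, 10, 7, 6, 5, 4, 3, 2]),
  (7, 1, 0, [6, 5, 10, 11, 6, 2, 3, 4, 5, 10, 8, 7, 6, 5, 4, 3, 2, 1]),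
  (0, 0, 4, [10, 11, 6, 5, 10, 7, 6, 5]),
  (3, 0, 0, [6, 5, 10, 11, 3, 4, 5, 10, 7, 6, 5, 4, 3, 2, 1]),
  (12, 0, 0, [1]),
  (2, 1, 11, []),
  (4, 1, 5, []),
  (5, 1, 5, []),
  (7, 1, 2, [6, 5, 10, 11, 5, 6, 7, 4, 5, 6, 3, 4, 5, 10, 8, 7, 6, 5, 4, 3]),
  (10, 0, 0, [6, 5, 10, 11, 6, 3, 4, 5, 10, 8, 7, 6, 5, 4, 3, 2, 1]),
  (13, 0, 0, [1]),
  (0, 0, 4, [6, 5]),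
  (4, 2, 0, []),
  (5, 1, 1, [6, 5, 10, 11, 2, 3, 4, 5, 10, 7, 6, 5, 4, 3, 2]),
  (6, 1, 2, []),
  (7, 0, 0, [6, 5, 10, 11, 6, 3, 4, 5, 10, 8, 7, 6, 5, 4, 3, 2, 1]),
  (8, 2, 0, []),
  (6, 0, 2, []),
  (7, 1, 0, [2, 1]),
  (8, 0, 0, [1]),
  (9, 2, 0, []),
  (4, 3, 3, []),
  (9, 3, 9, []),
  (14, 3, 6, []),
  (6, 1, 1, [6, 5, 10, 11, 2, 3, 4, 5, 10, 7, 6, 5, 4, 3, 2]),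
  (11, 0, 0, [2, 1]),
  (2, 0, 11, []),
  (4, 0, 3, []),
  (2, 1, 11, []),
  (2, 0, 11, []),
  (1, 1, 5, [10, 7, 6]),
  (2, 0, 4, [6, 5, 10, 7, 6, 5]),
  (14, 1, 6, []),
  (11, 1, 0, [2, 1]),
  (3, 1, 3, []),
  (5, 1, 1, [6, 5, 10, 11, 2, 3, 4, 5, 10, 7, 6, 5, 4, 3, 2]),
  (3, 1, 3, [6, 5, 10, 7, 6, 5, 4]),
  (3, 1, 4, [6, 5, 10, 7, 6, 5])]

/-- moves -/
def sevenMoves8 : List (ℕ × ℕ × ℕ × List ℕ) := [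
  (5, 0, 1, [6, 5, 10, 11, 2, 3, 4, 5, 10, 7, 6, 5, 4, 3, 2]),
  (8, 1, 9, []),
  (7, 0, 0, [6, 5, 10, 11, 3, 4, 5, 10, 7, 6, 5, 4, 3, 2, 1]),
  (7, 1, 0, [6, 5, 10, 11, 3, 4, 5, 10, 7, 6, 5, 4, 3, 2, 1]),
  (9, 1, 9, []),
  (14, 0, 6, []),
  (0, 1, 5, [10, 7, 6]),
  (11, 0, 0, [2, 1]),
  (8, 1, 9, []),
  (5, 0, 3, []),
  (1, 0, 4, [11, 10, 6, 5]),
  (1, 1, 4, [11, 10, 6, 5]),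
  (4, 1, 1, [6, 5, 10, 11, 2, 3, 4, 5, 10, 7, 6, 5, 4, 3, 2]),
  (9, 0, 9, []),
  (11, 0, 10, [11]),
  (11, 0, 0, [2, 1]),
  (2, 0, 4, [11, 6, 5, 10, 7, 6, 5]),
  (7, 1, 9, []),
  (7, 0, 9, []),
  (0, 1, 4, [11, 10, 6, 5]),
  (12, 0, 0, [2, 1]),
  (14, 1, 6, []),
  (0, 0, 4, [11, 10, 6, 5]),
  (11, 1, 5, [11, 10, 7, 6]),
  (3, 0, 4, [11, 6, 5, 10, 7, 6, 5]),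
  (3, 0, 1, [6, 5, 10, 11, 2, 3, 4, 5, 10, 7, 6, 5, 4, 3, 2]),
  (10, 0, 9, []),
  (13, 0, 0, [2, 1]),
  (1, 0, 4, [11, 10, 6, 5]),
  (13, 0, 6, []),
  (4, 0, 1, [6, 5, 10, 11, 2, 3, 4, 5, 10, 7, 6, 5, 4, 3, 2]),
  (0, 0, 5, [10, 7, 6]),
  (0, 1, 5, [10, 7, 6]),
  (2, 0, 4, [11, 10, 6, 5]),
  (12, 1, 0, [2, 1]),
  (13, 0, 5, [7, 6]),
  (14, 0, 5, [7, 6]),
  (3, 1, 3, []),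
  (13, 1, 6, []),
  (2, 0, 5, [7, 6]),
  (0, 0, 5, [10, 7, 6]),
  (0, 0, 4, [10, 6, 5]),
  (6, 0, 3, []),
  (4, 0, 3, [11, 10, 6, 5, 4]),
  (5, 1, 0, [6, 5, 10, 11, 4, 5, 10, 7, 6, 5, 4, 3, 2, 1]),
  (13, 0, 6, []),
  (10, 0, 5, [11, 10, 7, 6]),
  (9, 1, 9, []),
  (13, 0, 6, []),
  (10, 1, 5, [11, 10, 7, 6]),
  (3, 0, 5, [7, 6]),
  (6, 0, 3, [11, 10, 6, 5, 4]),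
  (2, 1, 1, [6, 5, 10, 11, 2, 3, 4, 5, 10, 7, 6, 5, 4, 3, 2]),
  (3, 1, 5, [7, 6]),
  (10, 0, 5, [11, 10, 7, 6]),
  (3, 0, 5, [7, 6]),
  (11, 0, 5, [11, 10, 7, 6]),
  (0, 0, 5, [10, 7, 6]),
  (12, 1, 6, []),
  (7, 1, 9, []),
  (11, 0, 0, [2, 1]),
  (11, 0, 6, []),
  (9, 0, 9, []),
  (14, 1, 5, [7, 6]),
  (13, 0, 5, [11, 10, 7, 6]),
  (6, 0, 4, [11, 10, 6, 5]),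
  (8, 1, 1, []),
  (9, 0, 3, [11, 10, 6, 5, 4]),
  (4, 0, 5, [7, 6]),
  (4, 0, 0, [6, 5, 10, 11, 4, 5, 10, 7, 6, 5, 4, 3, 2, 1]),
  (4, 0, 5, [7, 6]),
  (10, 1, 0, [2, 1]),
  (1, 0, 5, [10, 7, 6]),
  (14, 0, 5, [11, 10, 7, 6]),
  (1, 0, 1, [6, 5, 10, 11, 2, 3, 4, 5, 10, 7, 6, 5, 4, 3, 2]),
  (11, 0, 0, [11, 10, 6, 5, 4, 3, 2, 1]),
  (11, 0, 0, [11, 10, 5, 4, 3, 2, 1]),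
  (8, 1, 9, []),
  (12, 0, 0, [11, 10, 5, 4, 3, 2, 1]),
  (7, 1, 9, []),
  (6, 1, 9, []),
  (0, 0, 4, [10, 6, 5]),
  (6, 2, 0, []),
  (9, 0, 6, []),
  (10, 0, 6, []),
  (11, 2, 0, []),
  (3, 0, 3, []),
  (4, 0, 3, []),
  (5, 1, 4, [11, 10, 6, 5]),
  (6, 0, 3, [11, 10, 6, 5, 4]),
  (7, 1, 0, [2, 1]),
  (8, 0, 0, [11, 10, 6, 5, 4, 3, 2, 1]),
  (9, 2, 0, []),
  (2, 3, 4, []),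
  (6, 3, 2, []),
  (7, 3, 2, []),
  (4, 1, 0, [6, 5, 10, 11, 3, 4, 5, 10, 7, 6, 5, 4, 3, 2, 1]),
  (0, 1, 4, [10, 6, 5]),
  (9, 0, 2, []),
  (11, 1, 1, [])]

/-- moves -/
def sevenMoves9 : List (ℕ × ℕ × ℕ × List ℕ) := [
  (4, 0, 0, [6, 5, 10, 11, 3, 4, 5, 10, 7, 6, 5, 4, 3, 2, 1]),
  (0, 1, 5, [10, 7, 6]),
  (2, 1, 4, []),
  (2, 1, 4, []),
  (9, 0, 5, [7, 6]),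
  (11, 0, 1, []),
  (9, 0, 2, []),
  (10, 0, 2, []),
  (5, 0, 0, [6, 5, 10, 11, 3, 4, 5, 10, 7, 6, 5, 4, 3, 2, 1]),
  (8, 0, 2, []),
  (3, 1, 1, [6, 5, 10, 11, 2, 3, 4, 5, 10, 7, 6, 5, 4, 3, 2]),
  (0, 0, 5, [10, 7, 6]),
  (14, 1, 5, [11, 10, 7, 6]),
  (5, 1, 0, [6, 5, 10, 11, 3, 4, 5, 10, 7, 6, 5, 4, 3, 2, 1]),
  (12, 0, 1, []),
  (7, 1, 5, [7, 6]),
  (11, 1, 0, [2, 1]),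
  (7, 1, 2, []),
  (11, 1, 0, [1]),
  (8, 0, 5, [7, 6]),
  (4, 0, 0, [7, 6, 5, 10, 11, 3, 4, 5, 10, 7, 6, 5, 4, 3, 2, 1]),
  (12, 0, 2, []),
  (9, 0, 5, [7, 6]),
  (12, 0, 1, [2]),
  (13, 0, 1, [2]),
  (3, 0, 1, [6, 5, 10, 11, 2, 3, 4, 5, 10, 7, 6, 5, 4, 3, 2]),
  (12, 0, 1, []),
  (13, 1, 1, [2]),
  (8, 0, 2, []),
  (3, 1, 1, [6, 5, 10, 11, 2, 3, 4, 5, 10, 7, 6, 5, 4, 3, 2]),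
  (11, 0, 0, [1]),
  (14, 1, 5, [7, 6]),
  (2, 0, 4, []),
  (0, 0, 4, [10, 6, 5]),
  (3, 0, 4, []),
  (13, 0, 1, [2]),
  (10, 0, 5, [7, 6]),
  (3, 1, 4, []),
  (11, 0, 5, [7, 6]),
  (2, 0, 0, [7, 6, 5, 10, 11, 3, 4, 5, 10, 7, 6, 5, 4, 3, 2, 1]),
  (0, 1, 4, [10, 6, 5]),
  (13, 1, 1, [2]),
  (3, 0, 0, [7, 6, 5, 10, 11, 3, 4, 5, 10, 7, 6, 5, 4, 3, 2, 1]),
  (11, 0, 0, [1]),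
  (11, 1, 0, [1]),
  (11, 0, 0, [1]),
  (4, 1, 0, [7, 6, 5, 10, 11, 3, 4, 5, 10, 7, 6, 5, 4, 3, 2, 1]),
  (10, 1, 5, [7, 6]),
  (5, 0, 0, [7, 6, 5, 10, 11, 3, 4, 5, 10, 7, 6, 5, 4, 3, 2, 1]),
  (5, 0, 1, [6, 4, 5, 10, 11, 3, 4, 5, 10, 7, 6, 5, 4, 3, 2]),
  (10, 1, 5, [11, 10, 7, 6]),
  (11, 1, 0, [1]),
  (0, 0, 4, [10, 6, 5]),
  (13, 1, 5, [7, 6]),
  (6, 0, 1, [6, 4, 5, 10, 11, 3, 4, 5, 10, 7, 6, 5, 4, 3, 2]),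
  (14, 0, 1, [2]),
  (2, 1, 0, [6, 5, 10, 11, 3, 4, 5, 10, 7, 6, 5, 4, 3, 2, 1]),
  (5, 0, 2, []),
  (13, 0, 5, [7, 6]),
  (13, 1, 5, [7, 6]),
  (2, 0, 0, [6, 5, 10, 11, 3, 4, 5, 10, 7, 6, 5, 4, 3, 2, 1]),
  (10, 0, 5, [11, 10, 7, 6]),
  (14, 1, 1, [2]),
  (3, 1, 0, [7, 6, 5, 10, 11, 3, 4, 5, 10, 7, 6, 5, 4, 3, 2, 1]),
  (13, 0, 5, [7, 6]),
  (10, 0, 0, [1]),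
  (1, 1, 1, [6, 5, 10, 11, 2, 3, 4, 5, 10, 7, 6, 5, 4, 3, 2]),
  (0, 1, 1, [6, 5, 10, 11, 2, 3, 4, 5, 10, 7, 6, 5, 4, 3, 2]),
  (1, 1, 4, [10, 6, 5]),
  (2, 0, 5, [10, 7, 6]),
  (8, 0, 4, [11, 6, 5, 10, 7, 6, 5]),
  (9, 0, 4, [11, 6, 5, 10, 7, 6, 5]),
  (7, 1, 2, []),
  (11, 1, 10, [11]),
  (8, 1, 4, [6, 5]),
  (3, 1, 7, []),
  (6, 0, 2, []),
  (7, 0, 2, []),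
  (9, 0, 1, [10, 11, 6, 2, 3, 4, 5, 10, 7, 6, 5, 4, 3, 2]),
  (4, 0, 5, [10, 6]),
  (6, 1, 4, [6, 5]),
  (4, 1, 5, [10, 6]),
  (13, 1, 5, [7, 6]),
  (0, 0, 1, [6, 5, 10, 11, 2, 3, 4, 5, 10, 7, 6, 5, 4, 3, 2]),
  (13, 1, 1, [2]),
  (1, 0, 1, [6, 5, 10, 11, 2, 3, 4, 5, 10, 7, 6, 5, 4, 3, 2]),
  (12, 1, 1, [2]),
  (4, 1, 1, [6, 4, 5, 10, 11, 3, 4, 5, 10, 7, 6, 5, 4, 3, 2]),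
  (6, 1, 2, []),
  (4, 1, 5, [10, 6]),
  (12, 1, 0, [1]),
  (4, 1, 1, [6, 4, 5, 10, 11, 3, 4, 5, 10, 7, 6, 5, 4, 3, 2]),
  (6, 0, 2, []),
  (7, 2, 0, []),
  (0, 1, 4, [10, 7, 6, 5]),
  (1, 0, 7, []),
  (2, 2, 0, []),
  (1, 0, 0, [6, 4, 5, 10, 11, 3, 4, 5, 10, 7, 6, 5, 4, 3, 2, 1]),
  (2, 0, 0, [6, 4, 5, 10, 11, 3, 4, 5, 10, 7, 6, 5, 4, 3, 2, 1]),
  (3, 1, 4, [6, 5])]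

/-- moves -/
def sevenMoves10 : List (ℕ × ℕ × ℕ × List ℕ) := [
  (4, 1, 0, [6, 3, 4, 5, 10, 7, 6, 5, 4, 3, 2, 1]),
  (5, 0, 10, [11]),
  (6, 2, 0, []),
  (4, 3, 1, []),
  (12, 3, 5, []),
  (13, 3, 4, []),
  (14, 0, 4, []),
  (8, 0, 0, [1]),
  (5, 0, 1, []),
  (8, 0, 1, [2]),
  (14, 1, 4, []),
  (13, 0, 4, []),
  (6, 1, 1, [6, 2, 3, 4, 5, 10, 7, 6, 5, 4, 3, 2]),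
  (13, 1, 4, []),
  (9, 0, 1, [2]),
  (13, 0, 4, []),
  (1, 1, 5, [10, 6]),
  (0, 1, 5, [10, 6]),
  (10, 0, 1, [2]),
  (10, 1, 1, [2]),
  (4, 1, 0, [6, 3, 4, 5, 10, 7, 6, 5, 4, 3, 2, 1]),
  (0, 0, 5, [10, 6]),
  (4, 0, 0, [6, 3, 4, 5, 10, 7, 6, 5, 4, 3, 2, 1]),
  (8, 1, 5, [7, 6]),
  (3, 0, 4, [6, 5]),
  (13, 1, 4, []),
  (6, 1, 1, []),
  (14, 1, 5, []),
  (1, 1, 0, []),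
  (1, 0, 0, []),
  (13, 1, 5, []),
  (9, 1, 1, [2]),
  (4, 0, 4, [6, 5]),
  (6, 1, 1, [6, 2, 3, 4, 5, 10, 7, 6, 5, 4, 3, 2]),
  (9, 1, 0, [1]),
  (13, 0, 5, []),
  (0, 0, 4, [10, 7, 6, 5]),
  (2, 1, 1, []),
  (2, 1, 0, [1]),
  (8, 0, 5, [7, 6]),
  (1, 0, 4, [10, 7, 6, 5]),
  (2, 1, 0, []),
  (10, 1, 2, []),
  (14, 1, 4, [5]),
  (5, 0, 4, [6, 5]),
  (13, 0, 4, []),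
  (2, 1, 4, [10, 7, 6, 5]),
  (8, 0, 0, [1]),
  (7, 0, 1, []),
  (12, 0, 5, []),
  (8, 0, 1, []),
  (2, 0, 4, [10, 7, 6, 5]),
  (2, 0, 0, []),
  (14, 0, 4, []),
  (3, 1, 0, [6, 3, 4, 5, 10, 7, 6, 5, 4, 3, 2, 1]),
  (3, 0, 0, [6, 3, 4, 5, 10, 7, 6, 5, 4, 3, 2, 1]),
  (3, 0, 0, []),
  (0, 0, 5, [10, 6]),
  (6, 1, 5, [7, 6]),
  (2, 0, 4, [10, 7, 6, 5]),
  (2, 1, 4, [10, 7, 6, 5]),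
  (13, 1, 4, []),
  (12, 1, 4, []),
  (8, 0, 0, []),
  (14, 1, 4, []),
  (4, 0, 0, []),
  (13, 0, 4, [5]),
  (14, 0, 4, [5]),
  (7, 0, 4, [6, 5]),
  (6, 1, 0, [1]),
  (10, 0, 2, []),
  (12, 0, 4, []),
  (7, 0, 5, [7, 6]),
  (8, 0, 5, [7, 6]),
  (10, 0, 1, [2]),
  (0, 0, 0, [1]),
  (11, 1, 4, [5]),
  (1, 0, 0, [1]),
  (13, 0, 4, []),
  (0, 1, 4, [10, 7, 6, 5]),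
  (6, 0, 0, [1]),
  (11, 1, 1, [2]),
  (9, 0, 5, [7, 6]),
  (3, 0, 1, [6, 3, 4, 5, 10, 7, 6, 5, 4, 3, 2]),
  (8, 0, 0, []),
  (10, 1, 1, [2]),
  (4, 1, 0, []),
  (14, 0, 4, []),
  (0, 0, 4, [10, 7, 6, 5]),
  (8, 1, 0, []),
  (0, 1, 4, [10, 7, 6, 5]),
  (0, 0, 4, [10, 7, 6, 5]),
  (5, 0, 0, [6, 3, 4, 5, 10, 7, 6, 5, 4, 3, 2, 1]),
  (3, 1, 0, []),
  (14, 0, 5, []),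
  (12, 1, 4, []),
  (3, 0, 0, []),
  (7, 1, 0, []),
  (14, 0, 4, [5]),
  (0, 0, 5, [10, 6])]

/-- moves -/
def sevenMoves11 : List (ℕ × ℕ × ℕ × List ℕ) := [
  (0, 0, 4, [10, 7, 6, 5]),
  (12, 0, 4, []),
  (8, 2, 0, []),
  (11, 2, 0, []),
  (10, 2, 0, []),
  (7, 3, 6, []),
  (3, 3, 1, []),
  (13, 3, 7, []),
  (7, 0, 4, [6, 5]),
  (11, 0, 0, []),
  (7, 0, 0, [6, 3, 4, 5, 10, 7, 6, 5, 4, 3, 2, 1]),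
  (12, 1, 7, []),
  (2, 0, 0, [1]),
  (11, 0, 0, [2, 1]),
  (6, 0, 0, []),
  (14, 1, 5, [7, 6]),
  (12, 0, 0, [2, 1]),
  (13, 1, 5, [7, 6]),
  (13, 1, 0, [2, 1]),
  (0, 1, 4, [10, 7, 6, 5]),
  (7, 0, 0, []),
  (10, 0, 6, []),
  (4, 1, 0, [6, 2, 3, 4, 5, 10, 7, 6, 5, 4, 3, 2, 1]),
  (7, 1, 0, []),
  (1, 0, 5, [10, 6]),
  (13, 0, 0, [2, 1]),
  (12, 1, 5, [7, 6]),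
  (1, 0, 0, []),
  (2, 0, 0, []),
  (8, 1, 6, []),
  (0, 0, 4, [10, 7, 6, 5]),
  (6, 0, 4, [6, 5]),
  (13, 1, 0, [2, 1]),
  (10, 1, 6, []),
  (14, 1, 5, [6]),
  (7, 1, 6, []),
  (11, 1, 5, [7, 6]),
  (12, 0, 5, [6]),
  (7, 1, 4, [5]),
  (1, 1, 1, []),
  (6, 0, 0, []),
  (14, 1, 0, []),
  (2, 0, 4, [10, 7, 6, 5]),
  (11, 0, 5, [7, 6]),
  (10, 0, 6, []),
  (4, 0, 0, [6, 2, 3, 4, 5, 10, 7, 6, 5, 4, 3, 2, 1]),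
  (1, 1, 0, []),
  (9, 0, 0, [3, 4, 5, 10, 7, 6, 5, 4, 3, 2, 1]),
  (13, 0, 5, [6]),
  (14, 0, 5, [6]),
  (7, 0, 0, []),
  (10, 0, 0, [3, 4, 5, 10, 7, 6, 5, 4, 3, 2, 1]),
  (9, 1, 0, [6, 3, 4, 5, 10, 7, 6, 5, 4, 3, 2, 1]),
  (2, 1, 4, [10, 7, 6, 5]),
  (8, 1, 0, [6, 3, 4, 5, 10, 7, 6, 5, 4, 3, 2, 1]),
  (11, 1, 5, [7, 6]),
  (12, 0, 0, [3, 4, 5, 10, 7, 6, 5, 4, 3, 2, 1]),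
  (7, 1, 0, [6, 3, 4, 5, 10, 7, 6, 5, 4, 3, 2, 1]),
  (11, 1, 1, [3, 4, 5, 10, 7, 6, 5, 4, 3, 2]),
  (8, 1, 1, [6, 3, 4, 5, 10, 7, 6, 5, 4, 3, 2]),
  (12, 0, 5, [7, 6]),
  (7, 1, 1, [6, 3, 4, 5, 10, 7, 6, 5, 4, 3, 2]),
  (14, 0, 5, [6]),
  (0, 0, 5, [10, 6]),
  (4, 0, 1, []),
  (10, 0, 0, [2, 1]),
  (7, 1, 0, []),
  (7, 0, 0, []),
  (11, 0, 0, [2, 1]),
  (7, 0, 1, [6, 3, 4, 5, 10, 7, 6, 5, 4, 3, 2]),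
  (8, 1, 4, [6, 5]),
  (4, 1, 1, []),
  (7, 0, 0, [6, 3, 4, 5, 10, 7, 6, 5, 4, 3, 2, 1]),
  (3, 0, 0, [1]),
  (12, 0, 0, [2, 1]),
  (12, 1, 0, [2, 1]),
  (5, 1, 4, [5]),
  (9, 0, 1, [6, 3, 4, 5, 10, 7, 6, 5, 4, 3, 2]),
  (14, 1, 5, [6]),
  (7, 0, 4, [6, 5]),
  (14, 1, 5, [6]),
  (8, 0, 4, [6, 5]),
  (13, 1, 5, [6]),
  (3, 1, 0, [1]),
  (2, 1, 0, [1]),
  (7, 1, 2, [10, 5, 6, 3, 4, 5, 10, 7, 6, 5, 4, 3]),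
  (13, 0, 5, [6]),
  (11, 1, 0, [2, 1]),
  (5, 0, 4, [5]),
  (0, 0, 0, []),
  (8, 0, 0, [6, 3, 4, 5, 10, 7, 6, 5, 4, 3, 2, 1]),
  (1, 0, 0, []),
  (7, 1, 4, [6, 5]),
  (7, 1, 0, [1, 2, 3, 4, 5, 10, 7, 6, 5, 4, 3, 2, 1]),
  (9, 0, 0, [6, 3, 4, 5, 10, 7, 6, 5, 4, 3, 2, 1]),
  (10, 1, 0, [2, 1]),
  (12, 1, 5, [7, 6]),
  (4, 0, 1, []),
  (6, 0, 4, [5]),
  (14, 0, 5, [6])]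

/-- moves -/
def sevenMoves12 : List (ℕ × ℕ × ℕ × List ℕ) := [
  (8, 0, 2, [10, 5, 6, 3, 4, 5, 10, 7, 6, 5, 4, 3]),
  (6, 0, 0, [1, 2, 3, 4, 5, 10, 7, 6, 5, 4, 3, 2, 1]),
  (5, 1, 4, [5]),
  (1, 0, 1, []),
  (14, 2, 0, []),
  (2, 0, 1, []),
  (3, 0, 1, []),
  (4, 0, 1, []),
  (5, 2, 0, []),
  (3, 1, 4, [5]),
  (2, 1, 4, [5]),
  (3, 0, 4, [10, 7, 6, 5]),
  (0, 0, 5, [10, 6]),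
  (1, 0, 5, [10, 6]),
  (2, 1, 1, [10, 5, 6, 3, 4, 5, 10, 7, 6, 5, 4, 3, 2]),
  (3, 0, 1, [3, 4, 5, 10, 7, 6, 5, 4, 3, 2]),
  (4, 1, 0, [1, 2, 3, 4, 5, 10, 7, 6, 5, 4, 3, 2, 1]),
  (5, 0, 0, [2, 1]),
  (6, 0, 0, [2, 1]),
  (7, 2, 0, []),
  (0, 3, 6, []),
  (7, 3, 8, []),
  (8, 3, 4, []),
  (6, 1, 8, []),
  (2, 1, 4, [5, 10, 6, 5]),
  (13, 0, 0, [6, 3, 4, 5, 10, 7, 6, 5, 4, 3, 2, 1]),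
  (14, 0, 0, [6, 3, 4, 5, 10, 7, 6, 5, 4, 3, 2, 1]),
  (11, 0, 1, [2]),
  (3, 1, 1, [10, 5, 6, 3, 4, 5, 10, 7, 6, 5, 4, 3, 2]),
  (3, 0, 1, [10, 5, 6, 3, 4, 5, 10, 7, 6, 5, 4, 3, 2]),
  (5, 1, 8, []),
  (1, 1, 4, [5, 10, 6, 5]),
  (3, 0, 0, [1]),
  (10, 1, 1, [4, 5, 6, 3, 4, 5, 10, 7, 6, 5, 4, 3, 2]),
  (2, 0, 6, []),
  (13, 0, 5, [7, 6]),
  (7, 1, 4, []),
  (8, 1, 4, []),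
  (2, 0, 1, [10, 5, 6, 3, 4, 5, 10, 7, 6, 5, 4, 3, 2]),
  (4, 1, 8, []),
  (11, 1, 1, [2]),
  (14, 1, 0, [6, 3, 4, 5, 10, 7, 6, 5, 4, 3, 2, 1]),
  (0, 1, 4, [5, 10, 6, 5]),
  (8, 1, 0, [1, 2, 3, 4, 5, 10, 8, 7, 6, 5, 4, 3, 2, 1]),
  (7, 0, 4, []),
  (7, 0, 0, [1, 2, 3, 4, 5, 10, 8, 7, 6, 5, 4, 3, 2, 1]),
  (10, 1, 1, [2]),
  (14, 0, 0, [6, 3, 4, 5, 10, 7, 6, 5, 4, 3, 2, 1]),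
  (12, 1, 6, []),
  (10, 1, 1, [4, 5, 6, 3, 4, 5, 10, 7, 6, 5, 4, 3, 2]),
  (6, 1, 4, []),
  (8, 0, 0, [1, 2, 3, 4, 5, 10, 8, 7, 6, 5, 4, 3, 2, 1]),
  (0, 0, 4, [5, 10, 6, 5]),
  (14, 1, 0, [6, 3, 4, 5, 10, 7, 6, 5, 4, 3, 2, 1]),
  (8, 1, 0, [1, 2, 3, 4, 5, 10, 8, 7, 6, 5, 4, 3, 2, 1]),
  (2, 1, 1, [10, 5, 6, 3, 4, 5, 10, 7, 6, 5, 4, 3, 2]),
  (3, 0, 6, []),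
  (12, 0, 6, []),
  (2, 1, 8, []),
  (12, 0, 1, [4, 5, 6, 3, 4, 5, 10, 8, 7, 6, 5, 4, 3, 2]),
  (5, 0, 0, [1]),
  (12, 0, 6, []),
  (1, 1, 8, []),
  (1, 1, 4, [5, 10, 6, 5]),
  (1, 1, 8, []),
  (13, 1, 0, [6, 3, 4, 5, 10, 7, 6, 5, 4, 3, 2, 1]),
  (1, 0, 8, []),
  (12, 0, 1, [4, 5, 6, 3, 4, 5, 10, 8, 7, 6, 5, 4, 3, 2]),
  (4, 0, 6, []),
  (13, 1, 0, [3, 4, 5, 10, 7, 6, 5, 4, 3, 2, 1]),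
  (7, 0, 5, [10, 8, 7, 6]),
  (14, 0, 2, [6, 7, 5, 6, 3, 4, 5, 10, 8, 7, 6, 5, 4, 3]),
  (8, 0, 5, [10, 8, 7, 6]),
  (14, 0, 2, [6, 3, 4, 5, 10, 8, 7, 6, 5, 4, 3]),
  (6, 0, 0, [1]),
  (6, 0, 1, [2, 3, 4, 5, 10, 8, 7, 6, 5, 4, 3, 2]),
  (13, 0, 0, [3, 4, 5, 10, 7, 6, 5, 4, 3, 2, 1]),
  (4, 1, 6, []),
  (11, 1, 2, [7, 5, 6, 3, 4, 5, 10, 8, 7, 6, 5, 4, 3]),
  (1, 0, 4, [5, 10, 6, 5]),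
  (6, 0, 0, [1, 2, 3, 4, 5, 10, 8, 7, 6, 5, 4, 3, 2, 1]),
  (14, 0, 0, [3, 4, 5, 10, 7, 6, 5, 4, 3, 2, 1]),
  (8, 0, 4, [10, 8, 7, 6, 5]),
  (14, 0, 1, [5, 6, 7, 4, 5, 6, 3, 4, 5, 10, 8, 7, 6, 5, 4, 3, 2]),
  (2, 1, 1, [10, 5, 6, 3, 4, 5, 10, 8, 7, 6, 5, 4, 3, 2]),
  (10, 1, 2, [7, 5, 6, 3, 4, 5, 10, 8, 7, 6, 5, 4, 3]),
  (11, 0, 0, [6, 3, 4, 5, 10, 8, 7, 6, 5, 4, 3, 2, 1]),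
  (4, 0, 6, []),
  (0, 0, 6, []),
  (4, 0, 4, []),
  (6, 1, 0, [1, 2, 3, 4, 5, 10, 8, 7, 6, 5, 4, 3, 2, 1]),
  (5, 0, 4, []),
  (8, 1, 4, [10, 8, 7, 6, 5]),
  (2, 0, 1, [10, 5, 6, 3, 4, 5, 10, 8, 7, 6, 5, 4, 3, 2]),
  (1, 0, 6, []),
  (13, 1, 2, [6, 3, 4, 5, 10, 8, 7, 6, 5, 4, 3]),
  (3, 0, 1, [10, 5, 6, 3, 4, 5, 10, 8, 7, 6, 5, 4, 3, 2]),
  (6, 0, 4, []),
  (7, 1, 4, [10, 8, 7, 6, 5]),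
  (0, 1, 4, [5, 10, 6, 5])]

/-- moves -/
def sevenMoves13 : List (ℕ × ℕ × ℕ × List ℕ) := [
  (3, 0, 6, []),
  (12, 0, 0, [6, 3, 4, 5, 10, 8, 7, 6, 5, 4, 3, 2, 1]),
  (11, 0, 1, [7, 5, 6, 2, 3, 4, 5, 10, 8, 7, 6, 5, 4, 3, 2]),
  (5, 0, 0, [1, 2, 3, 4, 5, 10, 8, 7, 6, 5, 4, 3, 2, 1]),
  (13, 0, 0, [6, 3, 4, 5, 10, 8, 7, 6, 5, 4, 3, 2, 1]),
  (3, 1, 6, []),
  (7, 0, 4, [10, 8, 7, 6, 5]),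
  (6, 1, 4, []),
  (8, 1, 5, [10, 8, 7, 6]),
  (10, 1, 2, [10, 7, 4, 5, 6, 3, 4, 5, 10, 8, 7, 6, 5, 4, 3]),
  (3, 1, 1, [10, 5, 6, 3, 4, 5, 10, 8, 7, 6, 5, 4, 3, 2]),
  (1, 0, 8, []),
  (13, 0, 2, [6, 7, 5, 6, 3, 4, 5, 10, 8, 7, 6, 5, 4, 3]),
  (5, 0, 0, [1]),
  (11, 1, 1, [7, 5, 6, 2, 3, 4, 5, 10, 8, 7, 6, 5, 4, 3, 2]),
  (2, 1, 1, [10, 5, 6, 3, 4, 5, 10, 8, 7, 6, 5, 4, 3, 2]),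
  (4, 1, 4, []),
  (4, 0, 4, []),
  (8, 1, 4, []),
  (1, 0, 6, []),
  (2, 0, 6, []),
  (3, 2, 0, []),
  (3, 0, 4, []),
  (4, 0, 4, []),
  (5, 2, 0, []),
  (3, 0, 0, [1]),
  (4, 0, 0, [1]),
  (5, 1, 2, [10, 7, 4, 5, 6, 3, 4, 5, 10, 8, 7, 6, 5, 4, 3]),
  (6, 2, 0, []),
  (1, 1, 1, [10, 5, 6, 3, 4, 5, 10, 7, 6, 5, 4, 3, 2]),
  (2, 1, 1, [2, 3, 4, 5, 10, 8, 7, 6, 5, 4, 3, 2]),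
  (3, 1, 4, [10, 8, 7, 6, 5]),
  (4, 1, 2, [10, 7, 4, 5, 6, 3, 4, 5, 10, 8, 7, 6, 5, 4, 3]),
  (5, 2, 0, []),
  (1, 0, 1, [10, 5, 6, 3, 4, 5, 10, 7, 6, 5, 4, 3, 2]),
  (2, 0, 1, [10, 5, 6, 3, 4, 5, 10, 7, 6, 5, 4, 3, 2]),
  (3, 1, 2, [10, 7, 4, 5, 6, 3, 4, 5, 10, 8, 7, 6, 5, 4, 3]),
  (4, 2, 0, []),
  (0, 1, 2, [6, 7, 5, 6, 3, 4, 5, 10, 8, 7, 6, 5, 4, 3]),
  (1, 0, 2, [10, 7, 4, 5, 6, 3, 4, 5, 10, 8, 7, 6, 5, 4, 3]),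
  (2, 2, 0, []),
  (0, 0, 2, [6, 7, 5, 6, 3, 4, 5, 10, 8, 7, 6, 5, 4, 3]),
  (1, 2, 0, []),
  (0, 2, 0, [])]

/-- all moves -/
def sevenMovesAll : List (ℕ × ℕ × ℕ × List ℕ) := sevenMoves0 ++ sevenMoves1 ++ sevenMoves2 ++ sevenMoves3 ++ sevenMoves4 ++ sevenMoves5 ++ sevenMoves6 ++ sevenMoves7 ++ sevenMoves8 ++ sevenMoves9 ++ sevenMoves10 ++ sevenMoves11 ++ sevenMoves12 ++ sevenMoves13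

end CfsgLib.KnownB.Fi24Mult
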