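import Cfsg.Agent.Lib.KnownB.Fi24Mult.TabEval
import Cfsg.Agent.Lib.KnownB.Fi24Mult.HurSeven
import Cfsg.Agent.Lib.KnownB.Fi24Mult.HurArm
import Cfsg.Agent.Lib.Schur.Basic

/-! A central extension of `Fi₂₄` has trivial kernel in its commutator subgroup. -/

set_option autoImplicit false
set_option maxRecDepth 100000

namespace CfsgLib.KnownB.Fi24Mult

open Cfsg.Spor

/-- degree one -/
def dOne : Multiplicative ℤ := Multiplicative.ofAdd 1

theorem central_trivial (hH : StabH) {Y : Type*} [Group Y] (σ : Y →* Fi24)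
    (hs : Function.Surjective σ) (hc : σ.ker ≤ Subgroup.center Y) {m : Y} (hm : σ m = 1)
    (hm' : m ∈ commutator Y) : m = 1 := by
  obtain ⟨x, c, hstd, hcc⟩ := exists_std σ hs hc
  let σ' : Y × Multiplicative ℤ →* Fi24 := σ.comp (MonoidHom.fst _ _)
  let x' : ℕ → Y × Multiplicative ℤ := fun i => (x i, dOne)
  let c' : Y × Multiplicative ℤ := (c, dOne * dOne)
  have hstd' : Std σ' x' c' :=
    { map := fun i => hstd.map i
      braid := fun i j hi hj h => Prod.ext (hstd.braid i j hi hj h) rfl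
      comm := fun i j hi hj h => Prod.ext (hstd.comm i j hi hj h) rfl
      sq := fun i hi => Prod.ext (hstd.sq i hi) rfl }
  have C : Central σ' x' c' :=
    { surj := hs.comp fun y => ⟨(y, 1), rfl⟩
      cen := fun p hp => Subgroup.mem_center_iff.2 fun q =>
        Prod.ext (Subgroup.mem_center_iff.1 (hc hp) q.1) (mul_comm _ _)
      std := hstd'
      stab := hH }
  let Z := Subgroup.zpowers c'
  have hZn : Z.Normal := ⟨fun n hn g => by
    obtain ⟨k, rfl⟩ := Subgroup.mem_zpowers_iff.1 hn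
    have hk : Commute g c' := C.comm_c g
    rw [(hk.zpow_right k).eq, mul_inv_cancel_right]
    exact hn⟩
  let f : ℕ → (Y × Multiplicative ℤ) ⧸ Z := fun i => QuotientGroup.mk' Z (x' i)
  have hf : ∀ w, val f w = QuotientGroup.mk' Z (val x' w) := fun w =>
    (val_map (QuotientGroup.mk' Z) (x := x') (f := f) (fun _ => rfl) w).symm
  have h1 : ∀ w, val x' w ∈ Z → val f w = 1 := fun w h => by
    rw [hf]; exact (QuotientGroup.eq_one_iff _).2 h
  have hsq : ∀ i < 12, f i * f i = 1 := fun i hi => by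
    show QuotientGroup.mk' Z (x' i) * QuotientGroup.mk' Z (x' i) = 1
    rw [← map_mul, hstd'.sq i hi]
    exact (QuotientGroup.eq_one_iff _).2 (Subgroup.mem_zpowers c')
  have hcomm : ∀ i < 12, ∀ j < 12, edgeX i j = false → i ≠ j → f i * f j = f j * f i := by
    intro i hi j hj h _
    show QuotientGroup.mk' Z (x' i) * QuotientGroup.mk' Z (x' j) = _
    rw [← map_mul, hstd'.comm i j hi hj h, map_mul]
  have hedge : ∀ i < 12, ∀ j < 12, edgeX i j = true → (f i * f j) ^ 3 = 1 := by
    intro i hi j hj h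
    have b : f i * f j * f i = f j * f i * f j := by
      show QuotientGroup.mk' Z (x' i) * QuotientGroup.mk' Z (x' j) * QuotientGroup.mk' Z (x' i) = _
      rw [← map_mul, ← map_mul, hstd'.braid i j hi hj h, map_mul, map_mul]
    calc (f i * f j) ^ 3 = f i * f j * f i * (f j * f i * f j) := by simp [pow_succ, mul_assoc]
      _ = f i * f j * f i * (f i * f j * f i) := by rw [b]
      _ = f i * f j * (f i * f i) * f j * f i := by simp only [mul_assoc]
      _ = 1 := by rw [hsq i hi, mul_one, mul_assoc (f i), hsq j hj, mul_one, hsq i hi]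
  have hseven : val f sevenW ^ 9 = f 0 := by
    have h := h1 _ (hurEmpty_spec C eval_tabs ptNum_ok seven_hur)
    rw [val_append, val_repW, show val f [0] = f 0 by simp [val]] at h
    rw [eq_inv_of_mul_eq_one_left h, inv_eq_of_mul_eq_one_right (hsq 0 (by norm_num))]
  have harm : val f armW ^ 17 = 1 := by
    rw [← val_repW]
    exact h1 _ (hurEmpty_spec C eval_tabs ptNum_ok arm_hur)
  obtain ⟨ψ, hψ⟩ := exists_hom f hsq hcomm hedge hseven harm
  let L := Subgroup.closure (x' '' {i | i < 12})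
  have hL : L ≤ MonoidHom.eqLocus (QuotientGroup.mk' Z) (ψ.comp σ') := by
    rw [Subgroup.closure_le]
    rintro _ ⟨i, hi, rfl⟩
    show QuotientGroup.mk' Z (x' i) = ψ (σ' (x' i))
    rw [hstd'.map, hψ i hi]
  have hsurj : Function.Surjective (σ.comp ((MonoidHom.fst Y (Multiplicative ℤ)).comp L.subtype)) := by
    rw [← MonoidHom.range_eq_top, eq_top_iff, ← closure_gen, Subgroup.closure_le]
    rintro _ ⟨i, hi, rfl⟩
    exact ⟨⟨x' i, Subgroup.subset_closure ⟨i, hi, rfl⟩⟩, hstd.map i⟩
  rw [CfsgLib.Schur.commutator_eq_map σ hc _ hsurj] at hm'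
  obtain ⟨l, hl, hlm⟩ := hm'
  have hdeg : (l : Y × Multiplicative ℤ).2 = 1 := by
    have : l ∈ ((MonoidHom.snd Y (Multiplicative ℤ)).comp L.subtype).ker :=
      Abelianization.commutator_subset_ker _ hl
    exact this
  have hlZ : (l : Y × Multiplicative ℤ) ∈ Z := by
    have e : σ' (l : Y × Multiplicative ℤ) = 1 := by
      show σ (l : Y × Multiplicative ℤ).1 = 1
      rw [show (l : Y × Multiplicative ℤ).1 = m from hlm, hm]
    have h := hL l.2
    change QuotientGroup.mk' Z (l : Y × Multiplicative ℤ) = ψ (σ' (l : Y × Multiplicative ℤ)) at h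
    rw [e, map_one] at h
    exact (QuotientGroup.eq_one_iff _).1 h
  obtain ⟨k, hk⟩ := Subgroup.mem_zpowers_iff.1 hlZ
  have hk0 : k = 0 := by
    have e := congrArg (fun p : Y × Multiplicative ℤ => Multiplicative.toAdd p.2) hk
    simp only [c', dOne, Prod.pow_snd, hdeg, toAdd_zpow, toAdd_mul, toAdd_ofAdd, toAdd_one,
      smul_eq_mul] at e
    omega
  rw [← hlm]
  show (l : Y × Multiplicative ℤ).1 = 1
  rw [← hk, hk0, zpow_zero]
  rfl

end CfsgLib.KnownB.Fi24Mult
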