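import Cfsg.Agent.Lib.Schur.Basic

/-! An automorphism of order two of a perfect group carried along a central extension. -/

set_option autoImplicit false

namespace CfsgLib.KnownB.Fi24Mult

open Subgroup

universe u

variable {S Γ : Type u} [Group S] [Group Γ]

theorem perfect_of_stem (hS : commutator S = ⊤) (σ : Γ →* S) (hσ : Cfsg.IsStemExtension σ) :
    commutator Γ = ⊤ := by
  refine eq_top_iff.2 fun g _ => ?_
  have hg : σ g ∈ (commutator Γ).map σ := by
    rw [_root_.commutator_def, Subgroup.map_commutator, Subgroup.map_top_of_surjective σ hσ.1,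
      ← _root_.commutator_def, hS]
    exact mem_top _
  obtain ⟨d, hdm, he⟩ := hg
  have : d⁻¹ * g ∈ commutator Γ := hσ.2.2 (by
    rw [MonoidHom.mem_ker, map_mul, map_inv, he, inv_mul_cancel])
  simpa using mul_mem hdm this

/-- The pairs lying over a pair of corresponding elements. -/
def pairs (σ : Γ →* S) (β : S ≃* S) : Subgroup (Γ × Γ) :=
  (σ.comp (MonoidHom.snd Γ Γ)).eqLocus ((β.toMonoidHom.comp σ).comp (MonoidHom.fst Γ Γ))

theorem mem_pairs {σ : Γ →* S} {β : S ≃* S} {p : Γ × Γ} :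
    p ∈ pairs σ β ↔ σ p.2 = β (σ p.1) := Iff.rfl

theorem exists_involutive_cover [Finite Γ] (hS : commutator S = ⊤) (σ : Γ →* S)
    (hσ : Cfsg.IsStemExtension σ) (β : S ≃* S) (hβ : ∀ s, β (β s) = s) :
    ∃ (Δ : Type u) (_ : Group Δ) (_ : Finite Δ) (τ : Δ →* S) (α : Δ ≃* Δ) (π : τ.ker →* σ.ker),
      Function.Surjective τ ∧ τ.ker ≤ center Δ ∧ commutator Δ = ⊤ ∧ (∀ d, α (α d) = d) ∧
        (∀ d, τ (α d) = β (τ d)) ∧ Function.Surjective π := by
  have hΓ := perfect_of_stem hS σ hσ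
  let E := pairs σ β
  let ξ : E →* S := (σ.comp (MonoidHom.fst Γ Γ)).comp E.subtype
  have hξs : Function.Surjective ξ := fun s => by
    obtain ⟨u, hu⟩ := hσ.1 s
    obtain ⟨v, hv⟩ := hσ.1 (β s)
    exact ⟨⟨(u, v), mem_pairs.2 (by rw [hv, hu])⟩, hu⟩
  have hξc : ξ.ker ≤ center E := by
    rintro ⟨⟨p, q⟩, hp⟩ h
    have h1 : σ p = 1 := h
    have h2 : σ q = 1 := by rw [show σ q = β (σ p) from hp, h1, map_one]
    rw [mem_center_iff]
    rintro ⟨⟨r, s⟩, -⟩
    exact Subtype.ext (Prod.ext (mem_center_iff.1 (hσ.2.1 h1) r) (mem_center_iff.1 (hσ.2.1 h2) s))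
  let τ : commutator E →* S := ξ.comp (commutator E).subtype
  have hτs : Function.Surjective τ := fun s => by
    have hs : s ∈ (commutator E).map ξ := by
      rw [_root_.commutator_def, Subgroup.map_commutator, Subgroup.map_top_of_surjective ξ hξs,
        ← _root_.commutator_def, hS]
      exact mem_top _
    obtain ⟨d, hd, rfl⟩ := hs
    exact ⟨⟨d, hd⟩, rfl⟩
  have hperf : commutator (commutator E) = ⊤ := by
    refine eq_top_iff.2 fun d _ => ?_
    have h := CfsgLib.Schur.commutator_eq_map ξ hξc (commutator E).subtype hτs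
    obtain ⟨d', hd', he⟩ := SetLike.ext_iff.1 h (d : E) |>.1 d.2
    rwa [← Subtype.ext he]
  have hfst : ((commutator E).map ((MonoidHom.fst Γ Γ).comp E.subtype)) = ⊤ := by
    rw [_root_.commutator_def, Subgroup.map_commutator, Subgroup.map_top_of_surjective _ (fun u => ?_),
      ← _root_.commutator_def, hΓ]
    obtain ⟨v, hv⟩ := hσ.1 (β (σ u))
    exact ⟨⟨(u, v), hv⟩, rfl⟩
  let sw : E ≃* E :=
    { toFun := fun p => ⟨(p.1.2, p.1.1), mem_pairs.2 (by rw [mem_pairs.1 p.2, hβ])⟩
      invFun := fun p => ⟨(p.1.2, p.1.1), mem_pairs.2 (by rw [mem_pairs.1 p.2, hβ])⟩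
      left_inv := fun _ => rfl
      right_inv := fun _ => rfl
      map_mul' := fun _ _ => rfl }
  have hswc : (commutator E).map sw.toMonoidHom = commutator E := by
    rw [_root_.commutator_def, Subgroup.map_commutator, Subgroup.map_top_of_surjective _ sw.surjective]
  let α : commutator E ≃* commutator E :=
    (sw.subgroupMap (commutator E)).trans (MulEquiv.subgroupCongr hswc)
  have hα : ∀ d : commutator E, (α d : E) = sw d := fun _ => rfl
  have hmem : ∀ d : τ.ker, ((d : commutator E) : E).1.1 ∈ σ.ker := fun d => d.2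
  let π : τ.ker →* σ.ker :=
    (((MonoidHom.fst Γ Γ).comp E.subtype).comp ((commutator E).subtype.comp τ.ker.subtype)).codRestrict
      σ.ker hmem
  refine ⟨commutator E, inferInstance, inferInstance, τ, α, π, hτs, fun d hd => ?_, hperf,
    fun d => Subtype.ext rfl, fun d => ?_, ?_⟩
  · rw [mem_center_iff]
    exact fun g => Subtype.ext (mem_center_iff.1 (hξc hd) g)
  · exact mem_pairs.1 (d : E).2
  · rintro ⟨u, hu⟩
    have : u ∈ (commutator E).map ((MonoidHom.fst Γ Γ).comp E.subtype) := hfst ▸ mem_top u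
    obtain ⟨d, hd, rfl⟩ := this
    exact ⟨⟨⟨d, hd⟩, hu⟩, rfl⟩

/-- The extension by the automorphism. -/
theorem exists_outer_extension {T : Type u} [Group T] {Δ : Type u} [Group Δ] [Finite Δ]
    (ι : Δ →* T) (a : T) (ha : a * a = 1) (haι : ∀ d, ι d ≠ a) (α : Δ ≃* Δ)
    (hα : ∀ d, α (α d) = d) (hαι : ∀ d, ι (α d) = a * ι d * a⁻¹)
    (hgen : ∀ t : T, ∃ d, t = ι d ∨ t = ι d * a) :
    ∃ (X : Type u) (_ : Group X) (_ : Finite X) (σ : X →* T) (j : Δ →* X) (s : X),
      Function.Surjective σ ∧ Function.Injective j ∧ (∀ d, σ (j d) = ι d) ∧ σ s = a ∧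
        σ.ker = ι.ker.map j ∧ ∀ d, s * j d * s⁻¹ = j (α d) := by
  let c : MulAut Δ × T := (α, a)
  have hc : c ^ 2 = 1 := by
    rw [pow_two]
    exact Prod.ext (MulEquiv.ext fun d => hα d) ha
  let C := Subgroup.zpowers c
  haveI : Finite C := (isOfFinOrder_iff_pow_eq_one.2 ⟨2, by norm_num, hc⟩).finite_zpowers
  have hC : ∀ x : C, x = 1 ∨ (x : MulAut Δ × T) = c := by
    rintro ⟨x, n, rfl⟩
    obtain ⟨k, rfl | rfl⟩ := Int.even_or_odd' n
    · left
      refine Subtype.ext ?_
      show c ^ (2 * k) = 1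
      rw [zpow_mul, show c ^ (2 : ℤ) = c ^ 2 from zpow_natCast c 2, hc, one_zpow]
    · right
      show c ^ (2 * k + 1) = c
      rw [zpow_add, zpow_mul, show c ^ (2 : ℤ) = c ^ 2 from zpow_natCast c 2, hc, one_zpow, zpow_one,
        one_mul]
  let φ : C →* MulAut Δ := (MonoidHom.fst _ _).comp C.subtype
  let ψ : C →* T := (MonoidHom.snd _ _).comp C.subtype
  have hcompat : ∀ x : C, ι.comp (φ x).toMonoidHom = (MulAut.conj (ψ x)).toMonoidHom.comp ι := by
    intro x
    refine MonoidHom.ext fun d => ?_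
    rcases hC x with rfl | hx
    · simp
    · show ι ((x : MulAut Δ × T).1 d) = (x : MulAut Δ × T).2 * ι d * ((x : MulAut Δ × T).2)⁻¹
      rw [hx]
      exact hαι d
  let σ : Δ ⋊[φ] C →* T := SemidirectProduct.lift ι ψ hcompat
  haveI : Finite (Δ ⋊[φ] C) := Finite.of_equiv _ SemidirectProduct.equivProd.symm
  let s : Δ ⋊[φ] C := SemidirectProduct.inr ⟨c, Subgroup.mem_zpowers c⟩
  have hσl : ∀ d, σ (SemidirectProduct.inl d) = ι d := fun d => SemidirectProduct.lift_inl _ _ _ _
  have hσs : σ s = a := SemidirectProduct.lift_inr _ _ _ _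
  refine ⟨Δ ⋊[φ] C, inferInstance, inferInstance, σ, SemidirectProduct.inl, s, fun t => ?_,
    SemidirectProduct.inl_injective, hσl, hσs, ?_, fun d => ?_⟩
  · obtain ⟨d, rfl | rfl⟩ := hgen t
    · exact ⟨_, hσl d⟩
    · exact ⟨SemidirectProduct.inl d * s, by rw [map_mul, hσl, hσs]⟩
  · refine le_antisymm (fun x hx => ?_) ?_
    · rw [MonoidHom.mem_ker, ← SemidirectProduct.inl_left_mul_inr_right x, map_mul, hσl,
        SemidirectProduct.lift_inr] at hx
      rcases hC x.right with h | h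
      · rw [h, map_one, mul_one] at hx
        exact ⟨x.left, hx, by rw [← SemidirectProduct.inl_left_mul_inr_right x, h]; simp⟩
      · exfalso
        refine haι x.left ?_
        have h2 : ψ x.right = a := congrArg Prod.snd h
        rw [h2] at hx
        rw [eq_inv_of_mul_eq_one_left hx, inv_eq_of_mul_eq_one_right ha]
    · rintro _ ⟨d, hd, rfl⟩
      rw [MonoidHom.mem_ker, hσl]
      exact hd
  · have h := SemidirectProduct.inl_aut (φ := φ) (⟨c, Subgroup.mem_zpowers c⟩ : C) d
    rw [map_inv] at h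
    exact h.symm

end CfsgLib.KnownB.Fi24Mult
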