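import Cfsg.Agent.Lib.KnownB.Fi24Mult.Pres
import Cfsg.Agent.Lib.KnownB.Fi22Mult.Lifts

/-! Lifts of the generators of `Fi₂₄` to a central extension. -/

set_option autoImplicit false
set_option maxRecDepth 100000

namespace CfsgLib.KnownB.Fi24Mult

open Cfsg.Spor

variable {Γ : Type*} [Group Γ]

/-- lifts satisfying the Coxeter relations up to a common square -/
structure Std (σ : Γ →* Fi24) (x : ℕ → Γ) (c : Γ) : Prop where
  map : ∀ i, σ (x i) = gen i
  braid : ∀ i j, i < 12 → j < 12 → edgeX i j = true → x i * x j * x i = x j * x i * x j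
  comm : ∀ i j, i < 12 → j < 12 → edgeX i j = false → x i * x j = x j * x i
  sq : ∀ i, i < 12 → x i * x i = c

/-- one round of deriving commuting pairs -/
def satStep (S : List (ℕ × ℕ)) : List (ℕ × ℕ) :=
  S ++ ((List.range 12).flatMap fun i => (List.range 12).filterMap fun k =>
    if !edgeX i k && !Nat.beq i k && ((List.range 12).any fun j => !edgeX i j && !Nat.beq i j && edgeX j k &&
      S.any fun p => (Nat.beq p.1 i && Nat.beq p.2 j) || (Nat.beq p.1 j && Nat.beq p.2 i)) &&
      !(S.any fun p => (Nat.beq p.1 i && Nat.beq p.2 k) || (Nat.beq p.1 k && Nat.beq p.2 i))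
    then some (i, k) else none)

/-- the pairs after some rounds -/
def satN : ℕ → List (ℕ × ℕ)
  | 0 => [(0, 2)]
  | n + 1 => satStep (satN n)

theorem sat_all : ((List.range 12).all fun i => (List.range 12).all fun k => edgeX i k || Nat.beq i k ||
    (satN 14).any fun p => (Nat.beq p.1 i && Nat.beq p.2 k) || (Nat.beq p.1 k && Nat.beq p.2 i)) = true := by
  decide +kernel

theorem gen_braid {i j : ℕ} (hi : i < 12) (hj : j < 12) (h : edgeX i j = true) :
    gen i * gen j * gen i = gen j * gen i * gen j := by
  have h3 := gen_pow_three hi hj h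
  have h' : (gen i * gen j * gen i) * (gen j * gen i * gen j) = 1 := by
    rw [← h3]
    simp only [pow_succ, pow_zero, one_mul, mul_assoc]
  rw [eq_inv_of_mul_eq_one_left h', mul_inv_rev, mul_inv_rev, gen_inv, gen_inv]
  simp only [mul_assoc]

theorem exists_braided (σ : Γ →* Fi24) (hs : Function.Surjective σ) (hc : σ.ker ≤ Subgroup.center Γ) :
    ∃ x : ℕ → Γ, (∀ i, σ (x i) = gen i) ∧
      ∀ i j, i < 12 → j < 12 → edgeX i j = true → x i * x j * x i = x j * x i * x j := by
  have key : ∀ n ≤ 12, ∃ x : ℕ → Γ, (∀ i, σ (x i) = gen i) ∧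
      ∀ j, 0 < j → j < n → x (parN j) * x j * x (parN j) = x j * x (parN j) * x j := by
    intro n
    induction n with
    | zero =>
      intro _
      exact ⟨fun i => Function.surjInv hs (gen i), fun i => Function.surjInv_eq hs _,
        fun j _ h => absurd h (by omega)⟩
    | succ n ih =>
      intro hn
      obtain ⟨x, hx, hb⟩ := ih (by omega)
      by_cases h0 : n = 0
      · exact ⟨x, hx, fun j hj hj' => absurd hj' (by omega)⟩
      obtain ⟨hlt, hedge⟩ := par_lt n (by omega) (Nat.pos_of_ne_zero h0)
      let a := x (parN n)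
      let b := x n
      obtain ⟨z, hz, hzdef⟩ : ∃ z, z ∈ σ.ker ∧ a * b * a = b * a * b * z := by
        refine ⟨(b * a * b)⁻¹ * (a * b * a), ?_, (mul_inv_cancel_left _ _).symm⟩
        rw [MonoidHom.mem_ker]
        simp only [a, b, map_mul, map_inv, hx]
        rw [gen_braid (by omega) (by omega) hedge, inv_mul_cancel]
      have hzc : ∀ g, g * z = z * g := Subgroup.mem_center_iff.1 (hc hz)
      refine ⟨Function.update x n (b * z), fun i => ?_, fun j hj hj' => ?_⟩
      · by_cases hi : i = n
        · subst hi
          rw [Function.update_self, map_mul, MonoidHom.mem_ker.1 hz, mul_one]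
          exact hx i
        · rw [Function.update_of_ne hi, hx]
      · rcases Nat.lt_succ_iff_lt_or_eq.1 hj' with h | h
        · have hp := (par_lt j (by omega) hj).1
          rw [Function.update_of_ne (by omega), Function.update_of_ne (by omega)]
          exact hb j hj h
        · subst h
          rw [Function.update_self, Function.update_of_ne (by omega)]
          show a * (b * z) * a = b * z * a * (b * z)
          calc a * (b * z) * a = a * b * a * z := by rw [← mul_assoc, mul_assoc _ z, ← hzc, ← mul_assoc]
            _ = b * a * b * z * z := by rw [hzdef]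
            _ = b * z * a * (b * z) := by
              rw [mul_assoc b z, ← hzc a, ← mul_assoc b a, ← mul_assoc, mul_assoc (b * a) z b, ← hzc b,
                ← mul_assoc (b * a)]
  obtain ⟨x, hx, hb⟩ := key 12 le_rfl
  refine ⟨x, hx, fun i j hi hj h => ?_⟩
  rcases edge_par i hi j hj h with ⟨h0, rfl⟩ | ⟨h0, rfl⟩
  · exact hb j h0 hj
  · exact (hb i h0 hi).symm

theorem exists_std (σ : Γ →* Fi24) (hs : Function.Surjective σ) (hc : σ.ker ≤ Subgroup.center Γ) :
    ∃ (x : ℕ → Γ) (c : Γ), Std σ x c ∧ (∀ g, g * c = c * g) := by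
  obtain ⟨x, hx, hb⟩ := exists_braided σ hs hc
  have hcen : ∀ {g : Γ}, σ g = 1 → ∀ h, h * g = g * h := fun hg => Subgroup.mem_center_iff.1
    (hc (MonoidHom.mem_ker.2 hg))
  have hsqc : ∀ i g, g * (x i * x i) = x i * x i * g := fun i =>
    hcen (by rw [map_mul, hx, gen_sq])
  have hu : ∀ i j, i < 12 → j < 12 → edgeX i j = false →
      ∃ u, (∀ g, g * u = u * g) ∧ x i * x j = u * (x j * x i) := fun i j hi hj h =>
    ⟨x i * x j * (x j * x i)⁻¹, hcen (by simp only [map_mul, map_inv, hx]; rw [gen_comm hi hj h]; group),
      by rw [inv_mul_cancel_right]⟩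
  have hsq : ∀ i < 12, x i * x i = x 0 * x 0 := by
    intro i
    induction i using Nat.strong_induction_on with
    | _ i ih =>
      intro hi
      by_cases h0 : i = 0
      · rw [h0]
      obtain ⟨hlt, he⟩ := par_lt i hi (Nat.pos_of_ne_zero h0)
      rw [← ih _ hlt (by omega)]
      have h := hb _ _ (by omega) hi he
      have hbc := hsqc i
      generalize x (parN i) = a at h ⊢
      generalize x i = b at h hbc ⊢
      have hc1 : a * b * (a * a) = b * b * (a * b) := by
        calc a * b * (a * a) = (a * b * a) * a := by simp only [mul_assoc]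
          _ = b * a * b * a := by rw [h]
          _ = b * (a * b * a) := by simp only [mul_assoc]
          _ = b * b * (a * b) := by rw [h]; simp only [mul_assoc]
      rw [← hbc] at hc1
      exact (mul_left_cancel hc1).symm
  have hzero : x 0 * x 2 = x 2 * x 0 := by
    obtain ⟨u, huc, hu02⟩ := hu 0 2 (by norm_num) (by norm_num) (by decide)
    have step : ∀ j k, j < 12 → k < 12 → edgeX 0 k = false → edgeX j k = true →
        x 0 * x j = u * (x j * x 0) → x 0 * x k = u * (x k * x 0) := by
      intro j k hj hk h0k hjk hju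
      obtain ⟨v, hvc, hv⟩ := hu 0 k (by norm_num) hk h0k
      rw [Fi22Mult.eq_of_chain huc hvc hju hv (hb j k hj hk hjk)]
      exact hv
    have hj : ∀ j ∈ sevenW, x 0 * x j = u * (x j * x 0) := by
      have h3 := step 2 3 (by norm_num) (by norm_num) (by decide) (by decide) hu02
      have h4 := step 3 4 (by norm_num) (by norm_num) (by decide) (by decide) h3
      have h5 := step 4 5 (by norm_num) (by norm_num) (by decide) (by decide) h4
      have h6 := step 5 6 (by norm_num) (by norm_num) (by decide) (by decide) h5
      have h7 := step 6 7 (by norm_num) (by norm_num) (by decide) (by decide) h6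
      have h10 := step 5 10 (by norm_num) (by norm_num) (by decide) (by decide) h5
      intro j hj
      simp only [sevenW, List.mem_cons, List.not_mem_nil, or_false] at hj
      rcases hj with rfl | rfl | rfl | rfl | rfl | rfl | rfl
      exacts [hu02, h3, h4, h5, h6, h7, h10]
    have hw : ∀ w : List ℕ, (∀ j ∈ w, j ∈ sevenW) → x 0 * val x w = u ^ w.length * (val x w * x 0) := by
      intro w
      induction w with
      | nil => simp [val]
      | cons j w ih =>
        intro hw
        have h1 := hj j (hw j List.mem_cons_self)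
        have h2 := ih fun k hk => hw k (List.mem_cons_of_mem _ hk)
        rw [val_cons, List.length_cons, pow_succ']
        calc x 0 * (x j * val x w) = u * (x j * (x 0 * val x w)) := by
              rw [← mul_assoc, h1]; simp only [mul_assoc]
          _ = u * (x j * u ^ w.length * (val x w * x 0)) := by rw [h2]; simp only [mul_assoc]
          _ = u * (u ^ w.length * x j * (val x w * x 0)) := by
              rw [(Commute.pow_right (show Commute (x j) u from huc (x j)) w.length).eq]
          _ = _ := by simp only [mul_assoc]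
    have hmem : ∀ j ∈ repW 9 sevenW, j ∈ sevenW := by decide
    have h63 := hw _ hmem
    have hcomm : x 0 * val x (repW 9 sevenW) = val x (repW 9 sevenW) * x 0 := by
      have hσ : σ ((x 0)⁻¹ * val x (repW 9 sevenW)) = 1 := by
        rw [map_mul, map_inv, val_map σ hx, val_repW, seven_eq, hx, inv_mul_cancel]
      have e := hcen hσ (x 0)
      rw [mul_inv_cancel_left, mul_assoc] at e
      conv_lhs => rw [e, mul_inv_cancel_left]
    rw [hcomm, show (repW 9 sevenW).length = 63 by decide, right_eq_mul] at h63
    have hu2 : u * u = 1 := by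
      have e := hsqc 0 (x 2)
      have e' : x 0 * x 0 * x 2 = u * u * (x 2 * (x 0 * x 0)) := by
        rw [mul_assoc (x 0), hu02, ← mul_assoc (x 0), huc (x 0), mul_assoc u, ← mul_assoc (x 0) (x 2), hu02]
        simp only [mul_assoc]
      rw [← e, right_eq_mul] at e'
      exact e'
    have hu1 : u = 1 := by
      have : (u * u) ^ 31 * u = u ^ 63 := by rw [← pow_two, ← pow_mul, ← pow_succ]
      rwa [h63, hu2, one_pow, one_mul] at this
    rw [hu02, hu1, one_mul]
  have hsat : ∀ n, ∀ p ∈ satN n, x p.1 * x p.2 = x p.2 * x p.1 := by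
    intro n
    induction n with
    | zero =>
      intro p hp
      simp only [satN, List.mem_singleton] at hp
      subst hp
      exact hzero
    | succ n ih =>
      intro p hp
      simp only [satN, satStep, List.mem_append, List.mem_flatMap, List.mem_filterMap, List.mem_range,
        Option.ite_none_right_eq_some, Option.some.injEq, Bool.and_eq_true, Bool.not_eq_true',
        List.any_eq_true, Bool.or_eq_true, Nat.beq_eq] at hp
      rcases hp with hp | ⟨i, hi, k, hk, ⟨⟨⟨hik, -⟩, j, hj, ⟨⟨hij, -⟩, hjk⟩, q, hq, hqe⟩, -⟩, rfl⟩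
      · exact ih p hp
      · have hcomm : x i * x j = 1 * (x j * x i) := by
          rw [one_mul]
          rcases hqe with ⟨e1, e2⟩ | ⟨e1, e2⟩
          · rw [← e1, ← e2]; exact ih q hq
          · rw [← e1, ← e2]; exact (ih q hq).symm
        obtain ⟨v, hvc, hv⟩ := hu i k hi hk hik
        have := Fi22Mult.eq_of_chain (fun g => by rw [mul_one, one_mul]) hvc hcomm hv (hb j k hj hk hjk)
        rw [← this, one_mul] at hv
        exact hv
  refine ⟨x, x 0 * x 0, ⟨hx, hb, fun i j hi hj hij => ?_, hsq⟩, hsqc 0⟩
  rcases eq_or_ne i j with rfl | hne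
  · rfl
  have h := List.all_eq_true.1 (List.all_eq_true.1 sat_all i (List.mem_range.2 hi)) j (List.mem_range.2 hj)
  simp only [Bool.or_eq_true, List.any_eq_true, Bool.and_eq_true, Nat.beq_eq, hij, Bool.false_eq_true,
    false_or] at h
  obtain ⟨q, hq, hqe⟩ := h.resolve_left hne
  rcases hqe with ⟨e1, e2⟩ | ⟨e1, e2⟩
  · rw [← e1, ← e2]; exact hsat 14 q hq
  · rw [← e1, ← e2]; exact (hsat 14 q hq).symm

end CfsgLib.KnownB.Fi24Mult
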