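import Cfsg.Agent.Lib.KnownB.Fi24Mult.Facts
import Cfsg.Agent.Lib.KnownB.Fi24Mult.Lifts

/-!
Braid moves on sequences of transpositions inside a central extension of `Fi₂₄`.
-/

set_option autoImplicit false
set_option maxRecDepth 100000

namespace CfsgLib.KnownB.Fi24Mult

open Cfsg.Spor

/-- partial evaluation of generators on numbers -/
def Eval (lk : ℕ → ℕ → Option ℕ) : Prop :=
  ∀ i x y, lk i x = some y → i < 12 ∧ ∀ v : Pt, (v : ℕ) = x → ((act24 (gen i) v : Pt) : ℕ) = y

/-- lookups in a list of tables -/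
noncomputable def lookTabs (T : List Tab) (i x : ℕ) : Option ℕ :=
  bif Nat.blt i 12 then (T.getD i (.leaf 0)).look x else none

/-- apply a word to a number -/
noncomputable def walk (lk : ℕ → ℕ → Option ℕ) (w : List ℕ) (v : ℕ) : Option ℕ :=
  match w with
  | [] => some v
  | i :: w => match walk lk w v with
    | none => none
    | some u => lk i u

theorem walk_spec {lk : ℕ → ℕ → Option ℕ} (hlk : Eval lk) : ∀ (w : List ℕ) {v u : ℕ},
    walk lk w v = some u → ∀ p : Pt, (p : ℕ) = v →
      (∀ i ∈ w, i < 12) ∧ ((act24 (val gen w) p : Pt) : ℕ) = u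
  | [], v, u, h, p, hp => by
    rw [walk, Option.some.injEq] at h
    exact ⟨by simp, by rw [val_nil, map_one, Equiv.Perm.one_apply, hp, h]⟩
  | i :: w, v, u, h, p, hp => by
    rw [walk] at h
    split at h
    · simp at h
    · next z hz =>
      obtain ⟨h1, h2⟩ := walk_spec hlk w hz p hp
      obtain ⟨hi, h3⟩ := hlk i z u h
      refine ⟨fun j hj => ?_, by rw [val_cons, map_mul, Equiv.Perm.mul_apply, h3 _ h2]⟩
      rcases List.mem_cons.1 hj with rfl | hj
      · exact hi
      · exact h1 j hj

/-- the image of `B` under the transposition at `A`, given a word leading to `A` -/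
noncomputable def transAt (lk : ℕ → ℕ → Option ℕ) (w : List ℕ) (j A B : ℕ) : Option ℕ :=
  match walk lk w (ptNum.getD j 0) with
  | none => none
  | some a => bif Nat.beq a A && Nat.blt j 12 then walk lk (w ++ j :: w.reverse) B else none

/-- one move at the head -/
noncomputable def moveHead (lk : ℕ → ℕ → Option ℕ) (k : ℕ) (w : List ℕ) (j : ℕ) (l : List ℕ) :
    Option (List ℕ) :=
  match k with
  | 0 => match l with
    | a :: b :: r => match transAt lk w j a b with
      | none => none
      | some u => some (u :: a :: r)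
    | _ => none
  | 1 => match l with
    | a :: b :: r => match transAt lk w j b a with
      | none => none
      | some u => some (b :: u :: r)
    | _ => none
  | 2 => match l with
    | a :: b :: r => bif Nat.beq a b then some r else none
    | _ => none
  | _ => bif Nat.blt j 12 then some (ptNum.getD j 0 :: ptNum.getD j 0 :: l) else none

/-- one move at a position -/
noncomputable def moveTo (lk : ℕ → ℕ → Option ℕ) (k : ℕ) (w : List ℕ) (j : ℕ) :
    ℕ → List ℕ → Option (List ℕ)
  | 0, l => moveHead lk k w j l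
  | _ + 1, [] => none
  | p + 1, a :: l => match moveTo lk k w j p l with
    | none => none
    | some l' => some (a :: l')

/-- a sequence of moves -/
noncomputable def runHur (lk : ℕ → ℕ → Option ℕ) :
    List (ℕ × ℕ × ℕ × List ℕ) → List ℕ → Option (List ℕ)
  | [], l => some l
  | (p, k, j, w) :: ms, l => match moveTo lk k w j p l with
    | none => none
    | some l' => runHur lk ms l'

/-- the moves lead to the empty sequence -/
noncomputable def hurEmpty (lk : ℕ → ℕ → Option ℕ) (ms : List (ℕ × ℕ × ℕ × List ℕ)) (gs : List ℕ) :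
    Bool :=
  match runHur lk ms (gs.map fun j => ptNum.getD j 0) with
  | some [] => gs.all fun j => Nat.blt j 12
  | _ => false

/-- the certificate of the numbers of the points of the generators -/
noncomputable def okPtNum (lk : ℕ → ℕ → Option ℕ) : Bool :=
  (List.range 11).all fun j =>
    match walk lk [parN (j + 1), j + 1] (ptNum.getD (parN (j + 1)) 0) with
    | some u => Nat.beq u (ptNum.getD (j + 1) 0)
    | none => false

theorem ptN_num {lk : ℕ → ℕ → Option ℕ} (hlk : Eval lk) (h : okPtNum lk = true) :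
    ∀ j < 12, ((ptN j : Pt) : ℕ) = ptNum.getD j 0 := by
  intro j
  induction j using Nat.strong_induction_on with
  | _ j ih =>
    intro hj
    rcases Nat.eq_zero_or_pos j with rfl | h0
    · simp [ptN, base, ptNum]
    obtain ⟨hp, -⟩ := par_lt j hj h0
    have hh := List.all_eq_true.1 h (j - 1) (List.mem_range.2 (by omega))
    rw [show j - 1 + 1 = j by omega] at hh
    split at hh
    · next u hu =>
      obtain ⟨-, e⟩ := walk_spec hlk _ hu (ptN (parN j)) (ih _ hp (by omega))
      rw [ptN_succ j hj h0, show gen (parN j) * gen j = val gen [parN j, j] by simp [val], e]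
      exact Nat.eq_of_beq_eq_true hh
    · exact Bool.noConfusion hh

section

variable {Y : Type*} [Group Y] {σ : Y →* Fi24} {x : ℕ → Y} {c : Y}

/-- the hypotheses -/
structure Central (σ : Y →* Fi24) (x : ℕ → Y) (c : Y) : Prop where
  surj : Function.Surjective σ
  cen : σ.ker ≤ Subgroup.center Y
  std : Std σ x c
  stab : StabH

theorem Central.comm_c (C : Central σ x c) (g : Y) : g * c = c * g :=
  Subgroup.mem_center_iff.1 (C.cen (by
    rw [MonoidHom.mem_ker, ← C.std.sq 0 (by norm_num), map_mul, C.std.map, gen_sq])) g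

theorem comm_zero (C : Central σ x c) {y : Y} (h : act24 (σ y) base = base) :
    y * x 0 = x 0 * y := by
  have hc : ∀ i < 12, i ≠ 1 → x i * x 0 = x 0 * x i := by
    intro i hi h1
    have g : ∀ i < 12, i ≠ 1 → edgeX i 0 = false := by decide
    exact C.std.comm i 0 hi (by norm_num) (g i hi h1)
  have hle : Subgroup.closure (gen '' {i | i < 12 ∧ i ≠ 1}) ≤
      (Subgroup.centralizer {x 0}).map σ := by
    rw [Subgroup.closure_le]
    rintro _ ⟨i, ⟨hi, h1⟩, rfl⟩
    exact ⟨x i, Subgroup.mem_centralizer_singleton_iff.2 (hc i hi h1), C.std.map i⟩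
  obtain ⟨z, hz, he⟩ := hle (mem_H_of _ (C.stab _ h))
  have hk : z⁻¹ * y ∈ Subgroup.center Y := C.cen (by
    rw [MonoidHom.mem_ker, map_mul, map_inv, he, inv_mul_cancel])
  have hz' : z * x 0 = x 0 * z := Subgroup.mem_centralizer_singleton_iff.1 hz
  calc y * x 0 = z * ((z⁻¹ * y) * x 0) := by group
    _ = z * x 0 * (z⁻¹ * y) := by rw [← Subgroup.mem_center_iff.1 hk (x 0), mul_assoc z (x 0)]
    _ = x 0 * z * (z⁻¹ * y) := by rw [hz']
    _ = x 0 * y := by group

theorem exists_over (C : Central σ x c) (v : Pt) : ∃ y, act24 (σ y) base = v := by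
  obtain ⟨q, hq⟩ := CfsgLib.Spor.Fi24.transitive v
  obtain ⟨y, rfl⟩ := C.surj q
  exact ⟨y, hq⟩

/-- the lift of the transposition at a point -/
noncomputable def sec (σ : Y →* Fi24) (x : ℕ → Y) (v : Pt) : Y :=
  Classical.epsilon fun t => ∃ y, act24 (σ y) base = v ∧ t = y * x 0 * y⁻¹

theorem sec_eq (C : Central σ x c) {y : Y} {v : Pt} (h : act24 (σ y) base = v) :
    sec σ x v = y * x 0 * y⁻¹ := by
  obtain ⟨z, hz, he⟩ := Classical.epsilon_spec
    (p := fun t => ∃ y, act24 (σ y) base = v ∧ t = y * x 0 * y⁻¹) ⟨_, y, h, rfl⟩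
  rw [sec, he]
  have hb : act24 (σ (y⁻¹ * z)) base = base := by
    rw [map_mul, map_inv, map_mul, map_inv, Equiv.Perm.mul_apply, hz, Equiv.Perm.inv_eq_iff_eq, h]
  have := comm_zero C hb
  calc z * x 0 * z⁻¹ = y * (y⁻¹ * z * x 0) * z⁻¹ := by group
    _ = y * x 0 * y⁻¹ := by rw [this]; group

theorem sec_act (C : Central σ x c) (g : Y) (v : Pt) :
    sec σ x (act24 (σ g) v) = g * sec σ x v * g⁻¹ := by
  obtain ⟨y, hy⟩ := exists_over C v
  rw [sec_eq C hy, sec_eq C (y := g * y) (by rw [map_mul, map_mul, Equiv.Perm.mul_apply, hy])]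
  group

theorem sec_sq (C : Central σ x c) (v : Pt) : sec σ x v * sec σ x v = c := by
  obtain ⟨y, hy⟩ := exists_over C v
  rw [sec_eq C hy]
  calc y * x 0 * y⁻¹ * (y * x 0 * y⁻¹) = y * (x 0 * x 0) * y⁻¹ := by group
    _ = c := by rw [C.std.sq 0 (by norm_num), C.comm_c, mul_inv_cancel_right]

theorem sec_ptN (C : Central σ x c) : ∀ j < 12, sec σ x (ptN j) = x j := by
  intro j
  induction j using Nat.strong_induction_on with
  | _ j ih =>
    intro hj
    rcases Nat.eq_zero_or_pos j with rfl | h0
    · rw [show ptN 0 = base by simp [ptN], sec_eq C (y := 1) (by simp)]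
      group
    obtain ⟨hp, he⟩ := par_lt j hj h0
    rw [ptN_succ j hj h0, show gen (parN j) * gen j = σ (x (parN j) * x j) by
      rw [map_mul, C.std.map, C.std.map], sec_act C, ih _ hp (by omega)]
    have hb := C.std.braid _ _ (show parN j < 12 by omega) hj he
    calc x (parN j) * x j * x (parN j) * (x (parN j) * x j)⁻¹
        = x j * x (parN j) * x j * (x (parN j) * x j)⁻¹ := by rw [hb]
      _ = x j := by group

theorem sec_word (C : Central σ x c) (w : List ℕ) {j : ℕ} (hj : j < 12) {A : Pt}
    (hA : act24 (val gen w) (ptN j) = A) :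
    sec σ x A = val x w * x j * (val x w)⁻¹ := by
  rw [← hA, ← val_map σ C.std.map, sec_act C, sec_ptN C j hj]

theorem val_reverse : ∀ w : List ℕ, val gen w.reverse = (val gen w)⁻¹
  | [] => by simp [val]
  | i :: w => by
    rw [List.reverse_cons, val_append, val_reverse w, val_cons gen i w, mul_inv_rev, gen_inv]
    simp [val]

theorem sec_transAt (C : Central σ x c) {lk : ℕ → ℕ → Option ℕ} (hlk : Eval lk)
    (hpt : ∀ j < 12, ((ptN j : Pt) : ℕ) = ptNum.getD j 0) {w : List ℕ} {j : ℕ} {A B : Pt} {u : ℕ}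
    (h : transAt lk w j A B = some u) :
    ∃ U : Pt, (U : ℕ) = u ∧ sec σ x U = sec σ x A * sec σ x B * (sec σ x A)⁻¹ := by
  rw [transAt] at h
  split at h
  · simp at h
  next a ha =>
  cases hcd : Nat.beq a (A : ℕ) && Nat.blt j 12
  · rw [hcd, cond_false] at h; simp at h
  rw [hcd, cond_true] at h
  simp only [Bool.and_eq_true, Nat.beq_eq, Nat.blt_eq] at hcd
  obtain ⟨-, h1⟩ := walk_spec hlk w ha (ptN j) (hpt j hcd.2)
  obtain ⟨-, h2⟩ := walk_spec hlk _ h B rfl
  have hA : act24 (val gen w) (ptN j) = A := Fin.ext (h1.trans hcd.1)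
  refine ⟨act24 (val gen (w ++ j :: w.reverse)) B, h2, ?_⟩
  have e : val gen (w ++ j :: w.reverse) = σ (sec σ x A) := by
    rw [sec_word C w hcd.2 hA, map_mul, map_mul, map_inv, val_map σ C.std.map, C.std.map, val_append,
      val_cons, val_reverse, mul_assoc]
  rw [e, sec_act C]

/-- the element of a sequence of numbers -/
noncomputable def secVal (σ : Y →* Fi24) (x : ℕ → Y) (l : List Pt) : Y := (l.map (sec σ x)).prod

theorem moveHead_spec (C : Central σ x c) {lk : ℕ → ℕ → Option ℕ} (hlk : Eval lk)
    (hpt : ∀ j < 12, ((ptN j : Pt) : ℕ) = ptNum.getD j 0) {k j : ℕ} {w : List ℕ} {l : List Pt}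
    {m : List ℕ} (h : moveHead lk k w j (l.map (↑)) = some m) :
    ∃ l' : List Pt, l'.map (↑) = m ∧
      (secVal σ x l)⁻¹ * secVal σ x l' ∈ Subgroup.zpowers c := by
  rcases k with _ | _ | _ | k
  · rcases l with _ | ⟨a, _ | ⟨b, r⟩⟩
    · simp [moveHead] at h
    · simp [moveHead] at h
    simp only [moveHead, List.map_cons] at h
    split at h
    · simp at h
    next u hu =>
    obtain ⟨U, hU, e⟩ := sec_transAt C hlk hpt hu
    refine ⟨U :: a :: r, by rw [← Option.some.inj h, List.map_cons, List.map_cons, hU], ?_⟩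
    simp only [secVal, List.map_cons, List.prod_cons, e]
    convert Subgroup.one_mem _ using 1
    group
  · rcases l with _ | ⟨a, _ | ⟨b, r⟩⟩
    · simp [moveHead] at h
    · simp [moveHead] at h
    simp only [moveHead, List.map_cons] at h
    split at h
    · simp at h
    next u hu =>
    obtain ⟨U, hU, e⟩ := sec_transAt C hlk hpt hu
    refine ⟨b :: U :: r, by rw [← Option.some.inj h, List.map_cons, List.map_cons, hU], ?_⟩
    have key : sec σ x b * sec σ x U = sec σ x a * sec σ x b := by
      rw [e, ← mul_assoc, ← mul_assoc, sec_sq C, ← C.comm_c (sec σ x a)]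
      rw [show c = sec σ x b * sec σ x b from (sec_sq C b).symm]
      group
    simp only [secVal, List.map_cons, List.prod_cons]
    convert Subgroup.one_mem _ using 1
    rw [← mul_assoc (sec σ x b), key]
    group
  · rcases l with _ | ⟨a, _ | ⟨b, r⟩⟩
    · simp [moveHead] at h
    · simp [moveHead] at h
    simp only [moveHead, List.map_cons] at h
    cases hab : Nat.beq (a : ℕ) (b : ℕ)
    · rw [hab, cond_false] at h; simp at h
    rw [hab, cond_true] at h
    have hab' : a = b := Fin.ext (Nat.eq_of_beq_eq_true hab)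
    subst hab'
    refine ⟨r, Option.some.inj h, ?_⟩
    simp only [secVal, List.map_cons, List.prod_cons, ← mul_assoc, sec_sq C]
    convert Subgroup.inv_mem _ (Subgroup.mem_zpowers c) using 1
    rw [mul_inv_rev, mul_assoc]
    have hc : Commute (r.map (sec σ x)).prod c := C.comm_c _
    rw [(hc.inv_right.symm).eq, inv_mul_cancel_left]
  · rw [moveHead] at h
    · cases hj : Nat.blt j 12
      · rw [hj, cond_false] at h; simp at h
      rw [hj, cond_true] at h
      refine ⟨ptN j :: ptN j :: l, by
        rw [← Option.some.inj h, List.map_cons, List.map_cons, hpt j (Nat.blt_eq.mp hj)], ?_⟩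
      simp only [secVal, List.map_cons, List.prod_cons, ← mul_assoc (sec σ x (ptN j)), sec_sq C]
      convert Subgroup.mem_zpowers c using 1
      rw [← C.comm_c, inv_mul_cancel_left]
    all_goals omega

theorem moveTo_spec (C : Central σ x c) {lk : ℕ → ℕ → Option ℕ} (hlk : Eval lk)
    (hpt : ∀ j < 12, ((ptN j : Pt) : ℕ) = ptNum.getD j 0) {k j : ℕ} {w : List ℕ} :
    ∀ (p : ℕ) {l : List Pt} {m : List ℕ}, moveTo lk k w j p (l.map (↑)) = some m →
      ∃ l' : List Pt, l'.map (↑) = m ∧
        (secVal σ x l)⁻¹ * secVal σ x l' ∈ Subgroup.zpowers c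
  | 0, l, m, h => moveHead_spec C hlk hpt h
  | p + 1, [], m, h => by simp [moveTo] at h
  | p + 1, a :: l, m, h => by
    simp only [moveTo, List.map_cons] at h
    split at h
    · simp at h
    next m' hm =>
    obtain ⟨l', hl, hz⟩ := moveTo_spec C hlk hpt p hm
    refine ⟨a :: l', by rw [← Option.some.inj h, List.map_cons, hl], ?_⟩
    simp only [secVal, List.map_cons, List.prod_cons] at hz ⊢
    convert hz using 1
    group

theorem runHur_spec (C : Central σ x c) {lk : ℕ → ℕ → Option ℕ} (hlk : Eval lk)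
    (hpt : ∀ j < 12, ((ptN j : Pt) : ℕ) = ptNum.getD j 0) :
    ∀ (ms : List (ℕ × ℕ × ℕ × List ℕ)) {l : List Pt} {m : List ℕ},
      runHur lk ms (l.map (↑)) = some m →
      ∃ l' : List Pt, l'.map (↑) = m ∧
        (secVal σ x l)⁻¹ * secVal σ x l' ∈ Subgroup.zpowers c
  | [], l, m, h => by
    rw [runHur, Option.some.injEq] at h
    exact ⟨l, h, by rw [inv_mul_cancel]; exact one_mem _⟩
  | (p, k, j, w) :: ms, l, m, h => by
    rw [runHur] at h
    split at h
    · simp at h
    next m' hm =>
    obtain ⟨l₁, h₁, hz₁⟩ := moveTo_spec C hlk hpt p hm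
    subst h₁
    obtain ⟨l₂, h₂, hz₂⟩ := runHur_spec C hlk hpt ms h
    refine ⟨l₂, h₂, ?_⟩
    convert Subgroup.mul_mem _ hz₁ hz₂ using 1
    group

theorem hurEmpty_spec (C : Central σ x c) {lk : ℕ → ℕ → Option ℕ} (hlk : Eval lk)
    (hp : okPtNum lk = true) {ms : List (ℕ × ℕ × ℕ × List ℕ)} {gs : List ℕ}
    (h : hurEmpty lk ms gs = true) : val x gs ∈ Subgroup.zpowers c := by
  have hpt := ptN_num hlk hp
  rw [hurEmpty] at h
  split at h
  · next hr =>
    have hgs : ∀ j ∈ gs, j < 12 := fun j hj => Nat.blt_eq.mp (List.all_eq_true.1 h j hj)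
    have e : (gs.map fun j => ptNum.getD j 0) = (gs.map ptN).map (↑) := by
      rw [List.map_map]
      exact List.map_congr_left fun j hj => (hpt j (hgs j hj)).symm
    rw [e] at hr
    obtain ⟨l', hl, hz⟩ := runHur_spec C hlk hpt ms hr
    rw [List.map_eq_nil_iff] at hl
    subst hl
    have ev : secVal σ x (gs.map ptN) = val x gs := by
      rw [secVal, val, List.map_map]
      exact congrArg List.prod (List.map_congr_left fun j hj => sec_ptN C j (hgs j hj))
    rw [ev] at hz
    simp only [secVal, List.map_nil, List.prod_nil, mul_one] at hz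
    exact (Subgroup.inv_mem_iff _).1 hz
  · exact Bool.noConfusion h

end

end CfsgLib.KnownB.Fi24Mult
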