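import Cfsg.Agent.Lib.KnownB.Fi24Mult.TabData
import Cfsg.Agent.Lib.BitPerm.Orbit

/-! Orbits of the generators away from the arm of `l`. -/

set_option Elab.async false

namespace CfsgLib.KnownB.Fi24Mult

open CfsgLib.BitPerm

/-- points fixed by one of the generators `b, …, i` -/
def seedList : List (ℕ × ℕ) :=
  [(0, 3), (1, 4), (3, 3), (31672, 3), (31673, 3), (31674, 4), (31675, 4), (31698, 4)]

/-- steps from the fixed points -/
def opsOne : List ℕ := [3, 4, 5, 6, 10, 11, 7, 8, 9, 5, 4, 6, 10, 5, 7, 3, 6, 8, 4, 10, 11, 7, 5, 3,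
  10, 6, 4, 8, 5, 7, 11, 9, 3, 4, 6, 10, 3, 5, 7, 8, 9, 11, 4, 10, 6, 3, 7, 5, 6, 4, 8, 9]

/-- steps in the remaining orbit -/
def opsTwo : List ℕ := [3, 4, 5, 6, 7, 8, 9, 10, 11, 5, 6, 4, 3, 5, 8]

/-- the set of the seeds -/
noncomputable def seedBits : ℕ :=
  seedList.foldr (fun p B => Nat.lor (Nat.shiftLeft 1 p.1) B) 0

/-- the seeds are fixed -/
noncomputable def okSeeds : Bool :=
  seedList.all fun p => match lookTabs tabsAll p.2 p.1 with
    | some u => Nat.beq u p.1 && Nat.ble 3 p.2
    | none => false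

/-- the images of the exceptional point -/
noncomputable def okRule : Bool :=
  match lookTabs tabsAll 2 857, lookTabs tabsAll 1 857 with
  | some p, some q => match lookTabs tabsAll 2 q with
    | some r => Nat.beq p 856 && Nat.beq r 856
    | none => false
  | _, _ => false

/-- the two orbit sets cover everything -/
noncomputable def okCover : Bool :=
  force (CfsgLib.Spor.Fi24.sys.grow opsOne seedBits) fun S =>
    Nat.testBit S 856 &&
      Nat.beq (Nat.lor S (CfsgLib.Spor.Fi24.sys.grow opsTwo (Nat.shiftLeft 1 857)))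
        (Nat.sub (Nat.shiftLeft 1 306936) (Nat.shiftLeft 1 0))

theorem seeds_ok : okSeeds = true := by decide +kernel

theorem rule_ok : okRule = true := by decide +kernel

theorem cover_ok : okCover = true := by decide +kernel

end CfsgLib.KnownB.Fi24Mult
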