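import Cfsg.Agent.Lib.KnownB.Fi24Mult.TabEval
import Cfsg.Agent.Lib.KnownB.Fi24Mult.InvChk

/-! An induction over the points along the generators away from the arm of `l`. -/

set_option autoImplicit false

namespace CfsgLib.KnownB.Fi24Mult

open CfsgLib.BitPerm

theorem testBit_foldr : ∀ (l : List (ℕ × ℕ)) (i : ℕ),
    (l.foldr (fun p B => Nat.lor (Nat.shiftLeft 1 p.1) B) 0).testBit i = true → ∃ p ∈ l, p.1 = i
  | [], i, h => by simp at h
  | q :: l, i, h => by
    rw [List.foldr_cons] at h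
    change ((1 <<< q.1) ||| _).testBit i = true at h
    rw [Nat.testBit_or, Bool.or_eq_true, Nat.one_shiftLeft, Nat.testBit_two_pow] at h
    rcases h with h | h
    · exact ⟨q, List.mem_cons_self, of_decide_eq_true h⟩
    · obtain ⟨p, hp, e⟩ := testBit_foldr l i h
      exact ⟨p, List.mem_cons_of_mem _ hp, e⟩

theorem pull_ptW {P : Pt → Prop} (h : ∀ j, 3 ≤ j → j < 12 → ∀ v, P v → P (act24 (gen j) v)) :
    ∀ (w : List ℕ), (∀ j ∈ w, 3 ≤ j ∧ j < 12) → ∀ v u : Pt,
      CfsgLib.Spor.Fi24.sys.ptW w v = u → P u → P v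
  | [], _, v, u, e, hu => by rwa [Fin.ext (show (v : ℕ) = u from e)]
  | j :: w, hw, v, u, e, hu => by
    obtain ⟨h3, hj⟩ := hw j List.mem_cons_self
    rw [Sys.ptW, ← act_gen hj] at e
    have := h j h3 hj _ (pull_ptW h w (fun k hk => hw k (List.mem_cons_of_mem _ hk)) _ u e hu)
    rwa [← Equiv.Perm.mul_apply, ← map_mul, gen_sq, map_one, Equiv.Perm.one_apply] at this

theorem inv_induct (P : Pt → Prop)
    (hfix : ∀ j, 3 ≤ j → j < 12 → ∀ v, act24 (gen j) v = v → P v)
    (hgen : ∀ j, 3 ≤ j → j < 12 → ∀ v, P v → P (act24 (gen j) v))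
    (hrule : ∀ v, P (act24 (gen 2) v) → P (act24 (gen 2) (act24 (gen 1) v)) → P v) :
    ∀ v, P v := by
  intro v
  have hc := cover_ok
  rw [okCover, force_eq, Bool.and_eq_true] at hc
  obtain ⟨hS, hcov⟩ := hc
  have hops1 : ∀ j ∈ opsOne, 3 ≤ j ∧ j < 12 := by decide
  have hops2 : ∀ j ∈ opsTwo, 3 ≤ j ∧ j < 12 := by decide
  have hone : ∀ u : Pt,
      (CfsgLib.Spor.Fi24.sys.grow opsOne seedBits).testBit u = true → P u := by
    intro u hu
    obtain ⟨w, hw, hb⟩ := Sys.testBit_grow CfsgLib.Spor.Fi24.okNets _ _ _ hu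
    obtain ⟨p, hp, e⟩ := testBit_foldr _ _ hb
    have hs := List.all_eq_true.1 seeds_ok p hp
    split at hs
    · next q hq =>
      rw [Bool.and_eq_true] at hs
      obtain ⟨hp2, hfx⟩ := eval_tabs _ _ _ hq
      have hlt : p.1 < 306936 := by
        have : ∀ p ∈ seedList, p.1 < 306936 := by decide
        exact this p hp
      refine pull_ptW hgen w (fun j hj => hops1 j (hw j hj)) u ⟨p.1, hlt⟩ e.symm ?_
      refine hfix p.2 (Nat.le_of_ble_eq_true hs.2) hp2 _ (Fin.ext ?_)
      rw [hfx _ rfl, Nat.eq_of_beq_eq_true hs.1]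
    · exact Bool.noConfusion hs
  have hex : P ⟨857, by norm_num⟩ := by
    have hr := rule_ok
    rw [okRule] at hr
    split at hr
    · next p q hp hq =>
      split at hr
      · next r hrq =>
        rw [Bool.and_eq_true] at hr
        have e1 := (eval_tabs _ _ _ hp).2 (⟨857, by norm_num⟩ : Pt) rfl
        have e2 := (eval_tabs _ _ _ hrq).2 _ ((eval_tabs _ _ _ hq).2 (⟨857, by norm_num⟩ : Pt) rfl)
        rw [Nat.eq_of_beq_eq_true hr.1] at e1
        rw [Nat.eq_of_beq_eq_true hr.2] at e2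
        exact hrule _ (hone _ (by rw [e1]; exact hS)) (hone _ (by rw [e2]; exact hS))
      · exact Bool.noConfusion hr
    · exact Bool.noConfusion hr
  have h := congrArg (fun B => Nat.testBit B v) (Nat.eq_of_beq_eq_true hcov)
  simp only [Sys.testBit_interval (Nat.zero_le _)] at h
  rw [decide_eq_true (show 0 ≤ (v : ℕ) ∧ (v : ℕ) < 306936 from ⟨Nat.zero_le _, v.2⟩)] at h
  change ((CfsgLib.Spor.Fi24.sys.grow opsOne seedBits) |||
    (CfsgLib.Spor.Fi24.sys.grow opsTwo (Nat.shiftLeft 1 857))).testBit v = true at h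
  rw [Nat.testBit_or, Bool.or_eq_true] at h
  rcases h with h | h
  · exact hone v h
  · obtain ⟨w, hw, hb⟩ := Sys.testBit_grow CfsgLib.Spor.Fi24.okNets _ _ _ h
    change (1 <<< 857).testBit _ = true at hb
    rw [Nat.one_shiftLeft, Nat.testBit_two_pow] at hb
    exact pull_ptW hgen w (fun j hj => hops2 j (hw j hj)) v ⟨857, by norm_num⟩
      (of_decide_eq_true hb).symm hex

end CfsgLib.KnownB.Fi24Mult
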