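import Cfsg.Agent.Lib.KnownB.Fi24Mult.Twisted
import Cfsg.Agent.Lib.KnownB.Fi24Mult.InvInduct
import Cfsg.Agent.Lib.KnownB.Fi24Mult.Hurwitz
import Cfsg.Agent.Lib.KnownB.Fi24Mult.HurSeven

/-!
In an extension by an abelian group of odd order inverted by the lifts of the generators the
relation of the arms holds up to an element of order dividing three.
-/

set_option autoImplicit false
set_option maxRecDepth 100000

namespace CfsgLib.KnownB.Fi24Mult

open Cfsg.Spor

/-- the transposition at a point -/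
noncomputable def tr (v : Pt) : Fi24 :=
  Classical.epsilon fun t => ∃ g, act24 g base = v ∧ t = g * gen 0 * g⁻¹

theorem tr_eq (hH : StabH) {g : Fi24} {v : Pt} (h : act24 g base = v) :
    tr v = g * gen 0 * g⁻¹ := by
  obtain ⟨g', hg', he⟩ := Classical.epsilon_spec
    (p := fun t => ∃ g, act24 g base = v ∧ t = g * gen 0 * g⁻¹) ⟨_, g, h, rfl⟩
  rw [tr, he]
  have hb : act24 (g⁻¹ * g') base = base := by
    rw [map_mul, map_inv, Equiv.Perm.mul_apply, hg', Equiv.Perm.inv_eq_iff_eq, h]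
  have hle : Subgroup.closure (gen '' {i | i < 12 ∧ i ≠ 1}) ≤ Subgroup.centralizer {gen 0} := by
    rw [Subgroup.closure_le]
    rintro _ ⟨i, ⟨hi, h1⟩, rfl⟩
    have g : ∀ i < 12, i ≠ 1 → edgeX i 0 = false := by decide
    exact Subgroup.mem_centralizer_singleton_iff.2 (gen_comm hi (by norm_num) (g i hi h1))
  have hc := Subgroup.mem_centralizer_singleton_iff.1 (hle (mem_H_of _ (hH _ hb)))
  calc g' * gen 0 * g'⁻¹ = g * (g⁻¹ * g' * gen 0) * g'⁻¹ := by group
    _ = g * gen 0 * g⁻¹ := by rw [hc]; group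

theorem tr_act (hH : StabH) (g : Fi24) (v : Pt) : tr (act24 g v) = g * tr v * g⁻¹ := by
  obtain ⟨h, hh⟩ := CfsgLib.Spor.Fi24.transitive v
  rw [tr_eq hH hh, tr_eq hH (g := g * h) (by
    rw [map_mul, Equiv.Perm.mul_apply]; exact congrArg _ hh)]
  group

theorem tr_ptN (hH : StabH) : ∀ j < 12, tr (ptN j) = gen j := by
  intro j
  induction j using Nat.strong_induction_on with
  | _ j ih =>
    intro hj
    rcases Nat.eq_zero_or_pos j with rfl | h0
    · rw [show ptN 0 = base by simp [ptN], tr_eq hH (g := 1) (by simp)]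
      group
    obtain ⟨hp, he⟩ := par_lt j hj h0
    rw [ptN_succ j hj h0, tr_act hH, ih _ hp (by omega)]
    exact (conj_par hj h0).symm

/-- an induction over the points along the stabiliser of the base point -/
theorem stab_induct (P : Pt → Prop) (hgen : ∀ i < 12, i ≠ 1 → ∀ v, P v → P (act24 (gen i) v))
    (h0 : P base) (h2 : P (ptN 2)) (h1 : P (ptN 1)) : ∀ v, P v := by
  have pull : ∀ (w : List ℕ), (∀ i ∈ w, i < 12 ∧ i ≠ 1) → ∀ v u : Pt,
      CfsgLib.Spor.Fi24.sys.ptW w v = u → (P u → P v) ∧ (P v → P u) := by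
    intro w
    induction w with
    | nil => intro _ v u e; rw [Fin.ext (show (v : ℕ) = u from e)]; exact ⟨id, id⟩
    | cons i w ih =>
      intro hw v u e
      obtain ⟨hi, hi1⟩ := hw i List.mem_cons_self
      rw [CfsgLib.BitPerm.Sys.ptW, ← act_gen hi] at e
      obtain ⟨a, b⟩ := ih (fun k hk => hw k (List.mem_cons_of_mem _ hk)) _ u e
      refine ⟨fun hu => ?_, fun hv => b (hgen i hi hi1 v hv)⟩
      have := hgen i hi hi1 _ (a hu)
      rwa [← Equiv.Perm.mul_apply, ← map_mul, gen_sq, map_one, Equiv.Perm.one_apply] at this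
  have hA : ∀ i ∈ CfsgLib.Spor.Fi24.opsA, i < 12 ∧ i ≠ 1 := by decide
  have hB : ∀ i ∈ CfsgLib.Spor.Fi24.opsB, i < 12 ∧ i ≠ 1 := by decide
  have e2 : ((ptN 2 : Pt) : ℕ) = 1 := ptN_num eval_tabs ptNum_ok 2 (by norm_num)
  have e1 : ((ptN 1 : Pt) : ℕ) = 31673 := ptN_num eval_tabs ptNum_ok 1 (by norm_num)
  intro v
  rcases Nat.lt_or_ge (v : ℕ) 1 with hv | hv
  · rwa [show v = base from Fin.ext (show (v : ℕ) = 0 by omega)]
  rcases Nat.lt_or_ge (v : ℕ) 31672 with hv' | hv'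
  · obtain ⟨w, hw, e⟩ := CfsgLib.BitPerm.Sys.orbit_reach CfsgLib.Spor.Fi24.okNets (by norm_num)
      CfsgLib.Spor.Fi24.opsA_ok hv hv'
    exact (pull w (fun i hi => hA i (hw i hi)) v (ptN 2) (e.trans e2.symm)).1 h2
  · obtain ⟨w, hw, e⟩ := CfsgLib.BitPerm.Sys.orbit_reach CfsgLib.Spor.Fi24.okNets (by norm_num)
      CfsgLib.Spor.Fi24.opsB_ok hv' v.2
    obtain ⟨w', hw', e'⟩ := CfsgLib.BitPerm.Sys.orbit_reach CfsgLib.Spor.Fi24.okNets (by norm_num)
      CfsgLib.Spor.Fi24.opsB_ok (i := ((ptN 1 : Pt) : ℕ)) (by rw [e1]; norm_num) (ptN 1).2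
    have hB' : P ⟨31672, by norm_num⟩ :=
      (pull w' (fun i hi => hB i (hw' i hi)) (ptN 1) ⟨31672, by norm_num⟩ e').2 h1
    exact (pull w (fun i hi => hB i (hw i hi)) v ⟨31672, by norm_num⟩ e).1 hB'

theorem six_eq (hH : StabH) : ∀ v, (gen 0 * tr v) ^ 6 = 1 := by
  refine stab_induct _ (fun i hi h1 v hv => ?_) ?_ ?_ ?_
  · have g : ∀ i < 12, i ≠ 1 → edgeX i 0 = false := by decide
    have hc := gen_comm hi (by norm_num : 0 < 12) (g i hi h1)
    have e : gen 0 * tr (act24 (gen i) v) = gen i * (gen 0 * tr v) * (gen i)⁻¹ := by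
      rw [tr_act hH, ← mul_assoc, ← mul_assoc, ← hc, ← mul_assoc]
    rw [e, conj_pow, hv]
    group
  · rw [show base = ptN 0 by simp [ptN], tr_ptN hH 0 (by norm_num), gen_sq, one_pow]
  · rw [tr_ptN hH 2 (by norm_num)]
    have hc := gen_comm (by norm_num : 0 < 12) (by norm_num : 2 < 12) (by decide)
    rw [show (6 : ℕ) = 2 * 3 from rfl, pow_mul, pow_two]
    rw [show gen 0 * gen 2 * (gen 0 * gen 2) = gen 0 * (gen 2 * gen 0) * gen 2 by simp only [mul_assoc],
      ← hc, ← mul_assoc, gen_sq, one_mul, gen_sq, one_pow]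
  · rw [tr_ptN hH 1 (by norm_num), show (6 : ℕ) = 3 * 2 from rfl, pow_mul,
      gen_pow_three (by norm_num) (by norm_num) (by decide), one_pow]

variable {X : Type*} [Group X] [Finite X] {σ : X →* Fi24}

theorem ker_comm (T : Twist σ) {m n : X} (hm : σ m = 1) (hn : σ n = 1) : m * n = n * m := by
  obtain ⟨y, hy⟩ := T.surj (gen 0)
  have h1 := T.inv (m * n) (by rw [MonoidHom.mem_ker, map_mul, hm, hn, one_mul]) 0 y hy
  have e : y * (m * n) * y⁻¹ = (y * m * y⁻¹) * (y * n * y⁻¹) := by group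
  rw [e, T.inv m hm 0 y hy, T.inv n hn 0 y hy, ← mul_inv_rev, inv_inj] at h1
  exact h1.symm

theorem inv_tr (hH : StabH) (T : Twist σ) {b : X} {u : Pt} (hb : σ b = tr u) {m : X}
    (hm : σ m = 1) : b * m * b⁻¹ = m⁻¹ := by
  obtain ⟨g, hg⟩ := CfsgLib.Spor.Fi24.transitive u
  obtain ⟨G, rfl⟩ := T.surj g
  obtain ⟨y, hy⟩ := T.surj (gen 0)
  rw [tr_eq hH hg] at hb
  have hn : σ ((G * y * G⁻¹)⁻¹ * b) = 1 := by
    rw [map_mul, map_inv, map_mul, map_mul, map_inv, hy, hb, inv_mul_cancel]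
  have hnm := ker_comm T hn hm
  have hGm : σ (G⁻¹ * m * G) = 1 := by
    rw [map_mul, map_mul, map_inv, hm, mul_one, inv_mul_cancel]
  have h := T.inv _ hGm 0 y hy
  calc b * m * b⁻¹ = G * y * G⁻¹ * ((G * y * G⁻¹)⁻¹ * b * m) * b⁻¹ := by group
    _ = G * (y * (G⁻¹ * m * G) * y⁻¹) * G⁻¹ := by rw [hnm]; group
    _ = m⁻¹ := by rw [h]; group

theorem eq_one_of_tr_commute (hH : StabH) (T : Twist σ) {b : X} {u : Pt} (hb : σ b = tr u) {m : X}
    (hm : σ m = 1) (h : b * m = m * b) : m = 1 :=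
  eq_one_of_eq_inv T hm (by
    have e := inv_tr hH T hb hm
    rwa [h, mul_inv_cancel_right] at e)

theorem exists_tr_commuting (hH : StabH) (T : Twist σ) {b y : X} {u v : Pt} (hb : σ b = tr u)
    (hy : σ y = tr v) (h : tr u * tr v = tr v * tr u) :
    ∃ n, σ n = 1 ∧ b * (y * n) = y * n * b := by
  obtain ⟨r, hr⟩ := T.odd
  have hk : σ (y⁻¹ * (b * y * b⁻¹)) = 1 := by
    rw [map_mul, map_mul, map_mul, map_inv, map_inv, hb, hy, h]; group
  have hko : (y⁻¹ * (b * y * b⁻¹)) ^ (2 * r + 1) = 1 := by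
    have h1 : (⟨_, hk⟩ : σ.ker) ^ Nat.card σ.ker = 1 := pow_card_eq_one'
    rw [hr] at h1
    exact congrArg Subtype.val h1
  generalize hkd : y⁻¹ * (b * y * b⁻¹) = k at hk hko
  have hn : σ (k ^ (r + 1)) = 1 := by rw [map_pow, hk, one_pow]
  refine ⟨_, hn, ?_⟩
  have hi := inv_tr hH T hb hn
  have hbk : b * y * b⁻¹ = y * k := by rw [← hkd]; group
  calc b * (y * k ^ (r + 1)) = (b * y * b⁻¹) * (b * k ^ (r + 1) * b⁻¹) * b := by group
    _ = y * (k * (k ^ (r + 1))⁻¹) * b := by rw [hi, hbk]; simp only [mul_assoc]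
    _ = y * k ^ (r + 1) * b := by
      have e : k ^ (r + 1) * k ^ (r + 1) = k := by
        rw [← pow_add, show r + 1 + (r + 1) = 2 * r + 1 + 1 by omega, pow_succ, hko, one_mul]
      congr 2
      rw [mul_inv_eq_iff_eq_mul, e]

/-- a lift commuting with a lift of a transposition which commutes with the lift of `l` -/
def WNice (σ : X →* Fi24) (x : ℕ → X) (y : X) : Prop :=
  ∃ (b : X) (u : Pt), σ b = tr u ∧ b * x 0 = x 0 * b ∧ b * y = y * b

theorem cube_eq (hH : StabH) (T : Twist σ) {x : ℕ → X} (N : Norm σ x) {v : Pt} {y y' : X}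
    (hy : σ y = tr v) (hy' : σ y' = tr v) (h : WNice σ x y) (h' : WNice σ x y') :
    (y⁻¹ * y') ^ 3 = 1 := by
  have hn : σ (y⁻¹ * y') = 1 := by rw [map_mul, map_inv, hy, hy', inv_mul_cancel]
  have hz : ∀ t : X, σ t = tr v → WNice σ x t → (x 0 * t) ^ 6 = 1 := by
    rintro t ht ⟨b, u, hb, h1, h2⟩
    refine eq_one_of_tr_commute hH T hb (by rw [map_pow, map_mul, N.map, ht, six_eq hH]) ?_
    exact ((Commute.mul_right h1 h2).pow_right 6).eq
  have h0 : tr (ptN 0) = gen 0 := tr_ptN hH 0 (by norm_num)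
  have hcomm : Commute (x 0 * y) (y⁻¹ * y') := by
    have e1 := inv_tr hH T hy hn
    have e2 := inv_tr hH T (b := x 0) (u := ptN 0) (by rw [N.map, h0])
      (m := (y⁻¹ * y')⁻¹) (by rw [map_inv, hn, inv_one])
    refine mul_inv_eq_iff_eq_mul.1 ?_
    calc x 0 * y * (y⁻¹ * y') * (x 0 * y)⁻¹ = x 0 * (y * (y⁻¹ * y') * y⁻¹) * (x 0)⁻¹ := by group
      _ = y⁻¹ * y' := by rw [e1, e2, inv_inv]
  have e6 : (y⁻¹ * y') ^ 6 = 1 := by
    have := hz y' hy' h'
    rw [show x 0 * y' = x 0 * y * (y⁻¹ * y') by group, hcomm.mul_pow, hz y hy h, one_mul] at this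
    exact this
  refine eq_one_of_eq_inv T (by rw [MonoidHom.mem_ker, map_pow, hn, one_pow]) ?_
  rw [eq_inv_iff_mul_eq_one, ← pow_add]
  exact e6

theorem exists_wnice (hH : StabH) (T : Twist σ) {x : ℕ → X} (N : Norm σ x) :
    ∀ v, ∃ y, σ y = tr v ∧ WNice σ x y := by
  have h9 : ∀ j < 12, edgeX 9 j = false → x 9 * x j = x j * x 9 := fun j hj h =>
    N.comm 9 (by norm_num) j hj h
  have hb9 : σ (x 9) = tr (ptN 9) := by rw [N.map, tr_ptN hH 9 (by norm_num)]
  have mk : ∀ j < 12, edgeX 9 j = false → ∃ y, σ y = tr (ptN j) ∧ WNice σ x y := fun j hj h =>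
    ⟨x j, by rw [N.map, tr_ptN hH j hj], x 9, ptN 9, hb9, h9 0 (by norm_num) (by decide), h9 j hj h⟩
  refine stab_induct _ (fun i hi h1 v hv => ?_) ?_ (mk 2 (by norm_num) (by decide))
    (mk 1 (by norm_num) (by decide))
  · obtain ⟨y, hy, b, u, hb, hb0, hby⟩ := hv
    refine ⟨x i * y * (x i)⁻¹, by rw [map_mul, map_mul, map_inv, N.map, hy, tr_act hH],
      x i * b * (x i)⁻¹, act24 (gen i) u,
      by rw [map_mul, map_mul, map_inv, N.map, hb, tr_act hH], ?_, ?_⟩
    · have g : ∀ i < 12, i ≠ 1 → edgeX i 0 = false := by decide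
      have hc : Commute (x i) (x 0) := N.comm i hi 0 (by norm_num) (g i hi h1)
      exact ((Commute.mul_left hc (show Commute b (x 0) from hb0)).mul_left hc.inv_left).eq
    · calc x i * b * (x i)⁻¹ * (x i * y * (x i)⁻¹) = x i * (b * y) * (x i)⁻¹ := by group
        _ = x i * y * (x i)⁻¹ * (x i * b * (x i)⁻¹) := by rw [hby]; group
  · have h := mk 0 (by norm_num) (by decide)
    rwa [show ptN 0 = base by simp [ptN]] at h

/-- a chosen nice lift -/
noncomputable def niceY (σ : X →* Fi24) (x : ℕ → X) (v : Pt) : X :=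
  Classical.epsilon fun y => σ y = tr v ∧ WNice σ x y

/-- a lift which differs from the chosen one by an element of order dividing three -/
def Near (σ : X →* Fi24) (x : ℕ → X) (v : Pt) (y : X) : Prop :=
  σ y = tr v ∧ ((niceY σ x v)⁻¹ * y) ^ 3 = 1

/-- conjugation by `g` respects near lifts at `v` -/
def Good (σ : X →* Fi24) (x : ℕ → X) (g : X) (v : Pt) : Prop :=
  ∀ y, Near σ x v y → Near σ x (act24 (σ g) v) (g * y * g⁻¹)

theorem niceY_spec (hH : StabH) (T : Twist σ) {x : ℕ → X} (N : Norm σ x) (v : Pt) :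
    σ (niceY σ x v) = tr v ∧ WNice σ x (niceY σ x v) :=
  Classical.epsilon_spec (exists_wnice hH T N v)

theorem near_of_wnice (hH : StabH) (T : Twist σ) {x : ℕ → X} (N : Norm σ x) {v : Pt} {y : X}
    (hy : σ y = tr v) (h : WNice σ x y) : Near σ x v y :=
  ⟨hy, cube_eq hH T N (niceY_spec hH T N v).1 hy (niceY_spec hH T N v).2 h⟩

theorem good_of_one (hH : StabH) (T : Twist σ) {x : ℕ → X} (N : Norm σ x) {g : X} {v : Pt} {y : X}
    (hy : Near σ x v y) (h : Near σ x (act24 (σ g) v) (g * y * g⁻¹)) : Good σ x g v := by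
  intro z hz
  refine ⟨by rw [map_mul, map_mul, map_inv, hz.1, tr_act hH], ?_⟩
  have hY := (niceY_spec hH T N v).1
  have hY' := (niceY_spec hH T N (act24 (σ g) v)).1
  have hp : σ ((niceY σ x v)⁻¹ * y) = 1 := by rw [map_mul, map_inv, hY, hy.1, inv_mul_cancel]
  have hq : σ ((niceY σ x v)⁻¹ * z) = 1 := by rw [map_mul, map_inv, hY, hz.1, inv_mul_cancel]
  have hd3 : (g * (y⁻¹ * z) * g⁻¹) ^ 3 = 1 := by
    have e : y⁻¹ * z = ((niceY σ x v)⁻¹ * y)⁻¹ * ((niceY σ x v)⁻¹ * z) := by group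
    have hc : Commute ((niceY σ x v)⁻¹ * y)⁻¹ ((niceY σ x v)⁻¹ * z) :=
      ker_comm T (by rw [map_inv, hp, inv_one]) hq
    rw [conj_pow, e, hc.mul_pow, inv_pow, hy.2, hz.2, inv_one, one_mul, mul_one, mul_inv_cancel]
  have hd : σ (g * (y⁻¹ * z) * g⁻¹) = 1 := by
    rw [map_mul, map_mul, map_mul, map_inv, map_inv, hy.1, hz.1, inv_mul_cancel, mul_one, mul_inv_cancel]
  have hr : σ ((niceY σ x (act24 (σ g) v))⁻¹ * (g * y * g⁻¹)) = 1 := by
    rw [map_mul, map_inv, hY', h.1, inv_mul_cancel]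
  rw [show (niceY σ x (act24 (σ g) v))⁻¹ * (g * z * g⁻¹) =
    (niceY σ x (act24 (σ g) v))⁻¹ * (g * y * g⁻¹) * (g * (y⁻¹ * z) * g⁻¹) by group,
    (show Commute _ _ from ker_comm T hr hd).mul_pow, h.2, hd3, one_mul]

theorem good_gen (hH : StabH) (T : Twist σ) {x : ℕ → X} (N : Norm σ x) {i : ℕ} (hi : i < 12)
    (h1 : i ≠ 1) (v : Pt) : Good σ x (x i) v := by
  obtain ⟨hy, b, u, hb, hb0, hby⟩ := niceY_spec hH T N v
  refine good_of_one hH T N (y := niceY σ x v) ⟨hy, by rw [inv_mul_cancel, one_pow]⟩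
    (near_of_wnice hH T N (by rw [map_mul, map_mul, map_inv, hy, tr_act hH]) ?_)
  refine ⟨x i * b * (x i)⁻¹, act24 (σ (x i)) u, by rw [map_mul, map_mul, map_inv, hb, tr_act hH], ?_, ?_⟩
  · have g : ∀ i < 12, i ≠ 1 → edgeX i 0 = false := by decide
    have hc : Commute (x i) (x 0) := N.comm i hi 0 (by norm_num) (g i hi h1)
    exact ((Commute.mul_left hc (show Commute b (x 0) from hb0)).mul_left hc.inv_left).eq
  · calc x i * b * (x i)⁻¹ * (x i * niceY σ x v * (x i)⁻¹)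
        = x i * (b * niceY σ x v) * (x i)⁻¹ := by group
      _ = x i * niceY σ x v * (x i)⁻¹ * (x i * b * (x i)⁻¹) := by rw [hby]; group

theorem good_mul {x : ℕ → X} {g h : X} {v : Pt} (hh : Good σ x h v)
    (hg : Good σ x g (act24 (σ h) v)) : Good σ x (g * h) v := by
  intro y hy
  have := hg _ (hh y hy)
  rw [← Equiv.Perm.mul_apply, ← map_mul, ← map_mul] at this
  rwa [show g * h * y * (g * h)⁻¹ = g * (h * y * h⁻¹) * g⁻¹ by group]

theorem good_inv (hH : StabH) (T : Twist σ) {x : ℕ → X} (N : Norm σ x) {g : X} {v : Pt}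
    (hg : Good σ x g v) : Good σ x g⁻¹ (act24 (σ g) v) := by
  obtain ⟨hy, -⟩ := niceY_spec hH T N v
  have h := hg _ ⟨hy, by rw [inv_mul_cancel, one_pow]⟩
  refine good_of_one hH T N h ?_
  rw [← Equiv.Perm.mul_apply, ← map_mul, ← map_mul, inv_mul_cancel, map_one, map_one,
    Equiv.Perm.one_apply, show g⁻¹ * (g * niceY σ x v * g⁻¹) * g⁻¹⁻¹ = niceY σ x v by group]
  exact ⟨hy, by rw [inv_mul_cancel, one_pow]⟩

theorem good_one (hH : StabH) (T : Twist σ) {x : ℕ → X} (N : Norm σ x) : ∀ v, Good σ x (x 1) v := by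
  have hsq : ∀ i, (x i)⁻¹ = x i := fun i => inv_eq_of_mul_eq_one_right (N.sq i)
  have hb : ∀ u, Good σ x (x 1) u → Good σ x (x 1) (act24 (gen 1) u) := by
    intro u hu
    have := good_inv hH T N hu
    rwa [hsq, N.map] at this
  refine inv_induct _ (fun j h3 hj v hv => ?_) (fun j h3 hj v hv => ?_) (fun v h2 h21 => ?_)
  · have hbj : σ (x j) = tr (ptN j) := by rw [N.map, tr_ptN hH j hj]
    obtain ⟨hy, -⟩ := niceY_spec hH T N v
    have hc : tr (ptN j) * tr v = tr v * tr (ptN j) := by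
      rw [tr_ptN hH j hj]
      conv_rhs => rw [← hv, tr_act hH]
      group
    obtain ⟨n, hn, hcn⟩ := exists_tr_commuting hH T hbj hy hc
    have hyn : σ (niceY σ x v * n) = tr v := by rw [map_mul, hy, hn, mul_one]
    have g0 : ∀ j < 12, 3 ≤ j → edgeX j 0 = false ∧ edgeX j 1 = false := by decide
    have hj0 := N.comm j hj 0 (by norm_num) (g0 j hj h3).1
    have hj1 : Commute (x j) (x 1) := N.comm j hj 1 (by norm_num) (g0 j hj h3).2
    refine good_of_one hH T N (near_of_wnice hH T N hyn ⟨x j, ptN j, hbj, hj0, hcn⟩)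
      (near_of_wnice hH T N (by rw [map_mul, map_mul, map_inv, hyn, tr_act hH])
        ⟨x j, ptN j, hbj, hj0, ?_⟩)
    exact ((hj1.mul_right (show Commute (x j) _ from hcn)).mul_right hj1.inv_right).eq
  · have g0 : ∀ j < 12, 3 ≤ j → edgeX 1 j = false ∧ j ≠ 1 := by decide
    obtain ⟨hc, hne⟩ := g0 j hj h3
    have e : x 1 = x j * (x 1 * x j) := by
      rw [N.comm 1 (by norm_num) j hj hc, ← mul_assoc, N.sq, one_mul]
    have e' : act24 (σ (x j)) (act24 (gen j) v) = v := by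
      rw [N.map, ← Equiv.Perm.mul_apply, ← map_mul, gen_sq, map_one, Equiv.Perm.one_apply]
    rw [e]
    refine good_mul (good_mul (good_gen hH T N hj hne _) ?_) (good_gen hH T N hj hne _)
    rw [e']
    exact hv
  · have h121 := hb _ h21
    have e : x 1 = x 2 * (x 1 * (x 2 * (x 1 * x 2))) := by
      have b := N.edge 1 (by norm_num) 2 (by norm_num) (by decide)
      rw [pow_succ, pow_succ, pow_succ, pow_zero, one_mul] at b
      calc x 1 = x 1 * ((x 1 * x 2) * (x 1 * x 2) * (x 1 * x 2)) := by rw [b, mul_one]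
        _ = (x 1 * x 1) * (x 2 * (x 1 * (x 2 * (x 1 * x 2)))) := by simp only [mul_assoc]
        _ = _ := by rw [N.sq, one_mul]
    rw [e]
    refine good_mul (good_mul (good_mul (good_mul (good_gen hH T N (by norm_num) (by norm_num) _) ?_)
      (good_gen hH T N (by norm_num) (by norm_num) _)) ?_) (good_gen hH T N (by norm_num) (by norm_num) _)
    · rw [N.map]; exact h2
    · have hbr : gen 2 * gen 1 * gen 2 = gen 1 * gen 2 * gen 1 := by
        have b := gen_pow_three (by norm_num : 1 < 12) (by norm_num : 2 < 12) (by decide)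
        rw [pow_succ, pow_succ, pow_succ, pow_zero, one_mul] at b
        calc gen 2 * gen 1 * gen 2 = (gen 1 * gen 2 * (gen 1 * gen 2) * (gen 1 * gen 2)) *
              (gen 2 * gen 1 * gen 2) := by rw [b, one_mul]
          _ = gen 1 * gen 2 * gen 1 * (gen 2 * (gen 1 * (gen 2 * gen 2) * gen 1) * gen 2) := by
              simp only [mul_assoc]
          _ = gen 1 * gen 2 * gen 1 := by rw [gen_sq, mul_one, gen_sq, mul_one, gen_sq, mul_one]
      simp only [map_mul, N.map, Equiv.Perm.mul_apply]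
      have e2 := congrArg (fun g => act24 g v) hbr
      simp only [map_mul, Equiv.Perm.mul_apply] at e2
      rw [e2]
      exact h121

theorem arm_cube (hH : StabH) (T : Twist σ) {x : ℕ → X} (N : Norm σ x) :
    (val x armW ^ 17) ^ 3 = 1 := by
  have hall : ∀ (w : List ℕ), (∀ i ∈ w, i < 12) → ∀ v, Good σ x (val x w) v := by
    intro w
    induction w with
    | nil =>
      intro _ v y hy
      simpa [val] using hy
    | cons i w ih =>
      intro hw v
      rw [val_cons]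
      refine good_mul (ih (fun k hk => hw k (List.mem_cons_of_mem _ hk)) v) ?_
      by_cases h1 : i = 1
      · subst h1; exact good_one hH T N _
      · exact good_gen hH T N (hw i List.mem_cons_self) h1 _
  set P := val x armW ^ 17 with hP
  have hσP : σ P = 1 := by rw [hP, map_pow, val_map σ N.map, arm_one]
  have h0 : tr base = gen 0 := by rw [← tr_ptN hH 0 (by norm_num)]; simp [ptN]
  have hx0 : Near σ x base (x 0) := near_of_wnice hH T N (by rw [N.map, h0])
    ⟨x 9, ptN 9, by rw [N.map, tr_ptN hH 9 (by norm_num)],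
      N.comm 9 (by norm_num) 0 (by norm_num) (by decide), N.comm 9 (by norm_num) 0 (by norm_num) (by decide)⟩
  have hg := hall (repW 17 armW) (by decide) base (x 0) hx0
  rw [val_repW, ← hP, hσP, map_one, Equiv.Perm.one_apply] at hg
  have hi := T.inv P hσP 0 (x 0) (N.map 0)
  have e : P * x 0 * P⁻¹ = x 0 * (P⁻¹ * P⁻¹) := by
    have hs := inv_eq_of_mul_eq_one_right (N.sq 0)
    rw [show P * x 0 * P⁻¹ = x 0 * ((x 0)⁻¹ * P * x 0 * P⁻¹) by group]
    rw [hs] at hi ⊢
    rw [hi]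
  rw [e] at hg
  have hY := (niceY_spec hH T N base).1
  have hn1 : σ ((niceY σ x base)⁻¹ * x 0) = 1 := by
    rw [map_mul, map_inv, hY, N.map, h0, inv_mul_cancel]
  have h3 := hg.2
  rw [← mul_assoc, (show Commute _ _ from ker_comm T hn1 (n := P⁻¹ * P⁻¹)
    (by rw [map_mul, map_inv, hσP, inv_one, one_mul])).mul_pow, hx0.2, one_mul,
    ← mul_inv_rev, inv_pow, inv_eq_one] at h3
  refine eq_one_of_eq_inv T (by rw [MonoidHom.mem_ker, map_pow, hσP, one_pow]) ?_
  rw [eq_inv_iff_mul_eq_one, ← (Commute.refl P).mul_pow]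
  exact h3

end CfsgLib.KnownB.Fi24Mult
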