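import Cfsg.Agent.Lib.KnownB.Fi24Mult.Central
import Cfsg.Agent.Lib.KnownB.Fi24Mult.TwistedP
import Cfsg.Agent.Lib.KnownB.Fi24Mult.Cover

/-! Every stem extension of `Fi₂₄′` has cyclic kernel of order at most three. -/

set_option autoImplicit false
set_option maxRecDepth 100000

namespace CfsgLib.KnownB.Fi24Mult

open Cfsg.Spor
open scoped commutatorElement

/-- the sign -/
theorem exists_sign : ∃ ψ : Fi24 →* Multiplicative (ZMod 2),
    ∀ i < 12, ψ (gen i) = Multiplicative.ofAdd 1 :=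
  exists_hom _ (fun _ _ => by decide) (fun _ _ _ _ _ _ => rfl) (fun _ _ _ _ _ => by decide)
    (by decide) (by decide)

theorem gen_two_notMem : gen 2 ∉ commutator Fi24 := fun h => by
  obtain ⟨ψ, hψ⟩ := exists_sign
  have := Abelianization.commutator_subset_ker ψ h
  rw [MonoidHom.mem_ker, hψ 2 (by norm_num)] at this
  revert this
  decide

theorem gen_mul_two_mem : ∀ i < 12, gen i * gen 2 ∈ commutator Fi24 := by
  have key : ∀ i < 12, Abelianization.of (gen i) = Abelianization.of (gen 0) := by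
    intro i
    induction i using Nat.strong_induction_on with
    | _ i ih =>
      intro hi
      rcases Nat.eq_zero_or_pos i with rfl | h0
      · rfl
      obtain ⟨hlt, he⟩ := par_lt i hi h0
      rw [← ih _ hlt (by omega)]
      have e := congrArg Abelianization.of (gen_braid (show parN i < 12 by omega) hi he)
      simp only [map_mul] at e
      rw [mul_right_comm, ← map_mul, gen_sq, map_one, one_mul, mul_right_comm, ← map_mul, gen_sq,
        map_one, one_mul] at e
      exact e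
  intro i hi
  rw [← Abelianization.ker_of, MonoidHom.mem_ker, map_mul, key i hi, ← key 2 (by norm_num),
    ← map_mul, gen_sq, map_one]

theorem two_cases (t : Fi24) : ∃ d : commutator Fi24, t = d ∨ t = d * gen 2 := by
  have hn : (commutator Fi24).Normal := inferInstance
  have ht : t ∈ Subgroup.closure (gen '' {i | i < 12}) := closure_gen ▸ Subgroup.mem_top t
  induction ht using Subgroup.closure_induction with
  | mem q hq =>
    obtain ⟨i, hi, rfl⟩ := hq
    exact ⟨⟨_, gen_mul_two_mem i hi⟩, Or.inr (by rw [mul_assoc, gen_sq, mul_one])⟩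
  | one => exact ⟨1, Or.inl rfl⟩
  | mul u v _ _ hu hv =>
    obtain ⟨d, rfl | rfl⟩ := hu <;> obtain ⟨e, rfl | rfl⟩ := hv
    · exact ⟨d * e, Or.inl rfl⟩
    · exact ⟨d * e, Or.inr (by push_cast; rw [mul_assoc])⟩
    · refine ⟨d * ⟨_, hn.conj_mem _ e.2 (gen 2)⟩, Or.inr ?_⟩
      push_cast
      group
    · refine ⟨d * ⟨_, hn.conj_mem _ e.2 (gen 2)⟩, Or.inl ?_⟩
      push_cast
      rw [gen_inv]
      simp only [mul_assoc]
  | inv u _ hu =>
    obtain ⟨d, rfl | rfl⟩ := hu
    · exact ⟨d⁻¹, Or.inl rfl⟩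
    · refine ⟨⟨_, hn.conj_mem _ (inv_mem d.2) (gen 2)⟩, Or.inr ?_⟩
      show ((d : Fi24) * gen 2)⁻¹ = gen 2 * (d : Fi24)⁻¹ * (gen 2)⁻¹ * gen 2
      rw [mul_inv_rev, inv_mul_cancel_right, gen_inv]

/-- conjugation by the generator `a` -/
noncomputable def betaTwo : ↥(commutator Fi24) ≃* ↥(commutator Fi24) :=
  MulAut.conjNormal (gen 2)

theorem betaTwo_val (s : commutator Fi24) : (betaTwo s : Fi24) = gen 2 * s * (gen 2)⁻¹ :=
  MulAut.conjNormal_apply _ _

/-- the bound for twisted extensions -/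
theorem ker_le_arm {X : Type*} [Group X] [Finite X] {σ : X →* Fi24} (hH : StabH) (T : Twist σ)
    {Δ : Type*} [Group Δ] (j : Δ →* X) (hperf : commutator Δ = ⊤) (hker : σ.ker ≤ j.range)
    (hc : ∀ m ∈ σ.ker, ∀ d, j d * m = m * j d) :
    ∃ P : X, P ^ 3 = 1 ∧ σ.ker ≤ Subgroup.zpowers P := by
  obtain ⟨x, N⟩ := exists_norm T
  set P := val x armW ^ 17 with hP
  have hσP : σ P = 1 := by rw [hP, map_pow, val_map σ N.map, arm_one]
  refine ⟨P, arm_cube hH T N, ?_⟩
  let L := Subgroup.closure (x '' {i | i < 12})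
  have hLtop : L.map σ = ⊤ := by
    rw [eq_top_iff, ← closure_gen, Subgroup.closure_le]
    rintro _ ⟨i, hi, rfl⟩
    exact ⟨x i, Subgroup.subset_closure ⟨i, hi, rfl⟩, N.map i⟩
  have hnorm : L ≤ Subgroup.normalizer (Subgroup.zpowers P : Set X) := by
    rw [Subgroup.closure_le]
    rintro _ ⟨i, -, rfl⟩
    rw [SetLike.mem_coe, Subgroup.mem_normalizer_iff]
    intro h
    have hx := T.inv
    constructor
    · intro hh
      obtain ⟨k, rfl⟩ := Subgroup.mem_zpowers_iff.1 hh
      rw [← conj_zpow, T.inv P hσP i (x i) (N.map i), inv_zpow']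
      exact Subgroup.zpow_mem_zpowers P (-k)
    · intro hh
      obtain ⟨k, hk⟩ := Subgroup.mem_zpowers_iff.1 hh
      have e : h = x i * P ^ k * (x i)⁻¹ := by
        rw [hk, inv_eq_of_mul_eq_one_right (N.sq i)]
        calc h = x i * x i * h * (x i * x i) := by rw [N.sq, one_mul, mul_one]
          _ = _ := by simp only [mul_assoc]
      rw [e, ← conj_zpow, T.inv P hσP i (x i) (N.map i), inv_zpow']
      exact Subgroup.zpow_mem_zpowers P (-k)
  let K := (Subgroup.zpowers P).subgroupOf (Subgroup.normalizer (Subgroup.zpowers P : Set X))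
  let xN : ℕ → Subgroup.normalizer (Subgroup.zpowers P : Set X) := fun i =>
    if hi : i < 12 then ⟨x i, hnorm (Subgroup.subset_closure ⟨i, hi, rfl⟩)⟩ else 1
  have hxN : ∀ i < 12, (xN i : X) = x i := fun i hi => by simp [xN, hi]
  let f : ℕ → Subgroup.normalizer (Subgroup.zpowers P : Set X) ⧸ K := fun i => QuotientGroup.mk' K (xN i)
  have hmk : ∀ {u v : Subgroup.normalizer (Subgroup.zpowers P : Set X)}, (u : X) = v →
      QuotientGroup.mk' K u = QuotientGroup.mk' K v := fun h => by rw [Subtype.ext h]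
  have hval : ∀ w : List ℕ, (∀ i ∈ w, i < 12) → ∃ u : Subgroup.normalizer (Subgroup.zpowers P : Set X),
      val f w = QuotientGroup.mk' K u ∧ (u : X) = val x w := by
    intro w
    induction w with
    | nil => exact fun _ => ⟨1, by rw [val_nil, map_one], rfl⟩
    | cons i w ih =>
      intro hw
      obtain ⟨u, hu, hu'⟩ := ih fun k hk => hw k (List.mem_cons_of_mem _ hk)
      exact ⟨xN i * u, by rw [val_cons, hu, map_mul], by
        rw [Subgroup.coe_mul, hxN i (hw i List.mem_cons_self), hu', val_cons]⟩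
  have hone : ∀ u : Subgroup.normalizer (Subgroup.zpowers P : Set X), (u : X) = 1 →
      QuotientGroup.mk' K u = 1 := fun u h => by
    rw [← map_one (QuotientGroup.mk' K)]; exact hmk h
  obtain ⟨ψ, hψ⟩ := exists_hom f
    (fun i hi => by
      show QuotientGroup.mk' K (xN i) * QuotientGroup.mk' K (xN i) = 1
      rw [← map_mul]; exact hone _ (by rw [Subgroup.coe_mul, hxN i hi, N.sq]))
    (fun i hi j hj h _ => by
      show QuotientGroup.mk' K (xN i) * QuotientGroup.mk' K (xN j) =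
        QuotientGroup.mk' K (xN j) * QuotientGroup.mk' K (xN i)
      rw [← map_mul, ← map_mul]
      exact hmk (by rw [Subgroup.coe_mul, Subgroup.coe_mul, hxN i hi, hxN j hj, N.comm i hi j hj h]))
    (fun i hi j hj h => by
      show (QuotientGroup.mk' K (xN i) * QuotientGroup.mk' K (xN j)) ^ 3 = 1
      rw [← map_mul, ← map_pow]
      exact hone _ (by rw [SubgroupClass.coe_pow, Subgroup.coe_mul, hxN i hi, hxN j hj, N.edge i hi j hj h]))
    (by
      obtain ⟨u, hu, hu'⟩ := hval sevenW (by decide)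
      rw [hu, ← map_pow]
      exact hmk (by rw [SubgroupClass.coe_pow, hu', N.seven, hxN 0 (by norm_num)]))
    (by
      obtain ⟨u, hu, hu'⟩ := hval armW (by decide)
      rw [hu, ← map_pow]
      refine (QuotientGroup.eq_one_iff _).2 ?_
      rw [Subgroup.mem_subgroupOf, SubgroupClass.coe_pow, hu', ← hP]
      exact Subgroup.mem_zpowers P)
  have hL : ∀ l, ∀ h : l ∈ L, QuotientGroup.mk' K ⟨l, hnorm h⟩ = ψ (σ l) := by
    intro l h
    induction h using Subgroup.closure_induction with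
    | mem q hq =>
      obtain ⟨i, hi, rfl⟩ := hq
      rw [N.map, hψ i hi]
      exact hmk (by rw [hxN i hi])
    | one => rw [map_one, map_one]; exact hone _ rfl
    | mul u v hu hv a b =>
      rw [map_mul σ, map_mul ψ, ← a, ← b, ← map_mul (QuotientGroup.mk' K)]
      rfl
    | inv u hu a =>
      rw [map_inv σ, map_inv ψ, ← a, ← map_inv (QuotientGroup.mk' K)]
      rfl
  have hjL : j.range ≤ L := by
    rw [MonoidHom.range_eq_map, ← hperf, _root_.commutator_def, Subgroup.map_commutator,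
      ← MonoidHom.range_eq_map, Subgroup.commutator_le]
    rintro _ ⟨d, rfl⟩ _ ⟨e, rfl⟩
    have dec : ∀ d, ∃ l ∈ L, ∃ m ∈ σ.ker, j d = l * m := fun d => by
      have : σ (j d) ∈ L.map σ := hLtop ▸ Subgroup.mem_top _
      obtain ⟨l, hl, he⟩ := this
      exact ⟨l, hl, l⁻¹ * j d, by rw [MonoidHom.mem_ker, map_mul, map_inv, he, inv_mul_cancel],
        (mul_inv_cancel_left _ _).symm⟩
    obtain ⟨l, hl, m, hm, e1⟩ := dec d
    obtain ⟨l', hl', m', hm', e2⟩ := dec e
    have hml : ∀ n ∈ σ.ker, ∀ t d, t = j d → Commute n t := fun n hn t d ht => by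
      rw [ht]; exact (hc n hn d).symm
    have c2 : Commute m' (j d) := hml m' hm' _ d rfl
    have hmm : Commute m m' := ker_comm T hm hm'
    have c3 : Commute m l' := by
      have h1 : Commute m (j e * m'⁻¹) := (hml m hm _ e rfl).mul_right hmm.inv_right
      rwa [e2, mul_inv_cancel_right] at h1
    have e3 : ⁅j d, j e⁆ = ⁅l, l'⁆ := by
      rw [commutatorElement_def, commutatorElement_def]
      calc j d * j e * (j d)⁻¹ * (j e)⁻¹ = j d * l' * (m' * (j d)⁻¹) * m'⁻¹ * l'⁻¹ := by rw [e2]; group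
        _ = j d * l' * (j d)⁻¹ * l'⁻¹ := by rw [c2.inv_right.eq]; group
        _ = l * (m * l') * m⁻¹ * l⁻¹ * l'⁻¹ := by rw [e1]; group
        _ = l * l' * l⁻¹ * l'⁻¹ := by rw [c3.eq]; group
    rw [e3, commutatorElement_def]
    exact mul_mem (mul_mem (mul_mem hl hl') (inv_mem hl)) (inv_mem hl')
  intro m hm
  have h := hL m (hjL (hker hm))
  rw [MonoidHom.mem_ker.1 hm, map_one] at h
  exact Subgroup.mem_subgroupOf.1 ((QuotientGroup.eq_one_iff _).1 h)

theorem stem_bound (hH : StabH) [Finite Fi24] (hperf : commutator ↥(commutator Fi24) = ⊤)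
    {Γ : Type} [Group Γ] [Finite Γ] (σ : Γ →* Fi24') (hσ : Cfsg.IsStemExtension σ) :
    IsCyclic σ.ker ∧ Nat.card σ.ker ≤ 3 := by
  have hβ : ∀ s, betaTwo (betaTwo s) = s := fun s => by
    refine Subtype.ext ?_
    rw [betaTwo_val, betaTwo_val, gen_inv]
    calc gen 2 * (gen 2 * (s : Fi24) * gen 2) * gen 2
        = gen 2 * gen 2 * (s : Fi24) * (gen 2 * gen 2) := by simp only [mul_assoc]
      _ = s := by rw [gen_sq, one_mul, mul_one]
  obtain ⟨Δ, _, _, τ, α, π, hτs, hτc, hΔ, hα, hατ, hπ⟩ :=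
    exists_involutive_cover hperf σ hσ betaTwo hβ
  let ι : Δ →* Fi24 := (commutator Fi24).subtype.comp τ
  have hιs : ∀ t : Fi24, ∃ d, t = ι d ∨ t = ι d * gen 2 := by
    intro t
    obtain ⟨d, hd⟩ := two_cases t
    obtain ⟨e, he⟩ := hτs d
    exact ⟨e, by rwa [show ι e = (d : Fi24) by rw [← he]; rfl]⟩
  obtain ⟨X, _, _, σX, j, s, hXs, hj, hσj, hσs, hker, hconj⟩ :=
    exists_outer_extension ι (gen 2) (gen_sq 2)
      (fun d h => gen_two_notMem (h ▸ (τ d).2)) α hα
      (fun d => by show ((τ (α d)) : Fi24) = _; rw [hατ, betaTwo_val]; rfl) hιs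
  have hιk : ι.ker = τ.ker := by
    ext d
    simp only [MonoidHom.mem_ker, ι, MonoidHom.comp_apply, Subgroup.coe_subtype, OneMemClass.coe_eq_one]
  rw [hιk] at hker
  have hc : ∀ m ∈ σX.ker, ∀ d, j d * m = m * j d := by
    intro m hm d
    rw [hker] at hm
    obtain ⟨e, he, rfl⟩ := hm
    rw [← map_mul, ← map_mul, Subgroup.mem_center_iff.1 (hτc he) d]
  have hMcomm : ∀ m ∈ σX.ker, ∀ n ∈ σX.ker, m * n = n * m := fun m hm n hn => by
    have hn' := hn
    rw [hker] at hn'
    obtain ⟨e, -, rfl⟩ := hn'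
    exact (hc m hm e).symm
  have hsplit : ∀ y : X, ∃ d, y = j d ∨ y = j d * s := by
    intro y
    obtain ⟨d, hd | hd⟩ := hιs (σX y)
    · have : y * (j d)⁻¹ ∈ σX.ker := by rw [MonoidHom.mem_ker, map_mul, map_inv, hσj, hd, mul_inv_cancel]
      rw [hker] at this
      obtain ⟨e, -, he⟩ := this
      exact ⟨e * d, Or.inl (by rw [map_mul, he, inv_mul_cancel_right])⟩
    · have : y * (j d * s)⁻¹ ∈ σX.ker := by
        rw [MonoidHom.mem_ker, map_mul, map_inv, map_mul, hσj, hσs, hd, mul_inv_cancel]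
      rw [hker] at this
      obtain ⟨e, -, he⟩ := this
      exact ⟨e * d, Or.inr (by rw [map_mul, he]; group)⟩
  have hsmem : ∀ m ∈ σX.ker, s * m * s⁻¹ ∈ σX.ker := fun m hm =>
    (inferInstance : σX.ker.Normal).conj_mem m hm s
  have hact : ∀ (y : X), ∀ m ∈ σX.ker, y * m * y⁻¹ = m ∨ y * m * y⁻¹ = s * m * s⁻¹ := by
    intro y m hm
    obtain ⟨d, rfl | rfl⟩ := hsplit y
    · left; rw [hc m hm, mul_inv_cancel_right]
    · right
      calc j d * s * m * (j d * s)⁻¹ = j d * (s * m * s⁻¹) * (j d)⁻¹ := by group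
        _ = s * m * s⁻¹ := by rw [hc _ (hsmem m hm), mul_inv_cancel_right]
  have hss : ∀ m ∈ σX.ker, s * (s * m * s⁻¹) * s⁻¹ = m := by
    intro m hm
    rw [hker] at hm
    obtain ⟨e, -, rfl⟩ := hm
    rw [hconj, hconj, hα]
  let φ : σX.ker →* X :=
    { toFun := fun m => (m : X) * (s * (m : X) * s⁻¹)⁻¹
      map_one' := by simp
      map_mul' := fun m n => by
        have h1 := hsmem _ m.2
        have h2 := hsmem _ n.2
        calc ((m * n : σX.ker) : X) * (s * ((m * n : σX.ker) : X) * s⁻¹)⁻¹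
            = (m : X) * ((n : X) * (s * (n : X) * s⁻¹)⁻¹) * (s * (m : X) * s⁻¹)⁻¹ := by push_cast; group
          _ = (m : X) * ((s * (m : X) * s⁻¹)⁻¹ * ((n : X) * (s * (n : X) * s⁻¹)⁻¹)) := by
              rw [mul_assoc, hMcomm _ (mul_mem n.2 (inv_mem h2)) _ (inv_mem h1)]
          _ = _ := by simp only [mul_assoc] }
  have hφle : φ.range ≤ σX.ker := by
    rintro _ ⟨m, rfl⟩
    exact mul_mem m.2 (inv_mem (hsmem _ m.2))
  have hN : φ.range.Normal := ⟨fun n hn g => by
    obtain ⟨m, rfl⟩ := hn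
    rcases hact g _ (hφle ⟨m, rfl⟩) with h | h
    · rw [h]; exact ⟨m, rfl⟩
    · rw [h]
      refine ⟨⟨_, hsmem _ m.2⟩, ?_⟩
      show s * (m : X) * s⁻¹ * (s * (s * (m : X) * s⁻¹) * s⁻¹)⁻¹ =
        s * ((m : X) * (s * (m : X) * s⁻¹)⁻¹) * s⁻¹
      group⟩
  let σY : X ⧸ φ.range →* Fi24 := QuotientGroup.lift _ σX hφle
  have hYc : σY.ker ≤ Subgroup.center _ := by
    intro q hq
    obtain ⟨m, rfl⟩ := QuotientGroup.mk'_surjective φ.range q
    have hm : m ∈ σX.ker := hq
    rw [Subgroup.mem_center_iff]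
    intro r
    obtain ⟨y, rfl⟩ := QuotientGroup.mk'_surjective φ.range r
    rw [← map_mul, ← map_mul]
    refine QuotientGroup.eq.2 ?_
    have hy : m⁻¹ * (y⁻¹ * m * y⁻¹⁻¹) ∈ φ.range := by
      rcases hact y⁻¹ m hm with h | h
      · rw [h, inv_mul_cancel]; exact one_mem _
      · rw [h]
        refine ⟨⟨_, inv_mem hm⟩, ?_⟩
        show m⁻¹ * (s * m⁻¹ * s⁻¹)⁻¹ = m⁻¹ * (s * m * s⁻¹)
        group
    convert hy using 1
    group
  have hzero : ∀ m ∈ σX.ker, m ∈ φ.range := by
    intro m hm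
    refine (QuotientGroup.eq_one_iff m).1 (central_trivial hH σY
      (fun t => by obtain ⟨y, rfl⟩ := hXs t; exact ⟨y, rfl⟩) hYc hm ?_)
    have hm' := hm
    rw [hker] at hm'
    obtain ⟨d, -, rfl⟩ := hm'
    have hd : d ∈ commutator Δ := hΔ ▸ Subgroup.mem_top d
    have := Subgroup.mem_map_of_mem ((QuotientGroup.mk' φ.range).comp j) hd
    rw [_root_.commutator_def, Subgroup.map_commutator] at this
    exact Subgroup.commutator_mono le_top le_top this
  have hinj : ∀ m ∈ σX.ker, s * m * s⁻¹ = m → m = 1 := by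
    let φ' : σX.ker →* σX.ker := φ.codRestrict _ fun m => hφle ⟨m, rfl⟩
    have hsur : Function.Surjective φ' := fun ⟨m, hm⟩ => by
      obtain ⟨n, hn⟩ := hzero m hm
      exact ⟨n, Subtype.ext hn⟩
    have hi := (Finite.injective_iff_surjective).2 hsur
    intro m hm h
    have : φ' ⟨m, hm⟩ = 1 := Subtype.ext (by show m * (s * m * s⁻¹)⁻¹ = 1; rw [h, mul_inv_cancel])
    exact congrArg Subtype.val (hi (this.trans (map_one φ').symm))
  have hinv : ∀ m ∈ σX.ker, s * m * s⁻¹ = m⁻¹ := by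
    intro m hm
    refine eq_inv_of_mul_eq_one_left (hinj _ (mul_mem (hsmem m hm) hm) ?_)
    calc s * (s * m * s⁻¹ * m) * s⁻¹ = s * (s * m * s⁻¹) * s⁻¹ * (s * m * s⁻¹) := by group
      _ = _ := by rw [hss m hm, hMcomm _ hm _ (hsmem m hm)]
  have T : Twist σX := by
    refine ⟨hXs, ?_, ?_⟩
    · rw [← Nat.not_even_iff_odd, even_iff_two_dvd]
      intro h
      obtain ⟨m, hm⟩ := exists_prime_orderOf_dvd_card' 2 h
      have h2 : (m : X) * m = 1 := by
        rw [← Subgroup.coe_mul, ← pow_two, ← hm, pow_orderOf_eq_one]; rfl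
      have := hinj _ m.2 (by rw [hinv _ m.2, inv_eq_of_mul_eq_one_right h2])
      rw [show m = 1 from Subtype.ext this, orderOf_one] at hm
      exact absurd hm (by norm_num)
    · intro m hm i y hy
      obtain ⟨d, rfl | rfl⟩ := hsplit y
      · exfalso
        rw [hσj] at hy
        refine gen_two_notMem ?_
        by_cases hi : i < 12
        · have := mul_mem (inv_mem (show gen i ∈ commutator Fi24 from hy ▸ (τ d).2)) (gen_mul_two_mem i hi)
          rwa [inv_mul_cancel_left] at this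
        · have hg : gen i = gen 11 := by
            have : ndG i = ndG 11 := by
              match i, hi with
              | n + 12, _ => rfl
            rw [gen, this]; rfl
          have := mul_mem (inv_mem (show gen 11 ∈ commutator Fi24 from hg ▸ hy ▸ (τ d).2))
            (gen_mul_two_mem 11 (by norm_num))
          rwa [inv_mul_cancel_left] at this
      · calc j d * s * m * (j d * s)⁻¹ = j d * (s * m * s⁻¹) * (j d)⁻¹ := by group
          _ = m⁻¹ := by rw [hinv m hm, hc _ (inv_mem hm), mul_inv_cancel_right]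
  obtain ⟨P, hP, hle⟩ := ker_le_arm hH T j hΔ
    (by rw [hker]; rintro _ ⟨e, -, rfl⟩; exact ⟨e, rfl⟩) hc
  let f : τ.ker →* Subgroup.zpowers P :=
    (j.comp τ.ker.subtype).codRestrict _ fun e => hle (hker ▸ Subgroup.mem_map_of_mem j e.2)
  have hf : Function.Injective f := fun u v h =>
    Subtype.ext (hj (congrArg Subtype.val h))
  haveI : IsCyclic τ.ker := isCyclic_of_injective f hf
  refine ⟨isCyclic_of_surjective π hπ, (Nat.card_le_card_of_surjective π hπ).trans ?_⟩
  refine (Nat.card_le_card_of_injective f hf).trans ?_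
  rw [Nat.card_zpowers]
  exact Nat.le_of_dvd (by norm_num) (orderOf_dvd_of_pow_eq_one hP)

end CfsgLib.KnownB.Fi24Mult
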