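import Cfsg.Agent.Lib.KnownB.Fi24Mult.WtsRels
import Cfsg.Agent.Lib.KnownB.Fi24Mult.Upper

/-! A stem extension of `Fi₂₄′` with kernel of order three. -/

set_option autoImplicit false
set_option maxRecDepth 100000

namespace CfsgLib.KnownB.Fi24Mult

open Cfsg.Spor
open scoped commutatorElement

/-- the normaliser of the translations -/
noncomputable def normT : Subgroup (Equiv.Perm (Pt × ZMod 3)) :=
  Subgroup.normalizer (Subgroup.zpowers shiftT : Set (Equiv.Perm (Pt × ZMod 3)))

theorem liftW_conj {i : ℕ} (hi : i < 12) : liftW i * shiftT * (liftW i)⁻¹ = shiftT⁻¹ := by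
  rw [mul_inv_eq_iff_eq_mul]
  refine Equiv.ext fun p => ?_
  obtain ⟨v, m⟩ := p
  rw [Equiv.Perm.mul_apply, Equiv.Perm.mul_apply, show shiftT (v, m) = (v, m + 1) from rfl,
    liftW_apply hi, liftW_apply hi]
  refine Prod.ext rfl ?_
  show -(m + 1) + _ = -m + _ - 1
  ring

theorem liftW_mem {i : ℕ} (hi : i < 12) : liftW i ∈ normT := by
  rw [normT, Subgroup.mem_normalizer_iff]
  intro h
  have hs := inv_eq_of_mul_eq_one_right (liftW_sq i hi)
  constructor
  · intro hh
    obtain ⟨k, rfl⟩ := Subgroup.mem_zpowers_iff.1 hh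
    rw [← conj_zpow, liftW_conj hi, inv_zpow']
    exact Subgroup.zpow_mem_zpowers shiftT (-k)
  · intro hh
    obtain ⟨k, hk⟩ := Subgroup.mem_zpowers_iff.1 hh
    have e : h = liftW i * shiftT ^ k * (liftW i)⁻¹ := by
      rw [hk, hs]
      calc h = liftW i * liftW i * h * (liftW i * liftW i) := by rw [liftW_sq i hi, one_mul, mul_one]
        _ = _ := by simp only [mul_assoc]
    rw [e, ← conj_zpow, liftW_conj hi, inv_zpow']
    exact Subgroup.zpow_mem_zpowers shiftT (-k)

theorem shiftT_cube : shiftT ^ 3 = 1 := by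
  refine Equiv.ext fun p => ?_
  obtain ⟨v, m⟩ := p
  simp only [pow_succ, pow_zero, one_mul, Equiv.Perm.mul_apply]
  refine Prod.ext rfl ?_
  show m + 1 + 1 + 1 = m
  rw [add_assoc, add_assoc, show (1 : ZMod 3) + (1 + 1) = 0 by decide, add_zero]

theorem shiftT_ne : shiftT ≠ 1 := by
  intro h
  have e := congrArg (fun f : Equiv.Perm (Pt × ZMod 3) => (f (base, 0)).2) h
  change (0 : ZMod 3) + 1 = 0 at e
  revert e
  decide

theorem orderOf_shiftT : orderOf shiftT = 3 :=
  haveI : Fact (Nat.Prime 3) := ⟨by norm_num⟩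
  orderOf_eq_prime shiftT_cube shiftT_ne

theorem exists_stem_three [Finite Fi24] (hperf : commutator ↥(commutator Fi24) = ⊤) :
    ∃ (Γ : Type) (_ : Group Γ) (_ : Finite Γ) (σ : Γ →* Fi24'),
      Cfsg.IsStemExtension σ ∧ Nat.card σ.ker = 3 := by
  classical
  let Zt := (Subgroup.zpowers shiftT).subgroupOf normT
  haveI : Zt.Normal := by unfold Zt normT; infer_instance
  let xN : ℕ → normT := fun i => if hi : i < 12 then ⟨liftW i, liftW_mem hi⟩ else 1
  have hxN : ∀ i < 12, (xN i : Equiv.Perm (Pt × ZMod 3)) = liftW i := fun i hi => by simp [xN, hi]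
  let f : ℕ → normT ⧸ Zt := fun i => QuotientGroup.mk' Zt (xN i)
  have hval : ∀ w : List ℕ, (∀ i ∈ w, i < 12) →
      normT.subtype (val xN w) = val liftW w := by
    intro w
    induction w with
    | nil => exact fun _ => rfl
    | cons i w ih =>
      intro hw
      rw [val_cons, val_cons, map_mul, Subgroup.coe_subtype, hxN i (hw i List.mem_cons_self), ← Subgroup.coe_subtype,
        ih fun k hk => hw k (List.mem_cons_of_mem _ hk)]
  have hfv : ∀ w, val f w = QuotientGroup.mk' Zt (val xN w) := fun w =>
    (val_map (QuotientGroup.mk' Zt) (x := xN) (f := f) (fun _ => rfl) w).symm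
  have hone : ∀ w : List ℕ, (∀ i ∈ w, i < 12) → val liftW w = 1 → val f w = 1 := fun w hw h => by
    rw [hfv, show val xN w = 1 from Subtype.ext ((hval w hw).trans h), map_one]
  have hsq : ∀ i < 12, f i * f i = 1 := fun i hi => by
    have := hone [i, i] (by simp [hi]) (by simpa [val] using liftW_sq i hi)
    simpa [val] using this
  have hpair : ∀ i < 12, ∀ j < 12, i < j → (f i * f j) ^ (if edgeX i j then 3 else 2) = 1 := by
    intro i hi j hj h
    have hw : ∀ n, ∀ k ∈ repW n [i, j], k < 12 := by
      intro n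
      induction n with
      | zero => simp [repW]
      | succ n ih =>
        intro k hk
        rcases List.mem_append.1 hk with hk | hk
        · exact ih k hk
        · simp only [List.mem_cons, List.not_mem_nil, or_false] at hk
          rcases hk with rfl | rfl
          exacts [hi, hj]
    have := hone _ (hw _) (liftW_pair i hi j hj h)
    rwa [val_repW, show val f [i, j] = f i * f j by simp [val]] at this
  obtain ⟨ψ, hψ⟩ := exists_hom f hsq
    (fun i hi j hj he hne => by
      have c : ∀ a < 12, ∀ b < 12, a < b → edgeX a b = false → f a * f b = f b * f a := by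
        intro a ha b hb h hab
        have e := hpair a ha b hb h
        rw [hab] at e
        simp only [Bool.false_eq_true, if_false, pow_two] at e
        rw [eq_inv_of_mul_eq_one_left e, mul_inv_rev, inv_eq_of_mul_eq_one_right (hsq a ha),
          inv_eq_of_mul_eq_one_right (hsq b hb)]
      rcases Nat.lt_or_gt_of_ne hne with h | h
      · exact c i hi j hj h he
      · exact (c j hj i hi h (by rw [edgeX_symm j hj i hi]; exact he)).symm)
    (fun i hi j hj he => by
      have hne : i ≠ j := fun h => by subst h; rw [edgeX_irrefl i hi] at he; exact Bool.noConfusion he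
      rcases Nat.lt_or_gt_of_ne hne with h | h
      · have e := hpair i hi j hj h
        rwa [if_pos he] at e
      · have e := hpair j hj i hi h
        rw [if_pos (by rw [edgeX_symm j hj i hi]; exact he)] at e
        have e2 : (f i * f j) ^ 3 = f i * (f j * f i) ^ 3 * f i := by
          calc (f i * f j) ^ 3 = (f i * f j) ^ 3 * (f i * f i) := by rw [hsq i hi, mul_one]
            _ = _ := by simp [pow_succ, mul_assoc]
        rw [e2, e, mul_one, hsq i hi])
    (by
      have e := hone ([0] ++ repW 9 sevenW) (by decide) liftW_seven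
      rw [val_append, val_repW, show val f [0] = f 0 by simp [val]] at e
      rw [eq_inv_of_mul_eq_one_right e, inv_eq_of_mul_eq_one_right (hsq 0 (by norm_num))])
    (by
      rw [← val_repW, hfv]
      refine (QuotientGroup.eq_one_iff _).2 ?_
      rw [Subgroup.mem_subgroupOf, ← Subgroup.coe_subtype, hval _ (by decide), liftW_arm]
      exact Subgroup.npow_mem_zpowers shiftT 2)
  let E : Subgroup (normT × Fi24) :=
    ((QuotientGroup.mk' Zt).comp (MonoidHom.fst _ _)).eqLocus (ψ.comp (MonoidHom.snd _ _))
  let σE : E →* Fi24 := (MonoidHom.snd _ _).comp E.subtype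
  let y : ℕ → E := fun i => if hi : i < 12 then ⟨(xN i, gen i), (hψ i hi).symm⟩ else 1
  have hy : ∀ i < 12, σE (y i) = gen i := fun i hi => by simp [σE, y, hi]
  have hy1 : ∀ i < 12, ((y i : normT × Fi24).1 : Equiv.Perm (Pt × ZMod 3)) = liftW i := fun i hi => by
    simp [y, hi, hxN i hi]
  have hσs : Function.Surjective σE := fun g => by
    obtain ⟨u, hu⟩ := QuotientGroup.mk'_surjective Zt (ψ g)
    exact ⟨⟨(u, g), hu⟩, rfl⟩
  have tmem : shiftT ∈ normT := Subgroup.le_normalizer (Subgroup.mem_zpowers _)
  let t : E := ⟨(⟨shiftT, tmem⟩, 1), by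
    show QuotientGroup.mk' Zt ⟨shiftT, tmem⟩ = ψ 1
    rw [map_one]
    exact (QuotientGroup.eq_one_iff _).2 (Subgroup.mem_zpowers shiftT)⟩
  let pr : E →* Equiv.Perm (Pt × ZMod 3) := normT.subtype.comp ((MonoidHom.fst _ _).comp E.subtype)
  have hinjp : ∀ a b : E, σE a = σE b → pr a = pr b → a = b := fun a b h1 h2 =>
    Subtype.ext (Prod.ext (Subtype.ext h2) h1)
  have hker : σE.ker = Subgroup.zpowers t := by
    refine le_antisymm (fun a ha => ?_) ((Subgroup.zpowers_le).2 rfl)
    have h : QuotientGroup.mk' Zt (a : normT × Fi24).1 = ψ (σE a) := a.2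
    rw [MonoidHom.mem_ker.1 ha, map_one] at h
    obtain ⟨k, hk⟩ := Subgroup.mem_zpowers_iff.1
      (Subgroup.mem_subgroupOf.1 ((QuotientGroup.eq_one_iff _).1 h))
    refine Subgroup.mem_zpowers_iff.2 ⟨k, hinjp _ _ ?_ ?_⟩
    · rw [map_zpow, show σE t = 1 from rfl, one_zpow, MonoidHom.mem_ker.1 ha]
    · rw [map_zpow]; exact hk
  have hcard : Nat.card σE.ker = 3 := by
    rw [hker, Nat.card_zpowers, ← orderOf_injective (Subgroup.subtype _) Subtype.val_injective]
    show orderOf (((⟨shiftT, tmem⟩ : normT), (1 : Fi24))) = 3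
    rw [Prod.orderOf_mk, orderOf_one, Nat.lcm_one_right]
    exact (Subgroup.orderOf_coe _).symm.trans orderOf_shiftT
  haveI : Finite E := inferInstance
  have hyt : ∀ i < 12, y i * t * (y i)⁻¹ = t⁻¹ := fun i hi => hinjp _ _
    (by simp [show σE t = 1 from rfl]) (by
      rw [map_mul, map_mul, map_inv, map_inv, show pr (y i) = liftW i from hy1 i hi,
        show pr t = shiftT from rfl, liftW_conj hi])
  have hy2 : ∀ i < 12, y i * y i = 1 := fun i hi => hinjp _ _
    (by rw [map_mul, hy i hi, gen_sq, map_one])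
    (by rw [map_mul, show pr (y i) = liftW i from hy1 i hi, liftW_sq i hi, map_one])
  have hpm : ∀ u : E, u * t * u⁻¹ = t ∨ u * t * u⁻¹ = t⁻¹ := by
    intro u
    have hn : u * t * u⁻¹ ∈ Subgroup.zpowers t := by
      rw [← hker]
      exact (inferInstance : σE.ker.Normal).conj_mem t rfl u
    obtain ⟨k, hk⟩ := Subgroup.mem_zpowers_iff.1 hn
    have t3 : t ^ (3 : ℤ) = 1 := hinjp _ _ (by rw [map_zpow, show σE t = 1 from rfl, one_zpow, map_one])
      (by rw [map_zpow, show pr t = shiftT from rfl, map_one]; exact_mod_cast shiftT_cube)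
    rw [← hk, show k = 3 * (k / 3) + k % 3 by omega, zpow_add, zpow_mul, t3, one_zpow, one_mul]
    rcases (show k % 3 = 0 ∨ k % 3 = 1 ∨ k % 3 = 2 by omega) with h | h | h
    · exfalso
      rw [show k = 3 * (k / 3) by omega, zpow_mul, t3, one_zpow] at hk
      have ht : t = 1 := by
        calc t = u⁻¹ * (u * t * u⁻¹) * u := by group
          _ = 1 := by rw [← hk]; group
      exact shiftT_ne (congrArg pr ht)
    · left; rw [h, zpow_one]
    · right
      rw [h, eq_inv_iff_mul_eq_one, ← zpow_add_one, show (2 : ℤ) + 1 = 3 from rfl, t3]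
  let Γ := commutator E
  have hcomm : ∀ a ∈ Γ, a * t = t * a := by
    have hle : Γ ≤ Subgroup.centralizer {t} := by
      rw [show Γ = commutator E from rfl, _root_.commutator_def, Subgroup.commutator_le]
      intro a _ b _
      rw [Subgroup.mem_centralizer_singleton_iff, ← mul_inv_eq_iff_eq_mul, commutatorElement_def]
      have hi : ∀ u : E, u⁻¹ * t * u = u * t * u⁻¹ := by
        intro u
        rcases hpm u with h | h
        · calc u⁻¹ * t * u = u⁻¹ * (u * t * u⁻¹) * u := by rw [h]
            _ = t := by group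
            _ = _ := h.symm
        · calc u⁻¹ * t * u = (u⁻¹ * t⁻¹ * u)⁻¹ := by group
            _ = (u⁻¹ * (u * t * u⁻¹) * u)⁻¹ := by rw [h]
            _ = t⁻¹ := by group
            _ = _ := h.symm
      calc a * b * a⁻¹ * b⁻¹ * t * (a * b * a⁻¹ * b⁻¹)⁻¹
          = a * (b * (a⁻¹ * (b⁻¹ * t * b) * a) * b⁻¹) * a⁻¹ := by group
        _ = t := by
          have hcj : ∀ u : E, u * t⁻¹ * u⁻¹ = (u * t * u⁻¹)⁻¹ := fun u => by group
          have hcj' : ∀ u : E, u⁻¹ * t⁻¹ * u = (u * t * u⁻¹)⁻¹ := fun u => by rw [← hi]; group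
          rw [hi b]
          rcases hpm a with ha | ha <;> rcases hpm b with hb | hb <;>
            simp only [ha, hb, hi, hcj, hcj', inv_inv]
    exact fun a ha => Subgroup.mem_centralizer_singleton_iff.1 (hle ha)
  have hΓmap : Γ.map σE = commutator Fi24 := by
    rw [show Γ = commutator E from rfl, _root_.commutator_def, Subgroup.map_commutator,
      Subgroup.map_top_of_surjective σE hσs, ← _root_.commutator_def]
  let D : Subgroup E := ⁅Γ, Γ⁆
  have hDmap : D.map σE = commutator Fi24 := by
    show (⁅Γ, Γ⁆).map σE = _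
    rw [Subgroup.map_commutator, hΓmap]
    have := congrArg (Subgroup.map (commutator Fi24).subtype) hperf
    rw [_root_.commutator_def ↥(commutator Fi24), Subgroup.map_commutator, ← MonoidHom.range_eq_map,
      Subgroup.range_subtype] at this
    exact this
  haveI hDn : D.Normal := inferInstance
  let mkD := QuotientGroup.mk' D
  have ht3 : t * (t * t) = 1 := hinjp _ _ (by simp [show σE t = 1 from rfl]) (by
    rw [map_mul, map_mul, map_one, show pr t = shiftT from rfl, ← shiftT_cube]
    simp [pow_succ, mul_assoc])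
  have hrel : ∀ i < 12, ∀ j < 12, ∃ k : ℤ, mkD (y i * y j) = mkD t ^ k := by
    intro i hi j hj
    have hm : gen i * gen j ∈ commutator Fi24 := by
      have := mul_mem (gen_mul_two_mem i hi) (inv_mem (gen_mul_two_mem j hj))
      rwa [mul_inv_rev, gen_inv, gen_inv, ← mul_assoc, mul_assoc (gen i), gen_sq, mul_one] at this
    rw [← hDmap] at hm
    obtain ⟨d, hd, hde⟩ := hm
    have hk : d⁻¹ * (y i * y j) ∈ Subgroup.zpowers t := by
      rw [← hker, MonoidHom.mem_ker, map_mul, map_inv, hde, map_mul, hy i hi, hy j hj, inv_mul_cancel]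
    obtain ⟨k, hk⟩ := Subgroup.mem_zpowers_iff.1 hk
    refine ⟨k, ?_⟩
    rw [← map_zpow, hk, map_mul mkD d⁻¹, map_inv, show mkD d = 1 from (QuotientGroup.eq_one_iff d).2 hd,
      inv_one, one_mul]
  have heqc : ∀ i < 12, ∀ j < 12, edgeX i j = false → mkD (y i) = mkD (y j) := by
    intro i hi j hj he
    obtain ⟨k, hk⟩ := hrel i hi j hj
    have hc : y i * y j = y j * y i := by
      refine hinjp _ _ (by rw [map_mul, map_mul, hy i hi, hy j hj, gen_comm hi hj he]) ?_
      rcases Nat.lt_trichotomy i j with h | h | h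
      · have e := liftW_pair i hi j hj h
        rw [he] at e
        simp only [Bool.false_eq_true, if_false] at e
        rw [val_repW, show val liftW [i, j] = liftW i * liftW j by simp [val], pow_two] at e
        rw [map_mul, map_mul, show pr (y i) = liftW i from hy1 i hi,
          show pr (y j) = liftW j from hy1 j hj, eq_inv_of_mul_eq_one_left e, mul_inv_rev,
          inv_eq_of_mul_eq_one_right (liftW_sq i hi), inv_eq_of_mul_eq_one_right (liftW_sq j hj)]
      · subst h; rfl
      · have e := liftW_pair j hj i hi h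
        rw [edgeX_symm j hj i hi, he] at e
        simp only [Bool.false_eq_true, if_false] at e
        rw [val_repW, show val liftW [j, i] = liftW j * liftW i by simp [val], pow_two] at e
        rw [map_mul, map_mul, show pr (y i) = liftW i from hy1 i hi,
          show pr (y j) = liftW j from hy1 j hj, eq_inv_of_mul_eq_one_left e, mul_inv_rev,
          inv_eq_of_mul_eq_one_right (liftW_sq i hi), inv_eq_of_mul_eq_one_right (liftW_sq j hj)]
    set r := mkD (y i * y j) with hr
    have h1 : mkD (y i) * r * (mkD (y i))⁻¹ = r⁻¹ := by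
      rw [hk, ← conj_zpow, ← map_inv, ← map_mul, ← map_mul, hyt i hi, map_inv, inv_zpow]
    have h2 : mkD (y i) * r * (mkD (y i))⁻¹ = r := by
      rw [hr, ← map_inv, ← map_mul, ← map_mul]
      refine congrArg _ ?_
      rw [← mul_assoc, hy2 i hi, one_mul, inv_eq_of_mul_eq_one_right (hy2 i hi), hc]
    have hr1 : r = 1 := by
      have hr2 : r * r = 1 := eq_inv_iff_mul_eq_one.1 (h2.symm.trans h1)
      have hr3 : r * (r * r) = 1 := by
        rw [hk, ← zpow_add, ← zpow_add, show k + (k + k) = 3 * k by ring, zpow_mul,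
          show mkD t ^ (3 : ℤ) = 1 by
            rw [show (3 : ℤ) = ((3 : ℕ) : ℤ) from rfl, zpow_natCast, pow_succ, pow_succ, pow_one, mul_assoc,
              ← map_mul, ← map_mul, ht3, map_one], one_zpow]
      rwa [hr2, mul_one] at hr3
    rw [hr, map_mul] at hr1
    rw [eq_inv_of_mul_eq_one_left hr1, ← map_inv, inv_eq_of_mul_eq_one_right (hy2 j hj)]
  have hall : ∀ i < 12, mkD (y i) = mkD (y 9) := by
    intro i hi
    by_cases h : i = 8
    · subst h
      exact (heqc 8 hi 0 (by norm_num) (by decide)).trans (heqc 0 (by norm_num) 9 (by norm_num) (by decide))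
    · have g : ∀ i < 12, i ≠ 8 → edgeX i 9 = false := by decide
      exact heqc i hi 9 (by norm_num) (g i hi h)
  have htD : t ∈ D := by
    have hy9 : mkD (y 9) * mkD (y 9) = 1 := by rw [← map_mul, hy2 9 (by norm_num), map_one]
    have e : mkD (val y (repW 17 armW)) = 1 := by
      rw [val_map mkD (x := y) (f := fun i => mkD (y i)) (fun _ => rfl), val]
      have : ∀ w : List ℕ, (∀ i ∈ w, i < 12) →
          (w.map fun i => mkD (y i)).prod = mkD (y 9) ^ w.length := by
        intro w
        induction w with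
        | nil => simp
        | cons i w ih =>
          intro hw
          rw [List.map_cons, List.prod_cons, ih fun k hk => hw k (List.mem_cons_of_mem _ hk),
            hall i (hw i List.mem_cons_self), List.length_cons, pow_succ']
      rw [this _ (by decide), show (repW 17 armW).length = 2 * 119 by decide, pow_mul, pow_two, hy9, one_pow]
    have eP : val y (repW 17 armW) = t * t := by
      refine hinjp _ _ ?_ ?_
      · rw [val_map σE (x := y) (f := fun i => σE (y i)) (fun _ => rfl), map_mul, show σE t = 1 from rfl,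
          one_mul, val]
        rw [List.map_congr_left (g := gen) (fun i hi => hy i ((by decide : ∀ i ∈ repW 17 armW, i < 12) i hi))]
        exact (val_repW gen 17 armW).trans arm_one
      · rw [val_map pr (x := y) (f := fun i => pr (y i)) (fun _ => rfl), map_mul,
          show pr t = shiftT from rfl, val]
        rw [List.map_congr_left (f := fun i => pr (y i)) (g := liftW)
          (fun i hi => hy1 i ((by decide : ∀ i ∈ repW 17 armW, i < 12) i hi))]
        exact liftW_arm.trans (pow_two _)
    rw [eP] at e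
    have h2 : t * t ∈ D := (QuotientGroup.eq_one_iff _).1 e
    rw [show t = (t * t)⁻¹ from eq_inv_of_mul_eq_one_left ht3]
    exact inv_mem h2
  have hDle : D ≤ Γ := Subgroup.commutator_mono le_top le_top
  let σΓ : Γ →* Fi24' :=
    (σE.comp Γ.subtype).codRestrict (commutator Fi24) fun a => hΓmap ▸ Subgroup.mem_map_of_mem σE a.2
  have hΓs : Function.Surjective σΓ := fun ⟨g, hg⟩ => by
    rw [← hΓmap] at hg
    obtain ⟨a, ha, rfl⟩ := hg
    exact ⟨⟨a, ha⟩, rfl⟩
  refine ⟨Γ, inferInstance, inferInstance, σΓ, ⟨hΓs, fun a ha => ?_, fun a ha => ?_⟩, ?_⟩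
  · rw [Subgroup.mem_center_iff]
    intro b
    have h : (a : E) ∈ Subgroup.zpowers t := hker ▸ (congrArg Subtype.val ha : σE (a : E) = 1)
    obtain ⟨k, hk⟩ := Subgroup.mem_zpowers_iff.1 h
    exact Subtype.ext (by
      show (b : E) * (a : E) = (a : E) * (b : E)
      rw [← hk]; exact (Commute.zpow_right (hcomm _ b.2) k).eq)
  · have h : (a : E) ∈ Subgroup.zpowers t := hker ▸ (congrArg Subtype.val ha : σE (a : E) = 1)
    have h' : (a : E) ∈ (commutator Γ).map Γ.subtype := by
      rw [_root_.commutator_def, Subgroup.map_commutator, ← MonoidHom.range_eq_map, Subgroup.range_subtype]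
      exact (Subgroup.zpowers_le.2 htD) h
    obtain ⟨b, hb, e⟩ := h'
    rwa [← Subtype.ext e]
  · refine Eq.trans ?_ hcard
    refine Nat.card_eq_of_bijective (fun a : σΓ.ker => (⟨((a : Γ) : E),
      (congrArg Subtype.val a.2 : σE ((a : Γ) : E) = 1)⟩ : σE.ker))
      ⟨fun a b h => Subtype.ext (Subtype.ext (congrArg Subtype.val h :)), fun ⟨e, he⟩ => ?_⟩
    have : e ∈ Γ := hDle ((Subgroup.zpowers_le.2 htD) (hker ▸ he))
    exact ⟨⟨⟨e, this⟩, Subtype.ext he⟩, rfl⟩

end CfsgLib.KnownB.Fi24Mult
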