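import Cfsg.Agent.Lib.KnownB.Fi24Mult.Pts

/-!
Tables of some values of permutations given by networks, verified on planes of bits all at once.
-/

set_option autoImplicit false

namespace CfsgLib.KnownB.Fi24Mult

open CfsgLib.BitPerm

/-- a table; the right part of a node is shifted -/
inductive Tab where
  | leaf : ℕ → Tab
  | node : Tab → ℕ → Tab → Tab

namespace Tab

/-- membership of a pair (point, value) -/
def Mem : Tab → ℕ → ℕ → Prop
  | .leaf o, x, y => x = 0 ∧ y = o
  | .node l d r, x, y => l.Mem x y ∨ (d ≤ x ∧ r.Mem (x - d) y)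

/-- value at a point, when there is one -/
noncomputable def look (t : Tab) : ℕ → Option ℕ :=
  Tab.rec (motive := fun _ => ℕ → Option ℕ) (fun o x => bif Nat.beq x 0 then some o else none)
    (fun _ d _ fl fr x => bif Nat.ble d x then fr (Nat.sub x d) else fl x) t

theorem mem_of_look : ∀ {t : Tab} {x y : ℕ}, t.look x = some y → t.Mem x y
  | .leaf o, x, y, h => by
    by_cases hx : x = 0
    · subst hx
      change some o = some y at h
      exact ⟨rfl, (Option.some.inj h).symm⟩
    · exfalso
      have : Nat.beq x 0 = false := by simpa [← Bool.not_eq_true, Nat.beq_eq] using hx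
      change (bif Nat.beq x 0 then some o else none) = some y at h
      rw [this] at h
      simp at h
  | .node l d r, x, y, h => by
    change (bif Nat.ble d x then r.look (Nat.sub x d) else l.look x) = some y at h
    by_cases hx : d ≤ x
    · rw [Nat.ble_eq_true_of_le hx, cond_true] at h
      exact Or.inr ⟨hx, mem_of_look h⟩
    · have : Nat.ble d x = false := by simpa [← Bool.not_eq_true, Nat.ble_eq] using hx
      rw [this, cond_false] at h
      exact Or.inl (mem_of_look h)

/-- points of the table with a property of their values -/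
noncomputable def bits (f : ℕ → Bool) (t : Tab) : ℕ :=
  Tab.rec (motive := fun _ => ℕ) (fun o => bif f o then 1 else 0)
    (fun _ d _ a b => Nat.lor a (Nat.shiftLeft b d)) t

theorem testBit_bits (f : ℕ → Bool) : ∀ {t : Tab} {x y : ℕ}, t.Mem x y → f y = true →
    (t.bits f).testBit x = true
  | .leaf o, x, y, ⟨hx, hy⟩, hf => by
    subst hx hy
    change (bif f y then 1 else 0 : ℕ).testBit 0 = true
    rw [hf, cond_true]
    rfl
  | .node l d r, x, y, h, hf => by
    change (l.bits f ||| (r.bits f) <<< d).testBit x = true
    rw [Nat.testBit_or, Nat.testBit_shiftLeft]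
    rcases h with h | ⟨h1, h2⟩
    · rw [testBit_bits f h hf, Bool.true_or]
    · rw [testBit_bits f h2 hf, decide_eq_true h1]
      simp

/-- all values are valsLt `n` -/
noncomputable def valsLt (n : ℕ) (t : Tab) : Bool :=
  Tab.rec (motive := fun _ => Bool) (fun o => Nat.blt o n) (fun _ _ _ a b => a && b) t

theorem lt_of_valsLt {n : ℕ} : ∀ {t : Tab} {x y : ℕ}, t.valsLt n = true → t.Mem x y → y < n
  | .leaf o, _, y, h, ⟨_, hy⟩ => by
    subst hy
    exact Nat.blt_eq.mp (show Nat.blt y n = true from h)
  | .node l d r, x, y, h, hm => by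
    have h' : (l.valsLt n && r.valsLt n) = true := h
    rw [Bool.and_eq_true] at h'
    rcases hm with hm | ⟨-, hm⟩
    · exact lt_of_valsLt h'.1 hm
    · exact lt_of_valsLt h'.2 hm

/-- one plane of bits of the values -/
noncomputable def okPlane (S : Sys) (s : ℕ) (t : Tab) (j : ℕ) : Bool :=
  force (t.bits fun o => Nat.testBit o j) fun X => force (t.bits fun o => !Nat.testBit o j) fun Y =>
    force (S.act s (plane j S.k)) fun P => Nat.beq (Nat.land P X) X && Nat.beq (Nat.land P Y) 0

theorem eq_of_okPlane {S : Sys} (hS : S.okNets = true) {s : ℕ} {t : Tab} {x y j : ℕ}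
    (hm : t.Mem x y) (hlt : S.pt s x < 2 ^ S.k) (h : t.okPlane S s j = true) :
    (S.pt s x).testBit j = y.testBit j := by
  rw [okPlane, force_eq, force_eq, force_eq, Bool.and_eq_true] at h
  have e1 := congrArg (fun B => Nat.testBit B x) (Nat.eq_of_beq_eq_true h.1)
  have e2 := congrArg (fun B => Nat.testBit B x) (Nat.eq_of_beq_eq_true h.2)
  change ((S.act s (plane j S.k)) &&& (t.bits fun o => o.testBit j)).testBit x = _ at e1
  change ((S.act s (plane j S.k)) &&& (t.bits fun o => !o.testBit j)).testBit x = _ at e2
  simp only [Nat.testBit_and, Sys.testBit_act hS, testBit_plane, decide_eq_true hlt, Bool.true_and,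
    Nat.zero_testBit] at e1 e2
  by_cases hy : y.testBit j = true
  · rw [testBit_bits _ hm hy, Bool.and_true] at e1
    rw [e1, hy]
  · rw [testBit_bits _ hm (by simpa using hy), Bool.and_true] at e2
    rw [e2]
    simpa using hy

end Tab

end CfsgLib.KnownB.Fi24Mult
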