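import Cfsg.Agent.Lib.KnownB.Fi24Mult.Upper

/-! The commutator subgroup of `Fi₂₄` is perfect. -/

set_option autoImplicit false
set_option maxRecDepth 100000

namespace CfsgLib.KnownB.Fi24Mult

open Cfsg.Spor
open scoped commutatorElement

/-- the second node of a path of length two -/
def twoPaths : List (ℕ × ℕ × ℕ) :=
  [(0, 1, 2), (1, 2, 3), (2, 3, 4), (3, 4, 5), (4, 5, 6), (5, 6, 7), (6, 7, 8), (7, 8, 9), (4, 5, 10),
    (5, 10, 11)]

theorem derived_perfect : commutator ↥(commutator Fi24) = ⊤ := by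
  let D : Subgroup Fi24 := ⁅commutator Fi24, commutator Fi24⁆
  haveI : D.Normal := inferInstance
  let mk := QuotientGroup.mk' D
  let y : ℕ → Fi24 ⧸ D := fun i => mk (gen i)
  have hy2 : ∀ i, y i * y i = 1 := fun i => by
    show mk (gen i) * mk (gen i) = 1
    rw [← map_mul, gen_sq, map_one]
  have hab : ∀ a ∈ commutator Fi24, ∀ b ∈ commutator Fi24, mk a * mk b = mk b * mk a := by
    intro a ha b hb
    have : mk ⁅a, b⁆ = 1 :=
      (QuotientGroup.eq_one_iff _).2 (Subgroup.commutator_mem_commutator ha hb)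
    rw [map_commutatorElement, commutatorElement_eq_one_iff_mul_comm] at this
    exact this
  have hmem : ∀ i < 12, ∀ j < 12, gen i * gen j ∈ commutator Fi24 := fun i hi j hj => by
    have := mul_mem (gen_mul_two_mem i hi) (inv_mem (gen_mul_two_mem j hj))
    rwa [mul_inv_rev, gen_inv, gen_inv, ← mul_assoc, mul_assoc (gen i), gen_sq, mul_one] at this
  have h3 : ∀ i < 12, ∀ j < 12, edgeX i j = true → (y i * y j) ^ 3 = 1 := fun i hi j hj h => by
    show (mk (gen i) * mk (gen j)) ^ 3 = 1
    rw [← map_mul, ← map_pow, gen_pow_three hi hj h, map_one]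
  have h2 : ∀ i < 12, ∀ j < 12, edgeX i j = false → (y i * y j) ^ 2 = 1 := fun i hi j hj h => by
    show (mk (gen i) * mk (gen j)) ^ 2 = 1
    rw [← map_mul, ← map_pow, pow_two, mul_assoc, ← mul_assoc (gen j), ← gen_comm hi hj h, mul_assoc,
      gen_sq, mul_one, gen_sq, map_one]
  have eq_of : ∀ i j, y i * y j = 1 → y i = y j := fun i j h => by
    rw [eq_inv_of_mul_eq_one_left h, inv_eq_of_mul_eq_one_right (hy2 j)]
  have hstep : ∀ p ∈ twoPaths, y p.1 = y p.2.2 := by
    rintro ⟨i, j, k⟩ hp
    obtain ⟨hi, hj, hk, e1, e2, e3⟩ : i < 12 ∧ j < 12 ∧ k < 12 ∧ edgeX i j = true ∧ edgeX j k = true ∧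
        edgeX i k = false :=
      (by decide : ∀ p ∈ twoPaths, p.1 < 12 ∧ p.2.1 < 12 ∧ p.2.2 < 12 ∧ edgeX p.1 p.2.1 = true ∧
        edgeX p.2.1 p.2.2 = true ∧ edgeX p.1 p.2.2 = false) _ hp
    apply eq_of
    have hc : Commute (y i * y j) (y j * y k) := by
      have h := hab _ (hmem i hi j hj) _ (hmem j hj k hk)
      simp only [map_mul] at h
      exact h
    have e : y i * y k = y i * y j * (y j * y k) := by
      rw [mul_assoc, ← mul_assoc (y j), hy2, one_mul]
    have h6 : (y i * y k) ^ 3 = 1 := by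
      rw [e, hc.mul_pow, h3 i hi j hj e1, h3 j hj k hk e2, one_mul]
    have h4 := h2 i hi k hk e3
    rwa [pow_succ, h4, one_mul] at h6
  have hall : ∀ i < 12, y i = y 2 := by
    have a2 : ∀ p ∈ twoPaths, y p.1 = y p.2.2 := hstep
    have s02 := a2 (0, 1, 2) (by decide)
    have s13 := a2 (1, 2, 3) (by decide)
    have s24 := a2 (2, 3, 4) (by decide)
    have s35 := a2 (3, 4, 5) (by decide)
    have s46 := a2 (4, 5, 6) (by decide)
    have s57 := a2 (5, 6, 7) (by decide)
    have s68 := a2 (6, 7, 8) (by decide)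
    have s79 := a2 (7, 8, 9) (by decide)
    have s410 := a2 (4, 5, 10) (by decide)
    have s511 := a2 (5, 10, 11) (by decide)
    dsimp only at s02 s13 s24 s35 s46 s57 s68 s79 s410 s511
    have h12 : y 1 = y 2 := by
      apply eq_of
      have e3 := h3 1 (by norm_num) 2 (by norm_num) (by decide)
      have e4 := h2 1 (by norm_num) 4 (by norm_num) (by decide)
      rw [← s24] at e4
      rwa [pow_succ, e4, one_mul] at e3
    intro i hi
    interval_cases i
    · exact s02
    · exact h12
    · rfl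
    · rw [← s13, h12]
    · exact s24.symm
    · rw [← s35, ← s13, h12]
    · rw [← s46, ← s24]
    · rw [← s57, ← s35, ← s13, h12]
    · rw [← s68, ← s46, ← s24]
    · rw [← s79, ← s57, ← s35, ← s13, h12]
    · rw [← s410, ← s24]
    · rw [← s511, ← s35, ← s13, h12]
  obtain ⟨ψ, hψ⟩ := exists_sign
  have key : ∀ t : Fi24, mk t = y 2 ^ (Multiplicative.toAdd (ψ t)).val := by
    intro t
    have hmul : ∀ a b : ZMod 2, y 2 ^ (a + b).val = y 2 ^ a.val * y 2 ^ b.val := by
      have s : y 2 ^ 2 = 1 := by rw [pow_two, hy2]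
      intro a b
      rw [ZMod.val_add, ← pow_add]
      exact (pow_eq_pow_mod _ s).symm
    have ht : t ∈ Subgroup.closure (gen '' {i | i < 12}) := closure_gen ▸ Subgroup.mem_top t
    induction ht using Subgroup.closure_induction with
    | mem q hq =>
      obtain ⟨i, hi, rfl⟩ := hq
      rw [hψ i hi, show mk (gen i) = y i from rfl, hall i hi, toAdd_ofAdd,
        show (1 : ZMod 2).val = 1 from rfl, pow_one]
    | one => rw [map_one, map_one, toAdd_one, ZMod.val_zero, pow_zero]
    | mul u v _ _ hu hv => rw [map_mul, map_mul, toAdd_mul, hmul, hu, hv]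
    | inv u _ hu =>
      rw [map_inv, map_inv, toAdd_inv, ZMod.neg_eq_self_mod_two, hu]
      have s : ∀ n : ℕ, y 2 ^ n * y 2 ^ n = 1 := fun n => by
        rw [← (Commute.refl (y 2)).mul_pow, hy2, one_pow]
      exact inv_eq_of_mul_eq_one_right (s _)
  have hle : commutator Fi24 ≤ D := fun d hd => by
    refine (QuotientGroup.eq_one_iff d).1 ?_
    show mk d = 1
    rw [key d, MonoidHom.mem_ker.1 (Abelianization.commutator_subset_ker ψ hd), toAdd_one,
      ZMod.val_zero, pow_zero]
  refine eq_top_iff.2 fun d _ => ?_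
  have hd : (d : Fi24) ∈ (commutator ↥(commutator Fi24)).map (commutator Fi24).subtype := by
    rw [_root_.commutator_def ↥(commutator Fi24), Subgroup.map_commutator, ← MonoidHom.range_eq_map,
      Subgroup.range_subtype]
    exact hle d.2
  obtain ⟨e, he, h⟩ := hd
  rwa [← Subtype.ext h]

end CfsgLib.KnownB.Fi24Mult
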