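import Cfsg.Agent.Lib.KnownB.Fi24Mult.Main
import Cfsg.Agent.Lib.KnownB.Fi24Mult.Perfect
import Cfsg.Agent.Lib.Spor.Fi24.Index
import Cfsg.Agent.Lib.Spor.Fi24.Spider
import Cfsg.Agent.Lib.Spor.FischerTypes.Stab24

/-! The Schur multiplier of `Fi₂₄′`. -/

set_option autoImplicit false

namespace CfsgLib.KnownB.Fi24Mult

open Cfsg.Spor

theorem multiplier_fi24 : Cfsg.HasCyclicSchurMultiplier Fi24' 3 := by
  have F : CfsgLib.Spor.FischerTypes.CosetFacts :=
    ⟨CfsgLib.Spor.Fi24.index_H, CfsgLib.Spor.Fi24.Spider.spider_mem⟩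
  obtain ⟨-, -, hcard, -⟩ := CfsgLib.Spor.FischerTypes.exists_quot24 F
  haveI : Finite Fi24 := Nat.finite_of_card_ne_zero (by
    rw [← Subgroup.card_mul_index CfsgLib.Spor.Fi24.H, hcard, CfsgLib.Spor.Fi24.index_H]; norm_num)
  exact multiplier_three
    (stabH_of_index (by rw [CfsgLib.Spor.Fi24.index_H]; norm_num) CfsgLib.Spor.Fi24.index_H.le)
    derived_perfect

end CfsgLib.KnownB.Fi24Mult
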