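import Cfsg.Agent.Lib.KnownB.Fi24Mult.Existence
import Cfsg.Agent.Lib.Schur.Basic

/-! The multiplier of `Fi₂₄′` from the order of the stabiliser and perfectness. -/

set_option autoImplicit false

namespace CfsgLib.KnownB.Fi24Mult

open Cfsg.Spor

theorem multiplier_three [Finite Fi24] (hH : StabH)
    (hperf : commutator ↥(commutator Fi24) = ⊤) :
    Cfsg.HasCyclicSchurMultiplier Fi24' 3 := by
  obtain ⟨Γ, _, _, σ, hσ, hn⟩ := exists_stem_three hperf
  exact CfsgLib.Schur.hasCyclicSchurMultiplier_of_bound hσ hn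
    fun X _ _ τ hτ => stem_bound hH hperf τ hτ

theorem stabH_of_index (h : CfsgLib.Spor.Fi24.H.index ≠ 0)
    (hle : CfsgLib.Spor.Fi24.H.index ≤ 306936) : StabH := by
  haveI : CfsgLib.Spor.Fi24.H.FiniteIndex := ⟨h⟩
  intro g hg
  let f : Fi24 ⧸ CfsgLib.Spor.Fi24.H → Pt := fun q =>
    Quotient.liftOn' q (fun g => act24 g base) (fun a b hab => by
      rw [QuotientGroup.leftRel_apply] at hab
      have h' : act24 (a⁻¹ * b) base = base := CfsgLib.Spor.Fi24.H_fix _ hab
      rw [map_mul, map_inv, Equiv.Perm.mul_apply, Equiv.Perm.inv_eq_iff_eq] at h'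
      exact h'.symm)
  have hs : Function.Surjective f := fun i => by
    obtain ⟨q, hq⟩ := CfsgLib.Spor.Fi24.transitive i
    exact ⟨QuotientGroup.mk q, hq⟩
  have hb : Function.Bijective f := (Nat.bijective_iff_surjective_and_card f).2 ⟨hs, by
    rw [Nat.card_fin, ← Subgroup.index_eq_card]
    exact le_antisymm hle (CfsgLib.Spor.Fi24.index_H_ge h)⟩
  have e : f (QuotientGroup.mk g) = f (QuotientGroup.mk 1) := by
    show act24 g base = act24 1 base
    rw [hg, map_one, Equiv.Perm.one_apply]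
  have := hb.1 e
  rw [QuotientGroup.eq, mul_one, inv_mem_iff] at this
  exact this

end CfsgLib.KnownB.Fi24Mult
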