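import Cfsg.Prelude.Def_Spor_Fi24

/-! The presented group `Fi₂₄` in terms of numbered generators. -/

set_option autoImplicit false
set_option maxRecDepth 100000

namespace CfsgLib.KnownB.Fi24Mult

open Cfsg.Spor

/-- number of a node -/
def posG : Fi24.Gen → ℕ
  | .l => 0
  | .k => 1
  | .a => 2
  | .b => 3
  | .c => 4
  | .d => 5
  | .e => 6
  | .f => 7
  | .g => 8
  | .j => 9
  | .h => 10
  | .i => 11

/-- node of a number -/
def ndG : ℕ → Fi24.Gen
  | 0 => .l
  | 1 => .k
  | 2 => .a
  | 3 => .b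
  | 4 => .c
  | 5 => .d
  | 6 => .e
  | 7 => .f
  | 8 => .g
  | 9 => .j
  | 10 => .h
  | _ => .i

/-- the edges of the diagram `Y₅₄₂` -/
def edgeX (i j : ℕ) : Bool :=
  [(0, 1), (1, 2), (2, 3), (3, 4), (4, 5), (5, 6), (6, 7), (7, 8), (8, 9), (5, 10), (10, 11)].any
    fun p => (Nat.beq p.1 i && Nat.beq p.2 j) || (Nat.beq p.1 j && Nat.beq p.2 i)

/-- the node before a given one -/
def parN (j : ℕ) : ℕ := [0, 0, 1, 2, 3, 4, 5, 6, 7, 8, 5, 10].getD j 0

/-- value of a word -/
def val {H : Type*} [Monoid H] (f : ℕ → H) (w : List ℕ) : H := (w.map f).prod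

theorem val_nil {H : Type*} [Monoid H] (f : ℕ → H) : val f [] = 1 := rfl

theorem val_cons {H : Type*} [Monoid H] (f : ℕ → H) (a : ℕ) (w : List ℕ) :
    val f (a :: w) = f a * val f w := by simp [val]

theorem val_append {H : Type*} [Monoid H] (f : ℕ → H) (v w : List ℕ) :
    val f (v ++ w) = val f v * val f w := by simp [val]

theorem val_map {G H : Type*} [Monoid G] [Monoid H] (σ : G →* H) {x : ℕ → G} {f : ℕ → H}
    (h : ∀ i, σ (x i) = f i) (w : List ℕ) : σ (val x w) = val f w := by
  rw [val, val, map_list_prod, List.map_map]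
  congr 2
  funext j
  exact h j

/-- `n` copies of a word -/
def repW : ℕ → List ℕ → List ℕ
  | 0, _ => []
  | n + 1, w => repW n w ++ w

theorem val_repW {H : Type*} [Monoid H] (f : ℕ → H) (n : ℕ) (w : List ℕ) :
    val f (repW n w) = val f w ^ n := by
  induction n with
  | zero => simp [repW, val_nil]
  | succ n ih => rw [repW, val_append, ih, pow_succ]

/-- the word of type `E₇` -/
def sevenW : List ℕ := [2, 3, 4, 5, 6, 7, 10]

/-- the word from the centre to the ends of the arms -/
def armW : List ℕ := [5, 4, 3, 2, 1, 0, 5, 6, 7, 8, 9, 5, 10, 11]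

theorem ndG_posG (x : Fi24.Gen) : ndG (posG x) = x := by cases x <;> rfl

theorem posG_lt (x : Fi24.Gen) : posG x < 12 := by cases x <;> decide

theorem posG_ndG : ∀ i < 12, posG (ndG i) = i := by decide

theorem edgeX_irrefl : ∀ i < 12, edgeX i i = false := by decide

theorem edgeX_symm : ∀ i < 12, ∀ j < 12, edgeX i j = edgeX j i := by decide

theorem par_lt : ∀ j < 12, 0 < j → parN j < j ∧ edgeX (parN j) j = true := by decide

theorem edge_par : ∀ i < 12, ∀ j < 12, edgeX i j = true →
    (0 < j ∧ parN j = i) ∨ (0 < i ∧ parN i = j) := by decide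

theorem mem_nodes : ∀ x : Fi24.Gen, x ∈ coxNodes Fi24.edges := by intro x; cases x <;> decide

theorem label_cases (x y : Fi24.Gen) : (x = y ∧ coxLabel Fi24.edges x y = 1) ∨
    (edgeX (posG x) (posG y) = true ∧ x ≠ y ∧ coxLabel Fi24.edges x y = 3) ∨
    (edgeX (posG x) (posG y) = false ∧ x ≠ y ∧ coxLabel Fi24.edges x y = 2) := by
  cases x <;> cases y <;> decide

/-- a generator of the presented group -/
def gen (i : ℕ) : Fi24 := PresentedGroup.of (ndG i)

theorem cox_rel (x y : Fi24.Gen) :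
    ((PresentedGroup.of x : Fi24) * PresentedGroup.of y) ^ coxLabel Fi24.edges x y = 1 := by
  have h := PresentedGroup.one_of_mem (rels := coxRelators Fi24.edges ∪ {r | r ∈ Fi24.extra})
    (Or.inl ⟨x, mem_nodes x, y, mem_nodes y, rfl⟩ :
      (FreeGroup.of x * FreeGroup.of y) ^ coxLabel Fi24.edges x y ∈ _)
  rw [map_pow, map_mul] at h
  exact h

theorem gen_sq (i : ℕ) : gen i * gen i = 1 := by
  have h := cox_rel (ndG i) (ndG i)
  rw [show coxLabel Fi24.edges (ndG i) (ndG i) = 1 by rw [coxLabel, if_pos rfl], pow_one] at h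
  exact h

theorem gen_inv (i : ℕ) : (gen i)⁻¹ = gen i := inv_eq_of_mul_eq_one_right (gen_sq i)

theorem gen_pow_three {i j : ℕ} (hi : i < 12) (hj : j < 12) (h : edgeX i j = true) :
    (gen i * gen j) ^ 3 = 1 := by
  rcases label_cases (ndG i) (ndG j) with ⟨e, -⟩ | ⟨-, -, hl⟩ | ⟨e, -, -⟩
  · exfalso
    have hij := congrArg posG e
    rw [posG_ndG i hi, posG_ndG j hj] at hij
    rw [hij, edgeX_irrefl j hj] at h
    exact Bool.noConfusion h
  · exact hl ▸ cox_rel (ndG i) (ndG j)
  · rw [posG_ndG i hi, posG_ndG j hj, h] at e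
    exact absurd e (by decide)

theorem gen_comm {i j : ℕ} (hi : i < 12) (hj : j < 12) (h : edgeX i j = false) :
    gen i * gen j = gen j * gen i := by
  rcases label_cases (ndG i) (ndG j) with ⟨e, -⟩ | ⟨e, -⟩ | ⟨-, -, hl⟩
  · have hij := congrArg posG e
    rw [posG_ndG i hi, posG_ndG j hj] at hij
    rw [hij]
  · rw [posG_ndG i hi, posG_ndG j hj, h] at e
    exact absurd e (by decide)
  · have h2 := cox_rel (ndG i) (ndG j)
    rw [hl, pow_two] at h2
    have h3 : gen i * gen j * (gen i * gen j) = 1 := h2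
    rw [eq_inv_of_mul_eq_one_left h3, mul_inv_rev, gen_inv, gen_inv]

theorem extra_eq : Fi24.extra = [FreeGroup.of (ndG 0) * (((sevenW.map fun i => FreeGroup.of (ndG i)).prod) ^ 9)⁻¹,
    ((armW.map fun i => FreeGroup.of (ndG i)).prod) ^ 17] := by
  simp [Fi24.extra, sevenW, armW, ndG, mul_assoc]

theorem seven_eq : val gen sevenW ^ 9 = gen 0 := by
  have h := PresentedGroup.one_of_mem (rels := coxRelators Fi24.edges ∪ {r | r ∈ Fi24.extra})
    (Or.inr (by show _ ∈ Fi24.extra; rw [extra_eq]; exact List.mem_cons_self) :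
      FreeGroup.of (ndG 0) * (((sevenW.map fun i => FreeGroup.of (ndG i)).prod) ^ 9)⁻¹ ∈ _)
  rw [map_mul, map_inv, map_pow, map_list_prod, List.map_map, mul_inv_eq_one] at h
  exact h.symm

theorem arm_one : val gen armW ^ 17 = 1 := by
  have h := PresentedGroup.one_of_mem (rels := coxRelators Fi24.edges ∪ {r | r ∈ Fi24.extra})
    (Or.inr (by show _ ∈ Fi24.extra; rw [extra_eq]; exact List.mem_cons_of_mem _ List.mem_cons_self) :
      ((armW.map fun i => FreeGroup.of (ndG i)).prod) ^ 17 ∈ _)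
  rw [map_pow, map_list_prod, List.map_map] at h
  exact h

theorem closure_gen : Subgroup.closure (gen '' {i | i < 12}) = ⊤ := by
  rw [eq_top_iff, ← PresentedGroup.closure_range_of, Subgroup.closure_le]
  rintro _ ⟨x, rfl⟩
  exact Subgroup.subset_closure ⟨posG x, posG_lt x, by rw [gen, ndG_posG]⟩

/-- A family satisfying the relations gives a homomorphism. -/
theorem exists_hom {H : Type*} [Group H] (f : ℕ → H) (hsq : ∀ i < 12, f i * f i = 1)
    (hcomm : ∀ i < 12, ∀ j < 12, edgeX i j = false → i ≠ j → f i * f j = f j * f i)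
    (hedge : ∀ i < 12, ∀ j < 12, edgeX i j = true → (f i * f j) ^ 3 = 1)
    (hseven : val f sevenW ^ 9 = f 0) (harm : val f armW ^ 17 = 1) :
    ∃ ψ : Fi24 →* H, ∀ i < 12, ψ (gen i) = f i := by
  have key : ∀ r ∈ coxRelators Fi24.edges ∪ {r | r ∈ Fi24.extra},
      FreeGroup.lift (fun x => f (posG x)) r = 1 := by
    have hw : ∀ w : List ℕ, (∀ i ∈ w, i < 12) →
        FreeGroup.lift (fun x => f (posG x)) ((w.map fun i => FreeGroup.of (ndG i)).prod) = val f w := by
      intro w hw
      rw [map_list_prod, List.map_map, val]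
      refine congrArg List.prod (List.map_congr_left fun i hi => ?_)
      simp [posG_ndG i (hw i hi)]
    rintro r (⟨x, -, y, -, rfl⟩ | hr)
    · rw [map_pow, map_mul, FreeGroup.lift_apply_of, FreeGroup.lift_apply_of]
      rcases label_cases x y with ⟨rfl, hl⟩ | ⟨he, -, hl⟩ | ⟨he, hne, hl⟩ <;> rw [hl]
      · rw [pow_one, hsq _ (posG_lt x)]
      · exact hedge _ (posG_lt x) _ (posG_lt y) he
      · have h := hcomm _ (posG_lt x) _ (posG_lt y) he fun e => hne (by
          have := congrArg ndG e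
          rwa [ndG_posG, ndG_posG] at this)
        rw [pow_two, mul_assoc, ← mul_assoc (f (posG y)), ← h, mul_assoc, hsq _ (posG_lt y), mul_one,
          hsq _ (posG_lt x)]
    · rw [Set.mem_setOf_eq, extra_eq] at hr
      simp only [List.mem_cons, List.not_mem_nil, or_false] at hr
      rcases hr with rfl | rfl
      · rw [map_mul, map_inv, map_pow, hw _ (by decide), FreeGroup.lift_apply_of, hseven,
          posG_ndG 0 (by norm_num), mul_inv_cancel]
      · rw [map_pow, hw _ (by decide), harm]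
  exact ⟨PresentedGroup.toGroup key, fun i hi => by
    rw [gen, PresentedGroup.toGroup.of, posG_ndG i hi]⟩

end CfsgLib.KnownB.Fi24Mult
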