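import Cfsg.Agent.Lib.KnownB.Fi24Mult.Pres
import Cfsg.Agent.Lib.Spor.Fi24.Perm

/-! The action of `Fi₂₄` on 306936 points in terms of numbered generators. -/

set_option autoImplicit false
set_option maxRecDepth 100000

namespace CfsgLib.KnownB.Fi24Mult

open Cfsg.Spor CfsgLib.BitPerm

/-- the points -/
abbrev Pt : Type := Fin 306936

/-- the action -/
noncomputable abbrev act24 : Fi24 →* Equiv.Perm Pt := CfsgLib.Spor.Fi24.π

/-- the point of the generator `l` -/
def base : Pt := ⟨0, by norm_num⟩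

/-- an element fixing the base point lies in the subgroup of the generators other than `k` -/
def StabH : Prop := ∀ g : Fi24, act24 g base = base → g ∈ CfsgLib.Spor.Fi24.H

theorem idx_ndG : ∀ i < 12, CfsgLib.Spor.Fi24.idx (ndG i) = i := by decide

theorem act_gen {i : ℕ} (hi : i < 12) (v : Pt) :
    ((act24 (gen i) v : Pt) : ℕ) = CfsgLib.Spor.Fi24.sys.pt i v := by
  have h := CfsgLib.Spor.Fi24.π_gen (ndG i) v
  rw [idx_ndG i hi] at h
  exact h

theorem act_word : ∀ (w : List ℕ), (∀ i ∈ w, i < 12) → ∀ v : Pt,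
    ((act24 (val gen w) v : Pt) : ℕ) = CfsgLib.Spor.Fi24.sys.ptW w.reverse v
  | [], _, v => by simp [val, Sys.ptW]
  | i :: w, hw, v => by
    rw [val_cons, map_mul, Equiv.Perm.mul_apply, act_gen (hw i List.mem_cons_self),
      act_word w (fun j hj => hw j (List.mem_cons_of_mem _ hj)), List.reverse_cons, Sys.ptW_append]
    rfl

theorem act_base {i : ℕ} (hi : i < 12) (h : i ≠ 1) : act24 (gen i) base = base := by
  refine CfsgLib.Spor.Fi24.gen_fix (x := ndG i) ?_
  have : ∀ i < 12, i ≠ 1 → ndG i ∈ CfsgLib.Spor.Fi24.hGens := by decide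
  exact this i hi h

theorem mem_H_of (g : Fi24) (h : g ∈ CfsgLib.Spor.Fi24.H) :
    g ∈ Subgroup.closure (gen '' {i | i < 12 ∧ i ≠ 1}) := by
  revert g
  refine (Subgroup.closure_le _).2 ?_
  rintro _ ⟨x, hx, rfl⟩
  refine Subgroup.subset_closure ⟨posG x, ⟨posG_lt x, ?_⟩, by rw [gen, ndG_posG]; rfl⟩
  revert hx
  cases x <;> decide

/-- the point of a generator -/
noncomputable def ptN : ℕ → Pt
  | 0 => base
  | 1 => act24 (gen 0 * gen 1) (ptN 0)
  | 2 => act24 (gen 1 * gen 2) (ptN 1)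
  | 3 => act24 (gen 2 * gen 3) (ptN 2)
  | 4 => act24 (gen 3 * gen 4) (ptN 3)
  | 5 => act24 (gen 4 * gen 5) (ptN 4)
  | 6 => act24 (gen 5 * gen 6) (ptN 5)
  | 7 => act24 (gen 6 * gen 7) (ptN 6)
  | 8 => act24 (gen 7 * gen 8) (ptN 7)
  | 9 => act24 (gen 8 * gen 9) (ptN 8)
  | 10 => act24 (gen 5 * gen 10) (ptN 5)
  | 11 => act24 (gen 10 * gen 11) (ptN 10)
  | _ => base

/-- numbers of the points of the generators -/
def ptNum : List ℕ := [0, 31673, 1, 3, 5, 142, 266, 268, 367, 435, 157, 799]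

theorem ptN_succ : ∀ j < 12, 0 < j → ptN j = act24 (gen (parN j) * gen j) (ptN (parN j)) := by
  intro j hj h0
  interval_cases j <;> simp only [ptN, parN, List.getD_cons_succ, List.getD_cons_zero]

theorem conj_par {j : ℕ} (hj : j < 12) (h : 0 < j) :
    gen j = gen (parN j) * gen j * gen (parN j) * (gen (parN j) * gen j)⁻¹ := by
  obtain ⟨hp, he⟩ := par_lt j hj h
  have h3 := gen_pow_three (by omega) hj he
  rw [mul_inv_rev, gen_inv, gen_inv]
  generalize gen (parN j) = p at h3 ⊢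
  generalize hq : gen j = q at h3 ⊢
  have e : p * q * p * q * p * q = 1 := by rw [← h3]; simp [pow_succ, mul_assoc]
  calc q = (p * q * p * q * p * q) * q := by rw [e, one_mul]
    _ = p * q * p * q * p * (q * q) := by simp only [mul_assoc]
    _ = p * q * p * (q * p) := by rw [← hq, gen_sq, mul_one]; simp only [mul_assoc]

end CfsgLib.KnownB.Fi24Mult
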