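import Cfsg.Agent.Lib.KnownB.Fi24Mult.TabData

/-! Verification of a table (generated). -/

set_option Elab.async false

namespace CfsgLib.KnownB.Fi24Mult

open CfsgLib.BitPerm

theorem tab4_planes0 : (([0, 1, 2, 3, 4] : List ℕ).all fun j => tab4.okPlane CfsgLib.Spor.Fi24.sys 4 j) = true := by
  decide +kernel

theorem tab4_planes1 : (([5, 6, 7, 8, 9] : List ℕ).all fun j => tab4.okPlane CfsgLib.Spor.Fi24.sys 4 j) = true := by
  decide +kernel

theorem tab4_planes2 : (([10, 11, 12, 13, 14] : List ℕ).all fun j => tab4.okPlane CfsgLib.Spor.Fi24.sys 4 j) = true := by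
  decide +kernel

theorem tab4_planes3 : (([15, 16, 17, 18] : List ℕ).all fun j => tab4.okPlane CfsgLib.Spor.Fi24.sys 4 j) = true := by
  decide +kernel

theorem tab4_lt : tab4.valsLt (2 ^ 19) = true := by decide +kernel

end CfsgLib.KnownB.Fi24Mult
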