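import Cfsg.Agent.Lib.KnownB.Fi24Mult.Hurwitz

/-! Tables of values of the twelve generators (generated data). -/

set_option autoImplicit false
set_option maxRecDepth 100000

namespace CfsgLib.KnownB.Fi24Mult

/-- table of generator 0 -/
def tab0 : Tab :=
  (.node (.node (.node (.node (.node (.node (.node (.leaf 0) 1 (.node (.leaf 1) 1 (.leaf 2))) 3 (.node (.node (.leaf 3) 1 (.leaf 4)) 2 (.node (.leaf 5) 1 (.leaf 6)))) 7 (.node (.node (.node (.leaf 7) 1 (.leaf 8)) 40 (.node (.leaf 47) 3 (.leaf 50))) 55 (.node (.node (.leaf 62) 4 (.leaf 66)) 6 (.node (.leaf 68) 29 (.leaf 97))))) 99 (.node (.node (.node (.node (.leaf 99) 32 (.leaf 131)) 35 (.node (.leaf 134) 2 (.leaf 136))) 38 (.node (.node (.leaf 137) 1 (.leaf 138)) 4 (.node (.leaf 141) 14 (.leaf 155)))) 57 (.node (.node (.node (.leaf 156) 1 (.leaf 157)) 3 (.node (.leaf 159) 3 (.leaf 162))) 7 (.node (.node (.leaf 163) 23 (.leaf 186)) 56 (.node (.leaf 219) 47 (.leaf 266)))))) 267 (.node (.node (.node (.node (.leaf 267) 1 (.node (.leaf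 268) 32 (.leaf 300))) 35 (.node (.node (.leaf 302) 1 (.leaf 303)) 56 (.node (.leaf 358) 8 (.leaf 366)))) 100 (.node (.node (.node (.leaf 367) 1 (.leaf 368)) 2 (.node (.leaf 369) 66 (.leaf 435))) 69 (.node (.node (.leaf 436) 178 (.leaf 614)) 273 (.node (.leaf 709) 90 (.leaf 799))))) 2312 (.node (.node (.node (.node (.leaf 2579) 1328 (.leaf 3907)) 2082 (.node (.leaf 4661) 1 (.leaf 4662))) 2084 (.node (.node (.leaf 4663) 2 (.leaf 4665)) 77 (.node (.leaf 4740) 66 (.leaf 4806)))) 2933 (.node (.node (.node (.leaf 5512) 3047 (.leaf 8559)) 9416 (.node (.leaf 14928) 3031 (.leaf 17959))) 13166 (.node (.node (.leaf 18678) 8780 (.leaf 27458)) 9632 (.node (.leaf 28310) 26 (.leaf 28336))))))) 28785 (.node (.node (.node (.node (.node (.leaf 28785) 2887 (.node (.leaf 31673) 1 (.leaf 31672))) 2889 (.node (.node (.leaf 31675) 1 (.leaf 31674)) 74 (.node (.leaf 31749) 3 (.leaf 31771)))) 2970 (.node (.node (.node (.leaf 31894) 2 (.leaf 31896)) 10 (.node (.leaf 31904) 1 (.leaf 31905))) 12 (.node (.node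 (.leaf 31906) 1 (.leaf 31907)) 4 (.node (.leaf 31751) 1 (.leaf 31752))))) 2988 (.node (.node (.node (.node (.leaf 31753) 1 (.leaf 31754)) 121 (.node (.leaf 31755) 2 (.leaf 31757))) 129 (.node (.node (.leaf 31763) 1 (.leaf 31764)) 2 (.node (.leaf 31765) 2 (.leaf 31767)))) 134 (.node (.node (.node (.leaf 31768) 13 (.leaf 31921)) 130 (.node (.leaf 31892) 1 (.leaf 32039))) 132 (.node (.node (.leaf 32038) 227 (.leaf 32126)) 233 (.node (.leaf 33369) 144 (.leaf 32415)))))) 3767 (.node (.node (.node (.node (.leaf 31679) 130 (.node (.leaf 32683) 102 (.leaf 32785))) 233 (.node (.node (.leaf 32784) 1 (.leaf 33245)) 91 (.node (.leaf 32787) 6 (.leaf 32555)))) 575 (.node (.node (.node (.leaf 54734) 117 (.leaf 33362)) 118 (.node (.leaf 32786) 124 (.leaf 32272))) 270 (.node (.node (.leaf 33576) 412 (.leaf 33855)) 458 (.node (.leaf 33809) 8 (.leaf 55950))))) 1550 (.node (.node (.node (.node (.leaf 34301) 195 (.leaf 34511)) 209 (.node (.leaf 55150) 200 (.leaf 34297))) 735 (.node (.node (.leaf 57896)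 427 (.leaf 35265)) 428 (.node (.leaf 35264) 552 (.leaf 127247)))) 2880 (.node (.node (.node (.leaf 36981) 13380 (.leaf 85779)) 16435 (.node (.leaf 119858) 687 (.leaf 221147))) 17167 (.node (.node (.leaf 221622) 114 (.leaf 54262)) 860 (.node (.leaf 55010) 941 (.leaf 33863)))))))) 56458 (.node (.node (.node (.node (.node (.node (.leaf 127647) 815 (.node (.leaf 54407) 272 (.leaf 55152))) 1438 (.node (.node (.leaf 34837) 352 (.leaf 32773)) 1387 (.node (.leaf 51928) 763 (.leaf 51929)))) 4212 (.node (.node (.node (.leaf 141591) 4166 (.leaf 264196)) 12710 (.node (.leaf 305579) 71 (.leaf 73414))) 13592 (.node (.node (.leaf 299395) 485 (.leaf 221337)) 486 (.node (.leaf 182898) 339 (.leaf 75088))))) 22027 (.node (.node (.node (.node (.leaf 144118) 231 (.leaf 216231)) 1849 (.node (.leaf 261108) 1129 (.leaf 59986))) 4503 (.node (.node (.leaf 69584) 1711 (.leaf 84700)) 2125 (.node (.leaf 50204) 314 (.leaf 287240)))) 9469 (.node (.node (.node (.leaf 58057) 6 (.leaf 88107)) 890 (.node (.leaf 60843)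 4825 (.leaf 170561))) 8570 (.node (.node (.leaf 227273) 2223 (.leaf 137373)) 5273 (.node (.leaf 90382) 6586 (.leaf 60219)))))) 54681 (.node (.node (.node (.node (.leaf 266685) 492 (.node (.leaf 129380) 1708 (.leaf 54409))) 5937 (.node (.node (.leaf 131344) 387 (.leaf 114710)) 2782 (.node (.leaf 53417) 1252 (.leaf 156022)))) 13397 (.node (.node (.node (.leaf 123754) 1632 (.leaf 42006)) 9667 (.node (.leaf 254830) 3170 (.leaf 98747))) 17055 (.node (.node (.leaf 60670) 2602 (.leaf 281880)) 2677 (.node (.leaf 146368) 43 (.leaf 150498))))) 35500 (.node (.node (.node (.node (.leaf 227041) 437 (.leaf 100683)) 1963 (.node (.leaf 64171) 982 (.leaf 281199))) 3698 (.node (.node (.leaf 128393) 161 (.leaf 144311)) 365 (.node (.leaf 140521) 1278 (.leaf 110447)))) 6241 (.node (.node (.node (.leaf 33250) 415 (.leaf 44361)) 6260 (.node (.leaf 260618) 103 (.leaf 296583))) 6433 (.node (.node (.leaf 182712) 2683 (.leaf 77230)) 7627 (.node (.leaf 166939) 8 (.leaf 166947))))))) 110764 (.node (.node (.node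 (.node (.node (.leaf 188454) 684 (.node (.leaf 168056) 7796 (.leaf 59259))) 13477 (.node (.node (.leaf 184925) 1170 (.leaf 102884)) 2745 (.node (.leaf 142537) 1481 (.leaf 180699)))) 21232 (.node (.node (.node (.leaf 167222) 1015 (.leaf 57549)) 1155 (.node (.leaf 189608) 5945 (.leaf 87571))) 12797 (.node (.node (.leaf 173534) 1395 (.leaf 202647)) 7429 (.node (.leaf 296930) 2988 (.leaf 294778))))) 47686 (.node (.node (.node (.node (.leaf 106393) 479 (.leaf 185817)) 3308 (.node (.leaf 100810) 49 (.leaf 152929))) 6066 (.node (.node (.leaf 106594) 173 (.leaf 54104)) 4840 (.node (.leaf 104096) 1915 (.leaf 160487)))) 13057 (.node (.node (.node (.leaf 158959) 1147 (.leaf 191791)) 4098 (.node (.leaf 178500) 1929 (.leaf 114514))) 7734 (.node (.node (.leaf 242940) 2170 (.leaf 294635)) 14814 (.node (.leaf 217029) 1134 (.leaf 274166)))))) 84731 (.node (.node (.node (.node (.node (.leaf 192258) 1441 (.leaf 73627)) 1685 (.node (.leaf 284905) 1730 (.leaf 221314))) 11211 (.node (.node (.leaf 50431)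 1032 (.leaf 64836)) 1185 (.node (.leaf 121228) 2924 (.leaf 273963)))) 16839 (.node (.node (.node (.leaf 122037) 69 (.leaf 189475)) 495 (.node (.leaf 95773) 414 (.leaf 152068))) 2309 (.node (.node (.leaf 277167) 1412 (.leaf 260381)) 2372 (.node (.leaf 273436) 3887 (.leaf 75950))))) 26415 (.node (.node (.node (.node (.leaf 115119) 8872 (.leaf 85427)) 9495 (.node (.leaf 111135) 1663 (.leaf 230306))) 11363 (.node (.node (.leaf 150953) 2122 (.leaf 199737)) 5047 (.node (.leaf 211668) 802 (.leaf 261386)))) 18215 (.node (.node (.node (.leaf 159243) 2962 (.leaf 70977)) 2973 (.node (.leaf 298263) 647 (.leaf 198734))) 4289 (.node (.node (.leaf 262468) 590 (.leaf 304082)) 1736 (.node (.leaf 254430) 3878 (.leaf 277978)))))))))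

/-- table of generator 1 -/
def tab1 : Tab :=
  (.node (.node (.node (.node (.node (.node (.node (.node (.node (.leaf 31672) 1 (.leaf 31675)) 2 (.node (.leaf 31774) 1 (.leaf 3))) 4 (.node (.node (.leaf 4) 1 (.leaf 5)) 2 (.node (.leaf 6) 1 (.leaf 7)))) 8 (.node (.node (.node (.leaf 8) 39 (.leaf 54406)) 42 (.node (.leaf 50) 4 (.leaf 54))) 53 (.node (.node (.leaf 61) 1 (.leaf 62)) 3 (.node (.leaf 64) 1 (.leaf 31748))))) 66 (.node (.node (.node (.node (.leaf 31773) 2 (.leaf 68)) 31 (.node (.leaf 31772) 1 (.leaf 31894))) 34 (.node (.node (.leaf 32038) 1 (.leaf 32140)) 2 (.node (.leaf 33369) 28 (.leaf 31770)))) 65 (.node (.node (.node (.leaf 31771) 1 (.leaf 31896)) 3 (.node (.leaf 134) 1 (.leaf 135))) 5 (.node (.node (.leaf 136) 1 (.leaf 137)) 2 (.node (.leaf 138) 3 (.node (.leaf 141) 1 (.leaf 142))))))) 144 (.node (.node (.node (.node (.node (.leaf 31898) 2 (.leaf 146)) 6 (.node (.leaf 33244) 1 (.leaf 55951))) 10 (.node (.node (.leaf 154) 1 (.leaf 155)) 2 (.node (.leaf 156) 1 (.leaf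 157)))) 14 (.node (.node (.node (.leaf 158) 1 (.leaf 159)) 2 (.node (.leaf 160) 1 (.leaf 161))) 4 (.node (.node (.leaf 162) 1 (.leaf 163)) 24 (.node (.leaf 186) 33 (.node (.leaf 56255) 47 (.leaf 266)))))) 123 (.node (.node (.node (.node (.leaf 267) 1 (.leaf 268)) 20 (.node (.leaf 32266) 13 (.leaf 300))) 35 (.node (.node (.leaf 302) 1 (.leaf 303)) 5 (.node (.leaf 32552) 51 (.leaf 55152)))) 96 (.node (.node (.node (.leaf 189469) 3 (.leaf 366)) 4 (.node (.leaf 367) 1 (.leaf 368))) 6 (.node (.node (.leaf 369) 2 (.leaf 32675)) 47 (.node (.leaf 32876) 19 (.node (.leaf 435) 1 (.leaf 436)))))))) 437 (.node (.node (.node (.node (.node (.node (.leaf 437) 1 (.leaf 32784)) 70 (.node (.leaf 32882) 105 (.leaf 32037))) 176 (.node (.node (.leaf 33245) 1 (.leaf 614)) 159 (.node (.leaf 34512) 27 (.leaf 799)))) 420 (.node (.node (.node (.leaf 857) 14 (.leaf 34102)) 38 (.node (.leaf 34304) 5 (.leaf 34311))) 73 (.node (.node (.leaf 50362) 32 (.leaf 34837)) 97 (.node (.leaf 112066) 7 (.leaf 85358)))))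 803 (.node (.node (.node (.node (.leaf 35264) 409 (.leaf 37152)) 1339 (.node (.leaf 31902) 1 (.leaf 31903))) 1452 (.node (.node (.leaf 117076) 54 (.leaf 150589)) 1215 (.node (.leaf 54409) 555 (.leaf 55148)))) 3228 (.node (.node (.node (.leaf 57403) 20 (.leaf 33127)) 65 (.node (.leaf 4533) 128 (.leaf 31904))) 194 (.node (.node (.leaf 31905) 1 (.leaf 31906)) 3 (.node (.leaf 31768) 75 (.node (.leaf 112063) 4 (.leaf 85126))))))) 4349 (.node (.node (.node (.node (.node (.leaf 50204) 10 (.leaf 4796)) 20 (.node (.leaf 58042) 46 (.leaf 55950))) 476 (.node (.node (.leaf 277360) 250 (.leaf 33012)) 2743 (.node (.leaf 8005) 1 (.leaf 84699)))) 3238 (.node (.node (.node (.leaf 84864) 62 (.leaf 173086)) 535 (.node (.leaf 196223) 1442 (.leaf 10001))) 2861 (.node (.node (.leaf 58248) 1046 (.leaf 233992)) 2575 (.node (.leaf 194759) 1468 (.node (.leaf 274545) 1142 (.leaf 41282)))))) 15211 (.node (.node (.node (.node (.leaf 238475) 443 (.leaf 195554)) 3806 (.node (.leaf 152880) 460 (.leaf 218699)))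 5058 (.node (.node (.leaf 115975) 1476 (.leaf 54149)) 2403 (.node (.leaf 255656) 852 (.leaf 235568)))) 8339 (.node (.node (.node (.leaf 230086) 449 (.leaf 155556)) 603 (.node (.leaf 101797) 976 (.leaf 279905))) 2264 (.node (.node (.leaf 295580) 909 (.leaf 31509)) 1072 (.node (.leaf 0) 1 (.node (.leaf 31673) 1 (.leaf 31674))))))))) 31675 (.node (.node (.node (.node (.node (.node (.node (.leaf 1) 3 (.leaf 31678)) 4 (.node (.leaf 31679) 70 (.leaf 31749))) 76 (.node (.node (.leaf 31751) 1 (.leaf 31752)) 2 (.node (.leaf 31753) 1 (.leaf 31754)))) 80 (.node (.node (.node (.leaf 31755) 2 (.leaf 31757)) 8 (.node (.leaf 31763) 1 (.leaf 31764))) 10 (.node (.node (.leaf 31765) 1 (.leaf 31766)) 2 (.node (.leaf 31767) 1 (.leaf 4665))))) 95 (.node (.node (.node (.node (.leaf 130) 1 (.leaf 131)) 2 (.node (.leaf 97) 1 (.leaf 66))) 4 (.node (.node (.leaf 2) 12 (.leaf 31787)) 13 (.node (.leaf 31786) 105 (.leaf 31892)))) 124 (.node (.node (.node (.leaf 98) 2 (.leaf 132)) 8 (.node (.leaf 2579) 2 (.leaf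 4661))) 11 (.node (.node (.leaf 4662) 1 (.leaf 4663)) 2 (.node (.leaf 31907) 12 (.node (.leaf 31920) 116 (.leaf 4745))))))) 363 (.node (.node (.node (.node (.node (.leaf 100) 1 (.leaf 32039)) 88 (.node (.leaf 32126) 94 (.leaf 78485))) 234 (.node (.node (.leaf 32272) 138 (.leaf 32410)) 143 (.node (.leaf 32414) 140 (.leaf 32555)))) 643 (.node (.node (.node (.leaf 32682) 2 (.leaf 112204)) 92 (.node (.leaf 32773) 11 (.leaf 438))) 104 (.node (.node (.leaf 32785) 1 (.leaf 32786)) 2 (.node (.leaf 32787) 225 (.node (.leaf 5512) 160 (.leaf 56394)))))) 1207 (.node (.node (.node (.node (.leaf 613) 5 (.leaf 33250)) 117 (.node (.leaf 33362) 7 (.leaf 102))) 331 (.node (.node (.leaf 160374) 32 (.leaf 32416)) 275 (.node (.leaf 55009) 12 (.leaf 33863)))) 628 (.node (.node (.node (.leaf 905) 232 (.leaf 34105)) 428 (.node (.leaf 34301) 3 (.leaf 895))) 438 (.node (.node (.leaf 900) 32 (.leaf 213509)) 200 (.node (.leaf 34511) 32 (.node (.leaf 29885) 721 (.leaf 1240)))))))) 3590 (.node (.node (.node (.node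 (.node (.node (.leaf 35265) 843 (.leaf 80334)) 1013 (.node (.leaf 1678) 703 (.leaf 36980))) 3528 (.node (.node (.leaf 267273) 631 (.leaf 111139)) 1814 (.node (.leaf 296583) 426 (.leaf 41033)))) 6175 (.node (.node (.node (.leaf 153295) 19 (.leaf 235776)) 566 (.node (.leaf 258624) 2355 (.leaf 41744))) 3187 (.node (.node (.leaf 44626) 3249 (.leaf 254850)) 5577 (.node (.leaf 4786) 227 (.leaf 222215))))) 15351 (.node (.node (.node (.node (.leaf 70716) 218 (.leaf 218265)) 1332 (.node (.leaf 74748) 350 (.leaf 255368))) 1965 (.node (.node (.leaf 44419) 301 (.leaf 74747)) 528 (.node (.leaf 53109) 308 (.leaf 53418)))) 2802 (.node (.node (.node (.leaf 53417) 529 (.leaf 53948)) 686 (.node (.leaf 269358) 158 (.leaf 4446))) 845 (.node (.node (.leaf 54263) 143 (.leaf 47)) 144 (.node (.leaf 356) 2 (.node (.leaf 3907) 225 (.leaf 54634))))))) 19449 (.node (.node (.node (.node (.node (.leaf 17959) 20 (.leaf 54734)) 194 (.node (.leaf 229112) 102 (.leaf 190314))) 436 (.node (.node (.leaf 55150) 2 (.leaf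 358)) 800 (.node (.leaf 4852) 1 (.leaf 151)))) 1541 (.node (.node (.node (.leaf 219) 204 (.leaf 56458)) 875 (.node (.leaf 57130) 143 (.leaf 57273))) 1290 (.node (.node (.leaf 57545) 1 (.leaf 57546)) 4 (.node (.leaf 57549) 306 (.node (.leaf 250513) 21 (.leaf 208680)))))) 3328 (.node (.node (.node (.node (.leaf 4806) 915 (.leaf 108383)) 1217 (.node (.leaf 137884) 23 (.leaf 59283))) 1827 (.node (.node (.leaf 60046) 117 (.leaf 141765)) 551 (.node (.leaf 60420) 250 (.leaf 193982)))) 2749 (.node (.node (.node (.leaf 201251) 52 (.leaf 176157)) 726 (.node (.leaf 137083) 2383 (.leaf 63900))) 4045 (.node (.node (.leaf 154141) 3097 (.leaf 268792)) 3862 (.node (.leaf 140891) 1787 (.node (.leaf 299545) 1330 (.leaf 300203)))))))))) 72179 (.node (.node (.node (.node (.node (.node (.node (.node (.leaf 72180) 203 (.leaf 144311)) 936 (.node (.leaf 73380) 299 (.leaf 279113))) 1373 (.node (.node (.leaf 134203) 75 (.leaf 73879)) 1304 (.node (.leaf 75087) 232 (.leaf 75089)))) 3291 (.node (.node (.node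 (.leaf 55224) 1732 (.leaf 106687)) 4503 (.node (.leaf 181869) 1494 (.leaf 18678))) 6073 (.node (.node (.leaf 81542) 911 (.leaf 278368)) 1218 (.node (.leaf 195776) 171 (.leaf 292839))))) 10882 (.node (.node (.node (.node (.leaf 183444) 644 (.leaf 119858)) 1639 (.node (.leaf 84700) 153 (.leaf 235699))) 1954 (.node (.node (.leaf 192839) 98 (.leaf 85113)) 343 (.node (.leaf 1034) 69 (.leaf 159914)))) 2509 (.node (.node (.node (.leaf 85571) 60 (.leaf 282688)) 209 (.node (.leaf 85779) 366 (.leaf 357))) 1002 (.node (.node (.leaf 86572) 999 (.leaf 87571)) 1212 (.node (.leaf 87954) 9 (.node (.leaf 87960) 185 (.leaf 173611))))))) 16809 (.node (.node (.node (.node (.node (.leaf 144193) 63 (.leaf 126168)) 415 (.node (.leaf 36982) 979 (.leaf 90382))) 4681 (.node (.node (.leaf 93669) 654 (.leaf 215387)) 2104 (.node (.leaf 284895) 1140 (.leaf 231126)))) 7934 (.node (.node (.node (.leaf 154537) 768 (.leaf 232063)) 1825 (.node (.leaf 98747) 2063 (.leaf 116476))) 4840 (.node (.node (.leaf 251953) 1122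 (.leaf 83482)) 1502 (.node (.leaf 237548) 832 (.node (.leaf 87868) 2297 (.leaf 224327)))))) 17606 (.node (.node (.node (.node (.leaf 45379) 2470 (.leaf 117463)) 2843 (.node (.leaf 48518) 503 (.leaf 74262))) 3853 (.node (.node (.leaf 114186) 688 (.leaf 110959)) 1616 (.node (.leaf 4740) 3 (.leaf 1027)))) 6745 (.node (.node (.node (.leaf 113339) 1175 (.leaf 114514)) 1371 (.node (.leaf 209416) 409 (.leaf 74359))) 2520 (.node (.node (.leaf 675) 116 (.leaf 25055)) 1171 (.node (.leaf 218216) 1614 (.node (.leaf 269287) 86 (.leaf 263094)))))))) 47679 (.node (.node (.node (.node (.node (.node (.leaf 83705) 1370 (.leaf 304076)) 1712 (.node (.leaf 305698) 467 (.leaf 148073))) 3896 (.node (.node (.leaf 76139) 633 (.leaf 180699)) 1737 (.node (.leaf 155131) 1755 (.leaf 35817)))) 7389 (.node (.node (.node (.leaf 50249) 138 (.leaf 253394)) 400 (.node (.leaf 133108) 746 (.leaf 88683))) 2091 (.node (.node (.leaf 289731) 698 (.leaf 268861)) 1836 (.node (.leaf 242975) 170 (.leaf 131344))))) 11509 (.node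 (.node (.node (.node (.leaf 197378) 226 (.leaf 127785)) 777 (.node (.leaf 132143) 5735 (.leaf 147076))) 7396 (.node (.node (.leaf 214111) 1758 (.leaf 11115)) 2818 (.node (.leaf 174125) 10 (.leaf 141770)))) 10403 (.node (.node (.node (.leaf 141591) 711 (.leaf 142480)) 767 (.node (.leaf 296683) 1581 (.leaf 144117))) 2498 (.node (.node (.leaf 144268) 43 (.leaf 72382)) 2100 (.node (.leaf 13179) 697 (.node (.leaf 82988) 561 (.leaf 72304))))))) 28131 (.node (.node (.node (.node (.node (.leaf 235269) 371 (.leaf 74771)) 2509 (.node (.leaf 183211) 204 (.leaf 150702))) 2964 (.node (.node (.leaf 96544) 1115 (.leaf 152069)) 1976 (.node (.leaf 243568) 292 (.leaf 41941)))) 6016 (.node (.node (.node (.leaf 154005) 136 (.leaf 64836)) 800 (.node (.leaf 92541) 751 (.leaf 28785))) 2017 (.node (.node (.leaf 96449) 2937 (.leaf 301316)) 3892 (.node (.leaf 85427) 343 (.node (.leaf 149584) 1 (.leaf 295193)))))) 12963 (.node (.node (.node (.node (.leaf 69333) 1724 (.leaf 203127)) 3727 (.node (.leaf 29363)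 513 (.leaf 165192))) 5987 (.node (.node (.leaf 166939) 8 (.leaf 166946)) 283 (.node (.leaf 263634) 834 (.leaf 168748)))) 9251 (.node (.node (.node (.leaf 248349) 358 (.leaf 18654)) 1313 (.node (.leaf 243724) 1649 (.leaf 221147))) 3331 (.node (.node (.leaf 201070) 934 (.leaf 9338)) 2169 (.node (.leaf 175702) 2797 (.node (.leaf 178501) 937 (.leaf 279803))))))))) 108520 (.node (.node (.node (.node (.node (.node (.node (.leaf 124387) 1386 (.leaf 196662)) 1695 (.node (.leaf 234409) 318 (.leaf 189947))) 2199 (.node (.node (.leaf 154874) 313 (.leaf 150498)) 651 (.node (.leaf 264196) 621 (.leaf 271694)))) 4208 (.node (.node (.node (.leaf 225814) 18 (.leaf 233052)) 910 (.node (.leaf 88836) 2291 (.leaf 61205))) 3457 (.node (.node (.leaf 260132) 90 (.leaf 284574)) 1111 (.node (.leaf 156636) 133 (.leaf 20547))))) 8910 (.node (.node (.node (.node (.leaf 189609) 228 (.leaf 142608)) 1881 (.node (.leaf 88844) 301 (.leaf 114272))) 2649 (.node (.node (.leaf 87350) 1724 (.leaf 60670)) 2309 (.node (.leaf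 57527) 192 (.leaf 13460)))) 5315 (.node (.node (.node (.leaf 191346) 1299 (.leaf 8559)) 3301 (.node (.leaf 73451) 509 (.leaf 72750))) 4484 (.node (.node (.leaf 96524) 329 (.leaf 272764)) 2081 (.node (.leaf 201490) 1 (.node (.leaf 201489) 745 (.leaf 211298))))))) 21948 (.node (.node (.node (.node (.node (.leaf 176846) 1211 (.leaf 289526)) 1549 (.node (.leaf 13568) 2181 (.leaf 287863))) 4755 (.node (.node (.leaf 246123) 148 (.leaf 166948)) 6903 (.node (.leaf 20528) 1926 (.leaf 182145)))) 14382 (.node (.node (.node (.leaf 74993) 4118 (.leaf 173165)) 4308 (.node (.leaf 130882) 285 (.leaf 221622))) 4945 (.node (.node (.leaf 145409) 256 (.leaf 121110)) 5067 (.node (.leaf 222847) 232 (.node (.leaf 145745) 693 (.leaf 227965)))))) 25494 (.node (.node (.node (.node (.leaf 286395) 1945 (.leaf 28336)) 4209 (.node (.leaf 269701) 702 (.leaf 184925))) 6268 (.node (.node (.leaf 182394) 668 (.leaf 300872)) 1159 (.node (.leaf 28310) 1034 (.leaf 209488)))) 10510 (.node (.node (.node (.leaf 106360)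 4289 (.leaf 202523)) 4512 (.node (.leaf 33397) 2850 (.leaf 12073))) 12473 (.node (.node (.leaf 158475) 357 (.leaf 144483)) 1850 (.node (.leaf 167207) 511 (.node (.leaf 159313) 489 (.leaf 151980)))))))) 73437 (.node (.node (.node (.node (.node (.node (.leaf 253638) 294 (.leaf 210299)) 694 (.node (.leaf 111019) 59 (.leaf 237869))) 1363 (.node (.node (.leaf 291853) 157 (.leaf 27458)) 1220 (.node (.leaf 264349) 1464 (.leaf 124536)))) 5317 (.node (.node (.node (.leaf 143658) 1165 (.leaf 295616)) 1655 (.node (.leaf 229260) 278 (.leaf 261386))) 2049 (.node (.node (.leaf 103655) 324 (.leaf 282720)) 649 (.node (.leaf 240850) 317 (.node (.leaf 207457) 130 (.leaf 81463)))))) 9460 (.node (.node (.node (.node (.leaf 267765) 38 (.leaf 167222)) 57 (.node (.leaf 294778) 543 (.leaf 183549))) 1698 (.node (.node (.leaf 122739) 1234 (.leaf 283851)) 2308 (.node (.leaf 305609) 139 (.leaf 111631)))) 4169 (.node (.node (.node (.leaf 263596) 1593 (.leaf 54104)) 2959 (.node (.leaf 270724) 1107 (.leaf 214908)))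 5671 (.node (.node (.leaf 72196) 527 (.leaf 305468)) 730 (.node (.leaf 263935) 379 (.node (.leaf 14928) 2622 (.leaf 173282))))))) 24801 (.node (.node (.node (.node (.node (.leaf 148602) 81 (.leaf 290433)) 253 (.node (.leaf 17985) 715 (.leaf 29915))) 2262 (.node (.node (.leaf 264554) 35 (.leaf 272513)) 2652 (.node (.leaf 266528) 723 (.leaf 188454)))) 5968 (.node (.node (.node (.leaf 80493) 970 (.leaf 274197)) 1510 (.node (.leaf 210775) 776 (.leaf 159140))) 2377 (.node (.node (.leaf 18625) 1106 (.leaf 125215)) 1348 (.node (.leaf 60742) 885 (.node (.leaf 230096) 232 (.leaf 260342)))))) 10923 (.node (.node (.node (.node (.leaf 198397) 573 (.leaf 279018)) 2979 (.node (.leaf 82932) 1647 (.leaf 294486))) 4695 (.node (.node (.leaf 181549) 80 (.leaf 265910)) 223 (.node (.leaf 263653) 1049 (.leaf 50281)))) 6387 (.node (.node (.node (.leaf 85930) 336 (.leaf 40607)) 2016 (.node (.leaf 217130) 704 (.leaf 202942))) 3148 (.node (.node (.leaf 299396) 28 (.leaf 290651)) 4202 (.node (.leaf 271101)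 485 (.node (.leaf 268852) 1527 (.leaf 267602)))))))))))

/-- table of generator 2 -/
def tab2 : Tab :=
  (.node (.node (.node (.node (.node (.node (.node (.node (.node (.leaf 0) 1 (.node (.leaf 1) 1 (.leaf 3))) 3 (.node (.node (.leaf 2) 1 (.leaf 66)) 2 (.node (.leaf 5) 1 (.leaf 6)))) 7 (.node (.node (.node (.leaf 7) 40 (.leaf 47)) 43 (.node (.leaf 4409) 1 (.leaf 355))) 46 (.node (.node (.leaf 4627) 1 (.leaf 216)) 5 (.node (.leaf 58) 1 (.leaf 59))))) 61 (.node (.node (.node (.node (.leaf 61) 1 (.leaf 62)) 2 (.node (.leaf 63) 1 (.leaf 65))) 5 (.node (.node (.leaf 4) 1 (.leaf 97)) 2 (.node (.leaf 98) 1 (.leaf 99)))) 9 (.node (.node (.node (.leaf 100) 1 (.leaf 101)) 2 (.node (.leaf 102) 25 (.leaf 67))) 28 (.node (.node (.leaf 68) 1 (.leaf 69)) 2 (.node (.leaf 70) 2 (.leaf 72)))))) 130 (.node (.node (.node (.node (.leaf 140) 1 (.node (.leaf 139) 1 (.leaf 133))) 3 (.node (.node (.leaf 132) 1 (.leaf 134)) 2 (.node (.leaf 135) 1 (.leaf 136)))) 7 (.node (.node (.node (.leaf 137) 1 (.leaf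 138)) 2 (.node (.leaf 131) 2 (.leaf 141))) 5 (.node (.node (.leaf 142) 3 (.leaf 144)) 4 (.node (.leaf 146) 3 (.leaf 150))))) 21 (.node (.node (.node (.node (.leaf 151) 3 (.leaf 154)) 4 (.node (.leaf 155) 1 (.leaf 156))) 6 (.node (.node (.leaf 157) 1 (.leaf 158)) 2 (.node (.leaf 159) 1 (.leaf 160)))) 10 (.node (.node (.node (.leaf 161) 1 (.leaf 162)) 2 (.node (.leaf 163) 23 (.leaf 186))) 55 (.node (.node (.leaf 54) 48 (.leaf 4809)) 49 (.node (.leaf 612) 1 (.leaf 266))))))) 267 (.node (.node (.node (.node (.node (.leaf 267) 1 (.node (.leaf 268) 19 (.leaf 287))) 35 (.node (.node (.leaf 302) 1 (.leaf 303)) 4 (.node (.leaf 307) 36 (.leaf 772)))) 76 (.node (.node (.node (.leaf 365) 6 (.leaf 366)) 8 (.node (.leaf 352) 5 (.leaf 356))) 14 (.node (.node (.leaf 357) 1 (.leaf 358)) 6 (.node (.leaf 363) 3 (.leaf 349))))) 100 (.node (.node (.node (.node (.leaf 367) 1 (.leaf 368)) 2 (.node (.leaf 369) 65 (.leaf 416))) 68 (.node (.node (.leaf 435) 1 (.leaf 436)) 2 (.node (.leaf 438) 1 (.leaf 437))))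 98 (.node (.node (.node (.leaf 464) 3 (.leaf 4852)) 4 (.node (.leaf 613) 37 (.leaf 507))) 147 (.node (.node (.leaf 265) 1 (.leaf 469)) 2 (.node (.leaf 709) 61 (.leaf 675)))))) 417 (.node (.node (.node (.node (.leaf 685) 115 (.node (.leaf 799) 35 (.leaf 834))) 173 (.node (.node (.leaf 856) 6 (.leaf 29384)) 14 (.node (.leaf 871) 29 (.leaf 900)))) 221 (.node (.node (.node (.leaf 968) 26 (.leaf 930)) 30 (.node (.leaf 4668) 27 (.leaf 962))) 122 (.node (.node (.leaf 1027) 110 (.leaf 1156)) 212 (.node (.leaf 1240) 1 (.leaf 1239))))) 1067 (.node (.node (.node (.node (.leaf 11931) 9 (.leaf 8006)) 506 (.node (.leaf 4488) 322 (.leaf 2579))) 829 (.node (.node (.leaf 2580) 225 (.leaf 23551)) 955 (.node (.leaf 3581) 46 (.leaf 3535)))) 2156 (.node (.node (.node (.leaf 3907) 502 (.leaf 50)) 506 (.node (.leaf 25055) 33 (.leaf 4445))) 554 (.node (.node (.leaf 4462) 2 (.leaf 4463)) 36 (.node (.leaf 4498) 36 (.leaf 4493)))))))) 4662 (.node (.node (.node (.node (.node (.node (.leaf 4662) 1 (.node (.leaf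 4663) 1 (.leaf 4664))) 3 (.node (.node (.leaf 4665) 1 (.leaf 5070)) 33 (.node (.leaf 56) 46 (.leaf 11645)))) 83 (.node (.node (.node (.leaf 263) 40 (.leaf 4786)) 41 (.node (.leaf 4785) 9 (.leaf 4795))) 51 (.node (.node (.leaf 4796) 10 (.leaf 4806)) 13 (.node (.leaf 264) 43 (.leaf 468))))) 540 (.node (.node (.node (.node (.leaf 22736) 61 (.leaf 5262)) 668 (.node (.leaf 1350) 31 (.leaf 29247))) 805 (.node (.node (.leaf 10001) 361 (.leaf 6946)) 939 (.node (.leaf 6368) 50 (.leaf 22253)))) 1806 (.node (.node (.node (.leaf 2959) 20 (.leaf 7124)) 270 (.node (.leaf 12586) 746 (.leaf 8024))) 2330 (.node (.node (.leaf 9337) 663 (.leaf 6007)) 718 (.node (.leaf 10057) 40 (.leaf 10096)))))) 5732 (.node (.node (.node (.node (.leaf 19858) 562 (.node (.leaf 10885) 84 (.leaf 26001))) 721 (.node (.node (.leaf 4094) 157 (.leaf 11210)) 345 (.node (.leaf 22072) 114 (.leaf 8086)))) 1251 (.node (.node (.node (.leaf 4744) 198 (.leaf 11868)) 428 (.node (.leaf 12103) 25 (.leaf 12097))) 1534 (.node (.node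 (.leaf 13180) 389 (.leaf 17515)) 668 (.node (.leaf 23803) 69 (.leaf 1649))))) 4306 (.node (.node (.node (.node (.leaf 30600) 707 (.leaf 15408)) 1022 (.node (.leaf 15708) 1083 (.leaf 20440))) 2131 (.node (.node (.leaf 16830) 441 (.leaf 28423)) 1154 (.node (.leaf 29923) 640 (.leaf 25643)))) 3954 (.node (.node (.node (.leaf 18686) 23 (.leaf 2692)) 346 (.node (.leaf 8005) 858 (.leaf 10394))) 1345 (.node (.node (.leaf 29156) 268 (.leaf 19997)) 454 (.node (.leaf 2746) 75 (.leaf 4386))))))) 15885 (.node (.node (.node (.node (.node (.leaf 1745) 2235 (.node (.leaf 31509) 23 (.leaf 29915))) 2500 (.node (.node (.leaf 26413) 22 (.leaf 29706)) 1216 (.node (.leaf 24263) 405 (.leaf 16070)))) 4508 (.node (.node (.node (.leaf 4413) 749 (.leaf 19421)) 1477 (.node (.leaf 26531) 883 (.leaf 22708))) 3105 (.node (.node (.leaf 21685) 1203 (.leaf 25522)) 1255 (.node (.leaf 28939) 470 (.leaf 9605))))) 9368 (.node (.node (.node (.node (.leaf 22805) 1044 (.leaf 6663)) 1232 (.node (.leaf 31216) 525 (.leaf 31674)))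 1758 (.node (.node (.leaf 31675) 1 (.leaf 31672)) 2 (.node (.leaf 31673) 3 (.leaf 31678)))) 1764 (.node (.node (.node (.leaf 31679) 22 (.leaf 31701)) 70 (.node (.leaf 31749) 2 (.leaf 31751))) 73 (.node (.node (.leaf 31752) 1 (.leaf 31753)) 2 (.node (.leaf 31754) 1 (.leaf 31755)))))) 11210 (.node (.node (.node (.node (.node (.leaf 31757) 1 (.leaf 31758)) 6 (.node (.leaf 33145) 1 (.leaf 33146))) 8 (.node (.node (.leaf 34297) 1 (.leaf 55951)) 2 (.node (.leaf 31768) 1 (.leaf 31767)))) 13 (.node (.node (.node (.leaf 31770) 1 (.leaf 31771)) 2 (.node (.leaf 31772) 1 (.leaf 31773))) 4 (.node (.node (.leaf 31774) 11 (.leaf 31786)) 13 (.node (.leaf 31787) 105 (.leaf 31892))))) 139 (.node (.node (.node (.node (.leaf 31896) 2 (.leaf 31898)) 6 (.node (.leaf 33242) 2 (.leaf 34511))) 9 (.node (.node (.leaf 55952) 1 (.leaf 31907)) 2 (.node (.leaf 31906) 5 (.leaf 56255)))) 22 (.node (.node (.node (.leaf 31919) 117 (.leaf 32035)) 119 (.node (.leaf 32037) 1 (.leaf 32038))) 121 (.node (.node (.leaf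 32039) 5 (.leaf 32043)) 87 (.node (.leaf 34285) 14 (.leaf 32140))))))))) 32272 (.node (.node (.node (.node (.node (.node (.node (.leaf 32272) 142 (.node (.leaf 32413) 141 (.leaf 32555))) 403 (.node (.node (.leaf 32675) 5 (.leaf 32681)) 98 (.node (.leaf 143676) 12 (.leaf 32785)))) 514 (.node (.node (.node (.leaf 32786) 1 (.leaf 32787)) 3 (.node (.leaf 32790) 223 (.leaf 228021))) 359 (.node (.node (.leaf 31763) 8 (.leaf 33153)) 97 (.node (.leaf 31902) 8 (.leaf 33250))))) 1090 (.node (.node (.node (.node (.leaf 33362) 57 (.leaf 33608)) 490 (.node (.leaf 33851) 11 (.leaf 33863))) 553 (.node (.node (.leaf 34102) 190 (.leaf 34302)) 192 (.node (.leaf 34304) 6 (.leaf 34311)))) 939 (.node (.node (.node (.leaf 34099) 1 (.leaf 34105)) 3 (.node (.leaf 34107) 207 (.leaf 31904))) 211 (.node (.node (.leaf 34512) 325 (.leaf 58628)) 753 (.node (.leaf 35265) 252 (.leaf 263562)))))) 3836 (.node (.node (.node (.node (.leaf 36108) 356 (.node (.leaf 222230) 516 (.leaf 36979))) 1044 (.node (.node (.leaf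 65763) 569 (.leaf 286415)) 1039 (.node (.leaf 221974) 563 (.leaf 279018)))) 3776 (.node (.node (.node (.leaf 131174) 723 (.leaf 40607)) 1149 (.node (.leaf 89414) 249 (.leaf 97659))) 1714 (.node (.node (.leaf 88988) 146 (.leaf 44368)) 960 (.node (.leaf 194382) 966 (.leaf 44627))))) 7725 (.node (.node (.node (.node (.leaf 102671) 586 (.leaf 44418)) 1546 (.node (.leaf 236094) 58 (.leaf 32220))) 1657 (.node (.node (.leaf 236274) 43 (.leaf 65329)) 226 (.node (.leaf 45715) 459 (.leaf 184907)))) 3027 (.node (.node (.node (.leaf 131367) 5 (.leaf 124387)) 1015 (.node (.leaf 47876) 430 (.leaf 223427))) 1658 (.node (.node (.leaf 176575) 244 (.leaf 280067)) 865 (.node (.leaf 39424) 3 (.leaf 229324))))))) 17509 (.node (.node (.node (.node (.node (.leaf 183549) 423 (.node (.leaf 50205) 45 (.leaf 230887))) 500 (.node (.node (.leaf 50281) 87 (.leaf 55151)) 89 (.node (.leaf 86145) 3 (.leaf 55637)))) 836 (.node (.node (.node (.leaf 50616) 217 (.leaf 50834)) 394 (.node (.leaf 160258) 171 (.leaf 294555)))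 664 (.node (.node (.leaf 53081) 1 (.leaf 188108)) 216 (.node (.leaf 51948) 386 (.leaf 256719))))) 2194 (.node (.node (.node (.node (.leaf 243653) 74 (.leaf 295827)) 448 (.node (.leaf 54406) 159 (.leaf 52581))) 764 (.node (.node (.leaf 110566) 269 (.leaf 53008)) 340 (.node (.leaf 52882) 30 (.leaf 259947)))) 1443 (.node (.node (.node (.leaf 53418) 223 (.leaf 154805)) 528 (.node (.leaf 53947) 249 (.leaf 144268))) 811 (.node (.node (.leaf 189837) 1 (.leaf 130036)) 32 (.node (.leaf 52422) 2 (.leaf 54263)))))) 4624 (.node (.node (.node (.node (.node (.leaf 113339) 1 (.leaf 52423)) 4 (.node (.leaf 54413) 4 (.leaf 54409))) 9 (.node (.node (.leaf 113337) 13 (.leaf 54428)) 220 (.node (.leaf 54634) 81 (.leaf 54714)))) 329 (.node (.node (.node (.leaf 54734) 414 (.leaf 55148)) 415 (.node (.leaf 55150) 1 (.leaf 55149))) 417 (.node (.node (.leaf 50368) 1 (.leaf 57549)) 73 (.node (.leaf 263064) 190 (.leaf 32295))))) 1140 (.node (.node (.node (.node (.leaf 55546) 97 (.leaf 55643)) 220 (.node (.leaf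 251295) 185 (.leaf 55950))) 406 (.node (.node (.leaf 31766) 1 (.leaf 31905)) 125 (.node (.leaf 55636) 179 (.leaf 31912)))) 716 (.node (.node (.node (.leaf 56262) 124 (.leaf 56385)) 133 (.node (.leaf 56393) 121 (.leaf 56515))) 432 (.node (.node (.leaf 56694) 340 (.leaf 56690)) 437 (.node (.leaf 57272) 142 (.leaf 57130)))))))) 25131 (.node (.node (.node (.node (.node (.node (.leaf 54415) 37 (.node (.leaf 211409) 106 (.leaf 86148))) 146 (.node (.node (.leaf 55152) 29 (.leaf 34543)) 328 (.node (.leaf 57876) 19 (.leaf 58042)))) 639 (.node (.node (.node (.leaf 57896) 11 (.leaf 58054)) 12 (.node (.leaf 58053) 425 (.leaf 54240))) 440 (.node (.node (.leaf 57664) 182 (.leaf 201788)) 277 (.node (.leaf 58759) 221 (.leaf 135052))))) 1820 (.node (.node (.node (.node (.leaf 131056) 58 (.leaf 59282)) 434 (.node (.leaf 58957) 3 (.leaf 59869))) 1197 (.node (.node (.leaf 60420) 1097 (.leaf 61517)) 2432 (.node (.leaf 62852) 805 (.leaf 63862)))) 4677 (.node (.node (.node (.leaf 148751) 1146 (.leaf 98747))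 1451 (.node (.leaf 65105) 651 (.leaf 94323))) 2240 (.node (.node (.leaf 66415) 275 (.leaf 66140)) 1994 (.node (.leaf 165946) 295 (.leaf 207687)))))) 11930 (.node (.node (.node (.node (.leaf 201689) 930 (.node (.leaf 70485) 984 (.leaf 97226))) 2188 (.node (.node (.leaf 208097) 295 (.leaf 71815)) 570 (.node (.leaf 244006) 89 (.leaf 164311)))) 2863 (.node (.node (.node (.leaf 145778) 108 (.leaf 258063)) 186 (.node (.leaf 86015) 72 (.leaf 293432))) 554 (.node (.node (.leaf 280996) 420 (.leaf 109064)) 635 (.node (.leaf 73115) 494 (.leaf 140648))))) 4893 (.node (.node (.node (.node (.leaf 267765) 133 (.leaf 74145)) 292 (.node (.leaf 201431) 211 (.leaf 115838))) 525 (.node (.node (.leaf 154005) 20 (.leaf 91716)) 242 (.node (.leaf 220863) 96 (.leaf 229902)))) 864 (.node (.node (.node (.leaf 74856) 923 (.leaf 229975)) 1049 (.node (.leaf 76377) 572 (.leaf 263634))) 2753 (.node (.node (.leaf 299423) 363 (.leaf 78206)) 683 (.node (.leaf 73552) 212 (.leaf 117030))))))) 21553 (.node (.node (.node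 (.node (.node (.leaf 96786) 46 (.node (.leaf 121608) 1476 (.leaf 81467))) 1537 (.node (.node (.leaf 80494) 51 (.leaf 80543)) 57 (.node (.leaf 192810) 668 (.leaf 47538)))) 2568 (.node (.node (.node (.leaf 87568) 914 (.leaf 257167)) 1224 (.node (.leaf 139112) 184 (.leaf 122549))) 1897 (.node (.node (.leaf 116392) 61 (.leaf 62364)) 284 (.node (.leaf 83829) 124 (.leaf 83705))))) 5065 (.node (.node (.node (.node (.leaf 149291) 12 (.leaf 125491)) 679 (.node (.leaf 84700) 152 (.leaf 84853))) 843 (.node (.node (.leaf 54553) 3 (.leaf 84868)) 95 (.node (.leaf 85358) 18 (.leaf 84978)))) 957 (.node (.node (.node (.leaf 84977) 136 (.leaf 85113)) 148 (.node (.leaf 85126) 130 (.leaf 85257))) 338 (.node (.node (.leaf 295053) 27 (.leaf 85343)) 32 (.node (.leaf 85347) 10 (.leaf 84959)))))) 6580 (.node (.node (.node (.node (.node (.leaf 262393) 33 (.leaf 85570)) 243 (.node (.leaf 85779) 151 (.leaf 108791))) 479 (.node (.node (.leaf 72382) 133 (.leaf 57546)) 136 (.node (.leaf 86152) 421 (.leaf 86572))))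 1119 (.node (.node (.node (.leaf 86655) 279 (.leaf 86933)) 482 (.node (.leaf 101762) 205 (.leaf 89051))) 695 (.node (.node (.leaf 236773) 218 (.leaf 81524)) 221 (.node (.leaf 80936) 47 (.leaf 87784))))) 2090 (.node (.node (.node (.node (.leaf 87793) 1 (.leaf 86861)) 242 (.node (.leaf 238751) 293 (.leaf 206264))) 1026 (.node (.node (.leaf 88652) 31 (.leaf 154653)) 184 (.node (.leaf 84289) 190 (.leaf 89026)))) 1777 (.node (.node (.node (.leaf 89403) 11 (.leaf 41033)) 292 (.node (.leaf 274611) 390 (.leaf 94987))) 877 (.node (.node (.leaf 93669) 59 (.leaf 90339)) 102 (.node (.leaf 252582) 410 (.leaf 179437)))))))))) 92163 (.node (.node (.node (.node (.node (.node (.node (.node (.leaf 142481) 1533 (.node (.leaf 246456) 1534 (.leaf 262151))) 4027 (.node (.node (.leaf 255202) 103 (.leaf 96294)) 215 (.node (.leaf 96405) 44 (.leaf 96449)))) 4381 (.node (.node (.node (.leaf 96544) 167 (.leaf 129356)) 242 (.node (.leaf 78956) 142 (.leaf 56459))) 579 (.node (.node (.leaf 96913) 563 (.leaf 159957))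 1573 (.node (.leaf 108728) 51 (.leaf 65046))))) 7363 (.node (.node (.node (.node (.leaf 99306) 33 (.leaf 99344)) 711 (.node (.leaf 188364) 1440 (.leaf 253974))) 2797 (.node (.node (.leaf 100036) 61 (.leaf 102384)) 201 (.node (.leaf 207263) 147 (.leaf 43833)))) 3657 (.node (.node (.node (.leaf 263596) 472 (.leaf 103655)) 712 (.node (.leaf 54908) 111 (.leaf 288388))) 1255 (.node (.node (.leaf 104437) 1899 (.leaf 85015)) 1922 (.node (.leaf 106603) 327 (.leaf 106929)))))) 14792 (.node (.node (.node (.node (.leaf 40117) 756 (.node (.leaf 263653) 27 (.leaf 107738))) 844 (.node (.node (.leaf 182893) 1399 (.leaf 109370)) 1638 (.node (.leaf 109437) 236 (.leaf 109673)))) 3452 (.node (.node (.node (.leaf 75160) 159 (.leaf 52739)) 552 (.node (.leaf 110799) 60 (.leaf 33399))) 683 (.node (.node (.leaf 206377) 33 (.leaf 232350)) 90 (.node (.leaf 127385) 296 (.leaf 34343))))) 4833 (.node (.node (.node (.node (.leaf 112063) 36 (.leaf 68698)) 275 (.node (.leaf 111788) 141 (.leaf 116244))) 554 (.node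 (.node (.leaf 85129) 117 (.leaf 112460)) 257 (.node (.leaf 112599) 739 (.leaf 57273)))) 1685 (.node (.node (.node (.leaf 113473) 684 (.leaf 114158)) 703 (.node (.leaf 114176) 10 (.leaf 38599))) 799 (.node (.node (.leaf 201177) 242 (.leaf 114515)) 303 (.node (.leaf 154141) 867 (.leaf 109504))))))) 23675 (.node (.node (.node (.node (.node (.leaf 74729) 137 (.node (.leaf 115975) 117 (.leaf 288630))) 638 (.node (.node (.leaf 116476) 358 (.leaf 251963)) 720 (.node (.leaf 52296) 60 (.leaf 211556)))) 2806 (.node (.node (.node (.leaf 118644) 86 (.leaf 118730)) 528 (.node (.leaf 119173) 215 (.leaf 165192))) 3905 (.node (.node (.leaf 82932) 190 (.leaf 75256)) 1007 (.node (.leaf 71555) 356 (.leaf 258183))))) 8549 (.node (.node (.node (.node (.leaf 46865) 828 (.leaf 173451)) 1057 (.node (.leaf 239631) 501 (.leaf 125945))) 1792 (.node (.node (.leaf 147989) 1013 (.leaf 207402)) 1066 (.node (.leaf 127246) 534 (.leaf 127779)))) 3398 (.node (.node (.node (.leaf 151666) 618 (.leaf 191450)) 1098 (.node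 (.leaf 160257) 204 (.leaf 239680))) 1998 (.node (.node (.leaf 130022) 170 (.leaf 82761)) 292 (.node (.leaf 106767) 64 (.leaf 130612)))))) 14731 (.node (.node (.node (.node (.leaf 194759) 313 (.node (.leaf 130882) 250 (.leaf 173053))) 775 (.node (.node (.leaf 240073) 249 (.leaf 131593)) 799 (.node (.leaf 132142) 102 (.leaf 231340)))) 1897 (.node (.node (.node (.leaf 132509) 642 (.leaf 37886)) 885 (.node (.leaf 52297) 1 (.leaf 52298))) 1833 (.node (.node (.leaf 189618) 613 (.leaf 134737)) 635 (.node (.leaf 198225) 118 (.leaf 58980))))) 4755 (.node (.node (.node (.node (.leaf 231713) 678 (.leaf 281431)) 856 (.node (.leaf 136383) 903 (.leaf 188753))) 2560 (.node (.node (.leaf 172062) 316 (.leaf 138200)) 1228 (.node (.leaf 82748) 1779 (.leaf 139970)))) 6115 (.node (.node (.node (.leaf 141581) 326 (.leaf 60671)) 331 (.node (.leaf 240826) 212 (.leaf 48842))) 1894 (.node (.node (.leaf 232376) 325 (.leaf 284413)) 784 (.node (.leaf 103608) 1292 (.leaf 145213)))))))) 53263 (.node (.node (.node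 (.node (.node (.node (.leaf 145426) 319 (.node (.leaf 228155) 1958 (.leaf 146055))) 2354 (.node (.node (.leaf 147626) 198 (.leaf 178509)) 293 (.node (.leaf 83315) 511 (.leaf 189180)))) 3325 (.node (.node (.node (.leaf 63900) 741 (.leaf 149492)) 947 (.node (.leaf 81543) 281 (.leaf 155150))) 1838 (.node (.node (.leaf 219919) 1084 (.leaf 151673)) 1348 (.node (.leaf 151937) 132 (.leaf 152069))))) 7856 (.node (.node (.node (.node (.leaf 253097) 401 (.leaf 127404)) 521 (.node (.leaf 35174) 113 (.leaf 172204))) 723 (.node (.node (.leaf 74751) 136 (.leaf 114575)) 532 (.node (.leaf 154537) 320 (.leaf 48064)))) 1592 (.node (.node (.node (.leaf 154874) 257 (.leaf 115945)) 276 (.node (.leaf 149979) 360 (.leaf 155509))) 682 (.node (.node (.leaf 305676) 162 (.leaf 218240)) 1080 (.node (.leaf 156636) 233 (.leaf 275063)))))) 13049 (.node (.node (.node (.node (.leaf 272882) 520 (.node (.leaf 214456) 110 (.leaf 233164))) 874 (.node (.node (.leaf 227966) 59 (.leaf 44230)) 456 (.node (.leaf 64210) 109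 (.leaf 270899)))) 1899 (.node (.node (.node (.leaf 160525) 92 (.leaf 160466)) 1233 (.node (.leaf 210414) 128 (.leaf 79973))) 1419 (.node (.node (.leaf 161793) 7 (.leaf 41927)) 880 (.node (.leaf 198489) 4 (.leaf 162676))))) 4380 (.node (.node (.node (.node (.leaf 234409) 399 (.leaf 184170)) 567 (.node (.leaf 163422) 1770 (.leaf 119387))) 3091 (.node (.node (.leaf 68134) 993 (.leaf 93775)) 1000 (.node (.leaf 35114) 1376 (.leaf 94149)))) 5893 (.node (.node (.node (.leaf 93630) 1455 (.leaf 170203)) 2040 (.node (.leaf 170788) 135 (.leaf 171074))) 2326 (.node (.node (.leaf 170923) 318 (.leaf 250795)) 2012 (.node (.leaf 173086) 79 (.leaf 233638))))))) 27856 (.node (.node (.node (.node (.node (.leaf 102146) 116 (.node (.leaf 267741) 213 (.leaf 57655))) 1767 (.node (.node (.leaf 74549) 1108 (.leaf 176157)) 1358 (.node (.leaf 279190) 286 (.leaf 111191)))) 3541 (.node (.node (.node (.leaf 176289) 23 (.leaf 115523)) 902 (.node (.leaf 261502) 776 (.leaf 43064))) 1686 (.node (.node (.leaf 147978)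 3636 (.leaf 298022)) 3648 (.node (.leaf 175532) 192 (.leaf 196223))))) 9611 (.node (.node (.node (.node (.leaf 107799) 318 (.leaf 183212)) 319 (.node (.leaf 183211) 337 (.leaf 49781))) 1355 (.node (.node (.leaf 246418) 86 (.leaf 118783)) 134 (.node (.leaf 184383) 1 (.leaf 184382)))) 1627 (.node (.node (.node (.leaf 280300) 323 (.leaf 78725)) 428 (.node (.leaf 204201) 395 (.leaf 182085))) 1074 (.node (.node (.leaf 83061) 601 (.leaf 97690)) 1649 (.node (.leaf 52883) 372 (.leaf 187615)))))) 15360 (.node (.node (.node (.node (.node (.leaf 100311) 1 (.leaf 196338)) 538 (.node (.leaf 148584) 90 (.leaf 225827))) 827 (.node (.node (.leaf 57545) 140 (.leaf 189609)) 478 (.node (.leaf 92726) 367 (.leaf 190314)))) 1678 (.node (.node (.node (.leaf 243163) 70 (.leaf 117317)) 121 (.node (.leaf 191490) 905 (.leaf 191346))) 1130 (.node (.node (.leaf 128403) 1341 (.leaf 223700)) 1389 (.node (.leaf 191498) 345 (.leaf 50211))))) 5340 (.node (.node (.node (.node (.leaf 281803) 276 (.leaf 305865)) 716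 (.node (.leaf 52619) 61 (.leaf 130569))) 802 (.node (.node (.leaf 33987) 394 (.leaf 254136)) 859 (.node (.leaf 240262) 580 (.leaf 182349)))) 2680 (.node (.node (.node (.leaf 268622) 434 (.leaf 194567)) 716 (.node (.leaf 41768) 40 (.leaf 197418))) 1054 (.node (.node (.leaf 175703) 198 (.leaf 220938)) 981 (.node (.leaf 152746) 1184 (.leaf 138763))))))))) 108907 (.node (.node (.node (.node (.node (.node (.node (.leaf 224933) 420 (.node (.leaf 201490) 298 (.leaf 58664))) 799 (.node (.node (.leaf 85012) 654 (.leaf 202523)) 1073 (.node (.leaf 276662) 106 (.leaf 59413)))) 2788 (.node (.node (.node (.leaf 203858) 295 (.leaf 164679)) 500 (.node (.leaf 42256) 2014 (.leaf 144194))) 3189 (.node (.node (.leaf 207047) 216 (.leaf 102524)) 349 (.node (.leaf 38635) 61 (.leaf 155946))))) 6480 (.node (.node (.node (.node (.leaf 207550) 137 (.leaf 68429)) 1219 (.node (.leaf 208769) 647 (.leaf 264580))) 1938 (.node (.node (.leaf 235073) 106 (.leaf 245372)) 364 (.node (.leaf 60791) 447 (.leaf 283904))))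 3225 (.node (.node (.node (.leaf 88805) 523 (.leaf 206646)) 770 (.node (.leaf 211545) 11 (.leaf 117256))) 1264 (.node (.node (.leaf 274306) 5 (.leaf 152230)) 334 (.node (.leaf 219635) 310 (.leaf 191757)))))) 11826 (.node (.node (.node (.node (.leaf 219981) 47 (.node (.leaf 192234) 98 (.leaf 36278))) 528 (.node (.node (.leaf 137879) 85 (.leaf 213509)) 687 (.node (.leaf 231507) 1171 (.leaf 147065)))) 4234 (.node (.node (.node (.leaf 97312) 227 (.leaf 123497)) 948 (.node (.leaf 212049) 621 (.leaf 244397))) 2442 (.node (.node (.leaf 175860) 187 (.leaf 164683)) 371 (.node (.leaf 197106) 533 (.leaf 115469))))) 8726 (.node (.node (.node (.node (.leaf 206548) 31 (.leaf 221736)) 96 (.node (.leaf 41440) 438 (.leaf 55848))) 593 (.node (.node (.leaf 45597) 632 (.leaf 245735)) 773 (.node (.leaf 298840) 439 (.leaf 48305)))) 2662 (.node (.node (.node (.leaf 34407) 43 (.leaf 224328)) 494 (.node (.leaf 283851) 16 (.leaf 254889))) 1135 (.node (.node (.leaf 265294) 484 (.leaf 294486)) 1554 (.node (.leaf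 85630) 453 (.leaf 153221))))))) 26693 (.node (.node (.node (.node (.node (.leaf 185138) 258 (.node (.leaf 33012) 502 (.leaf 199408))) 1497 (.node (.node (.leaf 240294) 172 (.leaf 230351)) 369 (.node (.leaf 229630) 457 (.leaf 256528)))) 2333 (.node (.node (.node (.leaf 237809) 255 (.leaf 229432)) 767 (.node (.leaf 129338) 180 (.leaf 255656))) 1030 (.node (.node (.leaf 232590) 1250 (.leaf 143333)) 1632 (.node (.leaf 278937) 174 (.leaf 56484))))) 5289 (.node (.node (.node (.node (.leaf 235770) 586 (.leaf 173165)) 1021 (.node (.leaf 234073) 336 (.leaf 162855))) 1670 (.node (.node (.leaf 131049) 264 (.leaf 95047)) 547 (.node (.leaf 69893) 47 (.leaf 235343)))) 2516 (.node (.node (.node (.leaf 235569) 1 (.leaf 235568)) 202 (.node (.leaf 233052) 6 (.leaf 150059))) 1300 (.node (.node (.leaf 185420) 67 (.leaf 57974)) 680 (.node (.leaf 214612) 311 (.leaf 287191)))))) 10211 (.node (.node (.node (.node (.node (.leaf 252974) 356 (.leaf 85208)) 501 (.node (.leaf 238475) 289 (.leaf 289628))) 1706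 (.node (.node (.leaf 129087) 751 (.leaf 240431)) 1146 (.node (.leaf 141770) 995 (.leaf 41459)))) 3977 (.node (.node (.node (.leaf 280884) 752 (.leaf 281234)) 1024 (.node (.leaf 242976) 401 (.leaf 103264))) 1462 (.node (.node (.leaf 290957) 155 (.leaf 135613)) 311 (.node (.leaf 201686) 36 (.leaf 289860))))) 8237 (.node (.node (.node (.node (.leaf 209476) 121 (.leaf 150702)) 747 (.node (.leaf 77202) 139 (.leaf 77480))) 1265 (.node (.node (.leaf 267718) 873 (.leaf 248495)) 1380 (.node (.leaf 228141) 135 (.leaf 275249)))) 3167 (.node (.node (.node (.leaf 284645) 583 (.leaf 291281)) 1018 (.node (.leaf 57855) 399 (.leaf 171392))) 1745 (.node (.node (.leaf 251124) 2166 (.leaf 224499)) 2826 (.node (.leaf 148183) 901 (.leaf 158193)))))))) 53934 (.node (.node (.node (.node (.node (.node (.leaf 86862) 85 (.node (.leaf 212595) 179 (.leaf 100536))) 293 (.node (.node (.leaf 269263) 304 (.leaf 305609)) 359 (.node (.leaf 231043) 136 (.leaf 253485)))) 982 (.node (.node (.node (.leaf 172799) 542 (.leaf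 230086)) 1751 (.node (.leaf 174468) 887 (.leaf 258624))) 2947 (.node (.node (.leaf 192337) 29 (.leaf 274545)) 251 (.node (.leaf 303718) 65 (.leaf 251265))))) 4264 (.node (.node (.node (.node (.leaf 109032) 478 (.leaf 82454)) 544 (.node (.leaf 269358) 135 (.leaf 53109))) 864 (.node (.node (.leaf 229288) 11 (.leaf 140778)) 210 (.node (.leaf 121457) 620 (.leaf 161029)))) 2118 (.node (.node (.node (.leaf 208645) 525 (.leaf 121570)) 1369 (.node (.leaf 261826) 339 (.leaf 95057))) 2082 (.node (.node (.leaf 75470) 61 (.leaf 169212)) 128 (.node (.leaf 103183) 38 (.leaf 76711)))))) 8649 (.node (.node (.node (.node (.leaf 107711) 264 (.node (.leaf 255499) 18 (.leaf 81198))) 516 (.node (.node (.leaf 262598) 216 (.leaf 296247)) 248 (.node (.leaf 110544) 137 (.leaf 262312)))) 1750 (.node (.node (.node (.leaf 91274) 507 (.leaf 46754)) 690 (.node (.leaf 266094) 212 (.leaf 253854))) 1125 (.node (.node (.leaf 283811) 917 (.leaf 246013)) 1074 (.node (.leaf 302766) 163 (.leaf 74226))))) 5199 (.node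 (.node (.node (.node (.leaf 71325) 372 (.leaf 288045)) 411 (.node (.leaf 255297) 95 (.leaf 259812))) 1102 (.node (.node (.leaf 269954) 770 (.leaf 270724)) 945 (.node (.leaf 159914) 586 (.leaf 235077)))) 2842 (.node (.node (.node (.leaf 271694) 1070 (.leaf 186905)) 1221 (.node (.leaf 132144) 1282 (.leaf 300785))) 2851 (.node (.node (.leaf 258962) 158 (.leaf 279905)) 224 (.node (.leaf 154486) 84 (.leaf 223757))))))) 20516 (.node (.node (.node (.node (.node (.leaf 118659) 681 (.node (.leaf 67933) 684 (.leaf 300025))) 1741 (.node (.node (.leaf 204196) 1757 (.leaf 38754)) 1852 (.node (.leaf 196852) 690 (.leaf 279803)))) 4385 (.node (.node (.node (.leaf 274703) 1898 (.leaf 193982)) 2140 (.node (.leaf 82030) 575 (.leaf 227313))) 2783 (.node (.node (.leaf 179889) 32 (.leaf 282719)) 557 (.node (.leaf 90076) 393 (.leaf 136815))))) 8291 (.node (.node (.node (.node (.leaf 266528) 40 (.leaf 224778)) 64 (.node (.leaf 260625) 699 (.leaf 303929))) 1084 (.node (.node (.leaf 143149) 170 (.leaf 259453))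 625 (.node (.leaf 285520) 334 (.leaf 194924)))) 2365 (.node (.node (.node (.leaf 157721) 540 (.leaf 296396)) 1106 (.node (.leaf 287282) 679 (.leaf 287961))) 1869 (.node (.node (.leaf 269224) 258 (.leaf 251481)) 1583 (.node (.leaf 238764) 224 (.leaf 136259)))))) 14913 (.node (.node (.node (.node (.node (.leaf 306371) 218 (.leaf 126958)) 2999 (.node (.leaf 72454) 393 (.leaf 303597))) 3693 (.node (.node (.leaf 238651) 360 (.leaf 225903)) 723 (.node (.leaf 38793) 204 (.leaf 85316)))) 4760 (.node (.node (.node (.leaf 232124) 423 (.leaf 133081)) 1490 (.node (.leaf 247258) 1404 (.leaf 109940))) 3261 (.node (.node (.leaf 240028) 922 (.leaf 282302)) 942 (.node (.leaf 271945) 629 (.leaf 276885))))) 9771 (.node (.node (.node (.node (.leaf 223711) 302 (.leaf 271831)) 1112 (.node (.leaf 95452) 668 (.leaf 301984))) 2562 (.node (.node (.leaf 267602) 20 (.leaf 236602)) 1163 (.node (.leaf 284574) 147 (.leaf 127965)))) 4082 (.node (.node (.node (.leaf 124742) 1067 (.leaf 47264)) 1182 (.node (.leaf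 181364) 74 (.leaf 305997))) 1323 (.node (.node (.leaf 255601) 67 (.leaf 155556)) 344 (.node (.leaf 298967) 418 (.leaf 290433)))))))))))

/-- table of generator 3 -/
def tab3 : Tab :=
  (.node (.node (.node (.node (.node (.node (.node (.node (.node (.node (.leaf 0) 1 (.node (.leaf 2) 1 (.leaf 1))) 3 (.node (.leaf 3) 1 (.node (.leaf 5) 1 (.leaf 4)))) 6 (.node (.node (.leaf 67) 1 (.node (.leaf 68) 1 (.leaf 69))) 3 (.node (.node (.leaf 70) 1 (.leaf 71)) 2 (.node (.leaf 72) 35 (.leaf 4409))))) 47 (.node (.node (.node (.leaf 48) 1 (.node (.leaf 47) 3 (.leaf 51))) 6 (.node (.leaf 53) 3 (.node (.leaf 56) 2 (.leaf 57)))) 13 (.node (.node (.leaf 469) 1 (.node (.leaf 437) 1 (.leaf 140))) 3 (.node (.node (.leaf 64) 1 (.leaf 63)) 2 (.node (.leaf 65) 1 (.leaf 66)))))) 67 (.node (.node (.node (.node (.leaf 6) 1 (.node (.leaf 7) 1 (.leaf 8))) 3 (.node (.leaf 9) 2 (.node (.leaf 11) 25 (.leaf 97)))) 31 (.node (.node (.leaf 98) 1 (.node (.leaf 99) 33 (.leaf 132))) 35 (.node (.node (.leaf 134) 1 (.leaf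 133)) 2 (.node (.leaf 135) 1 (.leaf 136))))) 70 (.node (.node (.node (.leaf 137) 1 (.node (.leaf 139) 1 (.leaf 138))) 3 (.node (.node (.leaf 62) 1 (.leaf 141)) 2 (.node (.leaf 142) 3 (.leaf 146)))) 9 (.node (.node (.leaf 145) 1 (.node (.leaf 217) 2 (.leaf 149))) 4 (.node (.node (.leaf 151) 1 (.leaf 150)) 4 (.node (.leaf 614) 1 (.leaf 155))))))) 156 (.node (.node (.node (.node (.node (.leaf 156) 1 (.node (.leaf 157) 1 (.leaf 158))) 3 (.node (.leaf 159) 1 (.node (.leaf 160) 1 (.leaf 161)))) 6 (.node (.node (.leaf 162) 1 (.node (.leaf 163) 1 (.leaf 164))) 4 (.node (.node (.leaf 166) 20 (.leaf 186)) 50 (.node (.leaf 832) 1 (.leaf 147))))) 107 (.node (.node (.node (.leaf 263) 1 (.node (.leaf 264) 1 (.leaf 265))) 3 (.node (.leaf 266) 1 (.node (.leaf 267) 1 (.leaf 268)))) 38 (.node (.node (.leaf 370) 1 (.node (.leaf 302) 1 (.leaf 303))) 4 (.node (.node (.leaf 306) 37 (.leaf 342)) 38 (.node (.leaf 343) 3 (.leaf 366)))))) 193 (.node (.node (.node (.node (.leaf 349) 3 (.node (.leaf 353) 3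 (.leaf 356))) 7 (.node (.leaf 355) 1 (.node (.leaf 357) 1 (.leaf 358)))) 13 (.node (.node (.leaf 4470) 2 (.node (.leaf 365) 1 (.leaf 364))) 4 (.node (.node (.leaf 346) 1 (.leaf 367)) 2 (.node (.leaf 368) 1 (.leaf 369))))) 21 (.node (.node (.node (.leaf 301) 45 (.node (.leaf 434) 20 (.leaf 435))) 66 (.node (.node (.leaf 436) 1 (.leaf 61)) 2 (.node (.leaf 438) 24 (.leaf 4785)))) 94 (.node (.node (.leaf 464) 2 (.node (.leaf 4773) 1 (.leaf 4795))) 4 (.node (.node (.leaf 4839) 1 (.leaf 60)) 7 (.node (.leaf 475) 7 (.leaf 5249)))))))) 498 (.node (.node (.node (.node (.node (.node (.leaf 4807) 1 (.node (.leaf 4851) 5 (.leaf 502))) 26 (.node (.leaf 20453) 87 (.node (.leaf 4665) 1 (.leaf 2581)))) 115 (.node (.node (.leaf 613) 1 (.node (.leaf 154) 7 (.leaf 59))) 61 (.node (.node (.leaf 674) 1 (.leaf 675)) 9 (.node (.leaf 684) 26 (.leaf 709))))) 301 (.node (.node (.node (.leaf 799) 33 (.node (.leaf 216) 2 (.leaf 800))) 72 (.node (.leaf 871) 24 (.node (.leaf 895) 5 (.leaf 900)))) 133 (.node (.node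 (.leaf 931) 3 (.node (.leaf 935) 25 (.leaf 11868))) 36 (.node (.node (.leaf 5726) 131 (.leaf 1137)) 188 (.node (.leaf 7610) 82 (.leaf 1239)))))) 741 (.node (.node (.node (.node (.leaf 1238) 75 (.node (.leaf 1313) 86 (.leaf 1744))) 163 (.node (.leaf 11460) 343 (.node (.leaf 1401) 834 (.leaf 4627)))) 1341 (.node (.node (.leaf 2580) 1 (.node (.leaf 612) 185 (.leaf 2805))) 259 (.node (.node (.leaf 21522) 120 (.leaf 18664)) 285 (.node (.leaf 10096) 457 (.leaf 3651))))) 2412 (.node (.node (.node (.leaf 3581) 249 (.node (.leaf 16805) 7 (.leaf 4455))) 289 (.node (.node (.leaf 17083) 154 (.leaf 15788)) 250 (.node (.leaf 4497) 48 (.leaf 1751)))) 641 (.node (.node (.leaf 13910) 21 (.node (.leaf 4313) 73 (.leaf 4385))) 117 (.node (.node (.leaf 46) 4 (.leaf 4968)) 36 (.node (.leaf 4444) 10 (.leaf 3907))))))) 3963 (.node (.node (.node (.node (.node (.leaf 4461) 1 (.node (.leaf 4463) 1 (.leaf 4462))) 3 (.node (.leaf 363) 6 (.node (.leaf 362) 23 (.leaf 4493)))) 117 (.node (.node (.leaf 4578) 49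 (.node (.leaf 2579) 34 (.leaf 4661))) 84 (.node (.node (.leaf 4662) 1 (.leaf 4663)) 2 (.node (.leaf 4664) 1 (.leaf 611))))) 267 (.node (.node (.node (.leaf 4702) 15 (.node (.leaf 4744) 42 (.leaf 462))) 66 (.node (.leaf 465) 1 (.node (.leaf 467) 1 (.leaf 4774)))) 73 (.node (.node (.leaf 7979) 6 (.node (.leaf 498) 2 (.leaf 4900))) 38 (.node (.node (.leaf 468) 11 (.leaf 4850)) 12 (.node (.leaf 499) 1 (.leaf 4852)))))) 439 (.node (.node (.node (.node (.leaf 4809) 68 (.node (.leaf 4413) 102 (.leaf 5070))) 185 (.node (.leaf 5556) 1 (.node (.leaf 12070) 269 (.leaf 506)))) 616 (.node (.node (.leaf 5516) 259 (.node (.leaf 25271) 232 (.leaf 6030))) 514 (.node (.node (.leaf 6007) 92 (.leaf 8827)) 268 (.node (.leaf 23751) 58 (.leaf 2257))))) 1468 (.node (.node (.node (.leaf 6368) 105 (.node (.leaf 30039) 482 (.leaf 3224))) 604 (.node (.node (.leaf 6993) 152 (.leaf 16143)) 523 (.node (.leaf 7495) 46 (.leaf 24668)))) 1393 (.node (.node (.leaf 1760) 100 (.node (.leaf 19090) 53 (.leaf 4730))) 222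 (.node (.node (.leaf 8004) 41 (.leaf 8024)) 615 (.node (.leaf 8598) 114 (.leaf 24263))))))))) 8827 (.node (.node (.node (.node (.node (.node (.node (.leaf 6122) 510 (.node (.leaf 9386) 268 (.leaf 24265))) 825 (.node (.leaf 19462) 175 (.node (.leaf 9827) 228 (.leaf 10056)))) 1252 (.node (.node (.leaf 23689) 200 (.node (.leaf 25804) 115 (.leaf 25279))) 349 (.node (.node (.leaf 7008) 150 (.leaf 13391)) 182 (.node (.leaf 23069) 405 (.leaf 11016))))) 2383 (.node (.node (.node (.leaf 124) 61 (.node (.leaf 11272) 274 (.leaf 12098))) 412 (.node (.leaf 3715) 23 (.node (.leaf 11645) 223 (.leaf 960)))) 893 (.node (.node (.leaf 12103) 84 (.node (.leaf 12187) 50 (.leaf 5870))) 245 (.node (.node (.leaf 13847) 238 (.leaf 1727)) 832 (.node (.leaf 13181) 442 (.leaf 13621)))))) 5089 (.node (.node (.node (.node (.leaf 13916) 40 (.node (.leaf 1072) 376 (.leaf 20643))) 825 (.node (.leaf 24340) 644 (.node (.leaf 31147) 21 (.leaf 15407)))) 1537 (.node (.node (.leaf 13375) 255 (.node (.leaf 15677) 50 (.leaf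 31569))) 434 (.node (.node (.leaf 12852) 187 (.leaf 24851)) 342 (.node (.leaf 287) 78 (.leaf 11280))))) 2914 (.node (.node (.node (.leaf 9617) 642 (.node (.leaf 25504) 43 (.leaf 28655))) 1068 (.node (.node (.leaf 23047) 480 (.leaf 31367)) 788 (.node (.leaf 10803) 314 (.leaf 19000)))) 2196 (.node (.node (.leaf 5901) 15 (.node (.leaf 6212) 309 (.leaf 26628))) 618 (.node (.node (.leaf 20349) 74 (.leaf 26532)) 437 (.node (.leaf 18677) 568 (.leaf 11574))))))) 11996 (.node (.node (.node (.node (.node (.leaf 28609) 732 (.node (.leaf 14196) 64 (.leaf 5263))) 862 (.node (.leaf 8251) 387 (.node (.leaf 16279) 657 (.leaf 31275)))) 1912 (.node (.node (.leaf 22735) 1 (.node (.leaf 11865) 47 (.leaf 22783))) 70 (.node (.node (.leaf 24422) 623 (.leaf 23369)) 719 (.node (.leaf 10956) 165 (.leaf 10079))))) 2928 (.node (.node (.node (.leaf 6298) 71 (.node (.leaf 7677) 520 (.leaf 14700))) 671 (.node (.leaf 22805) 32 (.node (.leaf 18286) 179 (.leaf 20267)))) 1019 (.node (.node (.leaf 16545) 509 (.node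 (.leaf 10394) 243 (.leaf 18283))) 873 (.node (.node (.leaf 26251) 102 (.leaf 6996)) 358 (.node (.leaf 17130) 61 (.leaf 30308)))))) 5695 (.node (.node (.node (.node (.leaf 26517) 616 (.node (.leaf 29691) 841 (.leaf 29415))) 1551 (.node (.leaf 3623) 653 (.node (.leaf 26771) 434 (.leaf 24655)))) 2866 (.node (.node (.leaf 13258) 539 (.node (.leaf 24728) 265 (.leaf 27415))) 1007 (.node (.node (.leaf 20417) 2 (.leaf 17272)) 173 (.node (.leaf 22782) 315 (.leaf 12291))))) 4698 (.node (.node (.node (.leaf 17681) 47 (.node (.leaf 30959) 409 (.leaf 31672))) 457 (.node (.node (.leaf 31673) 1 (.leaf 31754)) 2 (.node (.leaf 31774) 3 (.leaf 31678)))) 463 (.node (.node (.leaf 31679) 22 (.node (.leaf 39761) 48 (.leaf 31749))) 72 (.node (.node (.leaf 31751) 1 (.leaf 31752)) 2 (.node (.leaf 31753) 1 (.leaf 31674)))))))) 22928 (.node (.node (.node (.node (.node (.node (.leaf 31755) 2 (.node (.leaf 31757) 1 (.leaf 31758))) 5 (.node (.leaf 34511) 1 (.node (.leaf 33243) 3 (.leaf 31764)))) 10 (.node (.node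 (.leaf 31765) 1 (.node (.leaf 31766) 1 (.leaf 31767))) 3 (.node (.node (.leaf 31769) 1 (.leaf 31768)) 2 (.node (.leaf 31770) 1 (.leaf 31771))))) 17 (.node (.node (.node (.leaf 31772) 1 (.node (.leaf 31773) 1 (.leaf 31675))) 7 (.node (.leaf 31912) 5 (.node (.leaf 31785) 3 (.leaf 31787)))) 116 (.node (.node (.leaf 58628) 1 (.node (.leaf 34107) 3 (.leaf 57898))) 5 (.node (.node (.leaf 31907) 3 (.leaf 31896)) 5 (.node (.leaf 31898) 1 (.leaf 34297)))))) 145 (.node (.node (.node (.node (.leaf 33146) 1 (.node (.leaf 31902) 4 (.leaf 31905))) 6 (.node (.leaf 31906) 1 (.node (.leaf 31893) 5 (.leaf 31779)))) 17 (.node (.node (.leaf 31918) 120 (.node (.leaf 45634) 1 (.leaf 32038))) 122 (.node (.node (.leaf 32039) 5 (.leaf 32044)) 101 (.node (.leaf 32140) 65 (.leaf 141439))))) 372 (.node (.node (.node (.leaf 32272) 138 (.node (.leaf 32410) 1 (.leaf 32411))) 141 (.node (.node (.leaf 32412) 84 (.leaf 182276)) 142 (.node (.leaf 32555) 120 (.leaf 32675)))) 407 (.node (.node (.leaf 32680) 106 (.node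 (.leaf 32785) 1 (.leaf 32786))) 108 (.node (.node (.leaf 32787) 1 (.leaf 32789)) 142 (.node (.leaf 190441) 216 (.leaf 33145))))))) 1391 (.node (.node (.node (.node (.node (.leaf 31900) 7 (.node (.leaf 33153) 89 (.leaf 33242))) 97 (.node (.leaf 31761) 1 (.node (.leaf 55951) 5 (.leaf 33419)))) 104 (.node (.node (.leaf 33420) 112 (.node (.leaf 55952) 2 (.leaf 33364))) 118 (.node (.node (.leaf 58482) 31 (.leaf 87901)) 349 (.node (.leaf 33718) 24 (.leaf 33740))))) 662 (.node (.node (.node (.leaf 34113) 45 (.node (.leaf 33852) 2 (.leaf 33855))) 55 (.node (.leaf 33863) 52 (.node (.leaf 33860) 13 (.leaf 111090)))) 144 (.node (.node (.leaf 61696) 65 (.node (.leaf 273224) 82 (.leaf 33912))) 150 (.node (.node (.leaf 34102) 5 (.leaf 31889)) 11 (.node (.leaf 33808) 172 (.leaf 128948)))))) 1151 (.node (.node (.node (.node (.leaf 31899) 4 (.node (.leaf 34301) 10 (.leaf 34311))) 110 (.node (.leaf 204415) 54 (.node (.leaf 224778) 50 (.leaf 31760)))) 215 (.node (.node (.leaf 57403) 2 (.node (.leaf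 86148) 150 (.leaf 34663))) 153 (.node (.node (.leaf 50369) 1 (.leaf 84453)) 449 (.node (.leaf 146208) 29 (.leaf 225310))))) 927 (.node (.node (.node (.leaf 99557) 41 (.node (.leaf 117995) 26 (.leaf 190390))) 227 (.node (.node (.leaf 32972) 213 (.leaf 242805)) 872 (.node (.leaf 36324) 22 (.leaf 36108)))) 1258 (.node (.node (.leaf 59665) 112 (.node (.leaf 73806) 15 (.leaf 36610))) 469 (.node (.node (.leaf 39884) 28 (.leaf 36978)) 764 (.node (.leaf 285065) 171 (.leaf 37886)))))))))) 37910 (.node (.node (.node (.node (.node (.node (.node (.node (.leaf 37910) 632 (.node (.leaf 69107) 57 (.leaf 38599))) 723 (.node (.leaf 38919) 121 (.node (.leaf 253432) 1007 (.leaf 31701)))) 2207 (.node (.node (.leaf 40117) 213 (.node (.leaf 40402) 72 (.leaf 40330))) 402 (.node (.node (.leaf 40518) 88 (.leaf 42501)) 327 (.node (.leaf 42468) 234 (.leaf 109504))))) 3854 (.node (.node (.node (.leaf 136081) 4 (.node (.leaf 188605) 378 (.leaf 100237))) 451 (.node (.leaf 195643) 286 (.node (.leaf 40607) 289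 (.leaf 212044)))) 1300 (.node (.node (.leaf 261943) 200 (.node (.leaf 248991) 20 (.leaf 87975))) 514 (.node (.node (.leaf 129813) 255 (.leaf 43833)) 292 (.node (.leaf 43871) 7 (.leaf 60869)))))) 6306 (.node (.node (.node (.node (.leaf 197716) 4 (.node (.leaf 69110) 10 (.leaf 41437))) 15 (.node (.leaf 272332) 104 (.node (.leaf 119492) 33 (.leaf 281248)))) 202 (.node (.node (.leaf 82009) 828 (.node (.leaf 45533) 351 (.leaf 45596))) 1474 (.node (.node (.leaf 45893) 283 (.leaf 46175)) 342 (.node (.leaf 65046) 253 (.leaf 185075))))) 2519 (.node (.node (.node (.leaf 46736) 19 (.node (.leaf 49709) 107 (.leaf 46860))) 130 (.node (.node (.leaf 124753) 20 (.leaf 168384)) 296 (.node (.leaf 242703) 79 (.leaf 47533)))) 559 (.node (.node (.leaf 241887) 150 (.node (.leaf 47445) 74 (.leaf 107799))) 428 (.node (.node (.leaf 199881) 503 (.leaf 260492)) 824 (.node (.leaf 184382) 296 (.leaf 165048))))))) 11143 (.node (.node (.node (.node (.node (.leaf 48762) 13 (.node (.leaf 264327) 715 (.leaf 49781)))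 995 (.node (.leaf 114362) 157 (.node (.leaf 50205) 76 (.leaf 50281)))) 1270 (.node (.node (.leaf 240826) 45 (.node (.leaf 56809) 345 (.leaf 128402))) 860 (.node (.node (.leaf 51182) 96 (.leaf 187243)) 97 (.node (.leaf 51281) 216 (.leaf 51497))))) 2452 (.node (.node (.node (.leaf 87568) 45 (.node (.leaf 306486) 190 (.leaf 146552))) 279 (.node (.leaf 125945) 133 (.node (.leaf 52594) 58 (.leaf 51975)))) 677 (.node (.node (.leaf 147183) 194 (.node (.leaf 85256) 46 (.leaf 52422))) 241 (.node (.node (.leaf 52423) 122 (.leaf 87342)) 171 (.node (.leaf 51917) 25 (.leaf 57656)))))) 3598 (.node (.node (.node (.node (.leaf 191450) 109 (.node (.leaf 154281) 188 (.leaf 73555))) 357 (.node (.leaf 53009) 54 (.node (.leaf 173593) 1 (.leaf 188642)))) 436 (.node (.node (.leaf 129739) 44 (.node (.leaf 278779) 210 (.leaf 96711))) 331 (.node (.node (.leaf 241035) 79 (.leaf 53496)) 143 (.node (.leaf 85569) 1 (.leaf 59660))))) 991 (.node (.node (.node (.leaf 53641) 103 (.node (.leaf 87627) 174 (.leaf 173398)))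 278 (.node (.node (.leaf 87626) 25 (.leaf 53946)) 320 (.node (.leaf 111903) 14 (.leaf 213862)))) 619 (.node (.node (.leaf 54404) 143 (.node (.leaf 54261) 1 (.leaf 54405))) 152 (.node (.node (.leaf 54413) 1 (.leaf 54414)) 2 (.node (.leaf 54415) 11 (.leaf 54427)))))))) 16643 (.node (.node (.node (.node (.node (.node (.leaf 54634) 1 (.node (.leaf 54635) 80 (.leaf 54553))) 181 (.node (.leaf 38584) 414 (.node (.leaf 55149) 1 (.leaf 55148)))) 597 (.node (.node (.leaf 55150) 1 (.node (.leaf 55151) 1 (.leaf 55152))) 166 (.node (.node (.leaf 77284) 68 (.leaf 55384)) 228 (.node (.leaf 55545) 47 (.leaf 36899))))) 1083 (.node (.node (.node (.leaf 55636) 1 (.node (.leaf 55637) 4 (.leaf 55642))) 212 (.node (.leaf 55848) 100 (.node (.leaf 84852) 2 (.leaf 55950)))) 315 (.node (.node (.leaf 33244) 1 (.node (.leaf 33362) 196 (.leaf 199136))) 309 (.node (.node (.leaf 56261) 34 (.leaf 127245)) 125 (.node (.leaf 56163) 8 (.leaf 56392)))))) 1931 (.node (.node (.node (.node (.leaf 194810) 31 (.node (.leaf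 56516) 43 (.leaf 103150))) 206 (.node (.leaf 56690) 2 (.node (.leaf 56693) 117 (.leaf 50368)))) 392 (.node (.node (.leaf 98296) 7 (.node (.leaf 56883) 4 (.leaf 57549))) 153 (.node (.node (.leaf 50370) 3 (.leaf 57033)) 243 (.node (.leaf 57272) 1 (.leaf 54867))))) 839 (.node (.node (.node (.leaf 207396) 81 (.node (.leaf 57404) 37 (.leaf 57440))) 226 (.node (.node (.leaf 56887) 106 (.leaf 52620)) 347 (.node (.leaf 57896) 35 (.leaf 155632)))) 721 (.node (.node (.leaf 32035) 8 (.node (.leaf 58053) 1 (.leaf 58052))) 100 (.node (.node (.leaf 131129) 1 (.leaf 86151)) 2 (.node (.leaf 87618) 22 (.leaf 58168))))))) 3929 (.node (.node (.node (.node (.node (.leaf 33368) 121 (.node (.leaf 84033) 25 (.leaf 31888))) 270 (.node (.leaf 58751) 5 (.node (.leaf 58756) 2 (.leaf 87061)))) 286 (.node (.node (.leaf 43296) 161 (.node (.leaf 59079) 25 (.leaf 58953))) 212 (.node (.node (.leaf 58980) 253 (.leaf 59281)) 479 (.node (.leaf 59656) 1 (.leaf 59657))))) 1322 (.node (.node (.node (.leaf 298098) 297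 (.node (.leaf 55414) 184 (.leaf 95230))) 858 (.node (.leaf 285854) 9 (.node (.leaf 60670) 198 (.leaf 43877)))) 1759 (.node (.node (.leaf 61784) 25 (.node (.leaf 119393) 149 (.leaf 61517))) 356 (.node (.node (.leaf 259746) 266 (.leaf 262123)) 269 (.node (.leaf 234722) 176 (.leaf 37516)))))) 4184 (.node (.node (.node (.node (.leaf 285520) 177 (.node (.leaf 248147) 71 (.leaf 131228))) 261 (.node (.leaf 102535) 215 (.node (.leaf 206603) 8 (.leaf 63150)))) 677 (.node (.node (.leaf 153450) 519 (.node (.leaf 103435) 1184 (.leaf 46234))) 1891 (.node (.node (.leaf 65234) 287 (.leaf 40718)) 339 (.node (.leaf 92641) 190 (.leaf 174681))))) 3266 (.node (.node (.node (.leaf 90546) 482 (.node (.leaf 66415) 1 (.leaf 66414))) 545 (.node (.node (.leaf 66478) 1 (.leaf 66477)) 94 (.node (.leaf 66570) 2495 (.leaf 264495)))) 3523 (.node (.node (.leaf 235503) 201 (.node (.leaf 60533) 237 (.leaf 69893))) 629 (.node (.node (.leaf 70263) 57 (.leaf 253554)) 85 (.node (.leaf 218070) 182 (.leaf 73385)))))))))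 33415 (.node (.node (.node (.node (.node (.node (.node (.leaf 228831) 230 (.node (.leaf 71042) 262 (.leaf 71816))) 784 (.node (.leaf 227763) 345 (.node (.leaf 199300) 103 (.leaf 184843)))) 1369 (.node (.node (.leaf 220280) 80 (.node (.leaf 63507) 52 (.leaf 294126))) 337 (.node (.node (.leaf 202093) 200 (.leaf 73230)) 604 (.node (.leaf 185594) 249 (.leaf 74611))))) 2721 (.node (.node (.node (.leaf 74046) 99 (.node (.leaf 66801) 81 (.leaf 74227))) 181 (.node (.leaf 74226) 282 (.node (.leaf 155999) 70 (.leaf 127512)))) 659 (.node (.node (.leaf 55927) 46 (.node (.leaf 254057) 409 (.leaf 110406))) 551 (.node (.node (.leaf 83271) 68 (.leaf 75090)) 164 (.node (.leaf 96786) 346 (.leaf 261755)))))) 5052 (.node (.node (.node (.node (.leaf 183995) 114 (.node (.leaf 209066) 220 (.leaf 211191))) 907 (.node (.leaf 55316) 922 (.node (.leaf 78207) 1 (.leaf 78206)))) 2168 (.node (.node (.leaf 78545) 193 (.node (.leaf 78738) 833 (.leaf 290647))) 1321 (.node (.node (.leaf 305676) 390 (.leaf 153282))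 628 (.node (.leaf 88403) 442 (.leaf 235695))))) 4821 (.node (.node (.node (.leaf 174774) 119 (.node (.leaf 81086) 375 (.leaf 57200))) 801 (.node (.node (.leaf 239577) 60 (.leaf 170923)) 66 (.node (.leaf 81930) 33 (.leaf 82098)))) 1550 (.node (.node (.leaf 172527) 232 (.node (.leaf 57503) 286 (.leaf 83265))) 567 (.node (.node (.leaf 43665) 407 (.leaf 83839)) 514 (.node (.leaf 83829) 306 (.leaf 109437))))))) 12964 (.node (.node (.node (.node (.node (.leaf 92201) 42 (.node (.leaf 116092) 78 (.leaf 303002))) 170 (.node (.leaf 84460) 127 (.node (.leaf 59223) 110 (.leaf 112056)))) 411 (.node (.node (.leaf 221722) 36 (.node (.leaf 234073) 130 (.leaf 84867))) 261 (.node (.node (.leaf 85347) 16 (.leaf 84977)) 17 (.node (.leaf 84979) 1 (.leaf 84978))))) 823 (.node (.node (.node (.leaf 54263) 2 (.node (.leaf 85114) 12 (.leaf 85125))) 17 (.node (.leaf 85129) 4 (.node (.leaf 88652) 41 (.leaf 134934)))) 235 (.node (.node (.leaf 84961) 1 (.node (.leaf 85348) 206 (.leaf 159805))) 342 (.node (.node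 (.leaf 193184) 90 (.leaf 254019)) 93 (.node (.leaf 189469) 103 (.leaf 96928)))))) 1726 (.node (.node (.node (.node (.leaf 259108) 133 (.node (.leaf 34514) 14 (.leaf 86945))) 327 (.node (.leaf 98489) 109 (.node (.leaf 149698) 23 (.leaf 118107)))) 543 (.node (.node (.leaf 260962) 14 (.node (.leaf 113235) 83 (.leaf 86655))) 300 (.node (.node (.leaf 86857) 77 (.leaf 86934)) 118 (.node (.leaf 88161) 88 (.leaf 60420))))) 1106 (.node (.node (.node (.leaf 80230) 16 (.node (.leaf 87137) 72 (.leaf 76013))) 127 (.node (.node (.leaf 53079) 278 (.leaf 87525)) 320 (.node (.leaf 51505) 56 (.leaf 87584)))) 678 (.node (.node (.leaf 87799) 11 (.node (.leaf 87811) 1 (.leaf 87810))) 50 (.node (.node (.leaf 87848) 93 (.leaf 111788)) 396 (.node (.leaf 111476) 307 (.leaf 156929)))))))) 17288 (.node (.node (.node (.node (.node (.node (.leaf 87204) 39 (.node (.leaf 85133) 84 (.leaf 149182))) 192 (.node (.leaf 88806) 421 (.node (.leaf 89026) 188 (.leaf 134568)))) 1020 (.node (.node (.leaf 94868) 55 (.node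 (.leaf 248904) 44 (.leaf 33384))) 443 (.node (.node (.leaf 207505) 264 (.leaf 90339)) 470 (.node (.leaf 65932) 226 (.leaf 51883))))) 2180 (.node (.node (.node (.leaf 90792) 923 (.node (.leaf 91717) 310 (.leaf 43524))) 1355 (.node (.leaf 71725) 493 (.node (.leaf 65573) 85 (.leaf 78694)))) 2171 (.node (.node (.leaf 281055) 666 (.node (.leaf 118419) 145 (.leaf 156866))) 1084 (.node (.node (.leaf 133834) 157 (.leaf 38191)) 236 (.node (.leaf 285001) 703 (.leaf 225337)))))) 6422 (.node (.node (.node (.node (.leaf 175356) 12 (.node (.leaf 62399) 10 (.leaf 256676))) 417 (.node (.leaf 229187) 9 (.node (.leaf 196637) 324 (.leaf 95785)))) 766 (.node (.node (.leaf 95802) 1 (.node (.leaf 95801) 156 (.leaf 96190))) 310 (.node (.node (.leaf 175049) 181 (.leaf 96293)) 338 (.node (.leaf 96723) 79 (.leaf 73546))))) 1509 (.node (.node (.node (.leaf 96545) 207 (.node (.leaf 131835) 35 (.leaf 75420))) 381 (.node (.node (.leaf 101672) 198 (.leaf 97123)) 301 (.node (.leaf 97226) 86 (.leaf 97312)))) 967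 (.node (.node (.leaf 97511) 148 (.node (.leaf 166413) 318 (.leaf 97977))) 705 (.node (.node (.leaf 98215) 80 (.leaf 56876)) 642 (.node (.leaf 98857) 142 (.leaf 147251))))))) 10797 (.node (.node (.node (.node (.node (.leaf 184194) 355 (.node (.leaf 33012) 271 (.leaf 102322))) 1057 (.node (.leaf 96405) 1679 (.node (.leaf 143687) 238 (.leaf 102384)))) 3114 (.node (.node (.leaf 283371) 329 (.node (.leaf 289628) 35 (.leaf 187615))) 626 (.node (.node (.leaf 56558) 16 (.leaf 59035)) 33 (.node (.leaf 241022) 425 (.leaf 103608))))) 4245 (.node (.node (.node (.leaf 216235) 28 (.node (.leaf 220571) 213 (.leaf 103895))) 352 (.node (.node (.leaf 104006) 60 (.leaf 190835)) 161 (.node (.leaf 76028) 263 (.leaf 104430)))) 782 (.node (.node (.leaf 104645) 179 (.node (.leaf 104412) 31 (.leaf 204358))) 336 (.node (.node (.leaf 104773) 172 (.leaf 143333)) 450 (.node (.leaf 302786) 544 (.leaf 191662)))))) 6564 (.node (.node (.node (.node (.leaf 171424) 14 (.node (.leaf 105987) 349 (.leaf 106337))) 629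 (.node (.leaf 263199) 164 (.node (.leaf 298507) 162 (.leaf 130428)))) 1147 (.node (.node (.leaf 305953) 51 (.node (.leaf 218934) 539 (.leaf 281475))) 617 (.node (.node (.leaf 217275) 61 (.leaf 47518)) 300 (.node (.leaf 60012) 44 (.leaf 245115))))) 2389 (.node (.node (.node (.leaf 158950) 222 (.node (.leaf 247097) 143 (.leaf 187666))) 428 (.node (.node (.leaf 220284) 31 (.leaf 225903)) 39 (.node (.leaf 89695) 202 (.leaf 109031)))) 778 (.node (.node (.leaf 233638) 118 (.node (.leaf 154657) 111 (.leaf 136309))) 363 (.node (.node (.leaf 41080) 169 (.leaf 301611)) 971 (.node (.leaf 288218) 91 (.leaf 230868))))))))))) 110799 (.node (.node (.node (.node (.node (.node (.node (.node (.node (.leaf 110799) 8 (.node (.leaf 49383) 341 (.leaf 221718))) 392 (.node (.leaf 111192) 146 (.node (.leaf 265231) 86 (.leaf 212683)))) 700 (.node (.node (.leaf 111500) 114 (.node (.leaf 101907) 175 (.leaf 87942))) 959 (.node (.node (.leaf 112459) 90 (.leaf 247476)) 141 (.node (.leaf 112599) 137 (.leaf 181503)))))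 2159 (.node (.node (.node (.leaf 113339) 277 (.node (.leaf 86572) 102 (.leaf 85887))) 380 (.node (.leaf 113338) 1 (.node (.leaf 112958) 300 (.leaf 175962)))) 732 (.node (.node (.leaf 113813) 123 (.node (.leaf 113690) 236 (.leaf 183026))) 454 (.node (.node (.leaf 109696) 14 (.leaf 130685)) 32 (.node (.leaf 114176) 10 (.leaf 52785)))))) 3388 (.node (.node (.node (.node (.leaf 52784) 328 (.node (.leaf 221314) 60 (.leaf 114576))) 389 (.node (.leaf 114575) 29 (.node (.leaf 271232) 290 (.leaf 114895)))) 899 (.node (.node (.leaf 79002) 212 (.node (.leaf 242163) 31 (.leaf 49386))) 383 (.node (.node (.leaf 115469) 54 (.leaf 125830)) 247 (.node (.leaf 116715) 122 (.leaf 121112))))) 1672 (.node (.node (.node (.leaf 115859) 86 (.node (.leaf 115946) 30 (.leaf 115975))) 385 (.node (.node (.leaf 33161) 116 (.leaf 232829)) 148 (.node (.leaf 118301) 57 (.leaf 157513)))) 617 (.node (.node (.leaf 54446) 363 (.node (.leaf 171701) 118 (.leaf 116958))) 780 (.node (.node (.leaf 261116) 704 (.leaf 264417))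 739 (.node (.leaf 35265) 112 (.leaf 86474))))))) 7578 (.node (.node (.node (.node (.node (.leaf 68149) 12 (.node (.leaf 153803) 394 (.leaf 118783))) 796 (.node (.leaf 181950) 214 (.node (.leaf 260393) 205 (.leaf 264169)))) 1375 (.node (.node (.leaf 263442) 676 (.node (.leaf 283634) 684 (.leaf 115838))) 1705 (.node (.node (.leaf 124909) 633 (.leaf 82438)) 1092 (.node (.leaf 122549) 254 (.leaf 137310))))) 5120 (.node (.node (.node (.leaf 217314) 56 (.node (.leaf 123553) 370 (.leaf 185007))) 693 (.node (.leaf 123912) 563 (.node (.leaf 46865) 124 (.leaf 209852)))) 1678 (.node (.node (.leaf 93696) 207 (.node (.leaf 180732) 120 (.leaf 188679))) 673 (.node (.node (.leaf 80544) 53 (.leaf 246958)) 1110 (.node (.leaf 191084) 165 (.leaf 127123)))))) 8815 (.node (.node (.node (.node (.leaf 127192) 11 (.node (.leaf 154857) 201 (.leaf 66234))) 459 (.node (.leaf 36502) 33 (.node (.leaf 289004) 187 (.leaf 274337)))) 723 (.node (.node (.leaf 127915) 50 (.node (.leaf 191817) 161 (.leaf 150338))) 487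 (.node (.node (.leaf 50713) 722 (.leaf 172105)) 946 (.node (.leaf 133352) 8 (.leaf 85432))))) 2549 (.node (.node (.node (.leaf 111123) 23 (.node (.leaf 54229) 1 (.leaf 54230))) 42 (.node (.node (.leaf 129783) 131 (.leaf 151673)) 235 (.node (.leaf 131131) 14 (.leaf 127779)))) 397 (.node (.node (.leaf 130139) 81 (.node (.leaf 234339) 37 (.leaf 133351))) 119 (.node (.node (.leaf 117196) 309 (.leaf 130569)) 312 (.node (.leaf 130566) 313 (.leaf 195380)))))))) 20240 (.node (.node (.node (.node (.node (.node (.leaf 131132) 10 (.node (.leaf 131049) 82 (.leaf 130018))) 189 (.node (.leaf 62914) 365 (.node (.leaf 131593) 96 (.leaf 236954)))) 796 (.node (.node (.leaf 96751) 49 (.node (.leaf 190817) 11 (.leaf 134028))) 307 (.node (.node (.leaf 132141) 42 (.leaf 276413)) 367 (.node (.leaf 76981) 572 (.leaf 53211))))) 2269 (.node (.node (.node (.leaf 81411) 45 (.node (.leaf 155510) 37 (.leaf 73968))) 299 (.node (.leaf 171392) 227 (.node (.leaf 94048) 125 (.leaf 204437)))) 1260 (.node (.node (.leaf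 89414) 169 (.node (.leaf 134916) 274 (.leaf 135011))) 1045 (.node (.node (.leaf 135612) 381 (.leaf 136180)) 389 (.node (.leaf 136002) 7 (.leaf 231043)))))) 5162 (.node (.node (.node (.node (.leaf 226973) 58 (.node (.leaf 185623) 381 (.leaf 143406))) 614 (.node (.leaf 192914) 749 (.node (.leaf 147614) 636 (.leaf 138384)))) 2495 (.node (.node (.leaf 293825) 105 (.node (.leaf 87705) 156 (.leaf 243197))) 415 (.node (.node (.leaf 213881) 29 (.leaf 50834)) 718 (.node (.leaf 148158) 46 (.leaf 190497))))) 3769 (.node (.node (.node (.leaf 68452) 678 (.node (.leaf 140648) 130 (.leaf 90133))) 932 (.node (.node (.leaf 238649) 133 (.leaf 174559)) 1132 (.node (.leaf 285069) 781 (.leaf 90280)))) 3009 (.node (.node (.leaf 163321) 15 (.node (.leaf 295830) 155 (.leaf 226489))) 354 (.node (.node (.leaf 104945) 73 (.leaf 136640)) 343 (.node (.leaf 171851) 176 (.leaf 263323))))))) 13089 (.node (.node (.node (.node (.node (.leaf 45437) 66 (.node (.leaf 296285) 155 (.leaf 104064))) 864 (.node (.leaf 144992)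 221 (.node (.leaf 145016) 56 (.leaf 265028)))) 1298 (.node (.node (.leaf 145426) 352 (.node (.leaf 201595) 163 (.leaf 170203))) 629 (.node (.node (.leaf 195025) 83 (.leaf 263529)) 201 (.node (.leaf 146255) 296 (.leaf 51740))))) 2528 (.node (.node (.node (.leaf 81284) 181 (.node (.leaf 42558) 491 (.leaf 257220))) 958 (.node (.leaf 137564) 165 (.node (.leaf 147780) 379 (.leaf 139829)))) 1527 (.node (.node (.leaf 71483) 568 (.node (.leaf 237961) 429 (.leaf 287961))) 1290 (.node (.node (.leaf 99559) 19 (.leaf 149491)) 254 (.node (.leaf 298087) 31 (.leaf 183905)))))) 5931 (.node (.node (.node (.node (.leaf 218357) 287 (.node (.leaf 150345) 292 (.leaf 179112))) 1062 (.node (.leaf 276475) 51 (.node (.leaf 229741) 89 (.leaf 62852)))) 1229 (.node (.node (.leaf 60235) 321 (.node (.leaf 133220) 53 (.leaf 189609))) 378 (.node (.node (.leaf 189611) 266 (.leaf 117195)) 271 (.node (.leaf 201918) 132 (.leaf 152069))))) 2504 (.node (.node (.node (.leaf 163254) 183 (.node (.leaf 173094) 152 (.leaf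 46140))) 982 (.node (.node (.leaf 235109) 682 (.leaf 126179)) 790 (.node (.leaf 232698) 151 (.leaf 275605)))) 1954 (.node (.node (.leaf 134299) 20 (.node (.leaf 113720) 105 (.leaf 154643))) 136 (.node (.node (.leaf 50512) 221 (.leaf 83696)) 497 (.node (.leaf 187204) 2 (.leaf 71909))))))))) 44698 (.node (.node (.node (.node (.node (.node (.node (.leaf 57004) 236 (.node (.leaf 226738) 213 (.leaf 166856))) 883 (.node (.leaf 97686) 256 (.node (.leaf 114731) 121 (.leaf 156906)))) 1364 (.node (.node (.leaf 202908) 9 (.node (.leaf 156869) 643 (.leaf 116449))) 738 (.node (.node (.leaf 249961) 280 (.leaf 157696)) 314 (.node (.leaf 107931) 96 (.leaf 213167))))) 2696 (.node (.node (.node (.leaf 213169) 290 (.node (.leaf 201788) 443 (.leaf 237859))) 837 (.node (.leaf 159030) 76 (.node (.leaf 159105) 86 (.leaf 224794)))) 1050 (.node (.node (.leaf 43518) 942 (.node (.leaf 160185) 57 (.leaf 301984))) 1282 (.node (.node (.leaf 154491) 499 (.leaf 239188)) 624 (.node (.leaf 192782) 40 (.leaf 222988))))))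 5915 (.node (.node (.node (.node (.leaf 232168) 381 (.node (.leaf 167707) 74 (.leaf 161735))) 1007 (.node (.leaf 40811) 259 (.node (.leaf 162677) 41 (.leaf 302766)))) 1443 (.node (.node (.leaf 174034) 265 (.node (.leaf 226389) 302 (.leaf 163423))) 650 (.node (.node (.leaf 54195) 524 (.leaf 178509)) 806 (.node (.leaf 164310) 372 (.leaf 168978))))) 3308 (.node (.node (.node (.leaf 161800) 1226 (.node (.leaf 238618) 714 (.leaf 229932))) 2975 (.node (.node (.leaf 52688) 370 (.leaf 168065)) 498 (.node (.leaf 168194) 151 (.leaf 157999)))) 3664 (.node (.node (.leaf 46885) 76 (.node (.leaf 289384) 190 (.leaf 255601))) 432 (.node (.node (.leaf 47875) 672 (.leaf 169488)) 957 (.node (.leaf 81218) 183 (.leaf 43806))))))) 14678 (.node (.node (.node (.node (.node (.leaf 94292) 374 (.node (.leaf 177498) 146 (.leaf 170696))) 562 (.node (.leaf 52582) 35 (.node (.leaf 246469) 151 (.leaf 82059)))) 1217 (.node (.node (.leaf 133607) 74 (.node (.leaf 82585) 232 (.leaf 116834))) 309 (.node (.node (.leaf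 116839) 162 (.leaf 185343)) 224 (.node (.leaf 63344) 79 (.leaf 36470))))) 1887 (.node (.node (.node (.leaf 194643) 59 (.node (.leaf 36464) 83 (.leaf 263846))) 256 (.node (.leaf 217919) 209 (.node (.leaf 82748) 50 (.leaf 37721)))) 590 (.node (.node (.leaf 155342) 147 (.node (.leaf 85314) 253 (.leaf 36308))) 420 (.node (.node (.leaf 33746) 14 (.leaf 173086)) 141 (.node (.leaf 97989) 210 (.leaf 87120)))))) 3276 (.node (.node (.node (.node (.leaf 173451) 45 (.node (.leaf 131462) 217 (.leaf 201574))) 465 (.node (.leaf 215668) 118 (.node (.leaf 162855) 36 (.leaf 174069)))) 647 (.node (.node (.leaf 92954) 5 (.node (.leaf 62413) 232 (.leaf 174448))) 1133 (.node (.node (.leaf 132707) 301 (.leaf 182159)) 496 (.node (.leaf 245534) 133 (.leaf 170872))))) 2449 (.node (.node (.node (.leaf 260431) 257 (.node (.leaf 294939) 132 (.leaf 231140))) 620 (.node (.node (.leaf 53105) 55 (.leaf 153102)) 803 (.node (.leaf 267932) 32 (.leaf 298252)))) 1559 (.node (.node (.leaf 281803) 39 (.node (.leaf 170549)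 227 (.leaf 177725))) 1050 (.node (.node (.leaf 164029) 603 (.leaf 150638)) 960 (.node (.leaf 223147) 100 (.leaf 175466)))))))) 24392 (.node (.node (.node (.node (.node (.node (.leaf 203671) 323 (.node (.leaf 255700) 181 (.leaf 232758))) 999 (.node (.leaf 180889) 476 (.node (.leaf 159877) 912 (.leaf 32497)))) 2460 (.node (.node (.leaf 255030) 863 (.node (.leaf 183212) 693 (.leaf 149758))) 1586 (.node (.node (.leaf 59837) 58 (.leaf 247845)) 434 (.node (.leaf 184229) 13 (.leaf 48546))))) 4798 (.node (.node (.node (.leaf 85343) 6 (.node (.leaf 306303) 143 (.leaf 184948))) 320 (.node (.leaf 123923) 38 (.node (.leaf 269263) 93 (.leaf 46132)))) 733 (.node (.node (.leaf 215925) 345 (.node (.leaf 72367) 277 (.leaf 215652))) 627 (.node (.node (.leaf 186195) 109 (.leaf 285514)) 206 (.node (.leaf 296537) 333 (.leaf 158967)))))) 6932 (.node (.node (.node (.node (.leaf 56004) 74 (.node (.leaf 134532) 10 (.leaf 42760))) 383 (.node (.leaf 155150) 1062 (.node (.leaf 133357) 70 (.leaf 188336)))) 1584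 (.node (.node (.leaf 281056) 91 (.node (.leaf 294849) 148 (.leaf 188643))) 348 (.node (.node (.leaf 232773) 427 (.leaf 222734)) 675 (.node (.leaf 304286) 216 (.leaf 245906))))) 2860 (.node (.node (.node (.leaf 181525) 47 (.node (.leaf 221653) 586 (.leaf 190314))) 991 (.node (.node (.leaf 212373) 145 (.leaf 131884)) 521 (.node (.leaf 165677) 153 (.leaf 92187)))) 1769 (.node (.node (.leaf 52651) 48 (.node (.leaf 190449) 298 (.leaf 227426))) 406 (.node (.node (.leaf 223361) 378 (.leaf 160943)) 575 (.node (.leaf 65553) 241 (.leaf 192791))))))) 12893 (.node (.node (.node (.node (.node (.leaf 161149) 28 (.node (.leaf 110379) 181 (.leaf 304137))) 874 (.node (.leaf 255268) 895 (.node (.leaf 292784) 355 (.leaf 194906)))) 2351 (.node (.node (.leaf 179045) 45 (.node (.leaf 195178) 779 (.leaf 92163))) 957 (.node (.node (.leaf 84021) 18 (.leaf 91613)) 64 (.node (.leaf 170788) 698 (.leaf 286927))))) 4314 (.node (.node (.node (.leaf 197096) 322 (.node (.leaf 202872) 484 (.leaf 197902))) 1025 (.node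 (.leaf 171348) 330 (.node (.leaf 303929) 38 (.leaf 271828)))) 1486 (.node (.node (.leaf 266093) 269 (.node (.leaf 239680) 183 (.leaf 41598))) 718 (.node (.node (.leaf 72454) 215 (.leaf 212896)) 560 (.node (.leaf 242761) 576 (.leaf 192528)))))) 8060 (.node (.node (.node (.node (.leaf 274420) 237 (.node (.leaf 230863) 98 (.leaf 36900))) 589 (.node (.leaf 112694) 40 (.node (.leaf 190006) 19 (.leaf 277270)))) 844 (.node (.node (.leaf 170951) 3 (.node (.leaf 152231) 50 (.leaf 159349))) 56 (.node (.node (.leaf 51282) 46 (.leaf 158483)) 127 (.node (.leaf 201869) 28 (.leaf 228523))))) 1071 (.node (.node (.node (.leaf 55121) 610 (.node (.leaf 202523) 44 (.leaf 287282))) 828 (.node (.node (.leaf 197914) 22 (.leaf 251225)) 1136 (.node (.leaf 36801) 276 (.leaf 204153)))) 2291 (.node (.node (.leaf 82576) 67 (.node (.leaf 204271) 1076 (.leaf 170185))) 1306 (.node (.node (.leaf 182709) 17 (.leaf 270724)) 456 (.node (.leaf 164931) 77 (.leaf 173424)))))))))) 95246 (.node (.node (.node (.node (.node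 (.node (.node (.node (.leaf 265274) 503 (.node (.leaf 206548) 38 (.leaf 251123))) 601 (.node (.leaf 205281) 40 (.node (.leaf 118730) 361 (.leaf 182467)))) 1391 (.node (.node (.leaf 252607) 113 (.node (.leaf 207550) 138 (.leaf 259012))) 765 (.node (.node (.leaf 293370) 444 (.leaf 220758)) 568 (.node (.leaf 223127) 1164 (.leaf 178633))))) 3996 (.node (.node (.node (.leaf 225109) 193 (.node (.leaf 153838) 957 (.leaf 76711))) 1455 (.node (.leaf 288045) 7 (.node (.leaf 287211) 42 (.leaf 284830)))) 1593 (.node (.node (.leaf 236054) 415 (.node (.leaf 253729) 546 (.leaf 36829))) 1339 (.node (.node (.leaf 90924) 194 (.leaf 158009)) 536 (.node (.leaf 213509) 121 (.leaf 129953)))))) 7695 (.node (.node (.node (.node (.leaf 57578) 327 (.node (.leaf 194784) 389 (.leaf 214456))) 872 (.node (.leaf 233080) 15 (.node (.leaf 219943) 16 (.leaf 190414)))) 917 (.node (.node (.leaf 214726) 72 (.node (.leaf 190320) 538 (.leaf 168322))) 1238 (.node (.node (.leaf 282620) 7 (.leaf 305888)) 416 (.node (.leaf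 284401) 333 (.leaf 216643))))) 3554 (.node (.node (.node (.leaf 194303) 138 (.node (.leaf 32847) 504 (.leaf 90599))) 776 (.node (.node (.leaf 70169) 34 (.leaf 271942)) 170 (.node (.leaf 303513) 159 (.leaf 175244)))) 1163 (.node (.node (.leaf 177437) 609 (.node (.leaf 219165) 545 (.leaf 53500))) 1318 (.node (.node (.leaf 219699) 55 (.leaf 192085)) 84 (.node (.leaf 215282) 60 (.leaf 172540))))))) 14394 (.node (.node (.node (.node (.node (.leaf 300506) 132 (.node (.leaf 103683) 292 (.leaf 242982))) 639 (.node (.leaf 213424) 250 (.node (.leaf 286494) 39 (.leaf 298454)))) 1718 (.node (.node (.leaf 222156) 221 (.node (.leaf 222378) 356 (.leaf 189180))) 1076 (.node (.node (.leaf 223233) 194 (.leaf 272848)) 247 (.node (.leaf 113714) 220 (.leaf 264976))))) 3272 (.node (.node (.node (.leaf 167524) 46 (.node (.leaf 128786) 192 (.leaf 259812))) 617 (.node (.leaf 224329) 171 (.node (.leaf 35469) 151 (.leaf 140539)))) 1067 (.node (.node (.leaf 34461) 155 (.node (.leaf 194319) 398 (.leaf 282045)))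 559 (.node (.node (.leaf 94987) 83 (.leaf 225419)) 238 (.node (.leaf 286263) 252 (.leaf 103889)))))) 5464 (.node (.node (.node (.node (.leaf 108822) 682 (.node (.leaf 232714) 99 (.leaf 264385))) 872 (.node (.leaf 183607) 225 (.node (.leaf 117517) 486 (.leaf 259123)))) 1727 (.node (.node (.leaf 99526) 268 (.node (.leaf 73263) 123 (.leaf 231100))) 525 (.node (.node (.leaf 42118) 183 (.leaf 155398)) 662 (.node (.leaf 87038) 471 (.leaf 229288))))) 3725 (.node (.node (.node (.leaf 229629) 9 (.node (.leaf 229567) 265 (.leaf 213149))) 304 (.node (.node (.leaf 166660) 419 (.leaf 232639)) 716 (.node (.leaf 289853) 220 (.leaf 110566)))) 1259 (.node (.node (.leaf 44529) 156 (.node (.leaf 136009) 57 (.leaf 228021))) 290 (.node (.node (.leaf 80231) 163 (.leaf 142769)) 200 (.node (.leaf 303063) 67 (.leaf 262755)))))))) 25462 (.node (.node (.node (.node (.node (.node (.leaf 187837) 206 (.node (.leaf 62114) 240 (.leaf 112342))) 500 (.node (.leaf 154005) 88 (.node (.leaf 77926) 29 (.leaf 201056))))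 1083 (.node (.node (.leaf 71892) 49 (.node (.leaf 230351) 59 (.leaf 154335))) 239 (.node (.node (.leaf 116360) 7 (.leaf 52049)) 546 (.node (.leaf 233376) 107 (.leaf 213041))))) 2131 (.node (.node (.node (.leaf 109141) 56 (.node (.leaf 261165) 353 (.leaf 167477))) 1435 (.node (.leaf 235073) 36 (.node (.leaf 153545) 234 (.leaf 69740)))) 1931 (.node (.node (.leaf 235570) 1 (.node (.leaf 235569) 200 (.leaf 299368))) 429 (.node (.node (.leaf 81391) 96 (.leaf 209518)) 276 (.node (.leaf 306181) 132 (.leaf 45716)))))) 5182 (.node (.node (.node (.node (.leaf 166649) 84 (.node (.leaf 199238) 914 (.leaf 259695))) 1120 (.node (.leaf 237706) 102 (.node (.leaf 152181) 13 (.leaf 270284)))) 1272 (.node (.node (.leaf 148751) 514 (.node (.leaf 238475) 116 (.leaf 195796))) 657 (.node (.node (.leaf 165946) 133 (.leaf 115221)) 275 (.node (.leaf 125988) 337 (.leaf 213348))))) 2861 (.node (.node (.node (.leaf 77843) 81 (.node (.leaf 77433) 38 (.leaf 54715))) 130 (.node (.node (.leaf 198851) 348 (.leaf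 278641)) 393 (.node (.leaf 270892) 29 (.leaf 144056)))) 729 (.node (.node (.leaf 289396) 15 (.node (.leaf 43272) 137 (.leaf 98316))) 267 (.node (.node (.leaf 275606) 31 (.leaf 142227)) 280 (.node (.leaf 50323) 117 (.leaf 249051))))))) 9479 (.node (.node (.node (.node (.node (.leaf 255004) 36 (.node (.leaf 103183) 13 (.leaf 53418))) 572 (.node (.leaf 113473) 264 (.node (.leaf 241821) 601 (.leaf 100982)))) 1643 (.node (.node (.leaf 209354) 31 (.node (.leaf 121307) 145 (.leaf 35664))) 347 (.node (.node (.leaf 242976) 82 (.leaf 111824)) 401 (.node (.leaf 243376) 83 (.leaf 67172))))) 2768 (.node (.node (.node (.leaf 68619) 51 (.node (.leaf 258887) 201 (.leaf 122110))) 633 (.node (.leaf 267433) 5 (.node (.leaf 244393) 5 (.leaf 199531)))) 954 (.node (.node (.leaf 133240) 43 (.node (.leaf 250866) 132 (.leaf 261911))) 202 (.node (.node (.leaf 236935) 462 (.leaf 167556)) 825 (.node (.leaf 87977) 171 (.leaf 189644)))))) 4971 (.node (.node (.node (.node (.leaf 299376) 172 (.node (.leaf 153089)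 178 (.leaf 106733))) 461 (.node (.leaf 274885) 38 (.node (.leaf 152950) 649 (.leaf 214635)))) 1301 (.node (.node (.leaf 46521) 357 (.node (.leaf 306360) 230 (.leaf 183993))) 622 (.node (.node (.leaf 248430) 155 (.leaf 213307)) 210 (.node (.leaf 248090) 116 (.leaf 283875))))) 2261 (.node (.node (.node (.leaf 189270) 42 (.node (.leaf 275520) 170 (.leaf 247880))) 242 (.node (.node (.leaf 185712) 35 (.leaf 252931)) 1041 (.node (.leaf 248856) 100 (.leaf 277261)))) 1996 (.node (.node (.leaf 203518) 182 (.node (.leaf 250396) 58 (.leaf 238330))) 379 (.node (.node (.leaf 247895) 273 (.leaf 244751)) 632 (.node (.leaf 202763) 24 (.leaf 234266))))))))) 45250 (.node (.node (.node (.node (.node (.node (.node (.leaf 265190) 16 (.node (.leaf 51011) 305 (.leaf 199632))) 521 (.node (.leaf 184334) 766 (.node (.leaf 208364) 110 (.leaf 252692)))) 1802 (.node (.node (.leaf 253135) 293 (.node (.leaf 73170) 42 (.leaf 38754))) 757 (.node (.node (.leaf 305255) 119 (.leaf 101677)) 203 (.node (.leaf 74751)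 859 (.leaf 267445))))) 3735 (.node (.node (.node (.leaf 182349) 360 (.node (.leaf 288303) 211 (.leaf 168650))) 762 (.node (.leaf 255792) 736 (.node (.leaf 280433) 735 (.leaf 285055)))) 2706 (.node (.node (.leaf 257737) 189 (.node (.leaf 290659) 138 (.leaf 105991))) 562 (.node (.node (.leaf 223457) 326 (.leaf 212458)) 491 (.node (.leaf 175235) 173 (.leaf 306555)))))) 7717 (.node (.node (.node (.node (.leaf 207687) 96 (.node (.leaf 86015) 147 (.leaf 259184))) 800 (.node (.leaf 223949) 134 (.node (.leaf 259947) 1 (.leaf 259946)))) 1001 (.node (.node (.leaf 71521) 380 (.node (.leaf 119387) 426 (.leaf 128883))) 807 (.node (.node (.leaf 51013) 280 (.leaf 62187)) 296 (.node (.leaf 117256) 244 (.leaf 286176))))) 2743 (.node (.node (.node (.leaf 75766) 63 (.node (.leaf 290730) 386 (.leaf 50617))) 557 (.node (.node (.leaf 258976) 81 (.leaf 207494)) 419 (.node (.leaf 66002) 333 (.leaf 211919)))) 1475 (.node (.node (.leaf 89403) 187 (.node (.leaf 263468) 61 (.leaf 240961))) 331 (.node (.node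 (.leaf 35517) 176 (.leaf 140887)) 593 (.node (.leaf 283811) 173 (.leaf 49066))))))) 13285 (.node (.node (.node (.node (.node (.leaf 208162) 160 (.node (.leaf 264740) 18 (.leaf 275921))) 309 (.node (.leaf 281623) 37 (.node (.leaf 304942) 342 (.leaf 162861)))) 707 (.node (.node (.leaf 81342) 116 (.node (.leaf 265403) 542 (.leaf 212384))) 1287 (.node (.node (.leaf 172021) 103 (.leaf 78526)) 1014 (.node (.leaf 297433) 177 (.leaf 299291))))) 3654 (.node (.node (.node (.leaf 247507) 388 (.node (.leaf 121109) 528 (.leaf 302361))) 990 (.node (.leaf 288275) 39 (.node (.leaf 185045) 471 (.leaf 184520)))) 1720 (.node (.node (.leaf 270869) 457 (.node (.leaf 103633) 116 (.leaf 72276))) 584 (.node (.node (.leaf 124098) 139 (.leaf 101683)) 186 (.node (.leaf 205527) 145 (.leaf 269954)))))) 6319 (.node (.node (.node (.node (.leaf 287287) 333 (.node (.leaf 114605) 462 (.leaf 175362))) 809 (.node (.leaf 259249) 234 (.node (.leaf 218104) 3 (.leaf 282142)))) 1340 (.node (.node (.leaf 231357) 609 (.node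 (.leaf 223427) 34 (.leaf 254457))) 985 (.node (.node (.leaf 34017) 165 (.leaf 80478)) 233 (.node (.leaf 111180) 563 (.leaf 246211))))) 3187 (.node (.node (.node (.leaf 149543) 220 (.node (.leaf 192829) 3 (.leaf 246389))) 313 (.node (.node (.leaf 135324) 90 (.leaf 241274)) 304 (.node (.leaf 280681) 236 (.leaf 272201)))) 1311 (.node (.node (.leaf 272063) 524 (.node (.leaf 264758) 399 (.leaf 258933))) 1265 (.node (.node (.leaf 101584) 223 (.leaf 300705)) 608 (.node (.leaf 201490) 174 (.leaf 293282)))))))) 27294 (.node (.node (.node (.node (.node (.node (.leaf 300025) 1214 (.node (.leaf 279803) 301 (.leaf 68611))) 1578 (.node (.leaf 128688) 266 (.node (.leaf 256528) 1 (.leaf 203048)))) 2028 (.node (.node (.leaf 182872) 64 (.node (.leaf 274703) 154 (.leaf 47179))) 267 (.node (.node (.leaf 209919) 82 (.leaf 246332)) 112 (.node (.leaf 97229) 59 (.leaf 92964))))) 2697 (.node (.node (.node (.leaf 188471) 54 (.node (.leaf 212147) 135 (.leaf 107711))) 308 (.node (.leaf 272915) 29 (.node (.leaf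 264889) 180 (.leaf 177459)))) 703 (.node (.node (.leaf 292346) 173 (.node (.leaf 112708) 131 (.leaf 67959))) 730 (.node (.node (.leaf 306117) 83 (.leaf 90085)) 116 (.node (.leaf 45585) 536 (.leaf 102524)))))) 5045 (.node (.node (.node (.node (.leaf 120428) 17 (.node (.leaf 248259) 160 (.leaf 264154))) 270 (.node (.leaf 283905) 294 (.node (.leaf 167686) 134 (.leaf 161607)))) 767 (.node (.node (.leaf 216311) 12 (.node (.leaf 129242) 232 (.leaf 53226))) 484 (.node (.node (.leaf 303040) 573 (.leaf 218653)) 635 (.node (.leaf 62666) 823 (.leaf 271781))))) 2833 (.node (.node (.node (.leaf 176407) 820 (.node (.leaf 270899) 341 (.leaf 75211))) 1494 (.node (.node (.leaf 149180) 84 (.leaf 211496)) 198 (.node (.leaf 210815) 116 (.leaf 269224)))) 1892 (.node (.node (.leaf 65351) 322 (.node (.leaf 288681) 551 (.leaf 289341))) 1135 (.node (.node (.leaf 295053) 7 (.leaf 203858)) 134 (.node (.leaf 102853) 567 (.leaf 223075))))))) 12070 (.node (.node (.node (.node (.node (.leaf 257925) 71 (.node (.leaf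 261818) 141 (.leaf 89204))) 298 (.node (.leaf 62951) 1128 (.node (.leaf 160409) 131 (.leaf 43138)))) 1668 (.node (.node (.leaf 292327) 90 (.node (.leaf 72158) 129 (.leaf 263917))) 406 (.node (.node (.leaf 290962) 39 (.leaf 198616)) 204 (.node (.leaf 252004) 433 (.leaf 208201))))) 2995 (.node (.node (.node (.leaf 96157) 1103 (.node (.leaf 168752) 7 (.leaf 296648))) 1399 (.node (.node (.leaf 289494) 109 (.leaf 295162)) 116 (.node (.leaf 75033) 79 (.leaf 118644)))) 2199 (.node (.node (.leaf 183181) 543 (.node (.leaf 303227) 914 (.leaf 41507))) 1693 (.node (.node (.leaf 284941) 151 (.leaf 243760)) 425 (.node (.leaf 240058) 51 (.leaf 298022)))))) 7439 (.node (.node (.node (.node (.leaf 59804) 525 (.node (.leaf 194258) 745 (.leaf 235770))) 1353 (.node (.leaf 160466) 437 (.node (.leaf 159647) 137 (.leaf 278589)))) 2029 (.node (.node (.leaf 57877) 578 (.node (.leaf 276885) 80 (.leaf 297238))) 867 (.node (.node (.leaf 271485) 36 (.leaf 276201)) 990 (.node (.leaf 160242) 612 (.leaf 266376)))))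 4668 (.node (.node (.node (.leaf 162719) 274 (.node (.leaf 284885) 23 (.leaf 231377))) 1038 (.node (.node (.leaf 237974) 125 (.leaf 198451)) 873 (.node (.leaf 164365) 448 (.leaf 223853)))) 2587 (.node (.node (.leaf 305353) 323 (.node (.leaf 79866) 321 (.leaf 304608))) 1018 (.node (.node (.leaf 306371) 115 (.leaf 51550)) 184 (.node (.leaf 258962) 359 (.leaf 294662))))))))))))

/-- table of generator 4 -/
def tab4 : Tab :=
  (.node (.node (.node (.node (.node (.node (.node (.node (.node (.node (.node (.leaf 0) 1 (.leaf 1)) 2 (.node (.leaf 66) 1 (.leaf 4))) 4 (.node (.node (.leaf 3) 1 (.leaf 5)) 2 (.node (.leaf 142) 1 (.leaf 137)))) 8 (.node (.node (.node (.leaf 186) 1 (.leaf 162)) 2 (.node (.leaf 160) 1 (.leaf 159))) 4 (.node (.node (.leaf 269) 34 (.leaf 4410)) 36 (.node (.leaf 4459) 3 (.node (.leaf 51) 2 (.leaf 53)))))) 56 (.node (.node (.node (.node (.leaf 57) 1 (.leaf 56)) 3 (.node (.leaf 59) 1 (.leaf 60))) 5 (.node (.node (.leaf 436) 1 (.leaf 136)) 2 (.node (.leaf 63) 1 (.node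 (.leaf 148) 1 (.leaf 611))))) 10 (.node (.node (.node (.leaf 2) 1 (.leaf 67)) 2 (.node (.leaf 68) 1 (.leaf 69))) 4 (.node (.node (.leaf 70) 1 (.leaf 71)) 2 (.node (.leaf 72) 23 (.node (.leaf 94) 2 (.leaf 97))))))) 98 (.node (.node (.node (.node (.node (.leaf 98) 1 (.leaf 99)) 15 (.node (.leaf 9235) 11 (.leaf 11215))) 34 (.node (.node (.leaf 132) 1 (.leaf 133)) 2 (.node (.leaf 135) 1 (.leaf 134)))) 38 (.node (.node (.node (.leaf 62) 1 (.leaf 7)) 2 (.node (.leaf 141) 1 (.leaf 139))) 4 (.node (.node (.leaf 140) 1 (.leaf 138)) 2 (.node (.leaf 6) 1 (.node (.leaf 150) 2 (.leaf 299)))))) 48 (.node (.node (.node (.node (.leaf 146) 1 (.leaf 147)) 2 (.node (.leaf 64) 1 (.leaf 217))) 4 (.node (.node (.leaf 143) 1 (.leaf 151)) 4 (.node (.leaf 155) 1 (.node (.leaf 154) 1 (.leaf 156))))) 11 (.node (.node (.node (.leaf 157) 1 (.leaf 300)) 2 (.node (.leaf 11) 1 (.leaf 10))) 4 (.node (.node (.leaf 161) 1 (.leaf 9)) 2 (.node (.leaf 163) 1 (.node (.leaf 164) 2 (.leaf 166)))))))) 186 (.node (.node (.node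 (.node (.node (.node (.leaf 8) 1 (.leaf 187)) 31 (.node (.leaf 149) 20 (.leaf 236))) 77 (.node (.node (.leaf 263) 1 (.leaf 468)) 2 (.node (.leaf 469) 1 (.leaf 266)))) 81 (.node (.node (.node (.leaf 267) 1 (.leaf 268)) 29 (.node (.leaf 4919) 4 (.leaf 158))) 34 (.node (.node (.leaf 369) 1 (.leaf 302)) 2 (.node (.leaf 303) 1 (.node (.leaf 305) 38 (.leaf 342)))))) 158 (.node (.node (.node (.node (.leaf 343) 1 (.leaf 345)) 2 (.node (.leaf 346) 3 (.leaf 4462))) 6 (.node (.node (.leaf 365) 1 (.leaf 4464)) 3 (.node (.leaf 353) 2 (.node (.leaf 355) 1 (.leaf 357))))) 13 (.node (.node (.node (.leaf 356) 1 (.leaf 358)) 2 (.node (.leaf 359) 1 (.leaf 4456))) 4 (.node (.node (.leaf 362) 1 (.leaf 361)) 3 (.node (.leaf 364) 1 (.node (.leaf 350) 1 (.leaf 4461))))))) 181 (.node (.node (.node (.node (.node (.leaf 367) 1 (.leaf 368)) 2 (.node (.leaf 301) 1 (.leaf 370))) 46 (.node (.node (.leaf 412) 2 (.leaf 415)) 3 (.node (.leaf 482) 3 (.leaf 5071)))) 67 (.node (.node (.node (.leaf 483) 1 (.leaf 435))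 2 (.node (.leaf 61) 2 (.leaf 438))) 8 (.node (.node (.leaf 7983) 20 (.leaf 5447)) 22 (.node (.leaf 463) 3 (.node (.leaf 797) 1 (.leaf 264)))))) 102 (.node (.node (.node (.node (.leaf 265) 6 (.leaf 4533)) 11 (.node (.leaf 5031) 9 (.leaf 6651))) 29 (.node (.node (.leaf 498) 1 (.leaf 4810)) 26 (.node (.leaf 524) 29 (.node (.leaf 504) 54 (.leaf 6972))))) 142 (.node (.node (.node (.leaf 65) 1 (.leaf 613)) 2 (.node (.leaf 612) 1 (.leaf 614))) 64 (.node (.node (.leaf 675) 6 (.leaf 466)) 7 (.node (.leaf 683) 3 (.node (.leaf 685) 24 (.leaf 709))))))))) 797 (.node (.node (.node (.node (.node (.node (.node (.leaf 467) 1 (.leaf 621)) 2 (.node (.leaf 799) 1 (.leaf 715))) 35 (.node (.node (.leaf 4664) 39 (.leaf 871)) 63 (.node (.leaf 960) 5 (.leaf 900)))) 136 (.node (.node (.node (.leaf 932) 2 (.leaf 935)) 25 (.node (.leaf 7761) 2 (.leaf 895))) 29 (.node (.node (.leaf 1027) 2 (.leaf 4743)) 65 (.node (.leaf 962) 7 (.node (.leaf 4806) 64 (.leaf 1098)))))) 303 (.node (.node (.node (.node (.leaf 1099)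 137 (.leaf 1238)) 138 (.node (.leaf 1237) 75 (.leaf 1312))) 301 (.node (.node (.leaf 293) 67 (.leaf 760)) 150 (.node (.leaf 11658) 57 (.node (.leaf 13916) 119 (.leaf 7047))))) 644 (.node (.node (.node (.leaf 910) 78 (.leaf 16307)) 94 (.node (.leaf 6368) 417 (.leaf 6356))) 627 (.node (.node (.leaf 12091) 48 (.leaf 24770)) 100 (.node (.leaf 3237) 108 (.node (.leaf 2580) 1 (.leaf 2579))))))) 1784 (.node (.node (.node (.node (.node (.leaf 2581) 1 (.leaf 2582)) 233 (.node (.leaf 2766) 86 (.leaf 16573))) 918 (.node (.node (.leaf 23689) 152 (.leaf 13459)) 401 (.node (.leaf 3900) 3 (.leaf 4190)))) 1326 (.node (.node (.node (.leaf 674) 186 (.leaf 8569)) 271 (.node (.leaf 5085) 52 (.leaf 5086))) 332 (.node (.node (.leaf 4238) 54 (.leaf 4292)) 74 (.node (.leaf 1607) 53 (.node (.leaf 4366) 19 (.leaf 4385)))))) 1829 (.node (.node (.node (.node (.leaf 46) 32 (.leaf 4442)) 34 (.node (.leaf 297) 11 (.leaf 4455))) 46 (.node (.node (.leaf 360) 3 (.leaf 48)) 6 (.node (.leaf 349) 6 (.node (.leaf 4469)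 2 (.leaf 4470))))) 83 (.node (.node (.node (.leaf 476) 47 (.leaf 1231)) 85 (.node (.leaf 4578) 49 (.leaf 4627))) 168 (.node (.node (.leaf 4661) 1 (.leaf 4662)) 2 (.node (.leaf 4663) 1 (.node (.leaf 832) 38 (.leaf 5278)))))))) 3933 (.node (.node (.node (.node (.node (.node (.leaf 4729) 43 (.leaf 4773)) 44 (.node (.leaf 449) 20 (.leaf 4892))) 65 (.node (.node (.leaf 4795) 7 (.leaf 4802)) 11 (.node (.leaf 1034) 1 (.leaf 4850)))) 79 (.node (.node (.node (.leaf 4852) 1 (.leaf 499)) 30 (.node (.leaf 4839) 1 (.leaf 4840))) 33 (.node (.node (.leaf 4728) 6 (.leaf 4848)) 8 (.node (.leaf 4807) 1 (.node (.leaf 4851) 1 (.leaf 4809)))))) 162 (.node (.node (.node (.node (.leaf 4794) 8 (.leaf 4900)) 76 (.node (.leaf 4968) 41 (.leaf 1314))) 178 (.node (.node (.leaf 5070) 238 (.leaf 12348)) 285 (.node (.leaf 5355) 59 (.node (.leaf 5415) 33 (.leaf 462))))) 624 (.node (.node (.node (.leaf 3471) 210 (.leaf 5726)) 514 (.node (.leaf 27222) 167 (.leaf 27134))) 696 (.node (.node (.leaf 27803) 86 (.leaf 6378))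 156 (.node (.leaf 1838) 10 (.node (.leaf 6298) 149 (.leaf 16229))))))) 1921 (.node (.node (.node (.node (.node (.leaf 489) 342 (.leaf 12942)) 959 (.node (.leaf 7568) 67 (.leaf 7676))) 1165 (.node (.node (.leaf 19000) 163 (.leaf 7979)) 188 (.node (.leaf 8004) 20 (.node (.leaf 8024) 83 (.leaf 12697))))) 1600 (.node (.node (.node (.leaf 8251) 43 (.leaf 11622)) 347 (.node (.leaf 9154) 229 (.leaf 19451))) 605 (.node (.node (.leaf 7495) 530 (.leaf 19609)) 591 (.node (.leaf 9236) 89 (.node (.leaf 10610) 81 (.leaf 23393)))))) 3010 (.node (.node (.node (.node (.leaf 30899) 116 (.leaf 29192)) 166 (.node (.leaf 9827) 156 (.leaf 21555))) 393 (.node (.node (.leaf 10055) 53 (.leaf 23524)) 55 (.node (.leaf 3124) 330 (.node (.leaf 10903) 364 (.leaf 3226))))) 1183 (.node (.node (.node (.leaf 10428) 172 (.leaf 11016)) 195 (.node (.leaf 11039) 233 (.leaf 11272))) 437 (.node (.node (.leaf 5964) 142 (.leaf 7541)) 148 (.node (.leaf 7598) 63 (.node (.leaf 5775) 54 (.leaf 11545)))))))))) 11644 (.node (.node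 (.node (.node (.node (.node (.node (.node (.leaf 1402) 1 (.leaf 11645)) 221 (.node (.leaf 11410) 3 (.leaf 11868))) 459 (.node (.node (.leaf 12103) 84 (.leaf 24365)) 142 (.node (.leaf 31263) 94 (.leaf 14332)))) 992 (.node (.node (.node (.leaf 15453) 216 (.leaf 27364)) 545 (.node (.leaf 13182) 77 (.leaf 18274))) 755 (.node (.node (.leaf 9867) 68 (.leaf 3651)) 1513 (.node (.leaf 19083) 501 (.node (.leaf 15406) 272 (.leaf 31251)))))) 4144 (.node (.node (.node (.node (.leaf 30975) 255 (.leaf 9810)) 278 (.node (.leaf 28069) 21 (.leaf 15852))) 355 (.node (.node (.leaf 28646) 67 (.leaf 21619)) 136 (.node (.leaf 2262) 176 (.node (.leaf 13482) 84 (.leaf 13956))))) 1295 (.node (.node (.node (.leaf 28479) 47 (.leaf 17284)) 155 (.node (.leaf 30678) 173 (.leaf 6955))) 598 (.node (.node (.leaf 17681) 139 (.leaf 3119)) 602 (.node (.leaf 26274) 3 (.node (.leaf 18285) 378 (.leaf 18694))))))) 7323 (.node (.node (.node (.node (.node (.leaf 30391) 29 (.leaf 23507)) 123 (.node (.leaf 7756) 19 (.leaf 23770)))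 484 (.node (.node (.leaf 8827) 11 (.leaf 24703)) 161 (.node (.leaf 19601) 505 (.leaf 20081)))) 1302 (.node (.node (.node (.leaf 29379) 81 (.leaf 19644)) 221 (.node (.leaf 29971) 50 (.leaf 10361))) 276 (.node (.node (.leaf 12237) 104 (.leaf 20649)) 382 (.node (.leaf 26518) 415 (.node (.leaf 22783) 113 (.leaf 21455)))))) 2555 (.node (.node (.node (.node (.leaf 19395) 353 (.leaf 10279)) 491 (.node (.leaf 7882) 241 (.leaf 28802))) 736 (.node (.node (.leaf 22259) 1 (.leaf 22258)) 170 (.node (.leaf 28722) 365 (.node (.leaf 27975) 576 (.leaf 31108))))) 2167 (.node (.node (.node (.leaf 3499) 81 (.leaf 19109)) 233 (.node (.leaf 24342) 126 (.leaf 15758))) 383 (.node (.node (.leaf 17898) 16 (.leaf 24422)) 105 (.node (.leaf 6413) 88 (.node (.leaf 24974) 75 (.leaf 24339)))))))) 12721 (.node (.node (.node (.node (.node (.node (.leaf 12187) 57 (.leaf 24088)) 290 (.node (.leaf 26254) 73 (.leaf 18879))) 367 (.node (.node (.leaf 7462) 119 (.leaf 16324)) 217 (.node (.leaf 28869) 265 (.leaf 13622))))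 914 (.node (.node (.node (.leaf 25279) 250 (.leaf 25745)) 972 (.node (.leaf 25582) 282 (.leaf 19718))) 1349 (.node (.node (.leaf 6018) 550 (.leaf 27580)) 594 (.node (.leaf 6030) 46 (.node (.leaf 15385) 326 (.leaf 17472)))))) 3331 (.node (.node (.node (.node (.leaf 30188) 866 (.leaf 8712)) 913 (.node (.leaf 16712) 46 (.leaf 12184))) 1476 (.node (.node (.leaf 29393) 663 (.leaf 19026)) 867 (.node (.leaf 21357) 354 (.node (.leaf 30393) 53 (.leaf 23715))))) 2970 (.node (.node (.node (.leaf 26062) 212 (.leaf 30879)) 233 (.node (.leaf 9661) 327 (.leaf 24633))) 593 (.node (.node (.leaf 30564) 16 (.leaf 29285)) 44 (.node (.leaf 15720) 64 (.node (.leaf 29288) 252 (.leaf 22735))))))) 7294 (.node (.node (.node (.node (.node (.leaf 15842) 13 (.leaf 31672)) 14 (.node (.leaf 31673) 1 (.leaf 31674))) 16 (.node (.node (.leaf 31675) 3 (.leaf 31678)) 4 (.node (.leaf 31679) 19 (.node (.leaf 31698) 50 (.leaf 31769))))) 90 (.node (.node (.node (.leaf 31893) 2 (.leaf 31751)) 3 (.node (.leaf 31752) 1 (.leaf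 31754))) 5 (.node (.node (.leaf 31753) 1 (.leaf 31755)) 3 (.node (.leaf 31757) 1 (.node (.leaf 33362) 1 (.leaf 31760)))))) 101 (.node (.node (.node (.node (.leaf 31759) 1 (.leaf 31761)) 3 (.node (.leaf 31764) 2 (.leaf 31765))) 6 (.node (.node (.leaf 31766) 1 (.leaf 31767)) 3 (.node (.leaf 31748) 1 (.node (.leaf 31770) 1 (.leaf 31771))))) 12 (.node (.node (.node (.leaf 31772) 1 (.leaf 31774)) 2 (.node (.leaf 31773) 5 (.leaf 32409))) 11 (.node (.node (.leaf 31784) 106 (.leaf 31889)) 108 (.node (.leaf 33863) 1 (.node (.leaf 32786) 1 (.leaf 31749))))))))) 20252 (.node (.node (.node (.node (.node (.node (.node (.leaf 31896) 1 (.leaf 33244)) 2 (.node (.leaf 31899) 1 (.leaf 31898))) 4 (.node (.node (.leaf 31900) 1 (.leaf 31901)) 2 (.node (.leaf 31903) 1 (.leaf 31902)))) 9 (.node (.node (.node (.leaf 31905) 1 (.leaf 31906)) 2 (.node (.leaf 31907) 9 (.leaf 31917))) 15 (.node (.node (.leaf 31787) 116 (.leaf 55950)) 118 (.node (.leaf 32038) 1 (.node (.leaf 32039) 5 (.leaf 32044)))))) 244 (.node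 (.node (.node (.node (.leaf 32140) 132 (.leaf 32272)) 269 (.node (.leaf 31779) 1 (.leaf 57032))) 271 (.node (.node (.leaf 32412) 1 (.leaf 32411)) 2 (.node (.leaf 32413) 84 (.node (.leaf 38160) 9 (.leaf 183380))))) 415 (.node (.node (.node (.leaf 33557) 120 (.leaf 32675)) 123 (.node (.leaf 32679) 19 (.leaf 162678))) 229 (.node (.node (.leaf 32784) 1 (.leaf 32785)) 2 (.node (.leaf 31892) 1 (.node (.leaf 32788) 1 (.leaf 32787))))))) 951 (.node (.node (.node (.node (.node (.leaf 119612) 29 (.leaf 33368)) 30 (.node (.leaf 33808) 4 (.leaf 33375))) 181 (.node (.node (.leaf 56809) 1 (.leaf 56887)) 112 (.node (.leaf 130018) 1 (.leaf 114167)))) 298 (.node (.node (.node (.leaf 33146) 1 (.leaf 33145)) 3 (.node (.leaf 33249) 5 (.leaf 33154))) 9 (.node (.node (.leaf 33153) 7 (.leaf 83291)) 15 (.node (.leaf 102598) 68 (.node (.leaf 112548) 5 (.leaf 33243)))))) 396 (.node (.node (.node (.node (.leaf 33242) 1 (.leaf 31897)) 119 (.node (.leaf 31758) 2 (.leaf 33555))) 125 (.node (.node (.leaf 32876)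 1 (.leaf 33369)) 3 (.node (.leaf 34514) 3 (.node (.leaf 55148) 4 (.leaf 86935))))) 141 (.node (.node (.node (.leaf 42346) 36 (.leaf 113129)) 102 (.node (.leaf 255679) 58 (.leaf 201079))) 173 (.node (.node (.leaf 32555) 161 (.leaf 38284)) 165 (.node (.leaf 58631) 20 (.node (.leaf 33741) 18 (.leaf 33761)))))))) 1866 (.node (.node (.node (.node (.node (.node (.leaf 130841) 46 (.leaf 32877)) 92 (.node (.leaf 33853) 3 (.leaf 33912))) 98 (.node (.node (.leaf 33810) 3 (.leaf 31891)) 51 (.node (.leaf 33855) 1 (.leaf 33857)))) 208 (.node (.node (.node (.leaf 63485) 47 (.leaf 53376)) 125 (.node (.leaf 34095) 7 (.leaf 34102))) 137 (.node (.node (.leaf 84977) 2 (.leaf 34109)) 54 (.node (.leaf 83996) 132 (.node (.leaf 130138) 4 (.leaf 34297)))))) 539 (.node (.node (.node (.node (.leaf 34301) 3 (.leaf 84978)) 10 (.node (.leaf 34311) 33 (.leaf 34147))) 160 (.node (.node (.leaf 132173) 45 (.leaf 53919)) 50 (.node (.leaf 34511) 2 (.node (.leaf 34513) 1 (.leaf 33371))))) 365 (.node (.node (.node (.leaf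 34666) 135 (.leaf 34802)) 157 (.node (.leaf 81301) 263 (.leaf 206892))) 507 (.node (.node (.leaf 83722) 292 (.leaf 143406)) 296 (.node (.leaf 35469) 251 (.node (.leaf 58757) 358 (.leaf 114186))))))) 2482 (.node (.node (.node (.node (.node (.leaf 127651) 34 (.leaf 36278)) 80 (.node (.leaf 36325) 25 (.leaf 36112))) 208 (.node (.node (.leaf 36453) 1 (.leaf 36452)) 29 (.node (.leaf 86023) 83 (.node (.leaf 36592) 46 (.leaf 36611))))) 542 (.node (.node (.node (.leaf 128936) 43 (.leaf 36828)) 113 (.node (.leaf 36899) 1 (.leaf 36900))) 165 (.node (.node (.leaf 36951) 27 (.leaf 36977)) 278 (.node (.leaf 52167) 168 (.node (.leaf 37397) 13 (.leaf 237911)))))) 1193 (.node (.node (.node (.node (.leaf 117960) 79 (.leaf 159212)) 279 (.node (.leaf 37715) 70 (.leaf 204271))) 423 (.node (.node (.leaf 37826) 26 (.leaf 36058)) 51 (.node (.leaf 139885) 249 (.node (.leaf 32497) 128 (.leaf 38288))))) 1113 (.node (.node (.node (.leaf 168411) 34 (.leaf 50936)) 49 (.node (.leaf 35893) 415 (.leaf 227898)))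 866 (.node (.node (.leaf 173052) 345 (.leaf 40033)) 353 (.node (.leaf 40330) 264 (.node (.leaf 39761) 84 (.leaf 111311))))))))))) 40165 (.node (.node (.node (.node (.node (.node (.node (.node (.node (.leaf 36694) 165 (.leaf 39769)) 353 (.node (.leaf 40517) 293 (.leaf 282129))) 678 (.node (.node (.leaf 227630) 10 (.leaf 177725)) 237 (.node (.leaf 154318) 357 (.leaf 142453)))) 1328 (.node (.node (.node (.leaf 52760) 14 (.leaf 276227)) 556 (.node (.leaf 42283) 69 (.leaf 42119))) 642 (.node (.node (.leaf 108822) 120 (.leaf 216644)) 360 (.node (.leaf 134211) 6 (.node (.leaf 43052) 13 (.leaf 42790)))))) 2389 (.node (.node (.node (.node (.leaf 141629) 206 (.leaf 42761)) 498 (.node (.leaf 42501) 201 (.leaf 43252))) 718 (.node (.node (.leaf 178799) 24 (.leaf 154628)) 26 (.node (.leaf 40846) 367 (.node (.leaf 176932) 30 (.leaf 212973))))) 1217 (.node (.node (.node (.leaf 250430) 62 (.leaf 258627)) 105 (.node (.leaf 43877) 1 (.leaf 43876))) 720 (.node (.node (.leaf 44490) 38 (.leaf 44530))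 287 (.node (.leaf 247105) 107 (.node (.leaf 260141) 160 (.leaf 84135))))))) 4988 (.node (.node (.node (.node (.node (.leaf 45246) 266 (.leaf 141035)) 443 (.node (.leaf 47279) 37 (.leaf 45633))) 481 (.node (.node (.leaf 45634) 122 (.leaf 301453)) 259 (.node (.leaf 45893) 239 (.leaf 193804)))) 987 (.node (.node (.node (.leaf 89434) 94 (.leaf 124060)) 381 (.node (.leaf 194945) 215 (.leaf 250879))) 745 (.node (.node (.leaf 277775) 558 (.leaf 47444)) 633 (.node (.leaf 49998) 15 (.node (.leaf 277796) 7 (.leaf 47237)))))) 2569 (.node (.node (.node (.node (.leaf 47722) 411 (.leaf 47161)) 569 (.node (.leaf 142034) 255 (.leaf 48547))) 825 (.node (.node (.leaf 48546) 170 (.leaf 48450)) 519 (.node (.leaf 292632) 643 (.node (.leaf 58308) 72 (.leaf 115935))))) 2276 (.node (.node (.node (.leaf 47518) 34 (.leaf 50031)) 207 (.node (.leaf 111781) 76 (.leaf 51799))) 325 (.node (.node (.leaf 50323) 46 (.leaf 57406)) 47 (.node (.leaf 113336) 142 (.node (.leaf 51063) 37 (.leaf 194764)))))))) 10547 (.node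 (.node (.node (.node (.node (.node (.leaf 52182) 301 (.leaf 110692)) 511 (.node (.leaf 219859) 44 (.leaf 51268))) 556 (.node (.node (.leaf 51267) 197 (.leaf 51695)) 237 (.node (.leaf 52608) 45 (.leaf 165620)))) 901 (.node (.node (.node (.leaf 51612) 82 (.leaf 51465)) 127 (.node (.leaf 254196) 386 (.leaf 52126))) 542 (.node (.node (.leaf 52156) 267 (.leaf 113339)) 268 (.node (.leaf 52423) 166 (.node (.leaf 128402) 5 (.leaf 154620)))))) 1896 (.node (.node (.node (.node (.leaf 51505) 7 (.leaf 221078)) 12 (.node (.leaf 52161) 31 (.leaf 52841))) 78 (.node (.node (.leaf 52685) 99 (.leaf 52785)) 155 (.node (.leaf 52651) 168 (.node (.leaf 163124) 28 (.leaf 52376))))) 437 (.node (.node (.node (.leaf 51496) 16 (.leaf 53062)) 60 (.node (.leaf 51999) 91 (.leaf 286313))) 166 (.node (.node (.leaf 75829) 15 (.leaf 159956)) 165 (.node (.leaf 34017) 4 (.node (.leaf 215702) 117 (.leaf 53497))))))) 2788 (.node (.node (.node (.node (.node (.leaf 53500) 35 (.leaf 108363)) 65 (.node (.leaf 58145) 1 (.leaf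 51280))) 71 (.node (.node (.leaf 87248) 97 (.leaf 306371)) 178 (.node (.leaf 58144) 2 (.node (.leaf 130256) 6 (.leaf 133353))))) 260 (.node (.node (.node (.leaf 130257) 20 (.leaf 88736)) 184 (.node (.leaf 53945) 317 (.leaf 54405))) 635 (.node (.node (.leaf 128030) 8 (.leaf 54413)) 9 (.node (.leaf 54404) 9 (.node (.leaf 54403) 2 (.leaf 57130)))))) 925 (.node (.node (.node (.node (.leaf 54426) 21 (.leaf 210342)) 128 (.node (.leaf 54553) 81 (.leaf 84863))) 210 (.node (.node (.leaf 54635) 232 (.leaf 54867)) 379 (.node (.leaf 84736) 107 (.node (.leaf 55122) 27 (.leaf 33374))))) 724 (.node (.node (.node (.leaf 55149) 1 (.leaf 55150)) 2 (.node (.leaf 55151) 1 (.leaf 55152))) 29 (.node (.node (.leaf 55178) 52 (.leaf 65573)) 72 (.node (.leaf 152563) 66 (.node (.leaf 140346) 68 (.leaf 55257))))))))) 15234 (.node (.node (.node (.node (.node (.node (.node (.leaf 154227) 5 (.leaf 55405)) 144 (.node (.leaf 55544) 93 (.leaf 55636))) 238 (.node (.node (.leaf 50375) 3 (.leaf 55641)) 156 (.node (.leaf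 86845) 55 (.leaf 130539)))) 452 (.node (.node (.node (.leaf 254916) 76 (.leaf 191767)) 98 (.node (.leaf 55948) 1 (.leaf 32036))) 100 (.node (.node (.leaf 55951) 1 (.leaf 55952)) 53 (.node (.leaf 279019) 159 (.node (.leaf 45637) 96 (.leaf 56260)))))) 946 (.node (.node (.node (.node (.leaf 56346) 1 (.leaf 56345)) 47 (.node (.leaf 56391) 124 (.leaf 56922))) 213 (.node (.node (.leaf 224550) 132 (.leaf 56690)) 133 (.node (.leaf 56692) 51 (.node (.leaf 262581) 67 (.leaf 33028))))) 542 (.node (.node (.node (.leaf 33029) 3 (.leaf 56890)) 30 (.node (.leaf 211563) 87 (.leaf 170826))) 142 (.node (.node (.leaf 57029) 89 (.leaf 158926)) 101 (.node (.leaf 54415) 65 (.node (.leaf 64592) 73 (.leaf 36482))))))) 1873 (.node (.node (.node (.node (.node (.leaf 57403) 1 (.leaf 54414)) 6 (.node (.leaf 59233) 95 (.leaf 183212))) 109 (.node (.node (.leaf 186156) 17 (.leaf 53920)) 22 (.node (.leaf 57272) 1 (.leaf 57404)))) 133 (.node (.node (.node (.leaf 57274) 144 (.leaf 57549)) 251 (.node (.leaf 57657)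 113 (.leaf 85347))) 491 (.node (.node (.leaf 84959) 2 (.leaf 57898)) 35 (.node (.leaf 57931) 32 (.node (.leaf 35451) 80 (.leaf 85348)))))) 779 (.node (.node (.node (.node (.leaf 58052) 1 (.leaf 58051)) 82 (.node (.leaf 85112) 35 (.leaf 241857))) 434 (.node (.node (.leaf 84866) 91 (.leaf 303804)) 235 (.node (.leaf 85689) 29 (.node (.leaf 58748) 4 (.leaf 58752))))) 705 (.node (.node (.node (.leaf 86934) 199 (.leaf 58954)) 224 (.node (.leaf 88520) 94 (.leaf 129741))) 327 (.node (.node (.leaf 58929) 146 (.leaf 59460)) 148 (.node (.leaf 53562) 154 (.node (.leaf 201742) 11 (.leaf 53254)))))))) 4021 (.node (.node (.node (.node (.node (.node (.leaf 59459) 450 (.leaf 275487)) 592 (.node (.leaf 55239) 35 (.leaf 60255))) 807 (.node (.node (.leaf 112458) 8 (.leaf 90994)) 40 (.node (.leaf 214627) 119 (.leaf 173496)))) 1250 (.node (.node (.node (.leaf 240520) 40 (.leaf 272239)) 344 (.node (.leaf 151953) 81 (.leaf 298623))) 820 (.node (.node (.leaf 61563) 71 (.leaf 61783)) 206 (.node (.leaf 129905)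 41 (.node (.leaf 61737) 377 (.leaf 62115)))))) 2947 (.node (.node (.node (.node (.leaf 281340) 32 (.leaf 62399)) 120 (.node (.leaf 87137) 179 (.leaf 99968))) 380 (.node (.node (.leaf 297697) 96 (.leaf 62843)) 183 (.node (.leaf 38542) 21 (.node (.leaf 62951) 192 (.leaf 63142))))) 837 (.node (.node (.node (.leaf 111423) 281 (.leaf 33970)) 303 (.node (.leaf 63507) 2 (.leaf 239230))) 692 (.node (.node (.leaf 188496) 491 (.leaf 64583)) 1338 (.node (.leaf 65234) 280 (.node (.leaf 53341) 39 (.leaf 129999))))))) 6153 (.node (.node (.node (.node (.node (.leaf 55230) 181 (.leaf 65755)) 456 (.node (.leaf 259255) 205 (.leaf 66234))) 841 (.node (.node (.leaf 66414) 33 (.leaf 123805)) 63 (.node (.leaf 148398) 93 (.node (.leaf 66569) 231 (.leaf 74361))))) 1323 (.node (.node (.node (.leaf 194551) 276 (.leaf 291406)) 526 (.node (.leaf 224289) 385 (.leaf 301030))) 965 (.node (.node (.leaf 280681) 98 (.leaf 67959)) 339 (.node (.leaf 226174) 144 (.node (.leaf 102853) 108 (.leaf 68453)))))) 3046 (.node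 (.node (.node (.node (.leaf 73344) 238 (.leaf 171263)) 491 (.node (.leaf 155142) 219 (.leaf 69330))) 735 (.node (.node (.leaf 75790) 1 (.leaf 146551)) 386 (.node (.leaf 69740) 101 (.node (.leaf 72826) 4 (.leaf 263230))))) 1274 (.node (.node (.node (.leaf 35108) 177 (.leaf 292810)) 191 (.node (.leaf 70084) 199 (.leaf 255792))) 656 (.node (.node (.leaf 224859) 200 (.leaf 71817)) 345 (.node (.leaf 277444) 11 (.node (.leaf 230648) 137 (.leaf 71042)))))))))) 31318 (.node (.node (.node (.node (.node (.node (.node (.node (.leaf 122090) 242 (.leaf 91742)) 409 (.node (.leaf 71893) 17 (.leaf 71909))) 605 (.node (.node (.leaf 72089) 70 (.leaf 225456)) 188 (.node (.leaf 65098) 91 (.leaf 190608)))) 1630 (.node (.node (.node (.leaf 72557) 436 (.leaf 212416)) 441 (.node (.leaf 52948) 220 (.leaf 210020))) 693 (.node (.node (.leaf 73806) 421 (.leaf 74227)) 711 (.node (.leaf 145750) 94 (.node (.leaf 241265) 809 (.leaf 186236)))))) 4011 (.node (.node (.node (.node (.leaf 262204) 14 (.leaf 215895))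 64 (.node (.leaf 305125) 340 (.leaf 75324))) 534 (.node (.node (.leaf 268457) 325 (.leaf 217896)) 778 (.node (.leaf 261360) 175 (.node (.leaf 128633) 65 (.leaf 77047))))) 1687 (.node (.node (.node (.leaf 250053) 251 (.leaf 299185)) 252 (.node (.leaf 296653) 244 (.leaf 90772))) 1026 (.node (.node (.leaf 78208) 1 (.leaf 78207)) 28 (.node (.leaf 184723) 459 (.node (.leaf 78694) 71 (.leaf 113126))))))) 7501 (.node (.node (.node (.node (.node (.leaf 78984) 305 (.leaf 219059)) 370 (.node (.leaf 184687) 39 (.leaf 299368))) 882 (.node (.node (.leaf 211743) 29 (.leaf 63883)) 276 (.node (.leaf 161189) 114 (.leaf 80256)))) 1477 (.node (.node (.node (.leaf 74509) 114 (.leaf 80812)) 363 (.node (.leaf 73368) 262 (.leaf 81322))) 823 (.node (.node (.leaf 144190) 119 (.leaf 81316)) 127 (.node (.leaf 43129) 436 (.node (.leaf 82001) 83 (.leaf 61684)))))) 3014 (.node (.node (.node (.node (.leaf 81999) 11 (.leaf 280731)) 60 (.node (.leaf 82059) 1 (.leaf 82058))) 100 (.node (.node (.leaf 58186) 74 (.leaf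 146138)) 478 (.node (.leaf 82577) 252 (.node (.leaf 277270) 15 (.leaf 56804))))) 1146 (.node (.node (.node (.leaf 270869) 112 (.leaf 244910)) 121 (.node (.leaf 83264) 6 (.leaf 69101))) 276 (.node (.node (.leaf 83564) 144 (.leaf 83420)) 268 (.node (.leaf 172966) 5 (.node (.leaf 188751) 3 (.leaf 83696)))))))) 12346 (.node (.node (.node (.node (.node (.node (.leaf 83829) 14 (.leaf 83726)) 163 (.node (.leaf 171863) 19 (.leaf 36345))) 253 (.node (.node (.leaf 100467) 249 (.leaf 84331)) 262 (.node (.leaf 33167) 109 (.leaf 84564)))) 629 (.node (.node (.node (.leaf 84459) 407 (.leaf 130260)) 500 (.node (.leaf 58628) 3 (.leaf 84961))) 519 (.node (.node (.leaf 34107) 2 (.leaf 84979)) 138 (.node (.leaf 85114) 10 (.node (.leaf 55261) 4 (.leaf 172198)))))) 1304 (.node (.node (.node (.node (.leaf 85133) 42 (.leaf 85174)) 181 (.node (.leaf 169428) 33 (.leaf 57769))) 215 (.node (.node (.leaf 58043) 84 (.leaf 85432)) 109 (.node (.leaf 53745) 98 (.node (.leaf 85554) 13 (.leaf 53561))))) 555 (.node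 (.node (.node (.leaf 84073) 3 (.leaf 85782)) 89 (.node (.leaf 42215) 4 (.leaf 56883))) 197 (.node (.node (.leaf 85885) 2 (.leaf 85887)) 260 (.node (.leaf 54407) 2 (.node (.leaf 85456) 123 (.leaf 129764))))))) 2442 (.node (.node (.node (.node (.node (.leaf 129765) 203 (.leaf 86474)) 384 (.node (.leaf 114737) 204 (.leaf 86858))) 630 (.node (.node (.leaf 240986) 76 (.leaf 86976)) 137 (.node (.leaf 186130) 23 (.node (.leaf 87061) 4 (.leaf 87064))))) 849 (.node (.node (.node (.leaf 59273) 2 (.leaf 87121)) 62 (.node (.leaf 257166) 28 (.leaf 87209))) 260 (.node (.node (.leaf 58146) 4 (.leaf 232007)) 204 (.node (.leaf 87551) 121 (.node (.leaf 255555) 84 (.leaf 263478)))))) 1526 (.node (.node (.node (.node (.leaf 36054) 14 (.leaf 87812)) 15 (.node (.leaf 87811) 89 (.leaf 227277))) 113 (.node (.node (.leaf 87910) 32 (.leaf 87942)) 65 (.node (.leaf 87976) 2 (.node (.leaf 154308) 134 (.leaf 150346))))) 582 (.node (.node (.node (.leaf 115293) 1 (.leaf 114187)) 10 (.node (.leaf 194651) 6 (.leaf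 206045))) 24 (.node (.node (.leaf 88402) 117 (.leaf 58980)) 193 (.node (.leaf 140847) 104 (.node (.leaf 38819) 106 (.leaf 187136))))))))) 17520 (.node (.node (.node (.node (.node (.node (.node (.leaf 174335) 38 (.leaf 262285)) 49 (.node (.leaf 52545) 107 (.leaf 121112))) 241 (.node (.node (.leaf 35291) 462 (.leaf 115989)) 728 (.node (.leaf 62188) 161 (.leaf 179969)))) 1401 (.node (.node (.node (.leaf 172318) 116 (.leaf 95371)) 142 (.node (.leaf 201248) 45 (.leaf 218956))) 496 (.node (.node (.leaf 156380) 780 (.leaf 91432)) 817 (.node (.leaf 187375) 107 (.node (.leaf 157599) 363 (.leaf 59984)))))) 3198 (.node (.node (.node (.node (.leaf 261496) 81 (.leaf 108486)) 577 (.node (.leaf 71193) 1184 (.leaf 48232))) 2573 (.node (.node (.leaf 214729) 95 (.leaf 89633)) 504 (.node (.leaf 270538) 93 (.node (.leaf 90520) 208 (.leaf 133959))))) 3438 (.node (.node (.node (.leaf 32929) 7 (.leaf 94371)) 128 (.node (.leaf 255683) 8 (.leaf 297546))) 146 (.node (.node (.leaf 270363) 17 (.leaf 95802))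 92 (.node (.leaf 124753) 35 (.node (.leaf 288359) 96 (.leaf 94284))))))) 7195 (.node (.node (.node (.node (.node (.leaf 95958) 18 (.leaf 60101)) 93 (.node (.leaf 96292) 155 (.leaf 140696))) 256 (.node (.node (.leaf 96528) 91 (.leaf 96546)) 269 (.node (.leaf 87002) 28 (.leaf 96752)))) 554 (.node (.node (.node (.leaf 96751) 12 (.leaf 299451)) 106 (.node (.leaf 250454) 368 (.leaf 95670))) 477 (.node (.node (.leaf 97229) 83 (.leaf 267175)) 141 (.node (.leaf 97370) 141 (.node (.leaf 118169) 89 (.leaf 234426)))))) 1958 (.node (.node (.node (.node (.leaf 97977) 140 (.leaf 98296)) 153 (.node (.leaf 148665) 7 (.leaf 126649))) 199 (.node (.node (.leaf 255030) 193 (.leaf 98549)) 502 (.node (.leaf 117403) 294 (.node (.leaf 97123) 406 (.leaf 99557))))) 1500 (.node (.node (.node (.leaf 157513) 109 (.leaf 99765)) 312 (.node (.leaf 62666) 223 (.leaf 261100))) 553 (.node (.node (.leaf 263561) 200 (.leaf 253709)) 508 (.node (.leaf 266574) 265 (.node (.leaf 140185) 391 (.leaf 186832)))))))) 12581 (.node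 (.node (.node (.node (.node (.node (.leaf 275864) 81 (.leaf 172774)) 185 (.node (.leaf 202900) 1 (.leaf 227486))) 194 (.node (.node (.leaf 267494) 129 (.leaf 84718)) 544 (.node (.leaf 102322) 123 (.leaf 199300)))) 895 (.node (.node (.node (.leaf 232829) 282 (.leaf 160242)) 374 (.node (.leaf 68344) 36 (.leaf 102888))) 748 (.node (.node (.leaf 49121) 72 (.leaf 47294)) 208 (.node (.leaf 103514) 145 (.node (.leaf 99410) 28 (.leaf 219067)))))) 2305 (.node (.node (.node (.node (.leaf 87895) 178 (.leaf 104067)) 345 (.node (.leaf 62927) 13 (.leaf 104007))) 476 (.node (.node (.leaf 172121) 67 (.leaf 104431)) 74 (.node (.leaf 56569) 206 (.node (.leaf 81895) 14 (.leaf 263417))))) 884 (.node (.node (.node (.leaf 97351) 172 (.leaf 257534)) 206 (.node (.leaf 219170) 113 (.leaf 226684))) 1201 (.node (.node (.leaf 105974) 17 (.leaf 81782)) 411 (.node (.leaf 136002) 206 (.node (.leaf 106591) 142 (.leaf 61371))))))) 5377 (.node (.node (.node (.node (.node (.leaf 38633) 1050 (.leaf 36787)) 1393 (.node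 (.leaf 43264) 132 (.leaf 92282))) 1801 (.node (.node (.leaf 108692) 60 (.leaf 42135)) 247 (.node (.leaf 170549) 22 (.node (.leaf 110478) 110 (.leaf 231899))))) 2327 (.node (.node (.node (.leaf 186743) 84 (.leaf 78738)) 95 (.node (.leaf 156453) 106 (.leaf 82980))) 465 (.node (.node (.leaf 280835) 23 (.leaf 111148)) 234 (.node (.leaf 148794) 392 (.node (.leaf 164849) 27 (.leaf 110405)))))) 3601 (.node (.node (.node (.node (.leaf 110562) 33 (.leaf 248260)) 237 (.node (.leaf 113239) 8 (.leaf 110807))) 341 (.node (.node (.leaf 189714) 96 (.leaf 168065)) 190 (.node (.leaf 33928) 99 (.node (.leaf 176692) 106 (.leaf 111298))))) 938 (.node (.node (.node (.leaf 111500) 403 (.leaf 111903)) 556 (.node (.leaf 58479) 124 (.leaf 118403))) 701 (.node (.node (.leaf 58044) 493 (.leaf 112694)) 752 (.node (.leaf 113235) 5 (.node (.leaf 112958) 277 (.leaf 112953)))))))))))) 113337 (.node (.node (.node (.node (.node (.node (.node (.node (.node (.node (.leaf 113338) 1 (.leaf 113337)) 377 (.node (.leaf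 84375) 6 (.leaf 114271))) 476 (.node (.node (.leaf 113813) 246 (.leaf 296586)) 549 (.node (.leaf 33969) 214 (.leaf 290450)))) 1273 (.node (.node (.node (.leaf 231100) 121 (.leaf 156637)) 225 (.node (.leaf 190672) 60 (.leaf 63704))) 611 (.node (.node (.leaf 115221) 108 (.leaf 115329)) 248 (.node (.leaf 111473) 19 (.node (.leaf 188266) 371 (.leaf 115859)))))) 2598 (.node (.node (.node (.node (.leaf 49781) 11 (.leaf 215541)) 40 (.node (.leaf 234164) 40 (.leaf 162162))) 449 (.node (.node (.leaf 274309) 205 (.leaf 105767)) 455 (.node (.leaf 116840) 1 (.node (.leaf 116839) 49 (.leaf 116889))))) 1023 (.node (.node (.node (.leaf 207856) 108 (.leaf 215267)) 110 (.node (.leaf 235998) 247 (.leaf 117314))) 419 (.node (.node (.leaf 150638) 140 (.leaf 230404)) 451 (.node (.leaf 173072) 167 (.node (.leaf 117996) 1 (.leaf 117995))))))) 4832 (.node (.node (.node (.node (.node (.leaf 97511) 66 (.leaf 51784)) 132 (.node (.leaf 118302) 118 (.leaf 139452))) 301 (.node (.node (.leaf 285507) 313 (.leaf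 137677)) 444 (.node (.leaf 286343) 237 (.leaf 202741)))) 998 (.node (.node (.node (.leaf 281475) 44 (.leaf 258298)) 226 (.node (.leaf 258236) 99 (.leaf 153682))) 425 (.node (.node (.leaf 119592) 160 (.leaf 119752)) 301 (.node (.leaf 252692) 149 (.node (.leaf 233482) 386 (.leaf 283691)))))) 2329 (.node (.node (.node (.node (.leaf 251249) 611 (.leaf 60363)) 614 (.node (.leaf 89159) 58 (.leaf 121681))) 809 (.node (.node (.leaf 286178) 121 (.leaf 75409)) 530 (.node (.leaf 242450) 273 (.node (.leaf 122110) 439 (.leaf 134954))))) 2120 (.node (.node (.node (.leaf 88735) 44 (.leaf 201869)) 323 (.node (.leaf 284661) 226 (.leaf 303063))) 746 (.node (.node (.leaf 189428) 189 (.leaf 123554)) 271 (.node (.leaf 265701) 11 (.node (.leaf 151261) 277 (.leaf 267006)))))))) 10723 (.node (.node (.node (.node (.node (.node (.leaf 46234) 346 (.leaf 124190)) 693 (.node (.leaf 95877) 156 (.leaf 247348))) 1029 (.node (.node (.leaf 244751) 298 (.leaf 171698)) 502 (.node (.leaf 80922) 234 (.leaf 125848))))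 1770 (.node (.node (.node (.leaf 279393) 76 (.leaf 255373)) 158 (.node (.leaf 217685) 980 (.leaf 138181))) 1339 (.node (.node (.leaf 255390) 24 (.leaf 127192)) 35 (.node (.leaf 127203) 40 (.node (.leaf 56294) 100 (.leaf 258761)))))) 3452 (.node (.node (.node (.node (.leaf 271824) 357 (.leaf 274020)) 403 (.node (.leaf 223961) 110 (.leaf 102384))) 518 (.node (.node (.leaf 54395) 102 (.leaf 187204)) 158 (.node (.leaf 128188) 54 (.node (.leaf 184836) 143 (.leaf 128385))))) 890 (.node (.node (.node (.leaf 52589) 324 (.leaf 139140)) 384 (.node (.leaf 89203) 150 (.leaf 36786))) 546 (.node (.node (.leaf 128953) 7 (.leaf 129124)) 45 (.node (.leaf 249501) 249 (.node (.leaf 85487) 66 (.leaf 96925))))))) 5318 (.node (.node (.node (.node (.node (.leaf 214067) 116 (.leaf 129348)) 361 (.node (.leaf 88256) 283 (.leaf 84586))) 813 (.node (.node (.leaf 154642) 6 (.leaf 65521)) 166 (.node (.leaf 248460) 71 (.leaf 34739)))) 1188 (.node (.node (.node (.leaf 215958) 119 (.leaf 169683)) 235 (.node (.leaf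 136009) 86 (.leaf 260393))) 412 (.node (.node (.leaf 299673) 4 (.leaf 131039)) 68 (.node (.leaf 131046) 3 (.node (.leaf 71671) 82 (.leaf 131131)))))) 1755 (.node (.node (.node (.node (.leaf 131228) 95 (.leaf 131133)) 340 (.node (.leaf 145941) 362 (.leaf 243385))) 806 (.node (.node (.leaf 149473) 202 (.leaf 132140)) 234 (.node (.leaf 34461) 374 (.node (.leaf 72109) 186 (.leaf 292671))))) 1889 (.node (.node (.node (.leaf 297118) 198 (.leaf 51021)) 369 (.node (.leaf 133390) 16 (.leaf 90793))) 585 (.node (.node (.leaf 133607) 227 (.leaf 133834)) 327 (.node (.leaf 73031) 94 (.node (.leaf 218079) 47 (.leaf 244883))))))))) 20752 (.node (.node (.node (.node (.node (.node (.node (.leaf 134090) 443 (.leaf 55175)) 479 (.node (.leaf 182721) 347 (.leaf 161867))) 827 (.node (.node (.leaf 134916) 38 (.leaf 122549)) 384 (.node (.leaf 258789) 312 (.leaf 135612)))) 1743 (.node (.node (.node (.leaf 135994) 177 (.leaf 130801)) 477 (.node (.leaf 48497) 334 (.leaf 195956))) 893 (.node (.node (.leaf 191614)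 65 (.leaf 34437)) 506 (.node (.leaf 57441) 51 (.node (.leaf 41584) 28 (.leaf 105359)))))) 3718 (.node (.node (.node (.node (.leaf 114347) 333 (.leaf 248218)) 350 (.node (.leaf 242805) 20 (.leaf 75712))) 577 (.node (.node (.leaf 131155) 672 (.leaf 288625)) 759 (.node (.leaf 128126) 41 (.node (.leaf 223949) 384 (.leaf 139569))))) 1762 (.node (.node (.node (.leaf 139568) 243 (.leaf 73231)) 259 (.node (.leaf 214511) 308 (.leaf 140135))) 777 (.node (.node (.leaf 55316) 68 (.leaf 119722)) 103 (.node (.leaf 257736) 199 (.node (.leaf 66804) 101 (.leaf 105926))))))) 6828 (.node (.node (.node (.node (.node (.leaf 43870) 54 (.leaf 140971)) 106 (.node (.leaf 61003) 418 (.leaf 32205))) 1310 (.node (.node (.leaf 264419) 293 (.leaf 298635)) 353 (.node (.leaf 205182) 24 (.leaf 206043)))) 1852 (.node (.node (.node (.leaf 225606) 322 (.leaf 110910)) 637 (.node (.leaf 35465) 200 (.leaf 229302))) 918 (.node (.node (.leaf 97901) 123 (.leaf 306555)) 215 (.node (.leaf 157913) 154 (.node (.leaf 214342)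 70 (.leaf 143852)))))) 3238 (.node (.node (.node (.node (.leaf 144128) 259 (.leaf 144349)) 837 (.node (.leaf 110131) 24 (.leaf 144265))) 1271 (.node (.node (.leaf 93611) 123 (.leaf 145549)) 782 (.node (.leaf 163213) 433 (.node (.leaf 94232) 270 (.leaf 46487))))) 3096 (.node (.node (.node (.leaf 73720) 318 (.leaf 44216)) 358 (.node (.leaf 207549) 5 (.leaf 275146))) 423 (.node (.node (.leaf 169773) 105 (.leaf 147779)) 484 (.node (.leaf 172478) 19 (.node (.leaf 67930) 221 (.leaf 66477)))))))) 14495 (.node (.node (.node (.node (.node (.node (.leaf 264758) 11 (.leaf 148594)) 184 (.node (.leaf 201959) 16 (.leaf 89226))) 210 (.node (.node (.leaf 109987) 357 (.leaf 149151)) 386 (.node (.leaf 298972) 149 (.leaf 218317)))) 808 (.node (.node (.node (.leaf 214650) 99 (.leaf 149660)) 151 (.node (.leaf 152838) 175 (.leaf 89688))) 366 (.node (.node (.leaf 302677) 465 (.leaf 87799)) 580 (.node (.leaf 150338) 197 (.node (.leaf 201913) 103 (.leaf 117377)))))) 2080 (.node (.node (.node (.node (.leaf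 150665) 1 (.leaf 150664)) 222 (.node (.leaf 150887) 540 (.leaf 60285))) 890 (.node (.node (.leaf 243669) 120 (.leaf 191856)) 223 (.node (.leaf 268253) 102 (.node (.leaf 198851) 190 (.leaf 52705))))) 1567 (.node (.node (.node (.leaf 225856) 365 (.leaf 172577)) 520 (.node (.leaf 174333) 199 (.leaf 211416))) 871 (.node (.node (.leaf 156399) 214 (.leaf 153343)) 241 (.node (.leaf 153316) 157 (.node (.leaf 213665) 338 (.leaf 202345))))))) 5475 (.node (.node (.node (.node (.node (.leaf 280167) 240 (.leaf 191451)) 259 (.node (.leaf 41080) 17 (.leaf 305331))) 432 (.node (.node (.leaf 154491) 129 (.leaf 52594)) 245 (.node (.leaf 283371) 655 (.node (.leaf 155392) 1 (.leaf 155391))))) 1449 (.node (.node (.node (.leaf 80474) 108 (.leaf 155733)) 202 (.node (.leaf 251225) 139 (.leaf 199450))) 378 (.node (.node (.leaf 247880) 40 (.leaf 114144)) 137 (.node (.leaf 119373) 28 (.node (.leaf 86342) 810 (.leaf 156870)))))) 2807 (.node (.node (.node (.node (.leaf 156866) 4 (.leaf 156861)) 43 (.node (.leaf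 156757) 20 (.leaf 156928))) 632 (.node (.node (.leaf 159192) 5 (.leaf 225830)) 15 (.node (.leaf 99656) 30 (.node (.leaf 184369) 286 (.leaf 155152))))) 1133 (.node (.node (.node (.leaf 168343) 44 (.leaf 157879)) 237 (.node (.leaf 266677) 203 (.leaf 280966))) 484 (.node (.node (.leaf 187668) 365 (.leaf 63343)) 484 (.node (.leaf 303781) 63 (.node (.leaf 214802) 319 (.leaf 78545)))))))))) 46442 (.node (.node (.node (.node (.node (.node (.node (.node (.leaf 53642) 98 (.leaf 159878)) 139 (.node (.leaf 281594) 267 (.leaf 160152))) 463 (.node (.node (.leaf 102761) 167 (.leaf 160409)) 679 (.node (.leaf 160921) 22 (.leaf 118395)))) 1249 (.node (.node (.node (.leaf 223233) 121 (.leaf 222688)) 903 (.node (.leaf 65750) 82 (.leaf 98446))) 1012 (.node (.node (.leaf 290195) 480 (.leaf 169020)) 679 (.node (.leaf 287969) 142 (.node (.leaf 86513) 460 (.leaf 163460)))))) 3644 (.node (.node (.node (.node (.leaf 221922) 223 (.leaf 261116)) 606 (.node (.leaf 289047) 213 (.leaf 173916))) 887 (.node (.node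 (.leaf 164310) 55 (.leaf 269023)) 349 (.node (.leaf 164660) 62 (.node (.leaf 164720) 210 (.leaf 52075))))) 1625 (.node (.node (.node (.leaf 165048) 136 (.leaf 90340)) 441 (.node (.leaf 306486) 131 (.leaf 51550))) 629 (.node (.node (.leaf 60703) 247 (.leaf 172527)) 286 (.node (.leaf 295169) 69 (.node (.leaf 179469) 381 (.leaf 246545))))))) 6870 (.node (.node (.node (.node (.node (.leaf 166649) 53 (.leaf 166703)) 54 (.node (.leaf 166702) 47 (.leaf 244343))) 207 (.node (.node (.leaf 284638) 53 (.leaf 97591)) 206 (.node (.leaf 94205) 386 (.leaf 149415)))) 875 (.node (.node (.node (.leaf 247251) 32 (.leaf 167556)) 172 (.node (.leaf 167695) 11 (.leaf 58686))) 436 (.node (.node (.leaf 167299) 232 (.leaf 168193)) 421 (.node (.leaf 300994) 127 (.node (.leaf 168650) 142 (.leaf 168508)))))) 2329 (.node (.node (.node (.node (.leaf 221429) 510 (.leaf 56840)) 979 (.node (.leaf 169956) 228 (.leaf 205346))) 1571 (.node (.node (.leaf 109009) 145 (.leaf 170695)) 188 (.node (.leaf 170737) 135 (.node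 (.leaf 269168) 79 (.leaf 209578))))) 2111 (.node (.node (.node (.leaf 171230) 259 (.leaf 185266)) 378 (.node (.leaf 171466) 33 (.leaf 212204))) 609 (.node (.node (.leaf 125387) 153 (.leaf 120817)) 216 (.node (.leaf 84937) 95 (.node (.leaf 172004) 366 (.leaf 112736)))))))) 12699 (.node (.node (.node (.node (.node (.node (.leaf 148158) 49 (.leaf 165924)) 62 (.node (.leaf 114754) 219 (.leaf 197640))) 350 (.node (.node (.leaf 172652) 69 (.leaf 62185)) 134 (.node (.leaf 172962) 124 (.leaf 58924)))) 616 (.node (.node (.node (.leaf 173093) 357 (.leaf 173451)) 503 (.node (.leaf 154517) 437 (.leaf 204075))) 975 (.node (.node (.leaf 174068) 29 (.leaf 174098)) 35 (.node (.leaf 174103) 1 (.node (.leaf 292772) 442 (.leaf 281055)))))) 2203 (.node (.node (.node (.node (.leaf 37214) 93 (.leaf 264415)) 563 (.node (.leaf 147151) 111 (.leaf 95035))) 681 (.node (.node (.leaf 301208) 158 (.leaf 237961)) 600 (.node (.leaf 298283) 173 (.node (.leaf 233375) 16 (.leaf 97049))))) 1716 (.node (.node (.node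 (.leaf 269150) 547 (.leaf 48225)) 601 (.node (.leaf 105454) 440 (.leaf 177438))) 1062 (.node (.node (.leaf 213772) 1174 (.leaf 51415)) 1201 (.node (.leaf 299888) 665 (.node (.leaf 60932) 106 (.leaf 179431))))))) 6954 (.node (.node (.node (.node (.node (.leaf 179432) 251 (.leaf 186042)) 665 (.node (.leaf 155343) 635 (.leaf 180731))) 1322 (.node (.node (.leaf 180888) 189 (.leaf 180943)) 317 (.node (.leaf 300002) 300 (.node (.leaf 265287) 1 (.leaf 61191))))) 2071 (.node (.node (.node (.leaf 128934) 22 (.leaf 261563)) 447 (.node (.leaf 138023) 209 (.leaf 182159))) 926 (.node (.node (.leaf 206681) 38 (.leaf 237230)) 292 (.node (.leaf 134568) 305 (.node (.leaf 183025) 156 (.leaf 288428)))))) 3780 (.node (.node (.node (.node (.leaf 57373) 168 (.leaf 32506)) 200 (.node (.leaf 161023) 477 (.leaf 261755))) 783 (.node (.node (.leaf 177929) 575 (.leaf 185045)) 728 (.node (.leaf 78235) 175 (.node (.leaf 246129) 147 (.leaf 184570))))) 2008 (.node (.node (.node (.leaf 214929) 128 (.leaf 222971))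 190 (.node (.leaf 300705) 21 (.leaf 291969))) 403 (.node (.node (.leaf 233749) 136 (.leaf 188657)) 423 (.node (.leaf 186047) 190 (.node (.leaf 75420) 73 (.leaf 260013))))))))) 26659 (.node (.node (.node (.node (.node (.node (.node (.leaf 108405) 70 (.leaf 124877)) 593 (.node (.leaf 287628) 173 (.leaf 128132))) 871 (.node (.node (.leaf 267765) 89 (.leaf 130505)) 90 (.node (.leaf 214928) 110 (.leaf 34664)))) 1144 (.node (.node (.node (.leaf 105564) 50 (.leaf 241035)) 84 (.node (.leaf 217613) 2 (.leaf 158483))) 212 (.node (.node (.leaf 117396) 43 (.leaf 218162)) 395 (.node (.leaf 148807) 147 (.node (.leaf 291968) 70 (.leaf 188405)))))) 2033 (.node (.node (.node (.node (.leaf 165717) 134 (.leaf 194324)) 273 (.node (.leaf 146996) 431 (.leaf 298700))) 728 (.node (.node (.leaf 189200) 1 (.leaf 189199)) 203 (.node (.leaf 138957) 1 (.node (.leaf 103896) 66 (.leaf 189469))))) 1140 (.node (.node (.node (.leaf 32798) 33 (.leaf 246740)) 112 (.node (.leaf 203123) 5 (.leaf 189728))) 350 (.node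 (.node (.leaf 241558) 45 (.leaf 302520)) 175 (.node (.leaf 96742) 178 (.node (.leaf 190314) 135 (.leaf 135219))))))) 4059 (.node (.node (.node (.node (.node (.leaf 55356) 320 (.leaf 190817)) 533 (.node (.leaf 131593) 54 (.leaf 39025))) 680 (.node (.node (.leaf 213167) 65 (.leaf 41290)) 274 (.node (.leaf 154299) 30 (.leaf 145269)))) 1255 (.node (.node (.node (.leaf 129914) 4 (.leaf 115716)) 43 (.node (.leaf 191796) 22 (.leaf 231242))) 66 (.node (.node (.leaf 231243) 267 (.leaf 192085)) 710 (.node (.leaf 192528) 266 (.node (.leaf 192672) 35 (.leaf 299523)))))) 2417 (.node (.node (.node (.node (.leaf 180974) 615 (.leaf 193529)) 626 (.node (.leaf 282608) 299 (.leaf 193840))) 926 (.node (.node (.leaf 193839) 79 (.leaf 238591)) 204 (.node (.leaf 162514) 259 (.node (.leaf 241836) 16 (.leaf 194319))))) 1546 (.node (.node (.node (.leaf 261326) 81 (.leaf 288159)) 180 (.node (.leaf 135011) 3 (.leaf 60242))) 350 (.node (.node (.leaf 248849) 215 (.leaf 258673)) 570 (.node (.leaf 195380) 55 (.node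 (.leaf 199860) 104 (.leaf 274399)))))))) 9295 (.node (.node (.node (.node (.node (.node (.leaf 195733) 223 (.leaf 136643)) 225 (.node (.leaf 195957) 1 (.leaf 225331))) 239 (.node (.node (.leaf 265260) 118 (.leaf 196090)) 134 (.node (.leaf 270576) 2 (.leaf 230934)))) 421 (.node (.node (.node (.leaf 196154) 351 (.leaf 138696)) 483 (.node (.leaf 159179) 189 (.leaf 51074))) 855 (.node (.node (.leaf 195178) 88 (.leaf 197096)) 129 (.node (.leaf 173713) 206 (.node (.leaf 173423) 112 (.leaf 181829)))))) 2169 (.node (.node (.node (.node (.leaf 204249) 25 (.leaf 179569)) 549 (.node (.leaf 231285) 400 (.leaf 151879))) 1127 (.node (.node (.leaf 175231) 107 (.leaf 199136)) 209 (.node (.leaf 234451) 62 (.node (.leaf 102445) 231 (.leaf 95280))))) 1651 (.node (.node (.node (.leaf 199034) 871 (.leaf 200425)) 1162 (.node (.leaf 132184) 341 (.leaf 201056))) 1559 (.node (.node (.leaf 193656) 136 (.leaf 90546)) 306 (.node (.leaf 258453) 8 (.node (.leaf 127123) 44 (.leaf 201470))))))) 5862 (.node (.node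 (.node (.node (.node (.leaf 303841) 144 (.leaf 201739)) 323 (.node (.leaf 54869) 41 (.leaf 148768))) 467 (.node (.node (.leaf 197479) 136 (.leaf 202197)) 461 (.node (.leaf 202523) 278 (.node (.leaf 60633) 71 (.leaf 202955))))) 1745 (.node (.node (.node (.leaf 147033) 178 (.leaf 245553)) 331 (.node (.leaf 211501) 67 (.leaf 86558))) 537 (.node (.node (.leaf 203877) 198 (.leaf 174034)) 394 (.node (.leaf 37786) 144 (.node (.leaf 174279) 12 (.leaf 219587)))))) 3672 (.node (.node (.node (.node (.leaf 85752) 14 (.leaf 303461)) 200 (.node (.leaf 67977) 60 (.leaf 205527))) 369 (.node (.node (.leaf 268491) 809 (.leaf 206445)) 901 (.node (.leaf 206537) 11 (.node (.leaf 290592) 137 (.leaf 206686))))) 1806 (.node (.node (.node (.leaf 105223) 334 (.leaf 207407)) 421 (.node (.leaf 106496) 11 (.leaf 273435))) 544 (.node (.node (.leaf 167476) 419 (.leaf 118377)) 431 (.node (.leaf 263737) 47 (.node (.leaf 50156) 67 (.leaf 69761))))))))))) 95027 (.node (.node (.node (.node (.node (.node (.node (.node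 (.node (.leaf 208364) 225 (.leaf 141424)) 702 (.node (.leaf 209066) 230 (.leaf 297516))) 990 (.node (.node (.leaf 191185) 11 (.leaf 257263)) 164 (.node (.leaf 209517) 401 (.leaf 77805)))) 2099 (.node (.node (.node (.leaf 76572) 646 (.leaf 289494)) 728 (.node (.leaf 266561) 278 (.leaf 214634))) 1033 (.node (.node (.leaf 286219) 247 (.leaf 79866)) 335 (.node (.leaf 256066) 88 (.node (.leaf 171096) 465 (.leaf 216846)))))) 4094 (.node (.node (.node (.node (.leaf 212459) 190 (.leaf 46175)) 691 (.node (.leaf 204320) 18 (.leaf 191177))) 711 (.node (.node (.leaf 57708) 138 (.leaf 54006)) 340 (.node (.leaf 80943) 59 (.node (.leaf 213568) 97 (.leaf 153500))))) 1314 (.node (.node (.node (.leaf 177459) 90 (.leaf 213862)) 109 (.node (.leaf 274503) 91 (.leaf 53598))) 458 (.node (.node (.leaf 214230) 226 (.leaf 135743)) 427 (.node (.leaf 214657) 10 (.node (.leaf 214643) 59 (.leaf 213815))))))) 6438 (.node (.node (.node (.node (.node (.leaf 159030) 244 (.leaf 106039)) 514 (.node (.leaf 115891) 314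 (.leaf 197289))) 900 (.node (.node (.leaf 53380) 223 (.leaf 71583)) 256 (.node (.leaf 130566) 206 (.leaf 300127)))) 1433 (.node (.node (.node (.leaf 216120) 76 (.leaf 248480)) 255 (.node (.leaf 270411) 6 (.leaf 200842))) 736 (.node (.node (.leaf 213740) 304 (.leaf 217275)) 343 (.node (.leaf 200119) 621 (.node (.leaf 217936) 135 (.leaf 299746)))))) 3302 (.node (.node (.node (.node (.leaf 230140) 33 (.leaf 202567)) 68 (.node (.leaf 219993) 49 (.leaf 260820))) 253 (.node (.node (.leaf 41768) 299 (.leaf 222157)) 577 (.node (.leaf 222370) 231 (.node (.leaf 187555) 5 (.leaf 104979))))) 1334 (.node (.node (.node (.leaf 273389) 74 (.leaf 204153)) 153 (.node (.leaf 272168) 110 (.leaf 146256))) 266 (.node (.node (.leaf 139111) 33 (.leaf 288681)) 212 (.node (.leaf 242472) 59 (.node (.leaf 70351) 288 (.leaf 227337)))))))) 11916 (.node (.node (.node (.node (.node (.node (.leaf 256835) 4 (.leaf 135893)) 57 (.node (.leaf 130032) 57 (.leaf 220341))) 203 (.node (.node (.leaf 36304) 63 (.leaf 151932))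 88 (.node (.leaf 220571) 187 (.leaf 125415)))) 1034 (.node (.node (.node (.leaf 236729) 22 (.leaf 51279)) 54 (.node (.leaf 221367) 166 (.leaf 289796))) 290 (.node (.node (.leaf 236868) 36 (.leaf 282162)) 118 (.node (.leaf 221722) 218 (.node (.leaf 183939) 257 (.leaf 41764)))))) 1934 (.node (.node (.node (.node (.leaf 273457) 164 (.leaf 222378)) 443 (.node (.leaf 180212) 31 (.leaf 161149))) 520 (.node (.node (.leaf 222735) 1 (.leaf 222734)) 133 (.node (.leaf 43751) 208 (.node (.leaf 228037) 52 (.leaf 223127))))) 1390 (.node (.node (.node (.leaf 85969) 345 (.leaf 139184)) 725 (.node (.leaf 110287) 95 (.leaf 213747))) 946 (.node (.node (.leaf 56558) 99 (.leaf 224650)) 144 (.node (.leaf 278937) 86 (.node (.leaf 264154) 329 (.leaf 164259))))))) 5030 (.node (.node (.node (.node (.node (.leaf 225310) 27 (.leaf 277663)) 51 (.node (.leaf 224795) 59 (.leaf 225420))) 142 (.node (.node (.leaf 194906) 485 (.leaf 198582)) 539 (.node (.leaf 295640) 398 (.node (.leaf 69459) 100 (.leaf 286020)))))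 1465 (.node (.node (.node (.leaf 226775) 57 (.leaf 237924)) 1132 (.node (.leaf 289232) 427 (.leaf 241822))) 1595 (.node (.node (.leaf 287287) 461 (.leaf 300204)) 485 (.node (.leaf 161348) 44 (.node (.leaf 125175) 288 (.leaf 275452)))))) 3978 (.node (.node (.node (.node (.leaf 92010) 30 (.leaf 229932)) 174 (.node (.leaf 299564) 105 (.leaf 230093))) 339 (.node (.node (.leaf 229628) 114 (.leaf 233880)) 305 (.node (.leaf 229318) 53 (.node (.leaf 284332) 40 (.leaf 119523))))) 852 (.node (.node (.node (.leaf 218104) 728 (.leaf 230868)) 787 (.node (.leaf 196641) 7 (.leaf 196108))) 960 (.node (.node (.leaf 114610) 29 (.leaf 83438)) 40 (.node (.leaf 63469) 36 (.node (.leaf 231177) 41 (.leaf 43578))))))))) 22877 (.node (.node (.node (.node (.node (.node (.node (.leaf 240431) 44 (.leaf 198451)) 73 (.node (.leaf 270677) 388 (.leaf 112599))) 658 (.node (.node (.leaf 109141) 44 (.leaf 259012)) 288 (.node (.leaf 116441) 452 (.leaf 287239)))) 1473 (.node (.node (.node (.leaf 86467) 59 (.leaf 247926))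 115 (.node (.leaf 102479) 251 (.leaf 149407))) 894 (.node (.node (.leaf 298833) 61 (.leaf 104616)) 66 (.node (.leaf 231953) 196 (.node (.leaf 233871) 170 (.leaf 114176)))))) 2806 (.node (.node (.node (.node (.leaf 234047) 17 (.leaf 240943)) 22 (.node (.leaf 88245) 73 (.leaf 59314))) 100 (.node (.node (.leaf 292546) 17 (.leaf 115975)) 192 (.node (.leaf 218105) 56 (.node (.leaf 251311) 375 (.leaf 151662))))) 824 (.node (.node (.node (.leaf 201897) 8 (.leaf 108585)) 202 (.node (.leaf 235073) 24 (.leaf 175727))) 238 (.node (.node (.leaf 278573) 394 (.leaf 64448)) 461 (.node (.leaf 235571) 1 (.node (.leaf 235570) 124 (.leaf 128401))))))) 4525 (.node (.node (.node (.node (.node (.leaf 106337) 205 (.leaf 211634)) 1079 (.node (.leaf 142815) 502 (.leaf 236406))) 1700 (.node (.node (.leaf 144850) 240 (.leaf 162014)) 246 (.node (.leaf 237713) 249 (.leaf 175520)))) 2554 (.node (.node (.node (.leaf 130119) 155 (.leaf 205859)) 298 (.node (.leaf 250068) 31 (.leaf 243567))) 528 (.node (.node (.leaf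 158143) 243 (.leaf 205510)) 340 (.node (.leaf 76629) 389 (.node (.leaf 296409) 64 (.leaf 239669)))))) 3960 (.node (.node (.node (.node (.leaf 239550) 332 (.leaf 180948)) 536 (.node (.leaf 117920) 169 (.leaf 231241))) 1069 (.node (.node (.leaf 74046) 107 (.leaf 53063)) 150 (.node (.leaf 108830) 77 (.node (.leaf 268276) 13 (.leaf 187632))))) 1384 (.node (.node (.node (.leaf 63150) 39 (.leaf 145593)) 333 (.node (.leaf 292424) 289 (.leaf 229347))) 1053 (.node (.node (.leaf 196102) 171 (.leaf 280434)) 642 (.node (.leaf 138157) 97 (.node (.leaf 260819) 63 (.leaf 161412)))))))) 11735 (.node (.node (.node (.node (.node (.node (.leaf 192341) 6 (.leaf 107039)) 270 (.node (.leaf 304712) 131 (.leaf 243377))) 409 (.node (.node (.leaf 131835) 8 (.leaf 228437)) 721 (.node (.leaf 127684) 602 (.leaf 244708)))) 1775 (.node (.node (.node (.leaf 125089) 144 (.leaf 73635)) 161 (.node (.leaf 259946) 44 (.leaf 61919))) 338 (.node (.node (.leaf 63524) 26 (.leaf 188922)) 633 (.node (.leaf 177355) 96 (.node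 (.leaf 292937) 320 (.leaf 246137)))))) 3493 (.node (.node (.node (.node (.leaf 174426) 271 (.leaf 189644)) 273 (.node (.leaf 183935) 159 (.leaf 271817))) 488 (.node (.node (.leaf 125901) 471 (.leaf 268234)) 490 (.node (.leaf 51975) 179 (.node (.leaf 275117) 219 (.leaf 299347))))) 1411 (.node (.node (.node (.leaf 155886) 15 (.leaf 240941)) 210 (.node (.leaf 282883) 126 (.leaf 129783))) 379 (.node (.node (.leaf 110596) 221 (.leaf 216311)) 359 (.node (.leaf 103802) 73 (.node (.leaf 297310) 315 (.leaf 206277))))))) 6624 (.node (.node (.node (.node (.node (.leaf 249601) 18 (.leaf 249618)) 330 (.node (.leaf 285536) 138 (.leaf 238618))) 796 (.node (.node (.leaf 250396) 156 (.leaf 304613)) 404 (.node (.leaf 292142) 130 (.node (.leaf 305353) 30 (.leaf 250959))))) 1522 (.node (.node (.node (.leaf 206586) 103 (.leaf 155710)) 481 (.node (.leaf 98216) 379 (.leaf 292733))) 882 (.node (.node (.leaf 219775) 86 (.leaf 168816)) 603 (.node (.leaf 304151) 324 (.node (.leaf 53930) 204 (.leaf 236339))))))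 3656 (.node (.node (.node (.node (.leaf 259426) 176 (.leaf 281957)) 298 (.node (.leaf 78659) 128 (.leaf 232095))) 473 (.node (.node (.leaf 235392) 243 (.leaf 253973)) 290 (.node (.leaf 54085) 38 (.node (.leaf 254057) 139 (.leaf 51740))))) 1201 (.node (.node (.node (.leaf 203377) 20 (.leaf 88613)) 372 (.node (.leaf 254829) 8 (.leaf 292327))) 570 (.node (.node (.leaf 264926) 3 (.leaf 98355)) 408 (.node (.leaf 159106) 92 (.node (.leaf 125502) 32 (.leaf 105988)))))))))) 47319 (.node (.node (.node (.node (.node (.node (.node (.node (.leaf 95767) 993 (.leaf 91238)) 1224 (.node (.leaf 253390) 259 (.leaf 87182))) 1537 (.node (.node (.leaf 66528) 314 (.leaf 104945)) 705 (.node (.leaf 269264) 322 (.leaf 166752)))) 2777 (.node (.node (.node (.leaf 96111) 73 (.leaf 195133)) 167 (.node (.leaf 43833) 193 (.leaf 49053))) 427 (.node (.node (.leaf 258915) 9 (.leaf 173213)) 46 (.node (.leaf 67724) 35 (.node (.leaf 247112) 8 (.leaf 58708)))))) 3329 (.node (.node (.node (.node (.leaf 231943) 96 (.leaf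 260854)) 343 (.node (.leaf 115086) 146 (.leaf 259501))) 556 (.node (.node (.leaf 244392) 123 (.leaf 290871)) 378 (.node (.leaf 244912) 447 (.node (.leaf 130887) 38 (.leaf 260431))))) 1444 (.node (.node (.node (.leaf 86162) 86 (.leaf 264889)) 166 (.node (.leaf 249378) 232 (.leaf 259108))) 660 (.node (.node (.leaf 163646) 49 (.leaf 261165)) 419 (.node (.leaf 104647) 76 (.node (.leaf 193939) 144 (.leaf 183889))))))) 6074 (.node (.node (.node (.node (.node (.leaf 242981) 61 (.leaf 282442)) 186 (.node (.leaf 261943) 129 (.leaf 251616))) 824 (.node (.node (.leaf 56742) 150 (.leaf 262731)) 161 (.node (.leaf 159243) 292 (.leaf 242090)))) 1382 (.node (.node (.node (.leaf 48245) 60 (.leaf 263199)) 97 (.node (.leaf 92026) 282 (.leaf 251816))) 693 (.node (.node (.leaf 37910) 14 (.leaf 170802)) 77 (.node (.leaf 286907) 125 (.node (.leaf 248159) 120 (.leaf 224780)))))) 2738 (.node (.node (.node (.node (.leaf 223256) 263 (.leaf 148584)) 394 (.node (.leaf 260542) 84 (.leaf 118389))) 481 (.node (.node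 (.leaf 255484) 30 (.leaf 127172)) 79 (.node (.leaf 265055) 135 (.node (.leaf 50428) 41 (.leaf 171289))))) 799 (.node (.node (.node (.leaf 296445) 94 (.leaf 265535)) 133 (.node (.leaf 68644) 8 (.leaf 274027))) 299 (.node (.node (.leaf 68473) 165 (.leaf 285535)) 342 (.node (.leaf 227761) 51 (.node (.leaf 265986) 168 (.leaf 41564)))))))) 10693 (.node (.node (.node (.node (.node (.node (.leaf 266134) 185 (.leaf 211191)) 256 (.node (.leaf 240279) 322 (.leaf 248206))) 630 (.node (.node (.leaf 123923) 107 (.leaf 271232)) 262 (.node (.leaf 275989) 86 (.leaf 272848)))) 1057 (.node (.node (.node (.leaf 55344) 28 (.leaf 136201)) 499 (.node (.leaf 127988) 67 (.leaf 264740))) 843 (.node (.node (.leaf 241022) 322 (.leaf 180393)) 371 (.node (.leaf 103166) 160 (.node (.leaf 238478) 191 (.leaf 188644)))))) 2647 (.node (.node (.node (.node (.leaf 164365) 241 (.leaf 257925)) 274 (.node (.leaf 282835) 535 (.leaf 144345))) 1033 (.node (.node (.leaf 270056) 134 (.leaf 149727)) 199 (.node (.leaf 245957)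 372 (.node (.leaf 51183) 242 (.leaf 83144))))) 1869 (.node (.node (.node (.leaf 130049) 340 (.leaf 267113)) 815 (.node (.leaf 271708) 121 (.leaf 304216))) 1171 (.node (.node (.leaf 168453) 138 (.leaf 67683)) 269 (.node (.leaf 161794) 516 (.node (.leaf 267354) 385 (.leaf 81692))))))) 6976 (.node (.node (.node (.node (.node (.leaf 280433) 57 (.leaf 274489)) 200 (.node (.leaf 269734) 785 (.leaf 189254))) 998 (.node (.node (.leaf 280104) 535 (.leaf 274885)) 650 (.node (.leaf 57528) 135 (.node (.leaf 40775) 11 (.leaf 147614))))) 1899 (.node (.node (.node (.leaf 187084) 82 (.leaf 282802)) 88 (.node (.leaf 298098) 91 (.leaf 258369))) 330 (.node (.node (.leaf 228338) 24 (.leaf 275605)) 25 (.node (.leaf 275606) 188 (.node (.leaf 86451) 526 (.leaf 276320)))))) 3123 (.node (.node (.node (.node (.leaf 163073) 66 (.leaf 177898)) 90 (.node (.leaf 170175) 364 (.leaf 284198))) 795 (.node (.node (.leaf 82828) 126 (.leaf 42146)) 324 (.node (.leaf 294757) 69 (.node (.leaf 225337) 55 (.leaf 123595)))))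 1300 (.node (.node (.node (.leaf 46885) 107 (.leaf 231235)) 422 (.node (.leaf 278197) 376 (.leaf 235109))) 866 (.node (.node (.leaf 123656) 138 (.leaf 306464)) 1162 (.node (.leaf 279033) 1 (.node (.leaf 198445) 427 (.leaf 260465))))))))) 24578 (.node (.node (.node (.node (.node (.node (.node (.leaf 283197) 172 (.leaf 273352)) 420 (.node (.leaf 67861) 374 (.leaf 174547))) 987 (.node (.node (.leaf 109641) 187 (.leaf 40085)) 227 (.node (.leaf 119167) 421 (.leaf 60662)))) 1696 (.node (.node (.node (.leaf 253432) 185 (.leaf 282792)) 404 (.node (.leaf 286467) 81 (.leaf 261818))) 719 (.node (.node (.leaf 295248) 593 (.leaf 40757)) 695 (.node (.leaf 154736) 14 (.node (.leaf 283110) 306 (.leaf 120428)))))) 3644 (.node (.node (.node (.node (.leaf 283905) 2 (.leaf 231444)) 215 (.node (.leaf 284120) 81 (.leaf 222666))) 378 (.node (.node (.leaf 225545) 230 (.leaf 58603)) 547 (.node (.leaf 43235) 386 (.node (.leaf 213630) 108 (.leaf 163505))))) 1553 (.node (.node (.node (.leaf 285458) 93 (.leaf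 293654)) 679 (.node (.leaf 53359) 82 (.leaf 211496))) 805 (.node (.node (.leaf 256632) 151 (.leaf 286414)) 231 (.node (.leaf 157167) 37 (.node (.leaf 87849) 341 (.leaf 166733))))))) 6666 (.node (.node (.node (.node (.node (.leaf 286927) 210 (.leaf 171925)) 262 (.node (.leaf 231443) 22 (.leaf 229877))) 312 (.node (.node (.leaf 232639) 48 (.leaf 228370)) 128 (.node (.leaf 300888) 390 (.leaf 111068)))) 1042 (.node (.node (.node (.leaf 162719) 156 (.leaf 137035)) 249 (.node (.leaf 288217) 57 (.leaf 288275))) 439 (.node (.node (.leaf 303583) 273 (.leaf 219737)) 279 (.node (.leaf 293705) 70 (.node (.leaf 232836) 290 (.leaf 164029)))))) 2312 (.node (.node (.node (.node (.leaf 57323) 61 (.leaf 265403)) 145 (.node (.leaf 176664) 110 (.leaf 211109))) 442 (.node (.node (.leaf 104184) 387 (.leaf 289501)) 769 (.node (.leaf 114576) 197 (.node (.leaf 141558) 266 (.leaf 131689))))) 1712 (.node (.node (.node (.leaf 294764) 519 (.leaf 82031)) 1018 (.node (.leaf 185431) 173 (.leaf 250800))) 1395 (.node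 (.node (.leaf 292346) 286 (.leaf 49066)) 464 (.node (.leaf 70070) 498 (.node (.leaf 306914) 49 (.leaf 303040)))))))) 13109 (.node (.node (.node (.node (.node (.node (.leaf 293370) 1331 (.leaf 199515)) 1569 (.node (.leaf 299522) 223 (.leaf 124013))) 2181 (.node (.node (.leaf 264595) 279 (.leaf 274786)) 303 (.node (.leaf 295853) 431 (.leaf 297248)))) 3033 (.node (.node (.node (.leaf 297795) 134 (.leaf 258284)) 409 (.node (.leaf 285572) 118 (.leaf 227591))) 835 (.node (.node (.leaf 245328) 94 (.leaf 69656)) 195 (.node (.leaf 286354) 14 (.node (.leaf 292448) 69 (.leaf 209296)))))) 4409 (.node (.node (.node (.node (.leaf 243058) 205 (.leaf 297984)) 243 (.node (.leaf 260152) 76 (.leaf 275339))) 473 (.node (.node (.leaf 302898) 43 (.leaf 90199)) 255 (.node (.leaf 283026) 401 (.node (.leaf 242471) 64 (.leaf 149180))))) 1406 (.node (.node (.node (.leaf 77432) 162 (.leaf 247845)) 182 (.node (.leaf 46861) 1 (.leaf 79393))) 378 (.node (.node (.leaf 146837) 1 (.leaf 229462)) 183 (.node (.leaf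 218070) 10 (.node (.leaf 218457) 11 (.leaf 292216))))))) 6655 (.node (.node (.node (.node (.node (.leaf 300025) 320 (.leaf 107121)) 680 (.node (.leaf 185410) 400 (.leaf 237687))) 1428 (.node (.node (.leaf 45756) 79 (.leaf 305533)) 83 (.node (.leaf 303488) 75 (.node (.leaf 146246) 1066 (.leaf 149758))))) 2977 (.node (.node (.node (.leaf 149493) 38 (.leaf 293357)) 61 (.node (.leaf 123167) 164 (.leaf 175950))) 486 (.node (.node (.leaf 301536) 25 (.leaf 242562)) 95 (.node (.leaf 288408) 32 (.node (.leaf 304465) 121 (.leaf 90749)))))) 3868 (.node (.node (.node (.node (.leaf 282355) 244 (.leaf 251383)) 593 (.node (.leaf 109259) 122 (.leaf 53705))) 720 (.node (.node (.leaf 250552) 257 (.leaf 280617)) 616 (.node (.leaf 295101) 26 (.node (.leaf 288576) 76 (.leaf 154335))))) 1995 (.node (.node (.node (.leaf 70724) 154 (.leaf 220439)) 229 (.node (.leaf 243251) 64 (.leaf 306181))) 415 (.node (.node (.leaf 262964) 57 (.leaf 286332)) 68 (.node (.leaf 53668) 184 (.node (.leaf 143810) 49 (.leaf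 75620)))))))))))))

/-- table of generator 5 -/
def tab5 : Tab :=
  (.node (.node (.node (.node (.node (.node (.node (.node (.node (.node (.node (.leaf 0) 1 (.leaf 1)) 2 (.node (.leaf 2) 1 (.node (.leaf 3) 1 (.leaf 67)))) 5 (.node (.node (.leaf 6) 1 (.node (.leaf 5) 1 (.leaf 7))) 3 (.node (.leaf 8) 1 (.node (.leaf 9) 1 (.leaf 10))))) 11 (.node (.node (.node (.leaf 415) 2 (.node (.leaf 12) 34 (.leaf 46))) 40 (.node (.leaf 51) 2 (.node (.leaf 53) 3 (.leaf 55)))) 46 (.node (.node (.leaf 57) 2 (.node (.leaf 301) 1 (.leaf 61))) 4 (.node (.leaf 60) 1 (.node (.leaf 63) 1 (.leaf 62)))))) 64 (.node (.node (.node (.node (.leaf 140) 1 (.leaf 130)) 2 (.node (.leaf 97) 1 (.node (.leaf 4) 1 (.leaf 68)))) 5 (.node (.node (.leaf 69) 1 (.node (.leaf 70) 1 (.leaf 71))) 3 (.node (.leaf 434) 22 (.node (.leaf 94) 3 (.leaf 66))))) 34 (.node (.node (.node (.leaf 98) 1 (.node (.leaf 99) 1 (.leaf 100))) 4 (.node (.leaf 416) 28 (.node (.leaf 65) 1 (.leaf 131)))) 34 (.node (.node (.leaf 143) 1 (.node (.leaf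 217) 1 (.leaf 147))) 3 (.node (.leaf 135) 1 (.node (.leaf 136) 1 (.leaf 266))))))) 138 (.node (.node (.node (.node (.node (.leaf 138) 1 (.leaf 139)) 2 (.node (.leaf 64) 1 (.node (.leaf 157) 1 (.leaf 142)))) 5 (.node (.node (.leaf 132) 2 (.node (.leaf 145) 1 (.leaf 146))) 4 (.node (.leaf 134) 1 (.node (.leaf 148) 1 (.leaf 149))))) 13 (.node (.node (.node (.leaf 151) 1 (.node (.leaf 832) 2 (.leaf 154))) 4 (.node (.leaf 156) 1 (.node (.leaf 155) 1 (.leaf 141)))) 7 (.node (.node (.leaf 158) 1 (.node (.leaf 159) 1 (.leaf 161))) 3 (.node (.leaf 160) 1 (.node (.leaf 163) 1 (.leaf 162)))))) 26 (.node (.node (.node (.node (.leaf 164) 2 (.node (.leaf 939) 20 (.leaf 267))) 23 (.node (.leaf 187) 30 (.node (.leaf 133) 4 (.leaf 8294)))) 97 (.node (.node (.leaf 95) 1 (.node (.leaf 797) 1 (.leaf 264))) 3 (.node (.leaf 263) 1 (.node (.leaf 265) 1 (.leaf 137))))) 103 (.node (.node (.node (.leaf 186) 1 (.node (.leaf 268) 1 (.leaf 269))) 26 (.node (.leaf 294) 4 (.node (.leaf 298) 2 (.leaf 54)))) 33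 (.node (.node (.leaf 346) 1 (.node (.leaf 59) 1 (.leaf 302))) 3 (.node (.leaf 303) 1 (.node (.leaf 304) 1 (.leaf 501)))))))) 340 (.node (.node (.node (.node (.node (.node (.leaf 296) 3 (.leaf 342)) 4 (.node (.leaf 344) 1 (.node (.leaf 345) 1 (.leaf 300)))) 7 (.node (.node (.leaf 366) 1 (.node (.leaf 349) 1 (.leaf 348))) 3 (.node (.leaf 350) 1 (.node (.leaf 351) 2 (.leaf 353))))) 15 (.node (.node (.node (.leaf 355) 1 (.node (.leaf 356) 1 (.leaf 358))) 3 (.node (.leaf 357) 1 (.node (.leaf 360) 1 (.leaf 359)))) 6 (.node (.node (.leaf 361) 3 (.node (.leaf 4468) 1 (.leaf 772))) 6 (.node (.leaf 367) 1 (.node (.leaf 368) 1 (.leaf 369)))))) 30 (.node (.node (.node (.node (.leaf 621) 40 (.leaf 553)) 42 (.node (.leaf 411) 1 (.node (.leaf 413) 19 (.leaf 480)))) 65 (.node (.node (.leaf 435) 1 (.node (.leaf 436) 1 (.leaf 469))) 3 (.node (.leaf 613) 2 (.node (.leaf 441) 2 (.leaf 442))))) 79 (.node (.node (.node (.leaf 450) 14 (.node (.leaf 462) 5 (.leaf 468))) 20 (.node (.leaf 437) 5 (.node (.leaf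 475) 2 (.leaf 473)))) 49 (.node (.node (.leaf 499) 1 (.node (.leaf 498) 1 (.leaf 500))) 53 (.node (.leaf 591) 28 (.node (.leaf 4239) 29 (.leaf 607))))))) 271 (.node (.node (.node (.node (.node (.leaf 611) 1 (.leaf 612)) 2 (.node (.leaf 438) 1 (.node (.leaf 614) 3 (.leaf 617)))) 10 (.node (.node (.leaf 370) 52 (.node (.leaf 8024) 1 (.leaf 675))) 54 (.node (.leaf 674) 6 (.node (.leaf 682) 1 (.leaf 681))))) 104 (.node (.node (.node (.leaf 715) 45 (.node (.leaf 4727) 12 (.leaf 365))) 82 (.node (.leaf 262) 1 (.node (.leaf 798) 1 (.leaf 799)))) 86 (.node (.node (.leaf 894) 4 (.node (.leaf 4230) 27 (.leaf 152))) 70 (.node (.leaf 895) 23 (.node (.leaf 801) 1 (.leaf 871)))))) 288 (.node (.node (.node (.node (.leaf 964) 1 (.node (.leaf 900) 10 (.leaf 910))) 35 (.node (.leaf 933) 1 (.node (.leaf 4659) 25 (.leaf 960)))) 119 (.node (.node (.leaf 4418) 1 (.node (.leaf 4366) 51 (.leaf 1070))) 80 (.node (.leaf 1099) 2 (.node (.leaf 1100) 93 (.leaf 1193))))) 301 (.node (.node (.node (.leaf 1201)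 36 (.node (.leaf 1237) 1 (.leaf 1236))) 48 (.node (.leaf 1154) 64 (.node (.leaf 916) 5 (.leaf 5355)))) 128 (.node (.node (.leaf 1551) 140 (.node (.leaf 8085) 139 (.leaf 1532))) 280 (.node (.leaf 1608) 1 (.node (.leaf 20117) 212 (.leaf 1822))))))))) 1838 (.node (.node (.node (.node (.node (.node (.node (.leaf 20279) 242 (.leaf 2080)) 417 (.node (.leaf 2255) 7 (.node (.leaf 2261) 317 (.leaf 2579)))) 742 (.node (.node (.leaf 4661) 1 (.node (.leaf 2581) 1 (.leaf 2582))) 47 (.node (.leaf 20350) 274 (.node (.leaf 2900) 325 (.leaf 25441))))) 1633 (.node (.node (.node (.leaf 4116) 26 (.node (.leaf 10844) 2 (.leaf 3500))) 29 (.node (.leaf 3499) 407 (.node (.leaf 3907) 30 (.leaf 11546)))) 467 (.node (.node (.leaf 3939) 86 (.node (.leaf 3900) 155 (.leaf 4178))) 242 (.node (.leaf 3903) 23 (.node (.leaf 4204) 91 (.leaf 4293)))))) 2503 (.node (.node (.node (.node (.leaf 27185) 25 (.leaf 1019)) 44 (.node (.leaf 4385) 25 (.node (.leaf 4410) 32 (.leaf 4442)))) 114 (.node (.node (.leaf 4455) 4 (.node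 (.leaf 4459) 3 (.leaf 4462))) 8 (.node (.leaf 4463) 1 (.node (.leaf 4470) 4 (.leaf 364))))) 129 (.node (.node (.node (.leaf 4464) 63 (.node (.leaf 4533) 45 (.leaf 4578))) 110 (.node (.leaf 11644) 47 (.node (.leaf 4627) 32 (.leaf 935)))) 191 (.node (.node (.leaf 2580) 1 (.node (.leaf 4662) 1 (.leaf 4663))) 3 (.node (.leaf 4664) 1 (.node (.leaf 4665) 3 (.leaf 4669))))))) 2867 (.node (.node (.node (.node (.node (.leaf 4705) 18 (.leaf 4723)) 21 (.node (.leaf 5447) 2 (.node (.leaf 4728) 1 (.leaf 4894)))) 40 (.node (.node (.leaf 4809) 25 (.node (.leaf 4771) 1 (.leaf 4770))) 28 (.node (.leaf 4794) 14 (.node (.leaf 685) 7 (.leaf 4773))))) 90 (.node (.node (.node (.leaf 4795) 1 (.node (.leaf 4796) 1 (.leaf 5009))) 7 (.node (.leaf 4801) 5 (.node (.leaf 4851) 1 (.leaf 4900)))) 14 (.node (.node (.leaf 4745) 1 (.node (.leaf 4810) 29 (.leaf 4839))) 39 (.node (.leaf 4848) 2 (.node (.leaf 4850) 1 (.leaf 4807)))))) 187 (.node (.node (.node (.node (.leaf 4892) 8 (.node (.leaf 4808) 68 (.leaf 4969)))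 77 (.node (.leaf 4968) 101 (.node (.leaf 448) 1 (.leaf 421)))) 380 (.node (.node (.leaf 5271) 6 (.node (.leaf 5277) 29 (.leaf 5308))) 61 (.node (.leaf 22793) 43 (.node (.leaf 4658) 37 (.leaf 5414))))) 555 (.node (.node (.node (.leaf 4726) 42 (.node (.leaf 10392) 237 (.leaf 5727))) 571 (.node (.leaf 26629) 28 (.node (.leaf 27696) 153 (.leaf 6197)))) 931 (.node (.node (.leaf 6378) 35 (.node (.leaf 11272) 115 (.leaf 6527))) 273 (.node (.leaf 6652) 1 (.node (.leaf 6651) 277 (.leaf 23412)))))))) 5108 (.node (.node (.node (.node (.node (.node (.leaf 22258) 101 (.leaf 24790)) 424 (.node (.leaf 7571) 70 (.node (.leaf 4540) 22 (.leaf 24975)))) 622 (.node (.node (.leaf 7509) 30 (.node (.leaf 11271) 78 (.leaf 7632))) 188 (.node (.leaf 20632) 126 (.node (.leaf 12117) 97 (.leaf 4733))))) 1058 (.node (.node (.node (.leaf 13826) 1 (.node (.leaf 958) 75 (.leaf 8106))) 81 (.node (.leaf 1468) 166 (.node (.leaf 8252) 283 (.leaf 1196)))) 597 (.node (.node (.leaf 25279) 249 (.node (.leaf 8850) 222 (.leaf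 112))) 553 (.node (.leaf 30375) 81 (.node (.leaf 9315) 41 (.leaf 9983)))))) 2373 (.node (.node (.node (.node (.leaf 9240) 249 (.node (.leaf 5290) 133 (.leaf 20533))) 508 (.node (.leaf 9857) 40 (.node (.leaf 10771) 186 (.leaf 10054)))) 789 (.node (.node (.leaf 10109) 8 (.node (.leaf 10115) 105 (.leaf 10222))) 284 (.node (.leaf 5489) 395 (.node (.leaf 10750) 116 (.leaf 10988))))) 1678 (.node (.node (.node (.leaf 10996) 19 (.node (.leaf 11017) 23 (.leaf 10964))) 218 (.node (.leaf 981) 57 (.node (.leaf 6413) 5 (.leaf 11335)))) 283 (.node (.node (.leaf 11281) 130 (.node (.leaf 22821) 235 (.leaf 11645))) 466 (.node (.leaf 7816) 115 (.node (.leaf 11862) 7 (.leaf 11868))))))) 5033 (.node (.node (.node (.node (.node (.leaf 12339) 40 (.leaf 2371)) 124 (.node (.leaf 13545) 81 (.node (.leaf 7308) 62 (.leaf 12245)))) 312 (.node (.node (.leaf 12292) 255 (.node (.leaf 30845) 91 (.leaf 12636))) 406 (.node (.leaf 12698) 93 (.node (.leaf 12790) 3 (.leaf 3400))))) 963 (.node (.node (.node (.leaf 12942)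 240 (.node (.leaf 13183) 4 (.leaf 30878))) 426 (.node (.leaf 21875) 91 (.node (.leaf 13459) 255 (.leaf 11492)))) 2200 (.node (.node (.leaf 17411) 134 (.node (.leaf 15275) 128 (.leaf 15405))) 349 (.node (.leaf 31226) 187 (.node (.leaf 15677) 41 (.leaf 15720)))))) 3743 (.node (.node (.node (.node (.leaf 15723) 1 (.node (.leaf 15722) 13 (.leaf 21342))) 154 (.node (.leaf 23404) 189 (.node (.leaf 16066) 146 (.leaf 16210)))) 522 (.node (.node (.leaf 19196) 4 (.node (.leaf 30666) 76 (.leaf 12341))) 163 (.node (.leaf 16043) 42 (.node (.leaf 16455) 263 (.leaf 8901))))) 1237 (.node (.node (.node (.leaf 16539) 13 (.node (.leaf 237) 2 (.leaf 16975))) 325 (.node (.leaf 25692) 397 (.node (.leaf 28178) 140 (.leaf 17820)))) 1027 (.node (.node (.leaf 16087) 288 (.node (.leaf 28648) 11 (.leaf 22703))) 692 (.node (.leaf 24137) 16 (.node (.leaf 18661) 185 (.leaf 26984)))))))))) 18916 (.node (.node (.node (.node (.node (.node (.node (.node (.leaf 16074) 51 (.leaf 18967)) 79 (.node (.leaf 18996) 51 (.node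 (.leaf 11423) 37 (.leaf 29955)))) 193 (.node (.node (.leaf 19109) 286 (.node (.leaf 7028) 14 (.leaf 25924))) 342 (.node (.leaf 31550) 158 (.node (.leaf 15284) 3 (.leaf 19612))))) 746 (.node (.node (.node (.leaf 21455) 512 (.node (.leaf 28562) 105 (.leaf 1838))) 774 (.node (.leaf 21166) 16 (.node (.leaf 524) 81 (.leaf 9701)))) 987 (.node (.node (.leaf 20649) 279 (.node (.leaf 20927) 73 (.leaf 20784))) 507 (.node (.leaf 22428) 201 (.node (.leaf 21711) 98 (.leaf 19662)))))) 2951 (.node (.node (.node (.node (.leaf 21867) 109 (.leaf 20545)) 146 (.node (.leaf 22013) 245 (.node (.leaf 6946) 127 (.leaf 9536)))) 584 (.node (.node (.leaf 23922) 298 (.node (.leaf 31659) 51 (.leaf 17890))) 609 (.node (.leaf 8856) 333 (.node (.leaf 15188) 3 (.leaf 26533))))) 1772 (.node (.node (.node (.leaf 19573) 17 (.node (.leaf 4093) 14 (.leaf 23670))) 76 (.node (.leaf 6474) 55 (.node (.leaf 23771) 1 (.leaf 23770)))) 434 (.node (.node (.leaf 24072) 15 (.node (.leaf 24089) 1 (.leaf 24088))) 222 (.node (.leaf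 24296) 44 (.node (.leaf 21787) 26 (.leaf 28408))))))) 5609 (.node (.node (.node (.node (.node (.leaf 24524) 56 (.leaf 25529)) 178 (.node (.leaf 7459) 271 (.node (.leaf 24974) 279 (.leaf 20540)))) 754 (.node (.node (.leaf 8601) 303 (.node (.leaf 26683) 217 (.leaf 30393))) 975 (.node (.leaf 26253) 20 (.node (.leaf 13814) 119 (.leaf 12968))))) 2205 (.node (.node (.node (.leaf 27268) 149 (.node (.leaf 24949) 315 (.leaf 25214))) 492 (.node (.leaf 27223) 1 (.node (.leaf 27222) 141 (.leaf 5203)))) 850 (.node (.node (.leaf 31370) 223 (.node (.leaf 30558) 259 (.leaf 2419))) 828 (.node (.leaf 24365) 71 (.node (.leaf 28479) 167 (.leaf 18828)))))) 4277 (.node (.node (.node (.node (.leaf 10262) 35 (.node (.leaf 27594) 7 (.leaf 8915))) 321 (.node (.leaf 10107) 69 (.node (.leaf 29192) 13 (.leaf 29214)))) 415 (.node (.node (.leaf 9447) 68 (.node (.leaf 30767) 3 (.leaf 19529))) 123 (.node (.leaf 14742) 39 (.node (.leaf 15673) 14 (.leaf 29393))))) 889 (.node (.node (.node (.leaf 2816) 22 (.node (.leaf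 24048) 258 (.leaf 21807))) 483 (.node (.leaf 29835) 2 (.node (.leaf 31303) 31 (.leaf 2471)))) 895 (.node (.node (.leaf 2814) 92 (.node (.leaf 30678) 143 (.leaf 31187))) 259 (.node (.leaf 12546) 54 (.node (.leaf 30899) 76 (.leaf 19382)))))))) 12192 (.node (.node (.node (.node (.node (.node (.leaf 22994) 48 (.leaf 18840)) 107 (.node (.leaf 31619) 36 (.node (.leaf 31387) 7 (.leaf 31258)))) 151 (.node (.node (.leaf 31259) 291 (.node (.leaf 19451) 122 (.leaf 31672))) 414 (.node (.leaf 31673) 1 (.node (.leaf 31674) 1 (.leaf 31675))))) 569 (.node (.node (.node (.leaf 31678) 1 (.node (.leaf 31677) 1 (.leaf 31680))) 6 (.node (.leaf 33913) 19 (.node (.leaf 39769) 46 (.leaf 31770)))) 72 (.node (.node (.leaf 31750) 1 (.node (.leaf 31749) 1 (.leaf 31751))) 3 (.node (.leaf 31753) 1 (.node (.leaf 31752) 1 (.leaf 31754)))))) 647 (.node (.node (.node (.node (.leaf 31755) 2 (.leaf 31758)) 3 (.node (.leaf 31757) 1 (.node (.leaf 31759) 1 (.leaf 31761)))) 6 (.node (.node (.leaf 31760) 2 (.node (.leaf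 31763) 1 (.leaf 31765))) 4 (.node (.leaf 31764) 1 (.node (.leaf 31766) 1 (.leaf 31767))))) 15 (.node (.node (.node (.leaf 31748) 1 (.node (.leaf 31771) 1 (.leaf 31773))) 3 (.node (.leaf 31772) 1 (.node (.leaf 31774) 6 (.leaf 31779)))) 11 (.node (.node (.leaf 57278) 1 (.node (.leaf 31783) 20 (.leaf 62431))) 68 (.node (.leaf 73613) 40 (.node (.leaf 33860) 1 (.leaf 31891))))))) 783 (.node (.node (.node (.node (.node (.leaf 31890) 1 (.leaf 31892)) 2 (.node (.leaf 31893) 3 (.node (.leaf 31897) 1 (.leaf 31896)))) 7 (.node (.node (.leaf 31898) 1 (.node (.leaf 31900) 1 (.leaf 31899))) 3 (.node (.leaf 31901) 1 (.node (.leaf 31902) 1 (.leaf 31904))))) 13 (.node (.node (.node (.leaf 31903) 1 (.node (.leaf 31905) 1 (.leaf 31906))) 3 (.node (.leaf 31907) 7 (.node (.leaf 59231) 1 (.leaf 31916)))) 128 (.node (.node (.leaf 58628) 3 (.node (.leaf 32036) 1 (.leaf 32035))) 6 (.node (.leaf 32038) 1 (.node (.leaf 32039) 4 (.leaf 32043)))))) 153 (.node (.node (.node (.node (.leaf 32044) 96 (.node (.leaf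 32140) 2 (.leaf 32877))) 228 (.node (.leaf 32787) 7 (.node (.leaf 131939) 127 (.leaf 31676)))) 365 (.node (.node (.leaf 32409) 1 (.node (.leaf 32411) 1 (.leaf 32410))) 3 (.node (.leaf 59468) 94 (.node (.leaf 32507) 1 (.leaf 32506))))) 499 (.node (.node (.node (.leaf 92972) 12 (.node (.leaf 32556) 90 (.leaf 197614))) 132 (.node (.leaf 33372) 2 (.node (.leaf 32678) 1 (.leaf 32677)))) 153 (.node (.node (.leaf 32697) 88 (.node (.leaf 33245) 1 (.leaf 32786))) 90 (.node (.leaf 32785) 1 (.node (.leaf 32272) 1 (.leaf 32788))))))))) 13882 (.node (.node (.node (.node (.node (.node (.node (.leaf 32798) 78 (.leaf 33369)) 79 (.node (.leaf 32142) 49 (.node (.leaf 193839) 101 (.leaf 33374)))) 230 (.node (.node (.leaf 33028) 1 (.node (.leaf 33029) 116 (.leaf 33145))) 118 (.node (.leaf 34297) 2 (.node (.leaf 33148) 6 (.leaf 190551))))) 369 (.node (.node (.node (.leaf 33167) 76 (.node (.leaf 34511) 3 (.leaf 33246))) 195 (.node (.leaf 33362) 1 (.node (.leaf 33363) 2 (.leaf 34095)))) 201 (.node (.node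 (.leaf 33368) 1 (.node (.leaf 32876) 2 (.leaf 33371))) 6 (.node (.leaf 33027) 1 (.node (.leaf 55158) 1 (.leaf 35720)))))) 579 (.node (.node (.node (.node (.leaf 33378) 178 (.leaf 33919)) 180 (.node (.leaf 33719) 162 (.node (.leaf 33557) 24 (.leaf 33742)))) 384 (.node (.node (.leaf 33762) 49 (.node (.leaf 33810) 45 (.leaf 33854))) 96 (.node (.leaf 33857) 3 (.node (.leaf 31889) 52 (.leaf 32034))))) 536 (.node (.node (.node (.leaf 31683) 1 (.node (.leaf 34106) 1 (.leaf 34107))) 25 (.node (.leaf 215207) 31 (.node (.leaf 33970) 1 (.leaf 33969)))) 85 (.node (.node (.leaf 33999) 97 (.node (.leaf 33365) 4 (.leaf 58043))) 103 (.node (.leaf 34303) 1 (.node (.leaf 34304) 4 (.leaf 33914))))))) 1309 (.node (.node (.node (.node (.node (.leaf 33915) 2 (.leaf 84563)) 6 (.node (.leaf 34113) 34 (.node (.leaf 33953) 5 (.leaf 57398)))) 190 (.node (.node (.leaf 33146) 4 (.node (.leaf 57769) 2 (.leaf 34101))) 7 (.node (.leaf 34102) 7 (.node (.leaf 34311) 4 (.leaf 87210))))) 242 (.node (.node (.node (.leaf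 57268) 88 (.node (.leaf 34438) 74 (.leaf 33243))) 164 (.node (.leaf 34514) 1 (.node (.leaf 34513) 149 (.leaf 59396)))) 318 (.node (.node (.leaf 34666) 13 (.node (.leaf 196106) 59 (.leaf 34740))) 135 (.node (.leaf 176693) 22 (.node (.leaf 34823) 261 (.leaf 35086)))))) 1001 (.node (.node (.node (.node (.leaf 182722) 66 (.node (.leaf 35173) 75 (.leaf 35249))) 177 (.node (.leaf 259691) 180 (.node (.leaf 132947) 4 (.leaf 47963)))) 441 (.node (.node (.leaf 86271) 172 (.node (.leaf 33141) 172 (.leaf 151979))) 509 (.node (.leaf 36059) 185 (.node (.leaf 36244) 35 (.leaf 34331))))) 1217 (.node (.node (.node (.leaf 36253) 116 (.node (.leaf 107206) 10 (.leaf 36452))) 127 (.node (.leaf 36451) 19 (.node (.leaf 187794) 10 (.leaf 36481)))) 179 (.node (.node (.leaf 36568) 88 (.node (.leaf 36593) 19 (.leaf 36612))) 218 (.node (.leaf 36723) 63 (.node (.leaf 36786) 1 (.leaf 36785)))))))) 3989 (.node (.node (.node (.node (.node (.node (.leaf 219228) 14 (.leaf 36800)) 41 (.node (.leaf 35909) 17 (.node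 (.leaf 37102) 54 (.leaf 255089)))) 113 (.node (.node (.leaf 156760) 52 (.node (.leaf 36951) 25 (.leaf 36976))) 190 (.node (.leaf 254579) 53 (.node (.leaf 214657) 3 (.leaf 98859))))) 427 (.node (.node (.node (.leaf 110009) 13 (.node (.leaf 197344) 1 (.leaf 37229))) 117 (.node (.leaf 164721) 66 (.node (.leaf 288021) 41 (.leaf 37437)))) 362 (.node (.node (.leaf 83569) 28 (.node (.leaf 105563) 182 (.leaf 90701))) 250 (.node (.leaf 37584) 84 (.node (.leaf 37911) 250 (.leaf 38161)))))) 1374 (.node (.node (.node (.node (.leaf 38160) 123 (.node (.leaf 38284) 4 (.leaf 91605))) 149 (.node (.leaf 106961) 239 (.node (.leaf 38550) 270 (.leaf 38818)))) 731 (.node (.node (.leaf 38891) 7 (.node (.leaf 131637) 5 (.leaf 129629))) 123 (.node (.leaf 39014) 10 (.node (.leaf 39026) 310 (.leaf 127204))))) 1256 (.node (.node (.node (.leaf 39416) 8 (.node (.leaf 39425) 41 (.leaf 228015))) 178 (.node (.leaf 62532) 174 (.node (.leaf 31702) 123 (.leaf 170737)))) 616 (.node (.node (.leaf 40067) 34 (.node (.leaf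 40033) 18 (.leaf 228069))) 165 (.node (.leaf 237347) 269 (.node (.leaf 224550) 50 (.leaf 40516))))))) 3931 (.node (.node (.node (.node (.node (.leaf 230369) 39 (.leaf 171830)) 57 (.node (.leaf 40776) 719 (.node (.leaf 41493) 90 (.leaf 175084)))) 990 (.node (.node (.leaf 249006) 60 (.node (.leaf 301902) 115 (.leaf 41882))) 250 (.node (.leaf 42049) 69 (.node (.leaf 42255) 92 (.leaf 211467))))) 1417 (.node (.node (.node (.leaf 248905) 211 (.node (.leaf 133461) 415 (.leaf 98215))) 663 (.node (.leaf 42514) 254 (.node (.leaf 57965) 13 (.leaf 43769)))) 994 (.node (.node (.leaf 253072) 45 (.node (.leaf 131473) 61 (.leaf 300245))) 123 (.node (.leaf 43251) 45 (.node (.leaf 43298) 565 (.leaf 285635)))))) 3158 (.node (.node (.node (.node (.leaf 140998) 19 (.node (.leaf 43895) 270 (.leaf 44164))) 377 (.node (.leaf 44253) 231 (.node (.leaf 281957) 46 (.leaf 137978)))) 1216 (.node (.node (.leaf 178660) 326 (.node (.leaf 45419) 215 (.leaf 45633))) 542 (.node (.leaf 45634) 3 (.node (.leaf 88249)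 12 (.leaf 116589))))) 2017 (.node (.node (.node (.leaf 125909) 94 (.node (.leaf 45988) 94 (.leaf 245818))) 419 (.node (.leaf 46311) 48 (.node (.leaf 262581) 452 (.leaf 219701)))) 1126 (.node (.node (.leaf 47018) 218 (.node (.leaf 31730) 28 (.leaf 184898))) 260 (.node (.leaf 64685) 163 (.node (.leaf 47443) 278 (.leaf 66896))))))))))) 47745 (.node (.node (.node (.node (.node (.node (.node (.node (.node (.leaf 52686) 7 (.leaf 255559)) 161 (.node (.leaf 155392) 38 (.node (.leaf 277485) 288 (.leaf 38030)))) 547 (.node (.node (.leaf 48291) 205 (.node (.leaf 247145) 16 (.leaf 180754))) 245 (.node (.leaf 125723) 10 (.node (.leaf 182394) 128 (.leaf 48674))))) 972 (.node (.node (.node (.leaf 66213) 84 (.node (.leaf 44102) 320 (.leaf 91394))) 796 (.node (.leaf 49513) 193 (.node (.leaf 254837) 292 (.leaf 208104)))) 1314 (.node (.node (.leaf 50030) 1 (.node (.leaf 50032) 290 (.leaf 50323))) 292 (.node (.leaf 50322) 44 (.node (.leaf 57403) 1 (.leaf 50369)))))) 2625 (.node (.node (.node (.node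 (.leaf 57549) 5 (.leaf 50375)) 58 (.node (.leaf 129487) 181 (.node (.leaf 139568) 103 (.leaf 50712)))) 566 (.node (.node (.leaf 134900) 85 (.node (.leaf 147801) 42 (.leaf 196625))) 138 (.node (.leaf 234827) 194 (.node (.leaf 51269) 1 (.leaf 51268))))) 1045 (.node (.node (.node (.leaf 51416) 50 (.node (.leaf 51465) 56 (.leaf 51520))) 107 (.node (.leaf 139143) 277 (.node (.leaf 108214) 149 (.leaf 254057)))) 576 (.node (.node (.leaf 187668) 8 (.node (.leaf 270960) 35 (.leaf 92341))) 84 (.node (.leaf 164932) 51 (.node (.leaf 52126) 35 (.leaf 196731))))))) 4654 (.node (.node (.node (.node (.node (.leaf 52400) 22 (.leaf 115859)) 23 (.node (.leaf 52423) 1 (.node (.leaf 52422) 166 (.leaf 52649)))) 209 (.node (.node (.leaf 213741) 6 (.node (.leaf 52615) 35 (.leaf 52589))) 97 (.node (.leaf 52704) 80 (.node (.leaf 52784) 56 (.leaf 53043))))) 485 (.node (.node (.node (.leaf 83693) 159 (.node (.leaf 52841) 39 (.leaf 142604))) 202 (.node (.leaf 53086) 290 (.node (.leaf 193029) 124 (.leaf 53501))))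 619 (.node (.node (.leaf 53504) 65 (.node (.leaf 53045) 30 (.leaf 146653))) 165 (.node (.leaf 68923) 37 (.node (.leaf 53706) 53 (.leaf 220546)))))) 1360 (.node (.node (.node (.node (.leaf 53760) 171 (.node (.leaf 33870) 12 (.leaf 89003))) 184 (.node (.leaf 53944) 63 (.node (.leaf 251487) 11 (.leaf 140136)))) 326 (.node (.node (.leaf 54086) 4 (.node (.leaf 155849) 36 (.leaf 109383))) 41 (.node (.leaf 32770) 11 (.node (.leaf 306604) 124 (.leaf 54406))))) 628 (.node (.node (.node (.leaf 88996) 16 (.node (.leaf 54410) 1 (.leaf 54411))) 19 (.node (.leaf 54261) 1 (.node (.leaf 54407) 3 (.leaf 54403)))) 24 (.node (.node (.leaf 54404) 4 (.node (.leaf 57404) 9 (.leaf 54425))) 47 (.node (.leaf 193441) 74 (.node (.leaf 54533) 21 (.leaf 54554)))))))) 6810 (.node (.node (.node (.node (.node (.node (.leaf 54555) 80 (.leaf 54634)) 312 (.node (.leaf 54867) 2 (.node (.leaf 202096) 145 (.leaf 55014)))) 464 (.node (.node (.leaf 231314) 103 (.node (.leaf 201912) 27 (.leaf 55149))) 131 (.node (.leaf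 55150) 1 (.node (.leaf 57401) 1 (.leaf 86145))))) 620 (.node (.node (.node (.leaf 55174) 54 (.node (.leaf 55230) 1 (.leaf 55229))) 64 (.node (.leaf 263310) 18 (.node (.leaf 32139) 4 (.leaf 34310)))) 169 (.node (.node (.leaf 55345) 12 (.node (.leaf 80972) 28 (.leaf 55384))) 61 (.node (.leaf 154606) 18 (.node (.leaf 150886) 119 (.leaf 55543)))))) 1081 (.node (.node (.node (.node (.leaf 84217) 2 (.leaf 130982)) 3 (.node (.leaf 55640) 112 (.node (.leaf 54505) 3 (.leaf 51613)))) 169 (.node (.node (.leaf 267354) 20 (.node (.leaf 219066) 126 (.leaf 55951))) 147 (.node (.leaf 55952) 123 (.node (.leaf 55949) 2 (.leaf 85457))))) 621 (.node (.node (.node (.leaf 87380) 1 (.node (.leaf 56259) 86 (.leaf 56345))) 88 (.node (.leaf 56344) 17 (.node (.leaf 94869) 5 (.leaf 56366)))) 134 (.node (.node (.leaf 56391) 5 (.node (.leaf 61015) 107 (.leaf 234879))) 299 (.node (.leaf 56691) 1 (.node (.leaf 56690) 51 (.leaf 56742))))))) 2254 (.node (.node (.node (.node (.node (.leaf 34665) 24 (.leaf 202801))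 31 (.node (.leaf 149032) 44 (.node (.leaf 33760) 3 (.leaf 57029)))) 81 (.node (.node (.leaf 56890) 26 (.node (.leaf 56917) 6 (.leaf 300096))) 143 (.node (.leaf 85568) 97 (.node (.leaf 57130) 142 (.leaf 57272))))) 464 (.node (.node (.node (.leaf 57273) 1 (.node (.leaf 57274) 20 (.leaf 57293))) 100 (.node (.leaf 57373) 28 (.node (.leaf 55151) 2 (.leaf 50367)))) 131 (.node (.node (.leaf 54415) 2 (.node (.leaf 57406) 7 (.leaf 31920))) 142 (.node (.leaf 57405) 3 (.node (.leaf 50370) 108 (.leaf 69396)))))) 899 (.node (.node (.node (.node (.leaf 254849) 61 (.node (.leaf 34301) 129 (.leaf 57898))) 199 (.node (.leaf 53061) 58 (.node (.leaf 43052) 8 (.leaf 57972)))) 319 (.node (.node (.leaf 109372) 16 (.node (.leaf 34099) 6 (.leaf 53565))) 23 (.node (.leaf 58051) 1 (.node (.leaf 58050) 7 (.leaf 88389))))) 461 (.node (.node (.node (.leaf 89159) 17 (.node (.leaf 58187) 122 (.leaf 43514))) 309 (.node (.leaf 58479) 1 (.node (.leaf 58478) 5 (.leaf 58485)))) 340 (.node (.node (.leaf 58509) 66 (.node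 (.leaf 58576) 53 (.leaf 32032))) 177 (.node (.leaf 34752) 22 (.node (.leaf 58707) 10 (.leaf 84453))))))))) 10974 (.node (.node (.node (.node (.node (.node (.node (.leaf 58720) 31 (.leaf 58749)) 35 (.node (.leaf 58753) 7 (.node (.leaf 129494) 28 (.leaf 96957)))) 205 (.node (.node (.leaf 59077) 2 (.node (.leaf 58926) 26 (.leaf 87120))) 32 (.node (.leaf 58955) 120 (.node (.leaf 59229) 156 (.leaf 87384))))) 519 (.node (.node (.node (.leaf 59385) 46 (.node (.leaf 60267) 30 (.leaf 58685))) 143 (.node (.leaf 59420) 2 (.node (.leaf 53566) 3 (.leaf 60227)))) 174 (.node (.node (.leaf 59083) 56 (.node (.leaf 32412) 169 (.leaf 261535))) 246 (.node (.leaf 59870) 9 (.node (.leaf 32413) 22 (.leaf 59688)))))) 1148 (.node (.node (.node (.node (.leaf 60047) 1 (.leaf 87789)) 9 (.node (.leaf 53571) 78 (.node (.leaf 289047) 27 (.leaf 119592)))) 117 (.node (.node (.leaf 81463) 240 (.node (.leaf 60386) 18 (.leaf 60242))) 277 (.node (.leaf 88395) 102 (.node (.leaf 60362) 57 (.leaf 33722))))) 605 (.node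 (.node (.node (.leaf 53780) 61 (.node (.leaf 231925) 44 (.leaf 299698))) 231 (.node (.leaf 60702) 6 (.node (.leaf 60710) 34 (.leaf 98156)))) 523 (.node (.node (.leaf 60995) 1 (.node (.leaf 61416) 7 (.leaf 60825))) 101 (.node (.leaf 61095) 110 (.node (.leaf 173597) 35 (.leaf 41087))))))) 2652 (.node (.node (.node (.node (.node (.leaf 108896) 117 (.leaf 61561)) 166 (.node (.leaf 292632) 21 (.node (.leaf 140449) 50 (.leaf 276320)))) 313 (.node (.node (.leaf 61685) 163 (.node (.leaf 61848) 14 (.leaf 61860))) 259 (.node (.leaf 129308) 172 (.node (.leaf 94086) 113 (.leaf 154289))))) 995 (.node (.node (.node (.leaf 62367) 33 (.node (.leaf 105902) 67 (.leaf 164242))) 122 (.node (.leaf 62487) 260 (.node (.leaf 62747) 96 (.leaf 62843)))) 487 (.node (.node (.leaf 104737) 41 (.node (.leaf 62895) 35 (.leaf 62930))) 98 (.node (.leaf 199038) 193 (.node (.leaf 63143) 7 (.leaf 55970)))))) 1833 (.node (.node (.node (.node (.leaf 63204) 265 (.node (.leaf 108925) 38 (.leaf 63508))) 320 (.node (.leaf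 63525) 39 (.node (.leaf 186508) 101 (.leaf 195972)))) 500 (.node (.node (.leaf 63705) 179 (.node (.leaf 216154) 14 (.leaf 63896))) 666 (.node (.leaf 244956) 78 (.node (.leaf 64447) 114 (.leaf 64563))))) 1379 (.node (.node (.node (.leaf 182053) 9 (.node (.leaf 65122) 152 (.leaf 306882))) 515 (.node (.leaf 65098) 136 (.node (.leaf 65234) 1 (.leaf 170886)))) 774 (.node (.node (.leaf 270056) 60 (.node (.leaf 65416) 98 (.leaf 65514))) 333 (.node (.leaf 68831) 63 (.node (.leaf 65754) 70 (.leaf 170880)))))))) 7230 (.node (.node (.node (.node (.node (.node (.leaf 65950) 248 (.leaf 148398)) 264 (.node (.leaf 48717) 21 (.node (.leaf 66233) 125 (.leaf 83799)))) 465 (.node (.node (.leaf 77958) 114 (.node (.leaf 70038) 41 (.leaf 66568))) 232 (.node (.leaf 264504) 130 (.node (.leaf 66775) 28 (.leaf 209267))))) 1134 (.node (.node (.node (.leaf 103299) 37 (.node (.leaf 182330) 433 (.leaf 67552))) 600 (.node (.leaf 102323) 41 (.node (.leaf 137452) 137 (.leaf 67862)))) 779 (.node (.node (.leaf 67861)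 97 (.node (.leaf 67958) 188 (.leaf 68146))) 337 (.node (.leaf 68200) 145 (.node (.leaf 68345) 1 (.leaf 68344)))))) 2504 (.node (.node (.node (.node (.leaf 189574) 125 (.node (.leaf 303770) 345 (.leaf 53668))) 648 (.node (.leaf 142443) 37 (.node (.leaf 69139) 321 (.leaf 69460)))) 1131 (.node (.node (.leaf 240795) 156 (.node (.leaf 69741) 21 (.leaf 69983))) 258 (.node (.leaf 69841) 197 (.node (.leaf 92293) 91 (.leaf 155645))))) 2058 (.node (.node (.node (.leaf 292417) 213 (.node (.leaf 98302) 24 (.leaf 70749))) 295 (.node (.leaf 86474) 89 (.node (.leaf 70894) 82 (.leaf 123364)))) 504 (.node (.node (.leaf 121266) 27 (.node (.leaf 184383) 72 (.leaf 71115))) 100 (.node (.leaf 71114) 368 (.node (.leaf 71483) 100 (.leaf 71076))))))) 5668 (.node (.node (.node (.node (.node (.leaf 165647) 54 (.leaf 71670)) 182 (.node (.leaf 105974) 94 (.node (.leaf 131660) 16 (.leaf 71908)))) 472 (.node (.node (.leaf 72090) 409 (.node (.leaf 72499) 2 (.leaf 137896))) 1161 (.node (.leaf 219308) 94 (.node (.leaf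 73343) 25 (.leaf 125825))))) 1936 (.node (.node (.node (.leaf 73554) 6 (.node (.leaf 115488) 161 (.leaf 277272))) 253 (.node (.leaf 73805) 162 (.node (.leaf 54347) 20 (.leaf 89468)))) 492 (.node (.node (.leaf 100308) 114 (.node (.leaf 102889) 68 (.leaf 141893))) 316 (.node (.leaf 214591) 155 (.node (.leaf 74517) 44 (.leaf 51223)))))) 3579 (.node (.node (.node (.node (.leaf 95371) 18 (.node (.leaf 205467) 95 (.leaf 124406))) 213 (.node (.leaf 75410) 246 (.node (.leaf 75558) 111 (.leaf 92282)))) 633 (.node (.node (.leaf 63041) 122 (.node (.leaf 138177) 2 (.leaf 148749))) 259 (.node (.leaf 116922) 541 (.node (.leaf 86625) 418 (.leaf 164383))))) 1953 (.node (.node (.node (.leaf 104979) 30 (.node (.leaf 85167) 1 (.leaf 77181))) 41 (.node (.leaf 153316) 98 (.node (.leaf 39232) 6 (.leaf 225361)))) 191 (.node (.node (.leaf 77339) 91 (.node (.leaf 77432) 1 (.leaf 77431))) 126 (.node (.leaf 249930) 76 (.node (.leaf 244343) 35 (.leaf 233549)))))))))) 30060 (.node (.node (.node (.node (.node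 (.node (.node (.node (.leaf 78043) 153 (.leaf 66414)) 403 (.node (.leaf 78209) 1 (.node (.leaf 78208) 102 (.leaf 275794)))) 854 (.node (.node (.leaf 78893) 35 (.node (.leaf 78695) 18 (.leaf 247447))) 105 (.node (.leaf 78765) 32 (.node (.leaf 63509) 43 (.leaf 78597))))) 1179 (.node (.node (.node (.leaf 265244) 306 (.node (.leaf 79289) 11 (.leaf 199029))) 409 (.node (.leaf 184263) 114 (.node (.leaf 229987) 401 (.leaf 131045)))) 1053 (.node (.node (.leaf 79354) 277 (.node (.leaf 80575) 184 (.leaf 57527))) 549 (.node (.leaf 249630) 126 (.node (.leaf 55851) 111 (.leaf 80824)))))) 3024 (.node (.node (.node (.node (.leaf 80829) 59 (.leaf 89706)) 92 (.node (.leaf 80920) 22 (.node (.leaf 80943) 102 (.leaf 182721)))) 341 (.node (.node (.leaf 215316) 98 (.node (.leaf 108264) 48 (.leaf 66103))) 152 (.node (.leaf 261668) 293 (.node (.leaf 103721) 167 (.leaf 260312))))) 988 (.node (.node (.node (.leaf 197520) 19 (.node (.leaf 148784) 10 (.leaf 81998))) 78 (.node (.leaf 104646) 111 (.node (.leaf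 81847) 24 (.leaf 82029)))) 214 (.node (.node (.leaf 288311) 27 (.node (.leaf 149142) 17 (.leaf 82076))) 134 (.node (.leaf 267999) 71 (.node (.leaf 96404) 25 (.leaf 293670))))))) 4772 (.node (.node (.node (.node (.node (.leaf 177864) 251 (.leaf 221416)) 267 (.node (.leaf 82843) 2 (.node (.leaf 87617) 137 (.leaf 255711)))) 407 (.node (.node (.leaf 82985) 27 (.node (.leaf 83010) 1 (.leaf 112449))) 109 (.node (.leaf 104067) 51 (.node (.leaf 89169) 93 (.leaf 127328))))) 680 (.node (.node (.node (.leaf 83256) 7 (.node (.leaf 83263) 27 (.leaf 83291))) 79 (.node (.leaf 85175) 84 (.node (.leaf 175616) 18 (.leaf 36875)))) 373 (.node (.node (.leaf 119657) 57 (.node (.leaf 83688) 9 (.leaf 221337))) 96 (.node (.leaf 128790) 6 (.node (.leaf 83733) 97 (.leaf 83830)))))) 1253 (.node (.node (.node (.node (.leaf 83829) 92 (.node (.leaf 33572) 74 (.leaf 90173))) 182 (.node (.leaf 84011) 71 (.node (.leaf 84082) 209 (.leaf 227103)))) 502 (.node (.node (.leaf 84331) 6 (.node (.leaf 86901) 5 (.leaf 221732)))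 43 (.node (.leaf 223479) 82 (.node (.leaf 84458) 106 (.leaf 34109))))) 736 (.node (.node (.node (.leaf 85777) 94 (.node (.leaf 84562) 1 (.leaf 33911))) 100 (.node (.leaf 84666) 30 (.node (.leaf 84696) 2 (.leaf 84454)))) 147 (.node (.node (.leaf 33169) 5 (.node (.leaf 36274) 9 (.leaf 190207))) 150 (.node (.leaf 84863) 64 (.node (.leaf 224780) 10 (.leaf 192372)))))))) 7156 (.node (.node (.node (.node (.node (.node (.leaf 84961) 2 (.leaf 84958)) 16 (.node (.leaf 84977) 2 (.node (.leaf 84979) 22 (.leaf 63180)))) 154 (.node (.node (.leaf 85115) 18 (.node (.leaf 103000) 38 (.leaf 85172))) 140 (.node (.leaf 53037) 61 (.node (.leaf 246740) 31 (.leaf 85347))))) 387 (.node (.node (.node (.leaf 85348) 18 (.node (.leaf 87942) 66 (.leaf 33825))) 110 (.node (.leaf 53749) 16 (.node (.leaf 85475) 13 (.leaf 206132)))) 339 (.node (.node (.leaf 85688) 4 (.node (.leaf 85691) 61 (.leaf 85753))) 93 (.node (.leaf 85781) 104 (.node (.leaf 85885) 3 (.leaf 85782)))))) 1007 (.node (.node (.node (.node (.leaf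 85967) 138 (.node (.leaf 86105) 41 (.leaf 86148))) 180 (.node (.leaf 86147) 319 (.node (.leaf 164282) 7 (.leaf 70806)))) 545 (.node (.node (.leaf 86514) 332 (.node (.leaf 192159) 15 (.leaf 86859))) 421 (.node (.leaf 86934) 68 (.node (.leaf 87001) 59 (.leaf 111294))))) 1095 (.node (.node (.node (.leaf 56076) 3 (.node (.leaf 87065) 48 (.leaf 197097))) 60 (.node (.leaf 87122) 59 (.node (.leaf 259678) 29 (.leaf 59074)))) 177 (.node (.node (.leaf 172478) 145 (.node (.leaf 34506) 53 (.leaf 87439))) 280 (.node (.leaf 221336) 31 (.node (.leaf 118187) 71 (.leaf 56080))))))) 2824 (.node (.node (.node (.node (.node (.leaf 87812) 2 (.leaf 167696)) 7 (.node (.leaf 231176) 6 (.node (.leaf 87797) 14 (.leaf 87785)))) 110 (.node (.node (.leaf 87896) 15 (.node (.leaf 205563) 32 (.leaf 85366))) 64 (.node (.leaf 240902) 17 (.node (.leaf 87977) 134 (.leaf 88111))))) 347 (.node (.node (.node (.leaf 134954) 124 (.node (.leaf 88256) 23 (.leaf 289681))) 253 (.node (.leaf 268998) 8 (.node (.leaf 87407) 9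 (.leaf 270079)))) 387 (.node (.node (.leaf 88520) 1 (.node (.leaf 88519) 512 (.leaf 69355))) 534 (.node (.leaf 89052) 106 (.node (.leaf 58169) 10 (.leaf 83144)))))) 1418 (.node (.node (.node (.node (.leaf 89203) 181 (.node (.leaf 220581) 20 (.leaf 89244))) 231 (.node (.leaf 254442) 34 (.node (.leaf 73988) 504 (.leaf 89972)))) 815 (.node (.node (.leaf 165963) 29 (.node (.leaf 208514) 50 (.leaf 200715))) 181 (.node (.leaf 85859) 357 (.node (.leaf 90556) 33 (.leaf 90590))))) 1395 (.node (.node (.node (.leaf 90597) 103 (.node (.leaf 37786) 200 (.leaf 90900))) 344 (.node (.leaf 288757) 52 (.node (.leaf 173419) 244 (.leaf 295761)))) 740 (.node (.node (.leaf 258533) 94 (.node (.leaf 91433) 109 (.leaf 94232))) 267 (.node (.leaf 38288) 137 (.node (.leaf 91743) 183 (.leaf 91926))))))))) 14205 (.node (.node (.node (.node (.node (.node (.node (.leaf 101007) 272 (.leaf 75766)) 331 (.node (.leaf 52034) 249 (.node (.leaf 211302) 368 (.leaf 155508)))) 962 (.node (.node (.leaf 32543) 417 (.node (.leaf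 146641) 222 (.leaf 210246))) 718 (.node (.leaf 265259) 210 (.node (.leaf 289300) 88 (.leaf 144126))))) 2361 (.node (.node (.node (.leaf 94143) 169 (.node (.leaf 196090) 214 (.leaf 195539))) 472 (.node (.leaf 118771) 84 (.node (.leaf 94926) 353 (.leaf 95281)))) 1000 (.node (.node (.leaf 75196) 64 (.node (.leaf 53751) 25 (.leaf 95461))) 93 (.node (.leaf 228020) 116 (.node (.leaf 95579) 90 (.leaf 79113)))))) 3765 (.node (.node (.node (.node (.leaf 95775) 8 (.leaf 95784)) 26 (.node (.leaf 254637) 1 (.node (.leaf 122602) 75 (.leaf 124754)))) 221 (.node (.node (.leaf 152596) 51 (.node (.leaf 248480) 139 (.leaf 130197))) 294 (.node (.leaf 96291) 149 (.node (.leaf 96216) 7 (.leaf 96446))))) 771 (.node (.node (.node (.leaf 96547) 155 (.node (.leaf 96861) 41 (.leaf 151054))) 206 (.node (.leaf 114627) 3 (.node (.leaf 36078) 106 (.leaf 96701)))) 683 (.node (.node (.leaf 97230) 122 (.node (.leaf 97788) 18 (.leaf 97370))) 144 (.node (.leaf 185348) 226 (.node (.leaf 97600) 83 (.leaf 262819)))))))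 5891 (.node (.node (.node (.node (.node (.leaf 97902) 76 (.leaf 98159)) 362 (.node (.leaf 98264) 33 (.node (.leaf 98297) 1 (.leaf 98296)))) 405 (.node (.node (.leaf 98305) 3 (.node (.leaf 69845) 46 (.leaf 98397))) 91 (.node (.leaf 98355) 49 (.node (.leaf 98446) 42 (.leaf 98487))))) 646 (.node (.node (.node (.leaf 98548) 170 (.node (.leaf 284426) 468 (.leaf 263139))) 1010 (.node (.leaf 99557) 26 (.node (.leaf 149392) 73 (.leaf 127636)))) 1202 (.node (.node (.leaf 98432) 20 (.node (.leaf 99968) 191 (.leaf 83287))) 219 (.node (.leaf 99769) 242 (.node (.leaf 100209) 94 (.leaf 250449)))))) 2746 (.node (.node (.node (.node (.leaf 77799) 36 (.node (.leaf 52155) 7 (.leaf 194989))) 197 (.node (.leaf 191055) 240 (.node (.leaf 133407) 288 (.leaf 101373)))) 1122 (.node (.node (.leaf 101770) 1 (.node (.leaf 101769) 353 (.leaf 294937))) 553 (.node (.leaf 70768) 123 (.node (.leaf 192017) 33 (.leaf 102479))))) 1832 (.node (.node (.node (.leaf 102478) 52 (.node (.leaf 191795) 77 (.leaf 125906)))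 282 (.node (.leaf 281086) 153 (.node (.leaf 102914) 42 (.leaf 94189)))) 521 (.node (.node (.leaf 85133) 148 (.node (.leaf 103149) 1 (.leaf 103148))) 514 (.node (.leaf 119679) 11 (.node (.leaf 181371) 196 (.leaf 81615)))))))) 11738 (.node (.node (.node (.node (.node (.node (.leaf 128116) 54 (.leaf 103801)) 147 (.node (.leaf 298908) 243 (.node (.leaf 214802) 51 (.leaf 42554)))) 548 (.node (.node (.leaf 305448) 66 (.node (.leaf 83992) 70 (.leaf 104432))) 151 (.node (.leaf 127869) 179 (.node (.leaf 104821) 353 (.leaf 77149))))) 1488 (.node (.node (.node (.leaf 208589) 123 (.node (.leaf 296318) 149 (.leaf 157498))) 482 (.node (.leaf 116889) 13 (.node (.leaf 102334) 308 (.leaf 89037)))) 964 (.node (.node (.leaf 47722) 186 (.node (.leaf 106385) 110 (.leaf 106495))) 391 (.node (.leaf 222348) 65 (.node (.leaf 66029) 221 (.leaf 127344)))))) 3291 (.node (.node (.node (.node (.leaf 107038) 167 (.node (.leaf 36441) 12 (.leaf 107219))) 354 (.node (.leaf 259196) 477 (.node (.leaf 249872) 617 (.leaf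 108487)))) 1778 (.node (.node (.leaf 297447) 35 (.node (.leaf 47737) 157 (.leaf 184613))) 628 (.node (.leaf 109446) 45 (.node (.leaf 109489) 65 (.leaf 164919))))) 2602 (.node (.node (.node (.leaf 88531) 109 (.node (.leaf 296403) 2 (.leaf 109753))) 345 (.node (.leaf 109987) 1 (.node (.leaf 109986) 16 (.leaf 111479)))) 490 (.node (.node (.leaf 110132) 156 (.node (.leaf 110288) 118 (.leaf 110405))) 347 (.node (.leaf 224647) 84 (.node (.leaf 110562) 34 (.leaf 244082))))))) 6944 (.node (.node (.node (.node (.node (.leaf 173206) 115 (.leaf 110807)) 185 (.node (.leaf 110878) 48 (.node (.leaf 57931) 27 (.leaf 73033)))) 559 (.node (.node (.leaf 111252) 1 (.node (.leaf 111251) 43 (.leaf 34293))) 46 (.node (.leaf 111298) 14 (.node (.leaf 256856) 36 (.leaf 33885))))) 700 (.node (.node (.node (.leaf 48133) 81 (.node (.leaf 98493) 27 (.leaf 160434))) 229 (.node (.leaf 58361) 140 (.node (.leaf 255683) 20 (.leaf 111781)))) 511 (.node (.node (.leaf 111768) 153 (.node (.leaf 112056) 145 (.leaf 112201)))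 462 (.node (.leaf 226832) 329 (.node (.leaf 112695) 116 (.leaf 112546)))))) 2260 (.node (.node (.node (.node (.leaf 112953) 1 (.node (.leaf 112952) 5 (.leaf 112958))) 69 (.node (.leaf 174410) 108 (.node (.leaf 113129) 110 (.leaf 113239)))) 384 (.node (.node (.leaf 113336) 1 (.node (.leaf 189469) 2 (.leaf 113339))) 138 (.node (.leaf 113473) 339 (.node (.leaf 114768) 82 (.leaf 57904))))) 989 (.node (.node (.node (.leaf 276929) 171 (.node (.leaf 218656) 34 (.leaf 123646))) 234 (.node (.leaf 114174) 96 (.node (.leaf 234066) 76 (.leaf 114348)))) 439 (.node (.node (.leaf 297641) 20 (.node (.leaf 257085) 192 (.leaf 58133))) 230 (.node (.leaf 118834) 17 (.node (.leaf 96752) 110 (.leaf 114890)))))))))))) 114754 (.node (.node (.node (.node (.node (.node (.node (.node (.node (.node (.leaf 79518) 14 (.leaf 113813)) 166 (.node (.leaf 161996) 301 (.node (.leaf 249468) 367 (.leaf 267534)))) 1077 (.node (.node (.leaf 165184) 28 (.node (.leaf 52421) 31 (.leaf 115889))) 104 (.node (.leaf 152387) 55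 (.node (.leaf 49291) 394 (.leaf 116384))))) 1687 (.node (.node (.node (.leaf 116344) 240 (.node (.leaf 117996) 9 (.leaf 61490))) 399 (.node (.leaf 220481) 129 (.node (.leaf 182042) 347 (.leaf 117315)))) 886 (.node (.node (.leaf 156861) 50 (.node (.leaf 117378) 1 (.leaf 117377))) 76 (.node (.leaf 233832) 593 (.node (.leaf 116681) 173 (.leaf 118170)))))) 3416 (.node (.node (.node (.node (.leaf 118169) 92 (.leaf 134089)) 132 (.node (.leaf 118302) 67 (.node (.leaf 304465) 26 (.leaf 118204)))) 233 (.node (.node (.leaf 118221) 248 (.node (.leaf 195821) 183 (.leaf 114610))) 566 (.node (.leaf 253464) 89 (.node (.leaf 92880) 17 (.leaf 191818))))) 996 (.node (.node (.node (.leaf 119167) 1 (.node (.leaf 119166) 354 (.leaf 304076))) 446 (.node (.leaf 110407) 71 (.node (.leaf 130191) 37 (.leaf 175771)))) 562 (.node (.node (.leaf 132839) 104 (.node (.leaf 209365) 93 (.leaf 256664))) 257 (.node (.leaf 159793) 222 (.node (.leaf 86977) 47 (.leaf 120498))))))) 6063 (.node (.node (.node (.node (.node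 (.leaf 212119) 790 (.leaf 121170)) 1021 (.node (.leaf 121837) 43 (.node (.leaf 121881) 209 (.leaf 56138)))) 1293 (.node (.node (.leaf 193904) 2 (.node (.leaf 260854) 330 (.leaf 47748))) 452 (.node (.leaf 138715) 35 (.node (.leaf 73549) 5 (.leaf 95802))))) 1919 (.node (.node (.node (.leaf 226438) 278 (.node (.leaf 298708) 153 (.leaf 299331))) 623 (.node (.leaf 123358) 56 (.node (.leaf 122618) 133 (.leaf 123357)))) 818 (.node (.node (.leaf 123555) 41 (.node (.leaf 277717) 61 (.leaf 140516))) 251 (.node (.leaf 123806) 208 (.node (.leaf 185017) 47 (.leaf 124060)))))) 3347 (.node (.node (.node (.node (.leaf 267006) 584 (.node (.leaf 212513) 6 (.leaf 95877))) 745 (.node (.leaf 125089) 180 (.node (.leaf 124909) 319 (.leaf 181372)))) 1251 (.node (.node (.leaf 125414) 207 (.node (.leaf 125622) 285 (.leaf 100191))) 530 (.node (.leaf 125944) 704 (.node (.leaf 146127) 523 (.leaf 286760))))) 3079 (.node (.node (.node (.leaf 127244) 369 (.node (.leaf 218290) 24 (.leaf 99656))) 535 (.node (.leaf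 220476) 183 (.node (.leaf 131576) 27 (.leaf 168697)))) 787 (.node (.node (.leaf 178483) 74 (.node (.leaf 128232) 20 (.leaf 128125))) 102 (.node (.leaf 128132) 56 (.node (.leaf 128188) 44 (.leaf 128104)))))))) 13495 (.node (.node (.node (.node (.node (.node (.leaf 128385) 131 (.leaf 128242)) 152 (.node (.leaf 128401) 134 (.node (.leaf 52799) 98 (.leaf 128634)))) 561 (.node (.node (.leaf 211469) 23 (.node (.leaf 140917) 46 (.leaf 133391))) 70 (.node (.leaf 255576) 54 (.node (.leaf 128935) 6 (.leaf 128941))))) 704 (.node (.node (.node (.leaf 128954) 2 (.node (.leaf 128955) 186 (.leaf 189961))) 426 (.node (.leaf 129378) 102 (.node (.leaf 80142) 52 (.leaf 129532)))) 676 (.node (.node (.leaf 38904) 184 (.node (.leaf 155357) 75 (.leaf 138140))) 276 (.node (.leaf 197197) 81 (.node (.leaf 259855) 13 (.leaf 32587)))))) 1763 (.node (.node (.node (.node (.leaf 131131) 12 (.leaf 189829)) 29 (.node (.leaf 86270) 8 (.node (.leaf 62204) 70 (.leaf 218178)))) 132 (.node (.node (.leaf 130144) 3 (.node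 (.leaf 130022) 113 (.leaf 130260))) 130 (.node (.leaf 130275) 1 (.node (.leaf 130274) 70 (.leaf 130344))))) 345 (.node (.node (.node (.leaf 130357) 102 (.node (.leaf 174547) 80 (.leaf 130540))) 229 (.node (.leaf 130585) 87 (.node (.leaf 221381) 115 (.leaf 191752)))) 444 (.node (.node (.leaf 130802) 1 (.node (.leaf 130801) 40 (.leaf 242202))) 86 (.node (.leaf 231181) 149 (.node (.leaf 33140) 10 (.leaf 131047))))))) 2881 (.node (.node (.node (.node (.node (.leaf 187399) 3 (.leaf 131454)) 25 (.node (.leaf 138216) 299 (.node (.leaf 131133) 59 (.leaf 131514)))) 407 (.node (.node (.leaf 131538) 118 (.node (.leaf 60263) 180 (.leaf 131835))) 603 (.node (.leaf 132139) 33 (.node (.leaf 132174) 1 (.leaf 132173))))) 1156 (.node (.node (.node (.leaf 44778) 178 (.node (.leaf 132465) 82 (.leaf 132547))) 447 (.node (.leaf 132733) 122 (.node (.leaf 213834) 91 (.leaf 58975)))) 661 (.node (.node (.leaf 35465) 593 (.node (.leaf 250552) 67 (.leaf 275149))) 887 (.node (.leaf 224592) 241 (.node (.leaf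 134075) 118 (.leaf 229985)))))) 3199 (.node (.node (.node (.node (.leaf 265427) 318 (.node (.leaf 43436) 108 (.leaf 179858))) 585 (.node (.leaf 135051) 2 (.node (.leaf 120581) 38 (.leaf 88132)))) 722 (.node (.node (.leaf 134914) 168 (.node (.leaf 297490) 80 (.leaf 135300))) 561 (.node (.leaf 226527) 60 (.node (.leaf 135832) 71 (.leaf 181129))))) 1564 (.node (.node (.node (.leaf 48222) 23 (.node (.leaf 97236) 606 (.leaf 118914))) 749 (.node (.leaf 136643) 1 (.node (.leaf 136642) 81 (.leaf 136725)))) 1142 (.node (.node (.leaf 137035) 191 (.node (.leaf 148177) 28 (.leaf 231217))) 642 (.node (.leaf 120009) 219 (.node (.leaf 72500) 127 (.leaf 254560))))))))) 23402 (.node (.node (.node (.node (.node (.node (.node (.leaf 138157) 1 (.leaf 138156)) 25 (.node (.leaf 137046) 183 (.node (.leaf 210088) 351 (.leaf 122562)))) 715 (.node (.node (.leaf 138872) 76 (.node (.leaf 198769) 175 (.leaf 304094))) 274 (.node (.leaf 280738) 39 (.node (.leaf 141727) 268 (.leaf 139270))))) 1412 (.node (.node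 (.node (.leaf 50609) 257 (.node (.leaf 194504) 360 (.leaf 275599))) 643 (.node (.leaf 42495) 135 (.node (.leaf 249155) 51 (.leaf 303583)))) 878 (.node (.node (.leaf 142291) 47 (.node (.leaf 155886) 257 (.leaf 140749))) 401 (.node (.leaf 114761) 40 (.node (.leaf 299563) 82 (.leaf 140970)))))) 2815 (.node (.node (.node (.node (.leaf 265262) 27 (.leaf 43876)) 55 (.node (.leaf 139370) 532 (.node (.leaf 282430) 36 (.leaf 141441)))) 756 (.node (.node (.leaf 139184) 142 (.node (.leaf 141870) 24 (.leaf 74227))) 242 (.node (.leaf 176998) 30 (.node (.leaf 141999) 39 (.leaf 230934))))) 1482 (.node (.node (.node (.leaf 142453) 2 (.node (.leaf 137317) 298 (.leaf 104027))) 416 (.node (.leaf 207073) 70 (.node (.leaf 159956) 151 (.leaf 143091)))) 775 (.node (.node (.leaf 244394) 13 (.node (.leaf 219704) 23 (.leaf 143263))) 500 (.node (.leaf 217620) 82 (.node (.leaf 292326) 346 (.leaf 144155))))))) 6034 (.node (.node (.node (.node (.node (.leaf 148440) 75 (.leaf 281619)) 433 (.node (.leaf 150287)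 591 (.node (.leaf 226936) 46 (.leaf 240945)))) 1403 (.node (.node (.leaf 220719) 469 (.node (.leaf 239726) 45 (.leaf 213665))) 653 (.node (.leaf 230507) 46 (.node (.leaf 157543) 299 (.leaf 159814))))) 2806 (.node (.node (.node (.leaf 146997) 37 (.node (.leaf 147034) 97 (.leaf 45153))) 155 (.node (.leaf 151283) 39 (.node (.leaf 203142) 751 (.leaf 147779)))) 1402 (.node (.node (.leaf 66197) 50 (.node (.leaf 175520) 136 (.leaf 148584))) 196 (.node (.leaf 36420) 71 (.node (.leaf 244232) 142 (.leaf 174070)))))) 4831 (.node (.node (.node (.node (.leaf 69434) 121 (.node (.leaf 82058) 9 (.leaf 152997))) 133 (.node (.leaf 130978) 77 (.node (.leaf 201418) 61 (.leaf 118027)))) 307 (.node (.node (.leaf 149329) 79 (.node (.leaf 149406) 37 (.leaf 284582))) 165 (.node (.leaf 149492) 75 (.node (.leaf 149569) 1 (.leaf 149568))))) 639 (.node (.node (.node (.leaf 219466) 73 (.node (.leaf 270190) 101 (.leaf 149835))) 175 (.node (.leaf 149834) 297 (.node (.leaf 43285) 206 (.leaf 150338)))) 983 (.node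 (.node (.leaf 275251) 21 (.node (.leaf 150663) 1 (.leaf 78840))) 86 (.node (.leaf 40843) 50 (.node (.leaf 255754) 312 (.leaf 137807)))))))) 13045 (.node (.node (.node (.node (.node (.node (.leaf 220337) 11 (.leaf 166909)) 88 (.node (.leaf 151289) 182 (.node (.leaf 187031) 60 (.leaf 233438)))) 472 (.node (.node (.leaf 151674) 133 (.node (.leaf 294701) 73 (.leaf 239681))) 280 (.node (.leaf 237313) 19 (.node (.leaf 151971) 302 (.leaf 88379))))) 1154 (.node (.node (.node (.leaf 88380) 32 (.node (.leaf 115935) 451 (.leaf 259881))) 718 (.node (.leaf 118550) 107 (.node (.leaf 91824) 64 (.leaf 287455)))) 961 (.node (.node (.leaf 77190) 26 (.node (.leaf 292142) 162 (.leaf 213959))) 319 (.node (.leaf 165924) 47 (.node (.leaf 153682) 99 (.leaf 153782)))))) 2915 (.node (.node (.node (.node (.leaf 300345) 111 (.node (.leaf 229462) 1 (.leaf 55399))) 173 (.node (.leaf 62228) 19 (.node (.leaf 196618) 10 (.leaf 154318)))) 375 (.node (.node (.leaf 93847) 118 (.node (.leaf 43695) 11 (.leaf 154620)))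 137 (.node (.leaf 154627) 108 (.node (.leaf 266348) 6 (.leaf 222867))))) 663 (.node (.node (.node (.leaf 299767) 363 (.node (.leaf 117068) 9 (.leaf 157211))) 613 (.node (.leaf 47906) 119 (.node (.leaf 53757) 82 (.leaf 52827)))) 837 (.node (.node (.leaf 155616) 37 (.node (.leaf 109674) 57 (.leaf 251224))) 270 (.node (.leaf 140493) 95 (.node (.leaf 234770) 208 (.leaf 156051))))))) 5042 (.node (.node (.node (.node (.node (.leaf 67807) 69 (.leaf 155633)) 156 (.node (.leaf 156400) 54 (.node (.leaf 156452) 184 (.leaf 156637)))) 623 (.node (.node (.leaf 166938) 4 (.node (.leaf 156870) 4 (.leaf 147609))) 62 (.node (.leaf 230402) 129 (.node (.leaf 80461) 110 (.leaf 131546))))) 953 (.node (.node (.node (.leaf 298102) 9 (.node (.leaf 99765) 5 (.leaf 155152))) 15 (.node (.leaf 155151) 151 (.node (.leaf 199946) 141 (.leaf 157503)))) 633 (.node (.node (.leaf 157829) 57 (.node (.leaf 85190) 31 (.leaf 157918))) 314 (.node (.leaf 158142) 297 (.node (.leaf 158439) 125 (.leaf 234047)))))) 2605 (.node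 (.node (.node (.node (.leaf 158848) 28 (.node (.leaf 149718) 92 (.leaf 89041))) 331 (.node (.leaf 159178) 33 (.node (.leaf 159213) 136 (.leaf 159349)))) 729 (.node (.node (.leaf 85555) 216 (.node (.leaf 119985) 85 (.leaf 178698))) 340 (.node (.leaf 159918) 39 (.node (.leaf 142939) 169 (.leaf 283691))))) 1304 (.node (.node (.node (.leaf 127579) 23 (.node (.leaf 99151) 234 (.leaf 160408))) 341 (.node (.leaf 284464) 90 (.node (.leaf 257534) 338 (.leaf 160951)))) 871 (.node (.node (.leaf 161024) 5 (.node (.leaf 161028) 321 (.leaf 208226))) 579 (.node (.leaf 219401) 192 (.node (.leaf 161794) 220 (.leaf 161843)))))))))) 47408 (.node (.node (.node (.node (.node (.node (.node (.node (.leaf 176520) 16 (.leaf 230868)) 109 (.node (.leaf 97368) 171 (.node (.leaf 228370) 72 (.leaf 162515)))) 465 (.node (.node (.leaf 296812) 446 (.node (.leaf 284246) 1 (.leaf 115925))) 497 (.node (.leaf 163125) 89 (.node (.leaf 166945) 247 (.leaf 185977))))) 1484 (.node (.node (.node (.leaf 207851) 597 (.node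 (.leaf 274350) 16 (.leaf 164119))) 664 (.node (.leaf 164309) 26 (.node (.leaf 273481) 324 (.leaf 164661)))) 1203 (.node (.node (.leaf 164849) 199 (.node (.leaf 88966) 167 (.leaf 262742))) 399 (.node (.leaf 165870) 136 (.node (.leaf 250960) 236 (.leaf 165792)))))) 3485 (.node (.node (.node (.node (.leaf 71617) 70 (.leaf 120511)) 145 (.node (.leaf 165620) 132 (.node (.leaf 153635) 212 (.leaf 174270)))) 612 (.node (.node (.leaf 134915) 359 (.node (.leaf 168192) 31 (.leaf 166649))) 401 (.node (.leaf 166660) 41 (.node (.leaf 166702) 1 (.leaf 166701))))) 1102 (.node (.node (.node (.leaf 166750) 3 (.node (.leaf 205950) 258 (.leaf 110975))) 550 (.node (.leaf 167299) 177 (.node (.leaf 256554) 80 (.leaf 167556)))) 960 (.node (.node (.leaf 251982) 357 (.node (.leaf 110999) 128 (.leaf 278197))) 586 (.node (.leaf 168294) 48 (.node (.leaf 85730) 106 (.leaf 286531))))))) 6291 (.node (.node (.node (.node (.node (.leaf 168452) 55 (.leaf 168651)) 76 (.node (.leaf 278573) 3 (.node (.leaf 168532) 119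 (.leaf 168508)))) 299 (.node (.node (.leaf 113546) 88 (.node (.leaf 76806) 180 (.leaf 169019))) 362 (.node (.leaf 224252) 43 (.node (.leaf 238342) 271 (.leaf 169577))))) 1075 (.node (.node (.node (.leaf 119752) 11 (.node (.leaf 43777) 144 (.leaf 169683))) 501 (.node (.leaf 248077) 117 (.node (.leaf 147674) 253 (.leaf 195815)))) 934 (.node (.node (.leaf 154059) 44 (.node (.leaf 297120) 174 (.leaf 95639))) 231 (.node (.leaf 170694) 109 (.node (.leaf 170803) 24 (.leaf 170826)))))) 2643 (.node (.node (.node (.node (.leaf 263689) 58 (.node (.leaf 224649) 76 (.leaf 171378))) 167 (.node (.leaf 141983) 26 (.node (.leaf 270405) 115 (.leaf 171500)))) 344 (.node (.node (.leaf 293308) 162 (.node (.leaf 171602) 96 (.leaf 171699))) 259 (.node (.leaf 171698) 214 (.node (.leaf 171914) 16 (.leaf 261456))))) 914 (.node (.node (.node (.leaf 172009) 95 (.node (.leaf 190135) 93 (.leaf 151349))) 195 (.node (.leaf 65822) 171 (.node (.leaf 172375) 16 (.leaf 104365)))) 468 (.node (.node (.leaf 87240) 183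 (.node (.leaf 224424) 97 (.leaf 172759))) 373 (.node (.leaf 104247) 45 (.node (.leaf 172897) 67 (.leaf 172962)))))))) 10834 (.node (.node (.node (.node (.node (.node (.leaf 260622) 3 (.leaf 172999)) 97 (.node (.leaf 173093) 203 (.node (.leaf 299746) 128 (.leaf 188749)))) 455 (.node (.node (.leaf 173452) 143 (.node (.leaf 119874) 474 (.leaf 73900))) 646 (.node (.leaf 174098) 21 (.node (.leaf 225937) 40 (.leaf 253564))))) 1265 (.node (.node (.node (.leaf 109776) 18 (.node (.leaf 41849) 59 (.leaf 61737))) 163 (.node (.leaf 249144) 2 (.node (.leaf 277654) 121 (.leaf 130459)))) 318 (.node (.node (.leaf 174578) 38 (.node (.leaf 187632) 16 (.leaf 267705))) 71 (.node (.leaf 244446) 210 (.node (.leaf 140892) 308 (.leaf 128726)))))) 2236 (.node (.node (.node (.node (.leaf 255260) 122 (.node (.leaf 175355) 163 (.leaf 216490))) 288 (.node (.leaf 148448) 84 (.node (.leaf 256907) 10 (.leaf 96764)))) 384 (.node (.node (.leaf 83420) 16 (.node (.leaf 70958) 140 (.leaf 304870))) 334 (.node (.leaf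 175951) 242 (.node (.leaf 176349) 66 (.leaf 166032))))) 1117 (.node (.node (.node (.leaf 176192) 3 (.node (.leaf 130751) 46 (.leaf 176397))) 315 (.node (.leaf 60009) 28 (.node (.leaf 148222) 36 (.leaf 243908)))) 459 (.node (.node (.leaf 176809) 1 (.node (.leaf 176808) 91 (.leaf 228747))) 124 (.node (.leaf 123814) 369 (.node (.leaf 290951) 136 (.leaf 177438))))))) 4777 (.node (.node (.node (.node (.node (.leaf 177774) 55 (.leaf 96454)) 125 (.node (.leaf 218152) 31 (.node (.leaf 61910) 107 (.leaf 159779)))) 317 (.node (.node (.leaf 178204) 35 (.node (.leaf 128117) 79 (.leaf 178090))) 322 (.node (.leaf 259568) 71 (.node (.leaf 128030) 316 (.leaf 102266))))) 1163 (.node (.node (.node (.leaf 94774) 197 (.node (.leaf 294625) 298 (.leaf 218303))) 555 (.node (.leaf 267437) 32 (.node (.leaf 232187) 83 (.leaf 179606)))) 1033 (.node (.node (.leaf 142419) 129 (.node (.leaf 180097) 359 (.leaf 214667))) 762 (.node (.leaf 180730) 212 (.node (.leaf 194697) 4 (.leaf 180947)))))) 3175 (.node (.node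 (.node (.node (.leaf 118849) 26 (.node (.leaf 283399) 96 (.leaf 181071))) 601 (.node (.leaf 280261) 280 (.node (.leaf 230819) 27 (.leaf 104993)))) 1130 (.node (.node (.leaf 264437) 81 (.node (.leaf 136484) 235 (.leaf 48547))) 643 (.node (.leaf 81045) 304 (.node (.leaf 183024) 283 (.leaf 253760))))) 2941 (.node (.node (.node (.leaf 266222) 14 (.node (.leaf 183904) 1 (.leaf 183903))) 242 (.node (.leaf 202198) 128 (.node (.leaf 212354) 4 (.leaf 79393)))) 557 (.node (.node (.leaf 288826) 123 (.node (.leaf 184570) 1 (.leaf 184569))) 166 (.node (.leaf 108762) 1 (.node (.leaf 109009) 77 (.leaf 184691))))))))) 22545 (.node (.node (.node (.node (.node (.node (.node (.leaf 296653) 16 (.leaf 266755)) 161 (.node (.leaf 123635) 134 (.node (.leaf 146911) 264 (.leaf 185141)))) 703 (.node (.node (.leaf 185411) 1 (.node (.leaf 185410) 20 (.leaf 188939))) 348 (.node (.leaf 185759) 288 (.node (.leaf 186046) 84 (.leaf 186131))))) 1454 (.node (.node (.node (.leaf 287603) 16 (.node (.leaf 300140) 59 (.leaf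 186237))) 76 (.node (.leaf 186236) 226 (.node (.leaf 277125) 14 (.leaf 186478)))) 415 (.node (.node (.leaf 186438) 234 (.node (.leaf 90404) 17 (.leaf 267033))) 266 (.node (.leaf 208048) 80 (.node (.leaf 108354) 214 (.leaf 109906)))))) 2668 (.node (.node (.node (.node (.leaf 68266) 22 (.leaf 187398)) 134 (.node (.leaf 187509) 36 (.node (.leaf 224694) 10 (.leaf 187555)))) 257 (.node (.node (.leaf 174617) 36 (.node (.leaf 51991) 151 (.leaf 291323))) 299 (.node (.leaf 268807) 145 (.node (.leaf 167062) 40 (.leaf 156023))))) 990 (.node (.node (.node (.leaf 295854) 41 (.node (.leaf 188406) 167 (.leaf 258095))) 419 (.node (.leaf 113453) 138 (.node (.leaf 188921) 17 (.leaf 185431)))) 811 (.node (.node (.leaf 189175) 18 (.node (.leaf 189194) 4 (.leaf 189199))) 23 (.node (.leaf 189198) 55 (.node (.leaf 189253) 65 (.leaf 223232))))))) 4694 (.node (.node (.node (.node (.node (.leaf 189402) 2 (.leaf 189403)) 68 (.node (.leaf 113337) 142 (.node (.leaf 189612) 103 (.leaf 189715)))) 438 (.node (.node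 (.leaf 33237) 135 (.node (.leaf 189973) 12 (.leaf 117828))) 347 (.node (.leaf 266632) 21 (.node (.leaf 84727) 20 (.leaf 186388))))) 913 (.node (.node (.node (.leaf 84983) 178 (.node (.leaf 283545) 59 (.leaf 33154))) 294 (.node (.leaf 246948) 106 (.node (.leaf 240431) 23 (.leaf 70283)))) 502 (.node (.node (.leaf 190817) 1 (.node (.leaf 190816) 10 (.leaf 190828))) 361 (.node (.leaf 191178) 1 (.node (.leaf 191177) 7 (.leaf 191186)))))) 1840 (.node (.node (.node (.node (.leaf 191242) 210 (.node (.leaf 191451) 31 (.leaf 191481))) 516 (.node (.leaf 191756) 10 (.node (.leaf 117065) 115 (.leaf 191755)))) 674 (.node (.node (.leaf 154388) 102 (.node (.leaf 102445) 68 (.leaf 258271))) 305 (.node (.leaf 302677) 21 (.node (.leaf 284444) 97 (.leaf 194640))))) 1100 (.node (.node (.node (.leaf 192340) 187 (.node (.leaf 260638) 302 (.leaf 192829))) 688 (.node (.leaf 53376) 500 (.node (.leaf 193528) 275 (.leaf 45562)))) 1498 (.node (.node (.leaf 32926) 100 (.node (.leaf 145456) 147 (.leaf 128025)))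 464 (.node (.leaf 225574) 16 (.node (.leaf 269480) 5 (.leaf 75929)))))))) 9754 (.node (.node (.node (.node (.node (.node (.leaf 194460) 79 (.leaf 194541)) 183 (.node (.leaf 150223) 120 (.node (.leaf 194763) 181 (.leaf 194946)))) 517 (.node (.node (.leaf 114835) 169 (.node (.leaf 261802) 233 (.leaf 182898))) 458 (.node (.leaf 195435) 193 (.node (.leaf 305709) 13 (.leaf 195641))))) 1272 (.node (.node (.node (.leaf 219783) 85 (.node (.leaf 243246) 284 (.leaf 196102))) 606 (.node (.leaf 213608) 133 (.node (.leaf 196472) 76 (.leaf 284429)))) 908 (.node (.node (.leaf 112107) 74 (.node (.leaf 293357) 100 (.leaf 220571))) 186 (.node (.leaf 196827) 108 (.node (.leaf 172828) 136 (.leaf 197071)))))) 2614 (.node (.node (.node (.node (.leaf 173219) 29 (.node (.leaf 280050) 185 (.leaf 190550))) 219 (.node (.leaf 187582) 226 (.node (.leaf 81817) 345 (.leaf 53535)))) 985 (.node (.node (.leaf 273409) 49 (.node (.leaf 237091) 198 (.leaf 104659))) 385 (.node (.leaf 58212) 324 (.node (.leaf 138947)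 179 (.leaf 249600))))) 2061 (.node (.node (.node (.leaf 199135) 417 (.node (.leaf 199553) 304 (.leaf 210463))) 722 (.node (.leaf 260456) 50 (.node (.leaf 145549) 30 (.leaf 287367)))) 906 (.node (.node (.leaf 303488) 77 (.node (.leaf 215705) 305 (.leaf 200424))) 466 (.node (.leaf 228702) 46 (.node (.leaf 192517) 233 (.leaf 220263))))))) 6595 (.node (.node (.node (.node (.node (.leaf 201056) 24 (.leaf 33544)) 55 (.node (.leaf 201112) 137 (.node (.leaf 201248) 175 (.leaf 237712)))) 369 (.node (.node (.leaf 201426) 1 (.node (.leaf 201425) 28 (.leaf 195958))) 45 (.node (.leaf 201470) 268 (.node (.leaf 194660) 145 (.leaf 80256))))) 903 (.node (.node (.node (.leaf 285788) 39 (.node (.leaf 293370) 78 (.leaf 270242))) 386 (.node (.leaf 33580) 178 (.node (.leaf 84982) 198 (.leaf 120042)))) 906 (.node (.node (.leaf 144414) 75 (.node (.leaf 34987) 15 (.leaf 202954))) 258 (.node (.leaf 203124) 254 (.node (.leaf 252491) 149 (.leaf 203526)))))) 2683 (.node (.node (.node (.node (.leaf 203738) 335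 (.node (.leaf 204075) 1 (.leaf 204074))) 374 (.node (.leaf 204012) 61 (.node (.leaf 255527) 17 (.leaf 57381)))) 463 (.node (.node (.leaf 109288) 47 (.node (.leaf 193803) 71 (.leaf 79591))) 762 (.node (.leaf 246742) 218 (.node (.leaf 206648) 164 (.leaf 205345))))) 1708 (.node (.node (.node (.leaf 213310) 79 (.node (.leaf 205527) 1 (.leaf 205526))) 412 (.node (.leaf 112583) 398 (.node (.leaf 53305) 188 (.leaf 206398)))) 1090 (.node (.node (.leaf 116030) 144 (.node (.leaf 183316) 212 (.leaf 215702))) 639 (.node (.leaf 118235) 231 (.node (.leaf 207407) 38 (.leaf 77677))))))))))) 92979 (.node (.node (.node (.node (.node (.node (.node (.node (.node (.leaf 119893) 118 (.leaf 163646)) 123 (.node (.leaf 170959) 10 (.node (.leaf 193919) 107 (.leaf 207973)))) 302 (.node (.node (.leaf 208036) 61 (.node (.leaf 208095) 8 (.leaf 49998))) 329 (.node (.leaf 208363) 453 (.node (.leaf 217452) 249 (.leaf 296791))))) 1563 (.node (.node (.node (.leaf 220064) 221 (.node (.leaf 244648) 61 (.leaf 209577)))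 452 (.node (.leaf 209748) 272 (.node (.leaf 270124) 322 (.leaf 210343)))) 1416 (.node (.node (.leaf 210712) 397 (.node (.leaf 211109) 307 (.leaf 81379))) 789 (.node (.leaf 211501) 69 (.node (.leaf 287757) 132 (.leaf 236393)))))) 4007 (.node (.node (.node (.node (.leaf 211739) 3 (.leaf 211744)) 4 (.node (.leaf 211743) 86 (.node (.leaf 211830) 308 (.leaf 37410)))) 719 (.node (.node (.leaf 102358) 188 (.node (.leaf 212648) 223 (.leaf 265986))) 700 (.node (.leaf 306042) 85 (.node (.leaf 277882) 56 (.leaf 292810))))) 1570 (.node (.node (.node (.leaf 205447) 38 (.node (.leaf 213347) 220 (.leaf 100998))) 355 (.node (.leaf 146107) 76 (.node (.leaf 52608) 31 (.leaf 213772)))) 505 (.node (.node (.leaf 45886) 19 (.node (.leaf 132855) 28 (.leaf 130438))) 309 (.node (.leaf 36480) 22 (.node (.leaf 289239) 84 (.leaf 220027))))))) 6520 (.node (.node (.node (.node (.node (.leaf 37716) 52 (.leaf 214305)) 89 (.node (.leaf 224410) 169 (.node (.leaf 214512) 125 (.leaf 191030)))) 404 (.node (.node (.leaf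 37143) 140 (.node (.leaf 214797) 5 (.leaf 104138))) 279 (.node (.leaf 156909) 251 (.node (.leaf 281091) 342 (.leaf 104234))))) 1288 (.node (.node (.node (.leaf 121220) 89 (.node (.leaf 215630) 69 (.leaf 34486))) 161 (.node (.leaf 206893) 256 (.node (.leaf 285178) 162 (.leaf 64104)))) 706 (.node (.node (.leaf 241110) 248 (.node (.leaf 216496) 351 (.leaf 56714))) 614 (.node (.leaf 105092) 214 (.node (.leaf 216971) 200 (.leaf 39823)))))) 3168 (.node (.node (.node (.node (.leaf 158236) 192 (.node (.leaf 217612) 72 (.leaf 217686))) 475 (.node (.leaf 266736) 22 (.node (.leaf 67574) 16 (.leaf 217935)))) 658 (.node (.node (.leaf 218079) 26 (.node (.leaf 218106) 33 (.leaf 218137))) 83 (.node (.leaf 146883) 141 (.node (.leaf 179431) 136 (.leaf 159866))))) 1106 (.node (.node (.node (.leaf 122662) 429 (.node (.leaf 218955) 102 (.leaf 218975))) 540 (.node (.leaf 219170) 16 (.node (.leaf 249942) 87 (.leaf 219067)))) 773 (.node (.node (.leaf 125591) 212 (.node (.leaf 219512) 75 (.leaf 56776)))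 437 (.node (.leaf 253335) 33 (.node (.leaf 147569) 27 (.leaf 44491)))))))) 12248 (.node (.node (.node (.node (.node (.node (.leaf 140414) 12 (.leaf 63126)) 70 (.node (.leaf 176151) 13 (.node (.leaf 209296) 221 (.leaf 176944)))) 390 (.node (.node (.leaf 306264) 25 (.node (.leaf 202851) 66 (.leaf 285216))) 96 (.node (.leaf 139812) 14 (.node (.leaf 116840) 14 (.leaf 220496))))) 515 (.node (.node (.node (.leaf 220495) 75 (.node (.leaf 196815) 123 (.leaf 220694))) 338 (.node (.leaf 293178) 119 (.node (.leaf 128993) 407 (.leaf 267461)))) 920 (.node (.node (.leaf 82828) 13 (.node (.leaf 306923) 293 (.leaf 203007))) 506 (.node (.leaf 116684) 19 (.node (.leaf 221940) 41 (.leaf 176135)))))) 2389 (.node (.node (.node (.node (.leaf 222370) 135 (.leaf 219438)) 293 (.node (.leaf 279391) 3 (.node (.leaf 79296) 22 (.leaf 288628)))) 365 (.node (.node (.leaf 229825) 90 (.node (.leaf 251603) 130 (.leaf 222955))) 267 (.node (.leaf 230025) 49 (.node (.leaf 225991) 76 (.leaf 258529))))) 877 (.node (.node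 (.node (.leaf 223248) 1 (.node (.leaf 223247) 8 (.leaf 242350))) 210 (.node (.leaf 127945) 47 (.node (.leaf 57118) 255 (.leaf 212489)))) 666 (.node (.node (.leaf 223913) 48 (.node (.leaf 154418) 589 (.leaf 40467))) 679 (.node (.leaf 133834) 188 (.node (.leaf 84927) 79 (.leaf 184249))))))) 5094 (.node (.node (.node (.node (.node (.leaf 278001) 46 (.leaf 55178)) 235 (.node (.leaf 233364) 19 (.node (.leaf 263569) 37 (.leaf 225452)))) 381 (.node (.node (.leaf 94242) 150 (.node (.leaf 225606) 24 (.leaf 169957))) 175 (.node (.leaf 230140) 225 (.node (.leaf 100832) 78 (.leaf 225934))))) 1570 (.node (.node (.node (.leaf 40853) 3 (.node (.leaf 231645) 126 (.leaf 159630))) 371 (.node (.leaf 186309) 261 (.node (.leaf 227277) 200 (.leaf 248691)))) 946 (.node (.node (.leaf 175600) 446 (.node (.leaf 71967) 296 (.leaf 228334))) 779 (.node (.leaf 162442) 67 (.node (.leaf 228528) 13 (.leaf 57963)))))) 3467 (.node (.node (.node (.node (.leaf 75494) 160 (.node (.leaf 200508) 153 (.leaf 228855))) 358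 (.node (.leaf 228899) 76 (.node (.leaf 228975) 110 (.leaf 245722)))) 760 (.node (.node (.leaf 229377) 15 (.node (.leaf 229318) 1 (.leaf 229317))) 160 (.node (.leaf 154227) 152 (.node (.leaf 218221) 12 (.leaf 229627))))) 1283 (.node (.node (.node (.leaf 222735) 14 (.node (.leaf 222378) 38 (.leaf 133138))) 99 (.node (.leaf 229924) 60 (.node (.leaf 302894) 4 (.leaf 151554)))) 268 (.node (.node (.leaf 230093) 47 (.node (.leaf 225631) 264 (.leaf 98810))) 422 (.node (.leaf 237466) 353 (.node (.leaf 162178) 66 (.leaf 142038))))))))) 23334 (.node (.node (.node (.node (.node (.node (.node (.leaf 219975) 114 (.leaf 130887)) 175 (.node (.leaf 231241) 43 (.node (.leaf 231286) 1 (.leaf 231285)))) 457 (.node (.node (.leaf 223604) 26 (.node (.leaf 231550) 27 (.leaf 244895))) 179 (.node (.leaf 231702) 106 (.node (.leaf 159557) 33 (.leaf 264309))))) 832 (.node (.node (.node (.leaf 293461) 31 (.node (.leaf 295313) 13 (.leaf 276673))) 46 (.node (.leaf 231944) 197 (.node (.leaf 110595) 933 (.leaf 233074))))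 1405 (.node (.node (.leaf 227907) 134 (.node (.leaf 151531) 33 (.leaf 174104))) 188 (.node (.leaf 302898) 115 (.node (.leaf 233608) 67 (.leaf 233674)))))) 2682 (.node (.node (.node (.node (.leaf 233749) 120 (.leaf 233870)) 131 (.node (.leaf 184957) 185 (.node (.leaf 234064) 5 (.leaf 234069)))) 415 (.node (.node (.leaf 241354) 153 (.node (.leaf 275430) 77 (.leaf 234395))) 287 (.node (.leaf 135028) 67 (.node (.leaf 286711) 308 (.leaf 69354))))) 1123 (.node (.node (.node (.leaf 234871) 76 (.node (.leaf 198463) 125 (.leaf 153421))) 520 (.node (.leaf 167855) 179 (.node (.leaf 235572) 1 (.leaf 235571)))) 893 (.node (.node (.leaf 235766) 30 (.node (.leaf 301105) 122 (.leaf 235971))) 370 (.node (.leaf 40165) 204 (.node (.leaf 49886) 390 (.leaf 236729))))))) 6024 (.node (.node (.node (.node (.node (.leaf 198109) 139 (.leaf 303716)) 491 (.node (.leaf 187158) 276 (.node (.leaf 225442) 619 (.leaf 118470)))) 1471 (.node (.node (.leaf 222214) 124 (.node (.leaf 243377) 294 (.leaf 306673))) 659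 (.node (.leaf 203877) 52 (.node (.leaf 263771) 111 (.leaf 275000))))) 2549 (.node (.node (.node (.leaf 239641) 41 (.node (.leaf 151879) 384 (.leaf 240065))) 622 (.node (.leaf 240262) 169 (.node (.leaf 190714) 89 (.leaf 50441)))) 1015 (.node (.node (.leaf 246819) 115 (.node (.leaf 284120) 171 (.leaf 127582))) 610 (.node (.leaf 306658) 16 (.node (.leaf 241281) 73 (.leaf 234164)))))) 4367 (.node (.node (.node (.node (.leaf 258896) 44 (.node (.leaf 220394) 229 (.leaf 241732))) 354 (.node (.leaf 150535) 12 (.node (.leaf 284513) 12 (.leaf 285915)))) 399 (.node (.node (.leaf 219918) 67 (.node (.leaf 82172) 26 (.leaf 117475))) 113 (.node (.leaf 155926) 18 (.node (.leaf 95278) 102 (.leaf 242091))))) 811 (.node (.node (.node (.leaf 152751) 137 (.node (.leaf 72191) 25 (.leaf 133934))) 181 (.node (.leaf 61469) 9 (.node (.leaf 220483) 13 (.leaf 58168)))) 293 (.node (.node (.leaf 126705) 206 (.node (.leaf 202266) 65 (.leaf 231808))) 323 (.node (.leaf 234040) 18 (.node (.leaf 242902) 61 (.leaf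 242965)))))))) 11914 (.node (.node (.node (.node (.node (.node (.leaf 142522) 270 (.leaf 286468)) 277 (.node (.leaf 230138) 295 (.node (.leaf 243553) 14 (.leaf 180539)))) 776 (.node (.node (.leaf 162040) 274 (.node (.leaf 61343) 294 (.leaf 53895))) 586 (.node (.leaf 77542) 51 (.node (.leaf 143228) 52 (.leaf 174650))))) 1508 (.node (.node (.node (.leaf 265000) 102 (.node (.leaf 288125) 179 (.leaf 258820))) 298 (.node (.leaf 165489) 125 (.node (.leaf 244912) 318 (.leaf 306511)))) 762 (.node (.node (.leaf 240758) 77 (.node (.leaf 245327) 23 (.leaf 303615))) 302 (.node (.leaf 294027) 67 (.node (.leaf 245621) 517 (.leaf 246136)))))) 3356 (.node (.node (.node (.node (.leaf 187309) 208 (.node (.leaf 276095) 195 (.leaf 85316))) 482 (.node (.leaf 240655) 137 (.node (.leaf 246957) 115 (.leaf 255435)))) 755 (.node (.node (.leaf 286137) 20 (.node (.leaf 247112) 139 (.leaf 247252))) 256 (.node (.leaf 235504) 47 (.node (.leaf 286414) 227 (.leaf 215046))))) 1319 (.node (.node (.node (.leaf 127169)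 270 (.node (.leaf 247926) 3 (.leaf 201648))) 468 (.node (.leaf 215752) 35 (.node (.leaf 206592) 321 (.leaf 96047)))) 1124 (.node (.node (.leaf 196505) 41 (.node (.leaf 248421) 28 (.leaf 248849))) 125 (.node (.leaf 42135) 250 (.node (.leaf 140346) 130 (.leaf 249286))))))) 6636 (.node (.node (.node (.node (.node (.leaf 249618) 71 (.leaf 100717)) 114 (.node (.leaf 138229) 141 (.node (.leaf 107870) 196 (.leaf 250069)))) 452 (.node (.node (.leaf 250068) 52 (.node (.leaf 281406) 131 (.leaf 250396))) 361 (.node (.leaf 243805) 122 (.node (.leaf 133540) 63 (.leaf 275416))))) 1002 (.node (.node (.node (.leaf 297690) 28 (.node (.leaf 250648) 148 (.leaf 275146))) 260 (.node (.leaf 301355) 242 (.node (.leaf 251122) 103 (.leaf 155710)))) 764 (.node (.node (.leaf 287005) 580 (.node (.leaf 284283) 41 (.leaf 252004))) 698 (.node (.leaf 33486) 10 (.node (.leaf 252090) 323 (.leaf 236845)))))) 2868 (.node (.node (.node (.node (.leaf 53497) 446 (.node (.leaf 111093) 215 (.leaf 288687))) 850 (.node (.leaf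 219737) 229 (.node (.leaf 174158) 145 (.leaf 74951)))) 1245 (.node (.node (.leaf 197138) 67 (.node (.leaf 226775) 7 (.leaf 253804))) 109 (.node (.leaf 179325) 42 (.node (.leaf 292528) 91 (.leaf 253972))))) 1572 (.node (.node (.node (.leaf 51948) 139 (.node (.leaf 261766) 189 (.leaf 243669))) 361 (.node (.leaf 282083) 59 (.node (.leaf 254477) 44 (.leaf 221640)))) 539 (.node (.node (.leaf 254597) 41 (.node (.leaf 95801) 192 (.leaf 261845))) 297 (.node (.leaf 196154) 22 (.node (.leaf 115965) 17 (.leaf 53196)))))))))) 47203 (.node (.node (.node (.node (.node (.node (.node (.node (.leaf 262072) 277 (.leaf 75898)) 548 (.node (.leaf 90214) 71 (.node (.leaf 255555) 128 (.leaf 111761)))) 764 (.node (.node (.leaf 79685) 366 (.node (.leaf 256067) 566 (.leaf 256632))) 963 (.node (.leaf 256663) 172 (.node (.leaf 256834) 110 (.leaf 256945))))) 2090 (.node (.node (.node (.leaf 257025) 11 (.node (.leaf 201739) 497 (.leaf 160583))) 594 (.node (.leaf 70084) 62 (.node (.leaf 257683) 283 (.leaf 222657))))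 1072 (.node (.node (.leaf 221604) 80 (.node (.leaf 103580) 58 (.leaf 290644))) 170 (.node (.leaf 194015) 16 (.node (.leaf 258226) 15 (.leaf 119211)))))) 3426 (.node (.node (.node (.node (.leaf 151426) 64 (.leaf 287137)) 95 (.node (.leaf 303332) 3 (.node (.leaf 258460) 25 (.leaf 221368)))) 172 (.node (.node (.leaf 227062) 93 (.node (.leaf 260251) 46 (.leaf 258672))) 381 (.node (.leaf 212233) 37 (.node (.leaf 69329) 171 (.leaf 122229))))) 992 (.node (.node (.node (.leaf 259355) 72 (.node (.leaf 259359) 2 (.leaf 151777))) 146 (.node (.leaf 259501) 148 (.node (.leaf 34068) 4 (.leaf 204211)))) 319 (.node (.node (.leaf 266561) 5 (.node (.leaf 87182) 17 (.leaf 259694))) 62 (.node (.leaf 222197) 30 (.node (.leaf 258184) 22 (.leaf 196624))))))) 4919 (.node (.node (.node (.node (.node (.leaf 129986) 286 (.leaf 260065)) 297 (.node (.leaf 186192) 99 (.node (.leaf 258627) 180 (.leaf 148698)))) 686 (.node (.node (.leaf 260542) 1 (.node (.leaf 260541) 118 (.leaf 206685))) 313 (.node (.leaf 122112)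 184 (.node (.leaf 273352) 10 (.leaf 197009))))) 1310 (.node (.node (.node (.leaf 76975) 69 (.node (.leaf 233005) 262 (.leaf 83453))) 398 (.node (.leaf 261562) 160 (.node (.leaf 261722) 43 (.leaf 254196)))) 637 (.node (.node (.leaf 195147) 141 (.node (.leaf 153470) 215 (.leaf 174105))) 779 (.node (.leaf 46360) 149 (.node (.leaf 262731) 20 (.leaf 202062)))))) 3016 (.node (.node (.node (.node (.leaf 244708) 93 (.node (.leaf 71496) 71 (.leaf 263034))) 328 (.node (.leaf 240040) 38 (.node (.leaf 263236) 282 (.leaf 263518)))) 774 (.node (.node (.leaf 143902) 126 (.node (.leaf 239273) 20 (.leaf 282676))) 221 (.node (.leaf 184967) 44 (.node (.leaf 263909) 467 (.leaf 127193))))) 1544 (.node (.node (.node (.leaf 249650) 4 (.node (.leaf 277918) 176 (.leaf 70142))) 558 (.node (.leaf 264973) 27 (.node (.leaf 244489) 55 (.leaf 265056)))) 786 (.node (.node (.leaf 171467) 43 (.node (.leaf 78984) 145 (.leaf 265388))) 391 (.node (.leaf 265593) 145 (.node (.leaf 125667) 8 (.leaf 256034)))))))) 10999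 (.node (.node (.node (.node (.node (.node (.leaf 265935) 159 (.leaf 95912)) 199 (.node (.leaf 266135) 19 (.node (.leaf 266154) 69 (.leaf 183889)))) 413 (.node (.node (.leaf 154736) 213 (.node (.leaf 259673) 194 (.leaf 184723))) 658 (.node (.leaf 124164) 107 (.node (.leaf 267113) 62 (.leaf 243958))))) 1419 (.node (.node (.node (.leaf 55805) 140 (.node (.leaf 163244) 40 (.leaf 115588))) 338 (.node (.leaf 185220) 118 (.node (.leaf 157029) 466 (.leaf 268277)))) 923 (.node (.node (.leaf 268276) 127 (.node (.leaf 248216) 24 (.leaf 225420))) 165 (.node (.leaf 288275) 15 (.node (.leaf 100044) 34 (.leaf 175627)))))) 2663 (.node (.node (.node (.node (.leaf 268598) 142 (.node (.leaf 96858) 283 (.leaf 269024))) 426 (.node (.leaf 269023) 144 (.node (.leaf 269169) 96 (.leaf 291931)))) 698 (.node (.node (.leaf 269297) 606 (.node (.leaf 270627) 162 (.leaf 273552))) 946 (.node (.leaf 202076) 114 (.node (.leaf 234147) 7 (.leaf 208595))))) 1791 (.node (.node (.node (.leaf 247428) 3 (.node (.leaf 96008)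 1136 (.leaf 221534))) 1179 (.node (.leaf 115329) 138 (.node (.leaf 271707) 111 (.leaf 271817)))) 1435 (.node (.node (.leaf 271824) 184 (.node (.leaf 283969) 38 (.leaf 287284))) 344 (.node (.leaf 272168) 1 (.node (.leaf 161931) 1017 (.leaf 192794))))))) 7298 (.node (.node (.node (.node (.node (.leaf 273233) 119 (.leaf 261038)) 163 (.node (.leaf 36349) 39 (.node (.leaf 272816) 46 (.leaf 164336)))) 453 (.node (.node (.leaf 244106) 341 (.node (.leaf 99292) 134 (.leaf 168460))) 817 (.node (.leaf 181815) 283 (.node (.leaf 288355) 99 (.leaf 282278))))) 1913 (.node (.node (.node (.leaf 250795) 3 (.node (.leaf 133607) 24 (.leaf 275173))) 193 (.node (.leaf 292518) 67 (.node (.leaf 247626) 46 (.leaf 149265)))) 444 (.node (.node (.leaf 125602) 15 (.node (.leaf 143905) 1 (.leaf 275607))) 171 (.node (.leaf 225061) 103 (.node (.leaf 152758) 125 (.leaf 287857)))))) 2994 (.node (.node (.node (.node (.leaf 290077) 143 (.node (.leaf 104439) 196 (.leaf 276565))) 353 (.node (.leaf 266954) 93 (.node (.leaf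 231943) 123 (.leaf 224538)))) 774 (.node (.node (.leaf 242334) 395 (.node (.leaf 277396) 93 (.leaf 167448))) 624 (.node (.leaf 275333) 38 (.node (.leaf 283998) 112 (.leaf 279512))))) 1569 (.node (.node (.node (.leaf 105030) 85 (.node (.leaf 277880) 100 (.leaf 144619))) 777 (.node (.leaf 168529) 171 (.node (.leaf 208047) 60 (.leaf 60903)))) 1223 (.node (.node (.leaf 279019) 14 (.node (.leaf 208765) 355 (.leaf 233669))) 374 (.node (.leaf 236148) 119 (.node (.leaf 277775) 719 (.leaf 280231))))))))) 25364 (.node (.node (.node (.node (.node (.node (.node (.leaf 231454) 431 (.leaf 224653)) 438 (.node (.leaf 139145) 204 (.node (.leaf 285458) 144 (.leaf 102761)))) 1285 (.node (.node (.leaf 168381) 20 (.node (.leaf 179432) 232 (.leaf 200957))) 285 (.node (.leaf 263832) 26 (.node (.leaf 281896) 61 (.leaf 44484))))) 1826 (.node (.node (.node (.leaf 250930) 3 (.node (.leaf 202135) 17 (.leaf 282146))) 229 (.node (.leaf 55085) 87 (.node (.leaf 282458) 16 (.leaf 282442)))) 666 (.node (.node (.leaf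 145968) 91 (.node (.leaf 185369) 43 (.leaf 195959))) 172 (.node (.leaf 283385) 62 (.node (.leaf 187605) 165 (.leaf 295853)))))) 3155 (.node (.node (.node (.node (.leaf 123247) 236 (.leaf 160125)) 450 (.node (.leaf 283906) 64 (.node (.leaf 272008) 29 (.leaf 277663)))) 916 (.node (.node (.leaf 158043) 73 (.node (.leaf 192241) 194 (.leaf 284638))) 290 (.node (.leaf 144947) 281 (.node (.leaf 302776) 8 (.leaf 120170))))) 1608 (.node (.node (.node (.leaf 299756) 115 (.node (.leaf 215958) 146 (.leaf 285324))) 472 (.node (.leaf 176182) 253 (.node (.leaf 201959) 232 (.leaf 286036)))) 1027 (.node (.node (.leaf 43731) 88 (.node (.leaf 166703) 41 (.leaf 286219))) 242 (.node (.leaf 115496) 22 (.node (.leaf 291155) 168 (.leaf 97669))))))) 6431 (.node (.node (.node (.node (.node (.leaf 253682) 39 (.leaf 270255)) 188 (.node (.leaf 224542) 8 (.node (.leaf 155121) 204 (.leaf 193540)))) 456 (.node (.node (.leaf 283907) 29 (.node (.leaf 287239) 23 (.leaf 287216))) 317 (.node (.leaf 287189) 219 (.node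 (.leaf 105920) 227 (.leaf 75508))))) 1238 (.node (.node (.node (.leaf 287969) 29 (.node (.leaf 101665) 23 (.leaf 37397))) 248 (.node (.leaf 256234) 58 (.node (.leaf 268442) 67 (.leaf 288343)))) 459 (.node (.node (.leaf 300955) 148 (.node (.leaf 192109) 29 (.leaf 119151))) 197 (.node (.leaf 144489) 3 (.node (.leaf 222688) 419 (.leaf 59954)))))) 2727 (.node (.node (.node (.node (.leaf 303893) 28 (.node (.leaf 282361) 413 (.leaf 296764))) 610 (.node (.leaf 290068) 95 (.node (.leaf 92778) 95 (.leaf 197927)))) 991 (.node (.node (.leaf 290450) 1 (.node (.leaf 290449) 61 (.leaf 299347))) 143 (.node (.leaf 290592) 155 (.node (.leaf 232171) 534 (.leaf 290913))))) 1915 (.node (.node (.node (.leaf 67422) 33 (.node (.leaf 275228) 334 (.leaf 294684))) 558 (.node (.leaf 269264) 37 (.node (.leaf 71634) 174 (.leaf 153342)))) 953 (.node (.node (.leaf 143810) 20 (.node (.leaf 302940) 78 (.leaf 292424))) 192 (.node (.leaf 275339) 10 (.node (.leaf 253881) 104 (.leaf 61537)))))))) 12510 (.node (.node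 (.node (.node (.node (.node (.leaf 213300) 215 (.leaf 275581)) 221 (.node (.leaf 55250) 326 (.node (.leaf 196715) 13 (.leaf 201998)))) 577 (.node (.node (.leaf 235097) 74 (.node (.leaf 231899) 122 (.leaf 293583))) 418 (.node (.leaf 286872) 113 (.node (.leaf 277594) 241 (.leaf 45045))))) 1357 (.node (.node (.node (.leaf 297332) 150 (.node (.leaf 225594) 216 (.leaf 96198))) 390 (.node (.leaf 117066) 105 (.node (.leaf 269832) 438 (.leaf 179683)))) 934 (.node (.node (.leaf 257291) 425 (.node (.leaf 73113) 9 (.leaf 183939))) 1284 (.node (.leaf 296385) 24 (.node (.leaf 125387) 6 (.leaf 216164)))))) 3635 (.node (.node (.node (.node (.leaf 296445) 141 (.node (.leaf 304200) 67 (.leaf 184707))) 485 (.node (.leaf 296930) 188 (.node (.leaf 297118) 2 (.leaf 170506)))) 803 (.node (.node (.leaf 256351) 269 (.node (.leaf 239091) 173 (.leaf 250619))) 531 (.node (.leaf 297779) 16 (.node (.leaf 265758) 189 (.leaf 297984))))) 1838 (.node (.node (.node (.leaf 268052) 193 (.node (.leaf 255027) 159 (.leaf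 243730))) 550 (.node (.leaf 273042) 139 (.node (.leaf 298972) 359 (.leaf 123167)))) 1054 (.node (.node (.leaf 299337) 10 (.node (.leaf 290511) 21 (.leaf 299367))) 50 (.node (.leaf 263323) 135 (.node (.leaf 299523) 1 (.leaf 299522))))))) 6857 (.node (.node (.node (.node (.node (.leaf 155553) 79 (.leaf 173296)) 315 (.node (.leaf 189728) 43 (.node (.leaf 300025) 21 (.leaf 285551)))) 537 (.node (.node (.leaf 126914) 28 (.node (.leaf 283874) 237 (.leaf 300469))) 579 (.node (.leaf 281286) 105 (.node (.leaf 120528) 320 (.leaf 45500))))) 1735 (.node (.node (.node (.leaf 137231) 51 (.node (.leaf 301453) 773 (.leaf 304486))) 920 (.node (.leaf 66571) 198 (.node (.leaf 272627) 157 (.leaf 192220)))) 1492 (.node (.node (.leaf 229984) 4 (.node (.leaf 233492) 563 (.leaf 110589))) 594 (.node (.leaf 200042) 95 (.node (.leaf 140397) 81 (.leaf 291470)))))) 4002 (.node (.node (.node (.node (.leaf 247733) 66 (.node (.leaf 303736) 46 (.leaf 303781))) 158 (.node (.leaf 210862) 14 (.node (.leaf 190475) 310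 (.leaf 304151)))) 547 (.node (.node (.leaf 243974) 249 (.node (.leaf 118369) 4 (.leaf 139828))) 626 (.node (.leaf 268647) 100 (.node (.leaf 238594) 155 (.leaf 294132))))) 1502 (.node (.node (.node (.leaf 204731) 160 (.node (.leaf 305824) 35 (.leaf 207432))) 362 (.node (.leaf 202417) 100 (.node (.leaf 302703) 191 (.leaf 305331)))) 1010 (.node (.node (.leaf 306181) 283 (.node (.leaf 303263) 150 (.leaf 245731))) 480 (.node (.leaf 211560) 135 (.node (.leaf 70905) 86 (.leaf 64744)))))))))))))

/-- table of generator 6 -/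
def tab6 : Tab :=
  (.node (.node (.node (.node (.node (.node (.node (.node (.node (.node (.node (.leaf 0) 1 (.leaf 1)) 2 (.node (.leaf 2) 1 (.leaf 3))) 4 (.node (.node (.leaf 4) 1 (.leaf 5)) 2 (.node (.leaf 7) 1 (.node (.leaf 6) 1 (.leaf 8))))) 9 (.node (.node (.node (.leaf 9) 2 (.leaf 11)) 3 (.node (.leaf 12) 35 (.leaf 47))) 41 (.node (.node (.leaf 51) 4 (.leaf 54)) 8 (.node (.leaf 59) 1 (.node (.leaf 58) 1 (.leaf 60)))))) 61 (.node (.node (.node (.node (.leaf 154) 1 (.leaf 138)) 2 (.node (.leaf 63) 1 (.leaf 64))) 5 (.node (.node (.leaf 66) 1 (.leaf 68)) 2 (.node (.leaf 67) 1 (.node (.leaf 69) 2 (.leaf 71))))) 33 (.node (.node (.node (.leaf 683) 3 (.leaf 98)) 4 (.node (.leaf 97) 1 (.leaf 99))) 6 (.node (.node (.leaf 100) 30 (.leaf 131)) 31 (.node (.leaf 130) 1 (.node (.leaf 132) 1 (.leaf 133))))))) 134 (.node (.node (.node (.node (.node (.leaf 134) 1 (.leaf 135)) 2 (.node (.leaf 141) 1 (.leaf 142))) 4 (.node (.node (.leaf 62) 1 (.leaf 140)) 2 (.node (.leaf 139) 1 (.node (.leaf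 136) 1 (.leaf 137))))) 9 (.node (.node (.node (.leaf 144) 2 (.leaf 217)) 3 (.node (.leaf 147) 1 (.leaf 146))) 5 (.node (.node (.leaf 148) 1 (.leaf 299)) 3 (.node (.leaf 152) 1 (.node (.leaf 151) 2 (.leaf 61)))))) 21 (.node (.node (.node (.node (.leaf 436) 1 (.leaf 156)) 2 (.node (.leaf 157) 1 (.leaf 158))) 4 (.node (.node (.leaf 159) 1 (.leaf 160)) 2 (.node (.leaf 303) 1 (.node (.leaf 162) 1 (.leaf 302))))) 31 (.node (.node (.node (.leaf 186) 1 (.leaf 166)) 5 (.node (.leaf 579) 26 (.leaf 145))) 50 (.node (.node (.leaf 16974) 26 (.leaf 261)) 27 (.node (.leaf 11645) 1 (.node (.leaf 264) 1 (.leaf 265)))))))) 266 (.node (.node (.node (.node (.node (.node (.leaf 266) 1 (.leaf 268)) 2 (.node (.leaf 267) 1 (.leaf 269))) 28 (.node (.node (.leaf 295) 4 (.leaf 298)) 6 (.node (.leaf 300) 1 (.node (.leaf 301) 1 (.leaf 163))))) 37 (.node (.node (.node (.leaf 161) 1 (.leaf 304)) 42 (.node (.leaf 346) 1 (.leaf 345))) 44 (.node (.node (.leaf 347) 2 (.leaf 350)) 4 (.node (.leaf 351) 4 (.node (.leaf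 4409) 1 (.leaf 46)))))) 91 (.node (.node (.node (.node (.leaf 4410) 1 (.leaf 358)) 2 (.node (.leaf 900) 2 (.leaf 674))) 5 (.node (.node (.leaf 3907) 2 (.leaf 4463)) 3 (.node (.leaf 4462) 1 (.node (.leaf 344) 1 (.leaf 367))))) 11 (.node (.node (.node (.leaf 368) 1 (.leaf 369)) 3 (.node (.leaf 371) 50 (.leaf 4578))) 54 (.node (.node (.leaf 474) 7 (.leaf 673)) 8 (.node (.leaf 4454) 4 (.node (.leaf 413) 1 (.leaf 435))))))) 170 (.node (.node (.node (.node (.node (.leaf 155) 1 (.leaf 614)) 4 (.node (.leaf 440) 1 (.leaf 13898))) 15 (.node (.node (.leaf 4580) 1 (.leaf 934)) 11 (.node (.leaf 1023) 6 (.node (.leaf 468) 15 (.leaf 412))))) 53 (.node (.node (.node (.leaf 7395) 10 (.leaf 4726)) 11 (.node (.leaf 4698) 1 (.leaf 550))) 13 (.node (.node (.leaf 13) 1 (.leaf 551)) 50 (.node (.leaf 4797) 39 (.node (.leaf 591) 17 (.leaf 608)))))) 176 (.node (.node (.node (.node (.leaf 612) 1 (.leaf 613)) 2 (.node (.leaf 437) 58 (.leaf 442))) 62 (.node (.node (.leaf 361) 1 (.leaf 675)) 11 (.node (.leaf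 4723) 24 (.node (.leaf 438) 63 (.leaf 772))))) 187 (.node (.node (.node (.leaf 799) 72 (.leaf 897)) 94 (.node (.leaf 894) 1 (.node (.leaf 893) 1 (.leaf 962)))) 98 (.node (.node (.leaf 871) 2 (.leaf 899)) 3 (.node (.leaf 359) 16 (.node (.leaf 1188) 19 (.leaf 935))))))))) 960 (.node (.node (.node (.node (.node (.node (.node (.leaf 1027) 2 (.leaf 895)) 59 (.node (.leaf 1019) 8 (.leaf 960))) 74 (.node (.node (.leaf 4850) 37 (.leaf 1070)) 160 (.node (.leaf 1193) 37 (.node (.leaf 1232) 5 (.leaf 4626))))) 288 (.node (.node (.node (.leaf 1248) 67 (.leaf 4969)) 102 (.node (.leaf 16959) 50 (.leaf 1400))) 254 (.node (.node (.leaf 1200) 29 (.leaf 1609)) 176 (.node (.leaf 9826) 244 (.node (.leaf 5820) 339 (.leaf 9431)))))) 1593 (.node (.node (.node (.node (.leaf 24089) 26 (.leaf 2579)) 28 (.node (.leaf 2581) 1 (.leaf 4724))) 314 (.node (.node (.leaf 9701) 252 (.leaf 10221)) 290 (.node (.leaf 23686) 67 (.node (.leaf 3225) 13 (.leaf 9568))))) 982 (.node (.node (.node (.leaf 4052) 88 (.leaf 12790))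 180 (.node (.leaf 16449) 192 (.leaf 362))) 404 (.node (.node (.leaf 3940) 113 (.leaf 3535)) 177 (.node (.leaf 4024) 294 (.node (.leaf 357) 6 (.leaf 4416))))))) 3458 (.node (.node (.node (.node (.node (.leaf 1098) 24 (.leaf 4442)) 41 (.node (.leaf 4459) 2 (.leaf 343))) 44 (.node (.node (.leaf 365) 1 (.leaf 364)) 6 (.node (.leaf 4468) 2 (.node (.leaf 4455) 28 (.leaf 16407))))) 115 (.node (.node (.node (.leaf 4533) 93 (.leaf 1236)) 94 (.node (.leaf 4627) 31 (.leaf 638))) 128 (.node (.node (.leaf 4662) 1 (.leaf 4661)) 2 (.node (.leaf 4663) 1 (.node (.leaf 4664) 4 (.leaf 4668)))))) 287 (.node (.node (.node (.node (.leaf 4705) 19 (.leaf 2582)) 21 (.node (.leaf 499) 1 (.leaf 4879))) 23 (.node (.node (.leaf 4728) 15 (.leaf 4808)) 16 (.node (.leaf 4745) 1 (.node (.leaf 4744) 25 (.leaf 12035))))) 68 (.node (.node (.node (.leaf 4795) 21 (.leaf 4794)) 22 (.node (.leaf 4773) 1 (.node (.leaf 4796) 5 (.leaf 4801)))) 33 (.node (.node (.leaf 4807) 1 (.leaf 4806)) 2 (.node (.leaf 4743) 31 (.node (.leaf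 4839) 1 (.leaf 4851)))))))) 3888 (.node (.node (.node (.node (.node (.node (.leaf 4848) 2 (.leaf 1034)) 3 (.node (.leaf 4840) 41 (.leaf 4892))) 46 (.node (.node (.leaf 11843) 75 (.leaf 1315)) 309 (.node (.leaf 5202) 46 (.node (.leaf 432) 22 (.leaf 10439))))) 442 (.node (.node (.node (.leaf 7278) 17 (.leaf 5307)) 47 (.node (.leaf 5336) 78 (.leaf 2080))) 199 (.node (.node (.leaf 21455) 67 (.leaf 4203)) 623 (.node (.leaf 7370) 10 (.node (.leaf 15723) 352 (.leaf 6473)))))) 1815 (.node (.node (.node (.node (.leaf 23656) 179 (.leaf 1920)) 283 (.node (.leaf 6946) 82 (.leaf 7028))) 645 (.node (.node (.leaf 27080) 87 (.leaf 489)) 151 (.node (.leaf 24732) 36 (.node (.leaf 15276) 14 (.leaf 7437))))) 1047 (.node (.node (.node (.leaf 1100) 17 (.leaf 22307)) 54 (.node (.leaf 4769) 241 (.leaf 8005))) 375 (.node (.node (.leaf 8085) 276 (.leaf 20452)) 1087 (.node (.leaf 27223) 61 (.node (.leaf 30845) 3 (.leaf 9072))))))) 4392 (.node (.node (.node (.node (.node (.leaf 113) 303 (.leaf 19222)) 413 (.node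 (.leaf 9652) 9 (.leaf 15440))) 461 (.node (.node (.leaf 2867) 157 (.leaf 6528)) 378 (.node (.leaf 12546) 17 (.node (.leaf 16972) 312 (.leaf 23822))))) 1336 (.node (.node (.node (.leaf 10577) 93 (.leaf 10670)) 174 (.node (.leaf 10963) 21 (.leaf 28160))) 388 (.node (.node (.leaf 11040) 32 (.leaf 18728)) 151 (.node (.leaf 14903) 156 (.node (.leaf 11271) 1 (.leaf 11272)))))) 2040 (.node (.node (.node (.node (.leaf 11280) 55 (.leaf 4313)) 365 (.node (.leaf 263) 390 (.leaf 4770))) 790 (.node (.node (.leaf 1328) 127 (.leaf 17362)) 221 (.node (.leaf 12291) 255 (.node (.leaf 10079) 152 (.leaf 7862))))) 1662 (.node (.node (.node (.leaf 12943) 241 (.leaf 13184)) 517 (.node (.leaf 13460) 1 (.node (.leaf 13459) 85 (.leaf 23916)))) 679 (.node (.node (.leaf 18995) 14 (.leaf 22369)) 193 (.node (.leaf 27413) 12 (.node (.leaf 13826) 84 (.leaf 25253)))))))))) 14196 (.node (.node (.node (.node (.node (.node (.node (.node (.leaf 8850) 210 (.leaf 27529)) 495 (.node (.leaf 28844) 51 (.leaf 14741))) 1088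 (.node (.node (.leaf 18970) 18 (.leaf 15302)) 124 (.node (.leaf 26414) 32 (.node (.leaf 9662) 233 (.leaf 863))))) 1481 (.node (.node (.node (.leaf 19350) 43 (.leaf 31216)) 46 (.node (.leaf 6122) 162 (.leaf 15886))) 397 (.node (.node (.leaf 16074) 23 (.leaf 26944)) 471 (.node (.leaf 17986) 1345 (.node (.leaf 8944) 69 (.leaf 13368)))))) 4465 (.node (.node (.node (.node (.leaf 18661) 17 (.leaf 22385)) 366 (.node (.leaf 3497) 41 (.leaf 19046))) 556 (.node (.node (.leaf 2255) 165 (.leaf 9184)) 384 (.node (.leaf 12135) 257 (.node (.leaf 28408) 79 (.leaf 3602))))) 1317 (.node (.node (.node (.leaf 12793) 197 (.leaf 20174)) 290 (.node (.leaf 18572) 81 (.leaf 26393))) 439 (.node (.node (.leaf 20436) 215 (.leaf 834)) 226 (.node (.leaf 12019) 6 (.node (.leaf 20649) 135 (.leaf 19473))))))) 6694 (.node (.node (.node (.node (.node (.leaf 19872) 148 (.leaf 6930)) 188 (.node (.leaf 6894) 377 (.leaf 5489))) 917 (.node (.node (.leaf 22729) 60 (.leaf 16831)) 106 (.node (.leaf 8080) 100 (.node (.leaf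 22013) 240 (.leaf 13932))))) 1417 (.node (.node (.node (.leaf 7727) 69 (.leaf 20938)) 145 (.node (.leaf 22451) 45 (.leaf 5298))) 401 (.node (.node (.leaf 15736) 27 (.leaf 22749)) 101 (.node (.leaf 29123) 603 (.node (.leaf 23428) 111 (.leaf 2892)))))) 2736 (.node (.node (.node (.node (.leaf 12295) 44 (.leaf 4666)) 125 (.node (.leaf 30899) 19 (.leaf 23770))) 463 (.node (.node (.leaf 2553) 48 (.leaf 11015)) 207 (.node (.leaf 20823) 109 (.node (.leaf 12656) 119 (.leaf 19999))))) 1348 (.node (.node (.node (.leaf 12323) 18 (.leaf 12597)) 70 (.node (.leaf 23396) 197 (.leaf 1608))) 297 (.node (.node (.leaf 2901) 170 (.leaf 25441)) 653 (.node (.leaf 4482) 593 (.node (.leaf 16244) 137 (.leaf 26730)))))))) 12487 (.node (.node (.node (.node (.node (.node (.leaf 26682) 78 (.leaf 15491)) 88 (.node (.leaf 29205) 213 (.leaf 26984))) 502 (.node (.node (.leaf 19041) 38 (.leaf 9172)) 993 (.node (.leaf 28063) 230 (.node (.leaf 19858) 15 (.leaf 12637))))) 2186 (.node (.node (.node (.leaf 23639) 197 (.leaf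 22254)) 378 (.node (.leaf 28837) 288 (.leaf 11861))) 822 (.node (.node (.leaf 29691) 145 (.leaf 5333)) 264 (.node (.leaf 18378) 213 (.node (.leaf 18749) 140 (.leaf 15876)))))) 3995 (.node (.node (.node (.node (.leaf 28270) 167 (.leaf 9233)) 221 (.node (.leaf 23751) 359 (.leaf 30835))) 692 (.node (.node (.leaf 24454) 139 (.leaf 10053)) 199 (.node (.leaf 30890) 103 (.node (.leaf 31672) 1 (.leaf 31673))))) 996 (.node (.node (.node (.leaf 31674) 1 (.leaf 31675)) 2 (.node (.leaf 33246) 1 (.leaf 32407))) 6 (.node (.node (.leaf 32553) 21 (.leaf 31702)) 22 (.node (.leaf 31701) 28 (.node (.leaf 47240) 14 (.leaf 52362))))))) 5065 (.node (.node (.node (.node (.node (.leaf 31748) 2 (.leaf 31751)) 3 (.node (.leaf 31750) 1 (.leaf 31755))) 5 (.node (.node (.leaf 31753) 1 (.leaf 31754)) 2 (.node (.leaf 31752) 3 (.node (.leaf 31759) 1 (.leaf 31758))))) 12 (.node (.node (.node (.leaf 33362) 4 (.leaf 31764)) 5 (.node (.leaf 31766) 1 (.leaf 31765))) 7 (.node (.node (.leaf 31767) 3 (.leaf 31771)) 4 (.node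 (.leaf 31770) 1 (.node (.leaf 31894) 1 (.leaf 31773)))))) 26 (.node (.node (.node (.node (.leaf 31774) 12 (.leaf 59658)) 13 (.node (.leaf 59867) 14 (.leaf 31802))) 114 (.node (.node (.leaf 31889) 1 (.leaf 31888)) 2 (.node (.leaf 84960) 2 (.node (.leaf 31892) 1 (.leaf 31893))))) 120 (.node (.node (.node (.leaf 31772) 3 (.leaf 31898)) 6 (.node (.leaf 31900) 1 (.node (.leaf 31901) 1 (.leaf 31902)))) 10 (.node (.node (.leaf 31905) 1 (.leaf 31904)) 2 (.node (.leaf 31906) 1 (.node (.leaf 31907) 12 (.leaf 59868))))))))) 17725 (.node (.node (.node (.node (.node (.node (.node (.leaf 53943) 111 (.leaf 84563)) 113 (.node (.leaf 32033) 1 (.leaf 85126))) 117 (.node (.node (.leaf 32038) 1 (.leaf 32039)) 5 (.node (.leaf 56886) 97 (.node (.leaf 32140) 2 (.leaf 32142))))) 374 (.node (.node (.node (.leaf 155616) 112 (.leaf 31677)) 114 (.node (.leaf 32409) 2 (.leaf 60995))) 117 (.node (.node (.leaf 60996) 143 (.leaf 32555)) 144 (.node (.leaf 60994) 51 (.node (.leaf 51465) 70 (.leaf 33364)))))) 849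 (.node (.node (.node (.node (.leaf 109376) 16 (.leaf 32786)) 17 (.node (.leaf 33556) 1 (.leaf 34667))) 19 (.node (.node (.leaf 58718) 1 (.leaf 84698)) 9 (.node (.leaf 34994) 78 (.node (.leaf 33371) 1 (.leaf 33028))))) 202 (.node (.node (.node (.leaf 61241) 49 (.leaf 111613)) 55 (.node (.leaf 33027) 1 (.leaf 32877))) 57 (.node (.node (.leaf 33029) 84 (.leaf 116825)) 116 (.node (.leaf 33145) 1 (.node (.leaf 33146) 21 (.leaf 86655))))))) 1273 (.node (.node (.node (.node (.node (.leaf 117407) 49 (.leaf 33243)) 50 (.node (.leaf 31899) 2 (.leaf 31676))) 168 (.node (.node (.leaf 31760) 1 (.leaf 32784)) 2 (.node (.leaf 32677) 4 (.node (.leaf 34514) 1 (.leaf 33369))))) 177 (.node (.node (.node (.leaf 32876) 1 (.leaf 55384)) 2 (.node (.leaf 33855) 1 (.leaf 56610))) 5 (.node (.node (.leaf 33376) 178 (.leaf 32785)) 196 (.node (.leaf 155497) 168 (.node (.leaf 190227) 68 (.leaf 56809)))))) 631 (.node (.node (.node (.node (.leaf 129357) 32 (.leaf 56075)) 38 (.node (.leaf 33863) 7 (.leaf 111437)))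 88 (.node (.node (.leaf 33922) 2 (.leaf 34109)) 6 (.node (.leaf 56385) 3 (.node (.leaf 33913) 31 (.leaf 33952))))) 144 (.node (.node (.node (.leaf 86572) 99 (.leaf 274882)) 126 (.node (.leaf 34095) 10 (.node (.leaf 34106) 1 (.leaf 34105)))) 138 (.node (.node (.leaf 58628) 2 (.leaf 33915)) 6 (.node (.leaf 50368) 144 (.node (.leaf 77873) 40 (.leaf 55951)))))))) 2380 (.node (.node (.node (.node (.node (.node (.leaf 57547) 1 (.leaf 34303)) 2 (.node (.leaf 34302) 1 (.leaf 34837))) 9 (.node (.node (.leaf 34310) 1 (.leaf 55151)) 21 (.node (.leaf 267715) 107 (.node (.leaf 114049) 41 (.leaf 98717))))) 185 (.node (.node (.node (.leaf 284494) 25 (.leaf 55952)) 177 (.node (.leaf 34663) 2 (.leaf 34665))) 187 (.node (.node (.leaf 114895) 4 (.leaf 58750)) 5 (.node (.leaf 129533) 1 (.node (.leaf 34680) 61 (.leaf 275746)))))) 536 (.node (.node (.node (.node (.leaf 34304) 88 (.leaf 268442)) 324 (.node (.leaf 233674) 13 (.leaf 35174))) 534 (.node (.node (.leaf 108817) 178 (.leaf 35549)) 293 (.node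 (.leaf 122562) 395 (.node (.leaf 129115) 215 (.leaf 36274))))) 1472 (.node (.node (.node (.leaf 97373) 111 (.leaf 170772)) 132 (.node (.leaf 301536) 12 (.leaf 253003))) 161 (.node (.node (.leaf 36471) 32 (.leaf 36252)) 98 (.node (.leaf 36824) 25 (.node (.leaf 36594) 208 (.leaf 36801))))))) 2675 (.node (.node (.node (.node (.node (.leaf 36976) 130 (.leaf 36845)) 167 (.node (.leaf 98858) 72 (.leaf 37090))) 240 (.node (.node (.leaf 149835) 181 (.leaf 37397)) 619 (.node (.leaf 125407) 54 (.node (.leaf 257037) 21 (.leaf 37910))))) 1054 (.node (.node (.node (.leaf 142979) 190 (.leaf 204929)) 254 (.node (.leaf 132245) 351 (.leaf 253797))) 788 (.node (.node (.leaf 282293) 78 (.leaf 114977)) 101 (.node (.leaf 220051) 107 (.node (.leaf 124679) 206 (.leaf 108082)))))) 2489 (.node (.node (.node (.node (.leaf 39466) 392 (.leaf 107393)) 426 (.node (.leaf 39892) 107 (.leaf 100304))) 554 (.node (.node (.leaf 110662) 274 (.leaf 56800)) 659 (.node (.leaf 102542) 90 (.node (.leaf 252414) 8 (.leaf 140902)))))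 1336 (.node (.node (.node (.leaf 214940) 89 (.leaf 226648)) 287 (.node (.leaf 184743) 476 (.node (.leaf 41564) 318 (.leaf 35224)))) 1126 (.node (.node (.leaf 78796) 14 (.leaf 257026)) 329 (.node (.leaf 42027) 27 (.node (.leaf 44253) 185 (.leaf 180098))))))))))) 43138 (.node (.node (.node (.node (.node (.node (.node (.node (.node (.leaf 54017) 35 (.leaf 43174)) 113 (.node (.leaf 299556) 185 (.leaf 219626))) 376 (.node (.node (.leaf 43514) 4 (.leaf 184612)) 217 (.node (.leaf 227000) 38 (.node (.leaf 43770) 37 (.leaf 174579))))) 733 (.node (.node (.node (.leaf 39425) 24 (.leaf 243393)) 47 (.node (.leaf 44194) 184 (.leaf 104168))) 293 (.node (.node (.leaf 45892) 30 (.leaf 43918)) 118 (.node (.leaf 136634) 201 (.node (.leaf 44484) 1 (.leaf 44483)))))) 1352 (.node (.node (.node (.node (.leaf 183308) 136 (.leaf 136522)) 174 (.node (.leaf 174338) 836 (.leaf 45500))) 1072 (.node (.node (.leaf 89564) 71 (.leaf 45633)) 72 (.node (.leaf 45634) 81 (.node (.leaf 249731) 335 (.leaf 219083)))))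 1973 (.node (.node (.node (.leaf 61558) 555 (.leaf 209326)) 625 (.node (.leaf 166729) 176 (.leaf 47265))) 900 (.node (.node (.leaf 47362) 175 (.leaf 258178)) 543 (.node (.leaf 66089) 158 (.node (.leaf 48148) 158 (.leaf 40138))))))) 5107 (.node (.node (.node (.node (.node (.leaf 48246) 2 (.leaf 234986)) 60 (.node (.leaf 190816) 156 (.leaf 50322))) 302 (.node (.node (.leaf 71731) 866 (.leaf 183380)) 966 (.node (.leaf 238893) 316 (.node (.leaf 78984) 32 (.leaf 55793))))) 1641 (.node (.node (.node (.leaf 264910) 58 (.leaf 158134)) 144 (.node (.leaf 110562) 22 (.leaf 57294))) 168 (.node (.node (.leaf 50055) 157 (.leaf 96755)) 268 (.node (.leaf 48461) 45 (.node (.leaf 55149) 1 (.leaf 34113)))))) 2124 (.node (.node (.node (.node (.leaf 50369) 1 (.leaf 113339)) 2 (.node (.leaf 35249) 39 (.leaf 274994))) 72 (.node (.node (.leaf 176285) 86 (.leaf 52126)) 273 (.node (.leaf 52608) 553 (.node (.leaf 155151) 198 (.leaf 32607))))) 1559 (.node (.node (.node (.leaf 59284) 1 (.leaf 53942)) 20 (.node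 (.leaf 87578) 86 (.leaf 52739))) 198 (.node (.node (.leaf 50527) 170 (.leaf 189986)) 171 (.node (.leaf 191241) 65 (.node (.leaf 31744) 59 (.leaf 113338)))))))) 9284 (.node (.node (.node (.node (.node (.node (.leaf 113336) 186 (.leaf 50714)) 227 (.node (.leaf 128403) 38 (.leaf 47745))) 282 (.node (.node (.leaf 221385) 35 (.leaf 52034)) 80 (.node (.leaf 197418) 98 (.node (.leaf 37227) 1 (.leaf 52884))))) 659 (.node (.node (.node (.leaf 53082) 5 (.leaf 53087)) 224 (.node (.leaf 265006) 191 (.leaf 259500))) 423 (.node (.node (.leaf 133308) 44 (.leaf 85115)) 278 (.node (.leaf 74046) 210 (.node (.leaf 277818) 94 (.leaf 54087)))))) 1774 (.node (.node (.node (.node (.leaf 218962) 151 (.leaf 137035)) 189 (.node (.leaf 231662) 10 (.leaf 190207))) 207 (.node (.node (.leaf 57273) 4 (.leaf 54261)) 7 (.node (.leaf 54410) 1 (.node (.leaf 54411) 2 (.leaf 54414))))) 218 (.node (.node (.node (.leaf 54413) 14 (.leaf 58754)) 141 (.node (.leaf 50373) 79 (.leaf 54634))) 453 (.node (.node (.leaf 54633)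 140 (.leaf 35248)) 218 (.node (.leaf 262105) 64 (.node (.leaf 50367) 1 (.leaf 57404))))))) 2729 (.node (.node (.node (.node (.node (.leaf 34311) 3 (.leaf 35250)) 4 (.node (.leaf 130448) 3 (.leaf 151937))) 23 (.node (.node (.leaf 153916) 4 (.leaf 257682)) 55 (.node (.leaf 147978) 32 (.node (.leaf 112201) 84 (.leaf 106955))))) 394 (.node (.node (.node (.leaf 82844) 1 (.leaf 242269)) 97 (.node (.leaf 131130) 1 (.leaf 267692))) 248 (.node (.node (.leaf 49861) 32 (.leaf 57373)) 158 (.node (.leaf 34297) 1 (.node (.leaf 34511) 123 (.leaf 33857)))))) 925 (.node (.node (.node (.node (.leaf 56076) 4 (.leaf 87624)) 186 (.node (.leaf 87787) 82 (.leaf 56344))) 290 (.node (.node (.leaf 128907) 324 (.leaf 56690)) 328 (.node (.leaf 262158) 48 (.node (.leaf 289004) 34 (.leaf 35143))))) 807 (.node (.node (.node (.leaf 56884) 3 (.leaf 32043)) 4 (.node (.leaf 56887) 242 (.node (.leaf 84337) 1 (.leaf 57130)))) 317 (.node (.node (.leaf 265935) 70 (.leaf 57270)) 72 (.node (.leaf 57272) 2 (.node (.leaf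 57274) 4 (.leaf 59234))))))))) 14235 (.node (.node (.node (.node (.node (.node (.node (.leaf 55825) 28 (.leaf 57401)) 31 (.node (.leaf 55150) 260 (.leaf 57546))) 316 (.node (.node (.leaf 56916) 80 (.leaf 57896)) 207 (.node (.leaf 57769) 2 (.node (.leaf 57898) 6 (.leaf 36486))))) 601 (.node (.node (.node (.leaf 57973) 52 (.leaf 58027)) 68 (.node (.leaf 58043) 1 (.leaf 58042))) 75 (.node (.node (.leaf 59876) 1 (.leaf 53568)) 3 (.node (.leaf 82846) 2 (.node (.leaf 87785) 3 (.leaf 58058)))))) 795 (.node (.node (.node (.node (.leaf 58168) 193 (.leaf 36323)) 311 (.node (.leaf 58479) 3 (.leaf 86148))) 460 (.node (.node (.leaf 34107) 36 (.leaf 61537)) 57 (.node (.leaf 56148) 22 (.node (.leaf 129921) 20 (.leaf 33726))))) 591 (.node (.node (.node (.leaf 58759) 26 (.leaf 97599)) 167 (.node (.leaf 58926) 1 (.leaf 31780))) 198 (.node (.node (.leaf 58956) 18 (.leaf 132949)) 78 (.node (.leaf 198150) 42 (.node (.leaf 221031) 157 (.leaf 57278))))))) 1900 (.node (.node (.node (.node (.node (.leaf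 173424) 10 (.leaf 57907)) 140 (.node (.leaf 59412) 55 (.leaf 163422))) 221 (.node (.node (.leaf 271835) 1 (.leaf 152749)) 3 (.node (.leaf 274970) 159 (.node (.leaf 242459) 9 (.leaf 127778))))) 417 (.node (.node (.node (.leaf 59689) 114 (.leaf 166701)) 147 (.node (.leaf 203526) 32 (.leaf 87792))) 356 (.node (.node (.leaf 87959) 173 (.leaf 60261)) 196 (.node (.leaf 59889) 21 (.node (.leaf 56082) 46 (.leaf 195173)))))) 1089 (.node (.node (.node (.node (.leaf 60362) 58 (.leaf 60420)) 171 (.node (.leaf 45987) 209 (.leaf 60743))) 463 (.node (.node (.leaf 33172) 43 (.leaf 60869)) 44 (.node (.leaf 60868) 126 (.node (.leaf 32411) 20 (.leaf 61014))))) 829 (.node (.node (.node (.leaf 240433) 14 (.leaf 61206)) 56 (.node (.leaf 131513) 96 (.node (.leaf 61342) 194 (.leaf 58664)))) 593 (.node (.node (.leaf 61488) 64 (.leaf 55404)) 76 (.node (.leaf 61860) 50 (.node (.leaf 80065) 262 (.leaf 261234)))))))) 4813 (.node (.node (.node (.node (.node (.node (.leaf 62185) 18 (.leaf 41988)) 256 (.node (.leaf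 51521) 90 (.leaf 146656))) 666 (.node (.node (.leaf 62853) 43 (.leaf 68856)) 189 (.node (.leaf 168125) 85 (.node (.leaf 186586) 24 (.leaf 63151))))) 1024 (.node (.node (.node (.leaf 174649) 36 (.leaf 231353)) 134 (.node (.leaf 237858) 314 (.leaf 277019))) 687 (.node (.node (.leaf 63897) 207 (.leaf 83022)) 274 (.node (.leaf 264377) 39 (.node (.leaf 131537) 237 (.leaf 80550)))))) 2377 (.node (.node (.node (.node (.leaf 34344) 671 (.leaf 65235)) 766 (.node (.leaf 282630) 87 (.leaf 176034))) 1058 (.node (.node (.leaf 65866) 129 (.leaf 130586)) 213 (.node (.leaf 70131) 32 (.node (.leaf 65621) 66 (.leaf 253804))))) 1513 (.node (.node (.node (.leaf 132546) 13 (.leaf 47906)) 27 (.node (.leaf 81317) 264 (.leaf 171290))) 370 (.node (.node (.leaf 66447) 32 (.leaf 207407)) 125 (.node (.leaf 66571) 981 (.node (.leaf 275397) 22 (.leaf 298783))))))) 5676 (.node (.node (.node (.node (.node (.leaf 67862) 67 (.leaf 36722)) 272 (.node (.leaf 165792) 14 (.leaf 68147))) 381 (.node (.node (.leaf 127944)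 186 (.leaf 68429)) 230 (.node (.leaf 101458) 138 (.node (.leaf 48717) 33 (.leaf 66776))))) 969 (.node (.node (.node (.leaf 69066) 91 (.leaf 68923)) 92 (.node (.leaf 68922) 184 (.leaf 66213))) 625 (.node (.node (.leaf 69455) 4 (.leaf 45490)) 56 (.node (.leaf 235765) 72 (.node (.leaf 69584) 399 (.leaf 88148)))))) 2208 (.node (.node (.node (.node (.leaf 263772) 72 (.leaf 70141)) 99 (.node (.leaf 197520) 371 (.leaf 190737))) 907 (.node (.node (.leaf 70977) 137 (.leaf 103683)) 216 (.node (.leaf 153504) 295 (.node (.leaf 70748) 8 (.leaf 71247))))) 1564 (.node (.node (.node (.leaf 162673) 36 (.leaf 85892)) 97 (.node (.leaf 48547) 236 (.node (.leaf 98922) 123 (.leaf 72091)))) 557 (.node (.node (.leaf 304677) 88 (.leaf 128421)) 842 (.node (.leaf 158995) 197 (.node (.leaf 187931) 33 (.leaf 189176)))))))))) 30230 (.node (.node (.node (.node (.node (.node (.node (.node (.leaf 80586) 178 (.leaf 114403)) 187 (.node (.leaf 170399) 58 (.leaf 73884))) 600 (.node (.node (.leaf 73968) 120 (.leaf 224891))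 303 (.node (.leaf 223504) 246 (.node (.leaf 74518) 32 (.leaf 32926))))) 1361 (.node (.node (.node (.leaf 175616) 22 (.leaf 37228)) 102 (.node (.leaf 228333) 120 (.leaf 74705))) 304 (.node (.node (.leaf 153608) 178 (.leaf 75211)) 680 (.node (.leaf 158012) 53 (.node (.leaf 75766) 24 (.leaf 171602)))))) 2561 (.node (.node (.node (.node (.leaf 263717) 21 (.leaf 75951)) 987 (.node (.leaf 47662) 274 (.leaf 153545))) 1551 (.node (.node (.leaf 150779) 3 (.leaf 280738)) 7 (.node (.leaf 82983) 55 (.node (.leaf 164659) 331 (.leaf 34257))))) 1997 (.node (.node (.node (.leaf 180947) 32 (.leaf 211668)) 280 (.node (.leaf 84533) 339 (.leaf 258534))) 671 (.node (.node (.leaf 298339) 98 (.leaf 279586)) 128 (.node (.leaf 124421) 4 (.node (.leaf 240431) 30 (.leaf 172392))))))) 5588 (.node (.node (.node (.node (.node (.leaf 290511) 28 (.leaf 49829)) 407 (.node (.leaf 80035) 155 (.leaf 254845))) 635 (.node (.node (.leaf 79843) 23 (.leaf 63563)) 35 (.node (.leaf 237582) 1186 (.node (.leaf 54458) 106 (.leaf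 222506))))) 1966 (.node (.node (.node (.leaf 80921) 21 (.leaf 255473)) 123 (.node (.leaf 86983) 26 (.leaf 62361))) 447 (.node (.node (.leaf 122378) 22 (.leaf 34824)) 94 (.node (.leaf 81462) 61 (.node (.leaf 154620) 18 (.leaf 186810)))))) 2659 (.node (.node (.node (.node (.leaf 152209) 386 (.leaf 81846)) 415 (.node (.leaf 82031) 1 (.leaf 82030))) 644 (.node (.node (.leaf 82260) 300 (.leaf 84012)) 326 (.node (.leaf 166749) 149 (.node (.leaf 75309) 248 (.leaf 149970))))) 1530 (.node (.node (.node (.leaf 83145) 118 (.leaf 198697)) 146 (.node (.leaf 83291) 162 (.node (.leaf 115305) 111 (.leaf 200995)))) 424 (.node (.node (.leaf 89732) 57 (.leaf 265745)) 164 (.node (.leaf 33873) 65 (.node (.leaf 122112) 32 (.leaf 109989)))))))) 10705 (.node (.node (.node (.node (.node (.node (.leaf 56611) 71 (.leaf 239125)) 224 (.node (.leaf 62488) 162 (.leaf 83012))) 387 (.node (.node (.leaf 83011) 73 (.leaf 78206)) 102 (.node (.leaf 84562) 1 (.node (.leaf 32032) 103 (.leaf 86025))))) 623 (.node (.node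 (.node (.leaf 84696) 72 (.leaf 54125)) 124 (.node (.leaf 84961) 43 (.leaf 84863))) 172 (.node (.node (.leaf 102608) 32 (.leaf 61347)) 59 (.node (.leaf 158810) 31 (.node (.leaf 84977) 1 (.leaf 85347)))))) 887 (.node (.node (.node (.node (.leaf 31890) 1 (.leaf 84820)) 17 (.node (.leaf 84958) 1 (.leaf 112066))) 22 (.node (.node (.leaf 84981) 1 (.leaf 36493)) 30 (.node (.leaf 303735) 114 (.node (.leaf 32035) 41 (.leaf 209933))))) 212 (.node (.node (.node (.leaf 151121) 36 (.leaf 229839)) 77 (.node (.leaf 85359) 8 (.leaf 88110))) 144 (.node (.node (.leaf 85316) 27 (.leaf 204191)) 31 (.node (.leaf 84959) 1 (.node (.leaf 85358) 10 (.leaf 85348))))))) 1293 (.node (.node (.node (.node (.node (.leaf 111951) 9 (.leaf 85375)) 96 (.node (.leaf 86031) 13 (.leaf 223480))) 170 (.node (.node (.leaf 85536) 34 (.leaf 233471)) 35 (.node (.leaf 173594) 117 (.node (.leaf 59467) 3 (.leaf 85691))))) 416 (.node (.node (.node (.leaf 85782) 77 (.leaf 187940)) 101 (.node (.leaf 114911) 83 (.leaf 132855))) 187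 (.node (.node (.leaf 85968) 55 (.leaf 130144)) 176 (.node (.leaf 54405) 3 (.node (.leaf 58482) 4 (.leaf 87123)))))) 1206 (.node (.node (.node (.node (.leaf 33969) 289 (.leaf 86860)) 290 (.node (.leaf 152355) 71 (.leaf 125907))) 362 (.node (.node (.leaf 71669) 11 (.leaf 86944)) 49 (.node (.leaf 81045) 18 (.node (.leaf 87001) 211 (.leaf 87211))))) 668 (.node (.node (.node (.leaf 287961) 187 (.leaf 161595)) 199 (.node (.leaf 87439) 139 (.node (.leaf 51948) 49 (.leaf 78764)))) 545 (.node (.node (.leaf 58054) 14 (.leaf 87798)) 111 (.node (.leaf 87897) 58 (.node (.leaf 88385) 23 (.leaf 87978))))))))) 14739 (.node (.node (.node (.node (.node (.node (.node (.leaf 234317) 424 (.leaf 297519)) 545 (.node (.leaf 130459) 83 (.leaf 68578))) 631 (.node (.node (.leaf 172661) 270 (.leaf 235631)) 288 (.node (.leaf 31928) 28 (.node (.leaf 89053) 115 (.leaf 201489))))) 1097 (.node (.node (.node (.leaf 71015) 264 (.leaf 119015)) 768 (.node (.leaf 89972) 201 (.leaf 90173))) 1010 (.node (.node (.leaf 90213)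 125 (.leaf 96446)) 134 (.node (.leaf 191459) 172 (.node (.leaf 129629) 36 (.leaf 203340)))))) 2483 (.node (.node (.node (.node (.leaf 90591) 9 (.leaf 90598)) 334 (.node (.leaf 101770) 350 (.leaf 208035))) 804 (.node (.node (.leaf 91393) 39 (.leaf 297971)) 211 (.node (.leaf 171701) 8 (.node (.leaf 222955) 130 (.leaf 148360))))) 1336 (.node (.node (.node (.leaf 94194) 367 (.leaf 265167)) 615 (.node (.leaf 291373) 276 (.leaf 252091))) 1028 (.node (.node (.leaf 111297) 18 (.leaf 148794)) 247 (.node (.leaf 119831) 646 (.node (.leaf 200281) 239 (.leaf 207350))))))) 6042 (.node (.node (.node (.node (.node (.leaf 215529) 40 (.leaf 177807)) 83 (.node (.leaf 137282) 56 (.leaf 234872))) 143 (.node (.node (.leaf 200787) 91 (.leaf 293031)) 321 (.node (.leaf 86286) 122 (.node (.leaf 249712) 9 (.leaf 253256))))) 719 (.node (.node (.node (.leaf 49964) 119 (.leaf 269024)) 413 (.node (.leaf 127560) 486 (.leaf 233438))) 916 (.node (.node (.leaf 95785) 17 (.leaf 95801)) 211 (.node (.leaf 95996) 162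 (.node (.leaf 96158) 137 (.leaf 149231)))))) 2256 (.node (.node (.node (.node (.leaf 82236) 142 (.leaf 91375)) 296 (.node (.leaf 202763) 256 (.leaf 231129))) 777 (.node (.node (.leaf 300469) 48 (.leaf 76610)) 188 (.node (.leaf 214797) 141 (.node (.leaf 228702) 277 (.leaf 83421))))) 1497 (.node (.node (.node (.leaf 203299) 86 (.leaf 97987)) 129 (.node (.leaf 269897) 128 (.node (.leaf 197108) 56 (.leaf 154742)))) 362 (.node (.node (.leaf 87910) 33 (.leaf 149979)) 38 (.node (.leaf 253949) 3 (.node (.leaf 295815) 92 (.leaf 192773)))))))) 10380 (.node (.node (.node (.node (.node (.node (.leaf 124833) 167 (.leaf 98653)) 372 (.node (.leaf 56890) 205 (.leaf 128188))) 614 (.node (.node (.leaf 189974) 191 (.leaf 274086)) 205 (.node (.leaf 158565) 38 (.node (.leaf 242768) 263 (.leaf 199593))))) 1272 (.node (.node (.node (.leaf 99960) 486 (.leaf 293461)) 551 (.node (.leaf 52399) 357 (.leaf 154228))) 924 (.node (.node (.leaf 100683) 315 (.leaf 36609)) 324 (.node (.leaf 287784) 131 (.node (.leaf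 235555) 242 (.leaf 140664)))))) 2916 (.node (.node (.node (.node (.leaf 195926) 280 (.leaf 77466)) 435 (.node (.leaf 157321) 428 (.leaf 215757))) 920 (.node (.node (.leaf 102323) 11 (.leaf 105732)) 35 (.node (.leaf 102357) 26 (.node (.leaf 36243) 50 (.leaf 102633))))) 1075 (.node (.node (.node (.leaf 102671) 64 (.leaf 40678)) 120 (.node (.leaf 84343) 35 (.leaf 102434))) 193 (.node (.node (.leaf 102478) 478 (.leaf 103150)) 479 (.node (.leaf 103149) 47 (.node (.leaf 113690) 463 (.leaf 58813))))))) 5196 (.node (.node (.node (.node (.node (.leaf 71114) 125 (.leaf 154116)) 308 (.node (.leaf 100352) 36 (.leaf 147328))) 381 (.node (.node (.leaf 83237) 74 (.leaf 162546)) 120 (.node (.leaf 100690) 209 (.node (.leaf 105508) 19 (.leaf 104626))))) 747 (.node (.node (.node (.leaf 190827) 160 (.leaf 162271)) 471 (.node (.leaf 228032) 663 (.leaf 37604))) 1490 (.node (.node (.leaf 277282) 6 (.leaf 295535)) 67 (.node (.leaf 249718) 306 (.node (.leaf 297779) 745 (.leaf 59735)))))) 4531 (.node (.node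 (.node (.node (.leaf 252509) 50 (.leaf 108038)) 208 (.node (.leaf 119058) 428 (.leaf 290449))) 638 (.node (.node (.leaf 108852) 44 (.leaf 155718)) 68 (.node (.leaf 290102) 526 (.node (.leaf 260139) 58 (.leaf 216089))))) 1460 (.node (.node (.node (.leaf 109673) 22 (.leaf 213244)) 24 (.node (.leaf 286522) 208 (.node (.leaf 106690) 83 (.leaf 83830)))) 324 (.node (.node (.leaf 109999) 11 (.leaf 132065)) 134 (.node (.leaf 207047) 156 (.node (.leaf 35667) 119 (.leaf 110407)))))))))))) 110495 (.node (.node (.node (.node (.node (.node (.node (.node (.node (.node (.leaf 243754) 49 (.leaf 204419)) 383 (.node (.leaf 125382) 190 (.leaf 238980))) 757 (.node (.node (.leaf 250866) 529 (.leaf 111780)) 680 (.node (.leaf 114592) 19 (.node (.leaf 85366) 105 (.leaf 112056))))) 1612 (.node (.node (.node (.leaf 210234) 353 (.leaf 60224)) 476 (.node (.leaf 205296) 16 (.leaf 221982))) 601 (.node (.node (.leaf 101457) 313 (.leaf 113021)) 421 (.node (.leaf 35279) 110 (.node (.leaf 32778) 97 (.leaf 52422))))))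 2842 (.node (.node (.node (.node (.leaf 54409) 1 (.leaf 52421)) 2 (.node (.leaf 50370) 114 (.leaf 258968))) 136 (.node (.node (.leaf 85780) 217 (.leaf 103197)) 329 (.node (.leaf 280176) 365 (.node (.leaf 110003) 7 (.leaf 114174))))) 839 (.node (.node (.node (.leaf 114175) 332 (.leaf 155981)) 429 (.node (.leaf 202076) 156 (.leaf 58768))) 1412 (.node (.node (.leaf 229086) 271 (.leaf 115859)) 303 (.node (.leaf 115890) 34 (.node (.leaf 245179) 64 (.leaf 115990))))))) 5535 (.node (.node (.node (.node (.node (.leaf 130075) 560 (.leaf 116590)) 651 (.node (.leaf 131342) 241 (.leaf 151172))) 1165 (.node (.node (.leaf 214124) 122 (.leaf 117316)) 280 (.node (.leaf 197902) 143 (.node (.leaf 193411) 373 (.leaf 82075))))) 2064 (.node (.node (.node (.leaf 113454) 13 (.leaf 201426)) 127 (.node (.leaf 159408) 63 (.leaf 157211))) 456 (.node (.node (.leaf 84085) 109 (.leaf 35085)) 284 (.node (.leaf 118834) 181 (.node (.leaf 89468) 358 (.leaf 67120)))))) 3371 (.node (.node (.node (.node (.leaf 57859)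 121 (.leaf 119521)) 238 (.node (.leaf 235572) 82 (.leaf 119720))) 430 (.node (.node (.leaf 93201) 16 (.leaf 119846)) 100 (.node (.leaf 245348) 78 (.node (.leaf 195845) 161 (.leaf 82065))))) 977 (.node (.node (.node (.leaf 173345) 842 (.leaf 123532)) 1230 (.node (.leaf 121607) 272 (.leaf 121881))) 1734 (.node (.node (.leaf 83798) 117 (.leaf 95646)) 450 (.node (.leaf 35664) 795 (.node (.leaf 150665) 1 (.leaf 150664)))))))) 13060 (.node (.node (.node (.node (.node (.node (.leaf 123556) 48 (.leaf 206288)) 259 (.node (.leaf 144236) 284 (.leaf 157917))) 609 (.node (.node (.leaf 255297) 66 (.leaf 262730)) 445 (.node (.leaf 198948) 145 (.node (.leaf 124755) 1 (.leaf 124754))))) 1832 (.node (.node (.node (.leaf 125387) 27 (.leaf 176163)) 235 (.node (.leaf 125622) 101 (.leaf 270720))) 353 (.node (.node (.leaf 101084) 204 (.leaf 207436)) 246 (.node (.leaf 205267) 1137 (.node (.leaf 234948) 163 (.leaf 272046)))))) 3883 (.node (.node (.node (.node (.leaf 132174) 198 (.leaf 238764)) 341 (.node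 (.leaf 36481) 70 (.leaf 250121))) 434 (.node (.node (.leaf 127871) 98 (.leaf 224279)) 253 (.node (.leaf 128126) 34 (.node (.leaf 306614) 226 (.leaf 128535))))) 963 (.node (.node (.node (.leaf 187577) 2 (.leaf 52649)) 287 (.node (.leaf 88393) 247 (.leaf 108011))) 535 (.node (.node (.leaf 128936) 5 (.leaf 128941)) 13 (.node (.leaf 201080) 5 (.node (.leaf 128955) 43 (.leaf 157210))))))) 5451 (.node (.node (.node (.node (.node (.leaf 104362) 81 (.leaf 129087)) 374 (.node (.leaf 129379) 107 (.leaf 263164))) 493 (.node (.node (.leaf 65515) 130 (.leaf 90520)) 249 (.node (.leaf 241354) 34 (.node (.leaf 129782) 2 (.leaf 80712))))) 807 (.node (.node (.node (.leaf 129813) 205 (.leaf 112810)) 209 (.node (.leaf 130021) 238 (.leaf 54254))) 461 (.node (.node (.leaf 255156) 70 (.leaf 116957)) 170 (.node (.leaf 52425) 1 (.node (.leaf 130447) 1 (.leaf 52426)))))) 1441 (.node (.node (.node (.node (.leaf 130445) 12 (.leaf 88652)) 93 (.node (.leaf 130541) 72 (.leaf 65753))) 355 (.node (.node (.leaf 130802)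 39 (.leaf 113474)) 254 (.node (.leaf 267810) 71 (.node (.leaf 37096) 2 (.leaf 187397))))) 684 (.node (.node (.node (.leaf 241502) 211 (.leaf 116681)) 323 (.node (.leaf 285520) 122 (.node (.leaf 219759) 84 (.leaf 131659)))) 704 (.node (.node (.leaf 131835) 50 (.leaf 249934)) 304 (.node (.leaf 216787) 35 (.node (.leaf 127438) 291 (.leaf 132466))))))))) 22212 (.node (.node (.node (.node (.node (.node (.node (.leaf 77180) 132 (.leaf 64387)) 148 (.node (.leaf 85966) 385 (.leaf 103748))) 650 (.node (.node (.leaf 132946) 360 (.leaf 211744)) 733 (.node (.leaf 244325) 121 (.node (.leaf 194178) 597 (.leaf 221360))))) 2193 (.node (.node (.node (.leaf 211740) 14 (.leaf 135052)) 128 (.node (.leaf 134574) 24 (.leaf 134914))) 1483 (.node (.node (.leaf 109752) 170 (.leaf 154289)) 202 (.node (.leaf 215057) 284 (.node (.leaf 136660) 166 (.leaf 54347)))))) 4339 (.node (.node (.node (.node (.leaf 151609) 271 (.leaf 183182)) 327 (.node (.leaf 207851) 79 (.leaf 146639))) 609 (.node (.node (.leaf 196346)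 241 (.leaf 275537)) 323 (.node (.leaf 138042) 150 (.node (.leaf 207445) 241 (.leaf 175632))))) 2060 (.node (.node (.node (.leaf 150643) 268 (.leaf 174860)) 336 (.node (.leaf 266310) 127 (.leaf 244489))) 679 (.node (.node (.leaf 205381) 426 (.leaf 140211)) 612 (.node (.leaf 154299) 88 (.node (.leaf 214636) 31 (.leaf 247893))))))) 7832 (.node (.node (.node (.node (.node (.leaf 243553) 348 (.leaf 140715)) 431 (.node (.leaf 140971) 454 (.leaf 267534))) 1090 (.node (.node (.leaf 141630) 98 (.leaf 202986)) 264 (.node (.leaf 230679) 90 (.node (.leaf 141982) 16 (.leaf 137773))))) 1752 (.node (.node (.node (.leaf 270527) 61 (.leaf 142289)) 152 (.node (.leaf 142443) 79 (.leaf 192431))) 317 (.node (.node (.leaf 156189) 293 (.leaf 236906)) 517 (.node (.leaf 118961) 103 (.node (.leaf 208201) 35 (.leaf 274769)))))) 3206 (.node (.node (.node (.node (.leaf 150449) 412 (.leaf 144156)) 585 (.node (.leaf 134147) 12 (.leaf 197308))) 738 (.node (.node (.leaf 169528) 62 (.leaf 107738)) 367 (.node (.leaf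 144850) 97 (.node (.leaf 292984) 602 (.leaf 114920))))) 2004 (.node (.node (.node (.leaf 145749) 219 (.leaf 290134)) 506 (.node (.leaf 122736) 97 (.node (.leaf 216861) 199 (.leaf 146552)))) 904 (.node (.node (.leaf 77651) 6 (.leaf 268428)) 25 (.node (.leaf 259834) 205 (.node (.leaf 163477) 114 (.leaf 146997)))))))) 15271 (.node (.node (.node (.node (.node (.node (.leaf 55229) 26 (.leaf 217075)) 470 (.node (.leaf 186017) 136 (.leaf 148584))) 771 (.node (.node (.leaf 89788) 19 (.leaf 244446)) 45 (.node (.leaf 92972) 388 (.node (.leaf 82984) 83 (.leaf 149265))))) 1313 (.node (.node (.node (.leaf 149292) 115 (.leaf 41308)) 124 (.node (.leaf 152108) 77 (.leaf 149492))) 278 (.node (.node (.leaf 149569) 76 (.leaf 132364)) 164 (.node (.leaf 149733) 102 (.node (.leaf 37216) 144 (.leaf 98297)))))) 2153 (.node (.node (.node (.node (.leaf 150132) 12 (.leaf 217700)) 157 (.node (.leaf 144623) 50 (.leaf 150337))) 318 (.node (.node (.leaf 143745) 170 (.leaf 219770)) 586 (.node (.leaf 85884) 248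 (.node (.leaf 147703) 6 (.leaf 151288))))) 1218 (.node (.node (.node (.leaf 60372) 324 (.leaf 151673)) 630 (.node (.leaf 193184) 85 (.leaf 236728))) 794 (.node (.node (.leaf 263791) 38 (.leaf 141026)) 66 (.node (.leaf 81615) 21 (.node (.leaf 184868) 157 (.leaf 152388))))))) 4410 (.node (.node (.node (.node (.node (.leaf 152387) 76 (.leaf 191451)) 330 (.node (.leaf 288408) 40 (.leaf 114526))) 572 (.node (.node (.leaf 248780) 37 (.leaf 217294)) 461 (.node (.leaf 153421) 29 (.node (.leaf 287504) 20 (.leaf 185632))))) 1096 (.node (.node (.node (.leaf 192991) 15 (.leaf 153500)) 16 (.node (.leaf 153499) 45 (.leaf 77190))) 151 (.node (.node (.leaf 292839) 47 (.leaf 153683)) 654 (.node (.leaf 136553) 10 (.node (.leaf 140397) 89 (.leaf 154388)))))) 2099 (.node (.node (.node (.node (.leaf 254932) 119 (.leaf 104438)) 133 (.node (.leaf 81524) 23 (.leaf 84168))) 170 (.node (.node (.leaf 275406) 464 (.leaf 155120)) 494 (.node (.leaf 51267) 1 (.node (.leaf 155152) 190 (.leaf 176900))))) 895 (.node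 (.node (.node (.leaf 226645) 16 (.leaf 135916)) 127 (.node (.leaf 92958) 44 (.node (.leaf 253554) 79 (.leaf 54387)))) 263 (.node (.node (.leaf 240546) 354 (.leaf 130673)) 479 (.node (.leaf 151972) 276 (.node (.leaf 265790) 52 (.leaf 235382)))))))))) 46072 (.node (.node (.node (.node (.node (.node (.node (.node (.leaf 205526) 70 (.leaf 156638)) 193 (.node (.leaf 156760) 114 (.leaf 156874))) 339 (.node (.node (.leaf 55423) 304 (.leaf 128997)) 477 (.node (.leaf 226437) 313 (.node (.leaf 157886) 25 (.leaf 263645))))) 1442 (.node (.node (.node (.leaf 253881) 8 (.leaf 129888)) 125 (.node (.leaf 49944) 676 (.leaf 84927))) 941 (.node (.node (.leaf 263866) 263 (.leaf 159214)) 293 (.node (.leaf 184613) 387 (.node (.leaf 160185) 17 (.leaf 94927)))))) 3226 (.node (.node (.node (.node (.leaf 192782) 163 (.leaf 196548)) 164 (.node (.leaf 49706) 9 (.leaf 160175))) 379 (.node (.node (.leaf 160706) 236 (.leaf 212039)) 262 (.node (.leaf 235316) 32 (.node (.leaf 194461) 21 (.leaf 205347))))) 913 (.node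 (.node (.node (.leaf 160172) 215 (.leaf 251121)) 245 (.node (.leaf 160952) 73 (.leaf 161024))) 323 (.node (.node (.leaf 219067) 319 (.leaf 161349)) 765 (.node (.leaf 161793) 376 (.node (.leaf 107026) 345 (.leaf 99000))))))) 5979 (.node (.node (.node (.node (.node (.leaf 104138) 574 (.leaf 163120)) 579 (.node (.leaf 251647) 119 (.leaf 134912))) 1587 (.node (.node (.leaf 94947) 203 (.leaf 283634)) 250 (.node (.leaf 302596) 10 (.node (.leaf 293356) 526 (.leaf 256664))))) 3101 (.node (.node (.node (.leaf 250800) 100 (.leaf 146062)) 145 (.node (.leaf 68134) 219 (.leaf 247615))) 782 (.node (.node (.leaf 275761) 220 (.leaf 167906)) 231 (.node (.leaf 166660) 41 (.node (.leaf 59804) 104 (.leaf 166805)))))) 4352 (.node (.node (.node (.node (.leaf 151783) 47 (.leaf 169593)) 309 (.node (.leaf 134755) 92 (.leaf 168344))) 788 (.node (.node (.leaf 79507) 139 (.leaf 159917)) 379 (.node (.leaf 238819) 129 (.node (.leaf 168194) 190 (.leaf 168532))))) 1513 (.node (.node (.node (.leaf 156312) 49 (.leaf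 168460)) 121 (.node (.leaf 168384) 119 (.node (.leaf 270606) 97 (.leaf 168747)))) 341 (.node (.node (.leaf 168752) 267 (.leaf 202235)) 460 (.node (.leaf 171440) 159 (.node (.leaf 277396) 206 (.leaf 166940)))))))) 13248 (.node (.node (.node (.node (.node (.node (.leaf 246138) 16 (.leaf 169832)) 17 (.node (.leaf 169831) 199 (.leaf 263519))) 332 (.node (.node (.leaf 170147) 549 (.leaf 87438)) 641 (.node (.leaf 170788) 284 (.node (.leaf 219699) 2 (.leaf 224592))))) 1477 (.node (.node (.node (.leaf 74776) 86 (.leaf 171516)) 310 (.node (.leaf 75790) 41 (.leaf 58509))) 407 (.node (.node (.leaf 63657) 2 (.leaf 91605)) 131 (.node (.leaf 305542) 84 (.node (.leaf 171914) 107 (.leaf 151212)))))) 2837 (.node (.node (.node (.node (.leaf 221642) 8 (.leaf 168295)) 310 (.node (.leaf 256227) 4 (.leaf 56691))) 401 (.node (.node (.leaf 39417) 153 (.leaf 110871)) 166 (.node (.leaf 51507) 126 (.node (.leaf 120378) 107 (.leaf 153003))))) 1121 (.node (.node (.node (.leaf 262768) 143 (.leaf 114246)) 297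 (.node (.leaf 174070) 55 (.leaf 198060))) 502 (.node (.node (.leaf 206060) 284 (.leaf 141869)) 301 (.node (.leaf 174577) 1 (.node (.leaf 174576) 40 (.leaf 215826))))))) 4814 (.node (.node (.node (.node (.node (.leaf 51522) 20 (.leaf 63210)) 606 (.node (.leaf 166136) 121 (.leaf 230515))) 837 (.node (.node (.leaf 65949) 134 (.leaf 175599)) 150 (.node (.leaf 74729) 566 (.node (.leaf 175900) 10 (.leaf 176192))))) 1636 (.node (.node (.node (.leaf 273481) 87 (.leaf 176352)) 255 (.node (.leaf 176520) 173 (.leaf 176693))) 543 (.node (.node (.leaf 291969) 629 (.leaf 177437)) 1056 (.node (.leaf 176823) 226 (.node (.leaf 204271) 608 (.leaf 178699)))))) 4483 (.node (.node (.node (.node (.leaf 189194) 438 (.leaf 170680)) 494 (.node (.leaf 240102) 689 (.leaf 273396))) 1777 (.node (.node (.leaf 195642) 72 (.leaf 54751)) 240 (.node (.leaf 96922) 213 (.node (.leaf 181342) 129 (.leaf 65823))))) 2437 (.node (.node (.node (.leaf 181549) 476 (.leaf 127990)) 493 (.node (.leaf 182157) 234 (.node (.leaf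 182276) 118 (.leaf 182394)))) 1132 (.node (.node (.leaf 182796) 28 (.leaf 137530)) 41 (.node (.leaf 110429) 150 (.node (.leaf 77340) 21 (.leaf 253335))))))))) 26331 (.node (.node (.node (.node (.node (.node (.node (.leaf 174102) 183 (.leaf 286380)) 362 (.node (.leaf 54532) 120 (.leaf 49413))) 512 (.node (.node (.leaf 183411) 13 (.leaf 174261)) 494 (.node (.leaf 183905) 1 (.node (.leaf 183904) 324 (.leaf 149021))))) 1351 (.node (.node (.node (.leaf 184248) 14 (.leaf 242212)) 196 (.node (.leaf 184446) 168 (.leaf 159243))) 442 (.node (.node (.leaf 184692) 17 (.leaf 257166)) 266 (.node (.leaf 301462) 118 (.node (.leaf 184259) 51 (.leaf 297316)))))) 2814 (.node (.node (.node (.node (.leaf 201423) 83 (.leaf 161602)) 305 (.node (.leaf 148448) 495 (.leaf 281585))) 1120 (.node (.node (.leaf 202940) 26 (.leaf 37860)) 114 (.node (.leaf 213772) 94 (.node (.leaf 292326) 575 (.leaf 207733))))) 2424 (.node (.node (.node (.leaf 194742) 318 (.leaf 98125)) 521 (.node (.leaf 215961) 22 (.leaf 236135)))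 1058 (.node (.node (.leaf 179112) 6 (.leaf 198769)) 81 (.node (.leaf 189196) 127 (.node (.leaf 189403) 67 (.leaf 189469))))))) 6675 (.node (.node (.node (.node (.node (.leaf 241949) 1 (.leaf 111806)) 142 (.node (.leaf 248035) 71 (.leaf 203124))) 256 (.node (.node (.leaf 88552) 306 (.leaf 190136)) 378 (.node (.leaf 54395) 207 (.node (.leaf 112709) 137 (.leaf 190551))))) 1051 (.node (.node (.node (.leaf 114112) 47 (.leaf 261048)) 192 (.node (.leaf 48305) 19 (.leaf 66359))) 431 (.node (.node (.leaf 198148) 396 (.leaf 152464)) 442 (.node (.leaf 229614) 18 (.node (.leaf 38892) 99 (.leaf 83630)))))) 2089 (.node (.node (.node (.node (.leaf 174982) 30 (.leaf 210499)) 93 (.node (.leaf 72774) 2 (.leaf 191757))) 172 (.node (.node (.leaf 236177) 407 (.leaf 248430)) 503 (.node (.leaf 192338) 3 (.node (.leaf 68589) 177 (.leaf 200436))))) 1111 (.node (.node (.node (.leaf 98397) 9 (.leaf 159793)) 56 (.node (.leaf 118679) 46 (.node (.leaf 299564) 141 (.leaf 157196)))) 755 (.node (.node (.leaf 61588)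 298 (.leaf 273186)) 487 (.node (.leaf 115298) 70 (.node (.leaf 38899) 28 (.leaf 190492)))))))) 11484 (.node (.node (.node (.node (.node (.node (.leaf 41494) 259 (.leaf 194641)) 315 (.node (.leaf 194698) 45 (.leaf 188136))) 524 (.node (.node (.leaf 149328) 40 (.leaf 296184)) 123 (.node (.leaf 35643) 118 (.node (.leaf 284401) 228 (.leaf 67134))))) 1180 (.node (.node (.node (.leaf 79908) 214 (.leaf 48675)) 229 (.node (.leaf 195791) 5 (.leaf 182429))) 259 (.node (.node (.leaf 283651) 398 (.leaf 241152)) 651 (.node (.leaf 304613) 116 (.node (.leaf 77046) 36 (.leaf 180943)))))) 2333 (.node (.node (.node (.node (.leaf 207263) 112 (.leaf 203360)) 356 (.node (.leaf 196826) 218 (.leaf 197289))) 661 (.node (.node (.leaf 299368) 144 (.leaf 70169)) 264 (.node (.leaf 32645) 233 (.node (.leaf 250593) 236 (.leaf 231377))))) 1406 (.node (.node (.node (.leaf 198121) 276 (.leaf 259652)) 494 (.node (.leaf 198614) 4 (.leaf 255430))) 575 (.node (.node (.leaf 122442) 73 (.leaf 189200)) 235 (.node (.leaf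 222663) 519 (.node (.leaf 155845) 182 (.leaf 218439))))))) 5291 (.node (.node (.node (.node (.node (.leaf 205447) 752 (.leaf 305633)) 836 (.node (.leaf 200509) 448 (.leaf 254693))) 1322 (.node (.node (.leaf 83564) 61 (.leaf 83220)) 413 (.node (.leaf 241824) 18 (.node (.leaf 118107) 44 (.leaf 201471))))) 1808 (.node (.node (.node (.leaf 98309) 8 (.leaf 89169)) 93 (.node (.leaf 195818) 74 (.leaf 189723))) 431 (.node (.node (.leaf 267201) 114 (.leaf 201883)) 164 (.node (.leaf 114605) 17 (.node (.leaf 189611) 42 (.leaf 253289)))))) 2616 (.node (.node (.node (.node (.leaf 103410) 128 (.leaf 212943)) 158 (.node (.leaf 175604) 316 (.leaf 96701))) 562 (.node (.node (.leaf 172105) 22 (.leaf 110446)) 57 (.node (.leaf 222096) 78 (.node (.leaf 141727) 21 (.leaf 133109))))) 792 (.node (.node (.node (.leaf 220371) 45 (.leaf 127243)) 46 (.node (.leaf 94843) 15 (.node (.leaf 50048) 517 (.leaf 253564)))) 663 (.node (.node (.leaf 229831) 251 (.leaf 203995)) 268 (.node (.leaf 162013) 24 (.node (.leaf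 172376) 165 (.leaf 204202))))))))))) 93776 (.node (.node (.node (.node (.node (.node (.node (.node (.node (.leaf 178090) 166 (.leaf 100647)) 365 (.node (.leaf 94754) 95 (.leaf 248090))) 905 (.node (.node (.leaf 142580) 205 (.leaf 139785)) 271 (.node (.leaf 199673) 79 (.node (.leaf 156567) 424 (.leaf 209594))))) 1832 (.node (.node (.node (.leaf 211557) 29 (.leaf 131121)) 161 (.node (.leaf 259735) 13 (.leaf 277981))) 295 (.node (.node (.leaf 145426) 205 (.leaf 253839)) 812 (.node (.leaf 142869) 53 (.node (.leaf 196715) 144 (.leaf 66478)))))) 3161 (.node (.node (.node (.node (.leaf 205966) 419 (.leaf 137373)) 438 (.node (.leaf 290942) 103 (.leaf 73647))) 615 (.node (.node (.leaf 264034) 50 (.leaf 208096)) 154 (.node (.leaf 143228) 162 (.node (.leaf 208363) 126 (.leaf 229984))))) 1082 (.node (.node (.node (.leaf 306511) 213 (.leaf 254418)) 251 (.node (.leaf 192173) 143 (.leaf 281896))) 753 (.node (.node (.leaf 73906) 178 (.leaf 212647)) 209 (.node (.leaf 168449) 272 (.node (.leaf 209748)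 340 (.leaf 57195))))))) 5822 (.node (.node (.node (.node (.node (.leaf 210093) 250 (.leaf 210344)) 321 (.node (.leaf 240770) 209 (.leaf 190662))) 722 (.node (.node (.leaf 210712) 47 (.leaf 133861)) 487 (.node (.leaf 224284) 107 (.node (.leaf 137226) 58 (.leaf 95678))))) 1408 (.node (.node (.node (.leaf 196400) 56 (.leaf 206103)) 59 (.node (.leaf 227983) 108 (.leaf 77958))) 238 (.node (.node (.leaf 232932) 5 (.leaf 133717)) 91 (.node (.leaf 211831) 289 (.node (.leaf 212120) 28 (.leaf 178670)))))) 2396 (.node (.node (.node (.node (.leaf 223760) 24 (.leaf 127915)) 521 (.node (.leaf 208015) 337 (.leaf 213347))) 1283 (.node (.node (.leaf 186946) 45 (.leaf 169488)) 398 (.node (.leaf 231842) 135 (.node (.leaf 214305) 286 (.leaf 261617))))) 2146 (.node (.node (.node (.leaf 128810) 144 (.leaf 185169)) 305 (.node (.leaf 40801) 106 (.leaf 215046))) 486 (.node (.node (.leaf 172851) 86 (.leaf 111347)) 531 (.node (.leaf 56833) 16 (.node (.leaf 215187) 84 (.leaf 115442)))))))) 11490 (.node (.node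 (.node (.node (.node (.node (.leaf 172205) 65 (.leaf 174617)) 163 (.node (.leaf 284201) 230 (.leaf 206372))) 974 (.node (.node (.leaf 186046) 169 (.leaf 193413)) 686 (.node (.leaf 217421) 39 (.node (.leaf 171596) 70 (.leaf 72498))))) 1859 (.node (.node (.node (.leaf 128736) 80 (.leaf 150143)) 459 (.node (.leaf 218078) 60 (.leaf 218138))) 558 (.node (.node (.leaf 53131) 112 (.leaf 245089)) 125 (.node (.leaf 179692) 350 (.node (.leaf 218653) 249 (.leaf 294159)))))) 3201 (.node (.node (.node (.node (.leaf 54196) 97 (.leaf 219058)) 104 (.node (.leaf 219066) 104 (.leaf 219170))) 346 (.node (.node (.leaf 279112) 95 (.leaf 173729)) 327 (.node (.leaf 201738) 148 (.node (.leaf 114157) 198 (.leaf 219981))))) 1065 (.node (.node (.node (.leaf 229637) 370 (.leaf 227868)) 429 (.node (.leaf 265268) 20 (.leaf 220476))) 469 (.node (.node (.leaf 262459) 85 (.leaf 205636)) 145 (.node (.leaf 232208) 53 (.node (.leaf 220694) 6 (.leaf 279084))))))) 5177 (.node (.node (.node (.node (.node (.leaf 55751)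 376 (.leaf 201111)) 399 (.node (.leaf 221338) 399 (.leaf 62366))) 1280 (.node (.node (.leaf 259428) 130 (.leaf 220974)) 152 (.node (.leaf 243413) 632 (.node (.leaf 223002) 145 (.leaf 282964))))) 2295 (.node (.node (.node (.leaf 189319) 14 (.leaf 273224)) 210 (.node (.leaf 223443) 14 (.leaf 223457))) 254 (.node (.node (.leaf 258485) 366 (.leaf 142258)) 414 (.node (.leaf 215280) 637 (.node (.leaf 242423) 54 (.leaf 171074)))))) 3715 (.node (.node (.node (.node (.leaf 261719) 142 (.leaf 186463)) 273 (.node (.leaf 81439) 119 (.leaf 225044))) 788 (.node (.node (.leaf 107629) 133 (.leaf 225575)) 153 (.node (.leaf 121428) 33 (.node (.leaf 289486) 203 (.leaf 223913))))) 1281 (.node (.node (.node (.leaf 139111) 240 (.leaf 93089)) 503 (.node (.leaf 157383) 90 (.node (.leaf 151194) 222 (.leaf 275187)))) 1000 (.node (.node (.leaf 231577) 2 (.leaf 250214)) 14 (.node (.leaf 275590) 5 (.node (.leaf 227061) 150 (.leaf 70889))))))))) 22836 (.node (.node (.node (.node (.node (.node (.node (.leaf 88700)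 170 (.leaf 157468)) 206 (.node (.leaf 188365) 504 (.leaf 231181))) 913 (.node (.node (.leaf 267515) 1 (.leaf 99583)) 49 (.node (.leaf 185765) 157 (.node (.leaf 234394) 231 (.leaf 216622))))) 1422 (.node (.node (.node (.leaf 177773) 173 (.leaf 97511)) 446 (.node (.leaf 97329) 349 (.leaf 188406))) 848 (.node (.node (.leaf 82098) 253 (.leaf 75214)) 414 (.node (.leaf 261038) 184 (.node (.leaf 61943) 9 (.leaf 208489)))))) 3199 (.node (.node (.node (.node (.leaf 269296) 60 (.leaf 286219)) 216 (.node (.leaf 286600) 157 (.leaf 141893))) 513 (.node (.node (.leaf 119172) 62 (.leaf 282146)) 128 (.node (.leaf 83336) 186 (.node (.leaf 214357) 48 (.leaf 227817))))) 929 (.node (.node (.node (.leaf 225988) 6 (.leaf 112006)) 8 (.node (.leaf 231242) 43 (.leaf 231286))) 57 (.node (.node (.leaf 111439) 65 (.leaf 54137)) 85 (.node (.leaf 198109) 280 (.node (.leaf 287045) 151 (.leaf 219611))))))) 4767 (.node (.node (.node (.node (.node (.leaf 253962) 70 (.leaf 110903)) 294 (.node (.leaf 184131) 3 (.leaf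 232171))) 313 (.node (.node (.leaf 232187) 87 (.leaf 241149)) 339 (.node (.leaf 240065) 106 (.node (.leaf 142994) 66 (.leaf 266755))))) 1200 (.node (.node (.node (.leaf 239021) 90 (.leaf 211836)) 364 (.node (.leaf 95767) 54 (.leaf 258453))) 475 (.node (.node (.leaf 65105) 59 (.leaf 233608)) 329 (.node (.leaf 300204) 192 (.node (.leaf 234070) 3 (.leaf 231809)))))) 2449 (.node (.node (.node (.node (.leaf 86106) 246 (.leaf 139825)) 696 (.node (.leaf 239025) 85 (.leaf 152560))) 1181 (.node (.node (.leaf 202646) 40 (.leaf 185815)) 68 (.node (.leaf 119639) 482 (.node (.leaf 239323) 675 (.leaf 190942))))) 2545 (.node (.node (.node (.leaf 306673) 38 (.leaf 142901)) 473 (.node (.leaf 280847) 192 (.node (.leaf 238686) 307 (.leaf 258761)))) 1474 (.node (.node (.leaf 221328) 422 (.leaf 127636)) 539 (.node (.leaf 256663) 244 (.node (.leaf 84144) 23 (.leaf 244912)))))))) 12365 (.node (.node (.node (.node (.node (.node (.leaf 280996) 568 (.leaf 296943)) 630 (.node (.leaf 179606) 160 (.leaf 240262)))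 797 (.node (.node (.leaf 166259) 386 (.leaf 306187)) 581 (.node (.leaf 196339) 429 (.node (.leaf 178936) 75 (.leaf 129748))))) 2264 (.node (.node (.node (.leaf 270356) 213 (.leaf 189573)) 269 (.node (.leaf 242005) 197 (.leaf 83843))) 476 (.node (.node (.leaf 184263) 238 (.leaf 242450)) 549 (.node (.leaf 199857) 90 (.node (.leaf 178409) 346 (.leaf 103895)))))) 3858 (.node (.node (.node (.node (.leaf 301984) 64 (.leaf 97683)) 323 (.node (.leaf 258952) 77 (.leaf 248886))) 427 (.node (.node (.leaf 243757) 48 (.leaf 243805)) 151 (.node (.leaf 233694) 435 (.node (.leaf 263626) 50 (.leaf 293805))))) 1116 (.node (.node (.node (.leaf 148768) 43 (.leaf 139569)) 56 (.node (.leaf 90942) 410 (.leaf 239148))) 841 (.node (.node (.leaf 245287) 247 (.leaf 138871)) 334 (.node (.leaf 186821) 333 (.node (.leaf 193008) 435 (.leaf 105718))))))) 7620 (.node (.node (.node (.node (.node (.leaf 247092) 56 (.leaf 213159)) 415 (.node (.leaf 122597) 226 (.leaf 138801))) 834 (.node (.node (.leaf 33260) 221 (.leaf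 99749)) 495 (.node (.leaf 158873) 9 (.node (.leaf 192241) 474 (.leaf 33998))))) 1813 (.node (.node (.node (.leaf 293603) 177 (.leaf 250252)) 250 (.node (.leaf 293432) 131 (.leaf 197669))) 563 (.node (.node (.leaf 244134) 150 (.leaf 289899)) 244 (.node (.leaf 94735) 69 (.node (.leaf 102914) 91 (.leaf 290730)))))) 2792 (.node (.node (.node (.node (.leaf 285324) 50 (.leaf 131885)) 169 (.node (.leaf 299387) 595 (.leaf 193873))) 911 (.node (.node (.leaf 250795) 5 (.leaf 165647)) 14 (.node (.leaf 36952) 57 (.node (.leaf 111252) 88 (.leaf 300348))))) 1381 (.node (.node (.node (.leaf 120254) 300 (.leaf 236828)) 698 (.node (.leaf 251963) 41 (.node (.leaf 278804) 487 (.leaf 84425)))) 1666 (.node (.node (.leaf 252931) 72 (.leaf 36453)) 174 (.node (.leaf 157362) 230 (.node (.leaf 182893) 6 (.leaf 241812)))))))))) 49193 (.node (.node (.node (.node (.node (.node (.node (.node (.leaf 70191) 100 (.leaf 203659)) 340 (.node (.leaf 65932) 77 (.leaf 158009))) 498 (.node (.node (.leaf 231874) 10 (.leaf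 253972)) 480 (.node (.leaf 266305) 155 (.node (.leaf 272917) 252 (.leaf 89915))))) 1522 (.node (.node (.node (.leaf 171929) 18 (.leaf 152274)) 103 (.node (.leaf 255089) 67 (.leaf 130274))) 216 (.node (.node (.leaf 96186) 11 (.leaf 255213)) 58 (.node (.leaf 113639) 37 (.node (.leaf 124164) 382 (.leaf 224386)))))) 2236 (.node (.node (.node (.node (.leaf 255700) 696 (.leaf 259673)) 854 (.node (.leaf 219831) 79 (.leaf 218571))) 1107 (.node (.node (.leaf 242903) 27 (.leaf 98696)) 138 (.node (.leaf 223575) 80 (.node (.leaf 248618) 60 (.leaf 73543))))) 1466 (.node (.node (.node (.leaf 184708) 1 (.leaf 239384)) 125 (.node (.leaf 40519) 804 (.leaf 139056))) 1018 (.node (.node (.leaf 34801) 87 (.leaf 211545)) 96 (.node (.leaf 188076) 173 (.node (.leaf 233492) 76 (.leaf 289515))))))) 5400 (.node (.node (.node (.node (.node (.leaf 260660) 285 (.leaf 149154)) 809 (.node (.leaf 256396) 22 (.leaf 259695))) 881 (.node (.node (.leaf 289747) 110 (.leaf 281623)) 276 (.node (.leaf 178125) 44 (.node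 (.leaf 260143) 152 (.leaf 46312))))) 1448 (.node (.node (.node (.leaf 303171) 69 (.leaf 143241)) 180 (.node (.leaf 169539) 133 (.leaf 241731))) 726 (.node (.node (.leaf 229791) 684 (.leaf 34053)) 745 (.node (.leaf 302843) 62 (.node (.leaf 281989) 278 (.leaf 241176)))))) 3347 (.node (.node (.node (.node (.leaf 289962) 74 (.leaf 174633)) 109 (.node (.leaf 53871) 13 (.leaf 298061))) 145 (.node (.node (.leaf 262356) 85 (.leaf 64370)) 103 (.node (.leaf 220496) 198 (.node (.leaf 287187) 78 (.leaf 262736))))) 608 (.node (.node (.node (.leaf 160360) 121 (.leaf 246956)) 310 (.node (.leaf 69842) 194 (.node (.leaf 144329) 38 (.leaf 156243)))) 743 (.node (.node (.leaf 207866) 7 (.leaf 92148)) 127 (.node (.leaf 125173) 83 (.node (.leaf 70070) 467 (.leaf 238562)))))))) 10846 (.node (.node (.node (.node (.node (.node (.leaf 216678) 194 (.leaf 128880)) 430 (.node (.leaf 55754) 288 (.leaf 172963))) 746 (.node (.node (.leaf 302608) 204 (.leaf 93690)) 479 (.node (.leaf 155593) 59 (.node (.leaf 144858)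 106 (.leaf 186477))))) 1784 (.node (.node (.node (.leaf 186576) 34 (.leaf 277625)) 591 (.node (.leaf 254893) 51 (.leaf 241951))) 661 (.node (.node (.leaf 232698) 278 (.leaf 275674)) 575 (.node (.leaf 251906) 35 (.node (.leaf 85001) 72 (.leaf 130219)))))) 3181 (.node (.node (.node (.node (.leaf 243258) 227 (.leaf 241458)) 786 (.node (.leaf 268278) 1 (.leaf 268277))) 951 (.node (.node (.leaf 34925) 6 (.leaf 254915)) 437 (.node (.leaf 231930) 78 (.node (.leaf 276541) 63 (.leaf 214253))))) 1934 (.node (.node (.node (.leaf 276613) 55 (.leaf 176002)) 298 (.node (.leaf 227477) 333 (.leaf 211702))) 654 (.node (.node (.leaf 87557) 45 (.leaf 210041)) 103 (.node (.leaf 156313) 102 (.node (.leaf 281605) 198 (.leaf 126810))))))) 6296 (.node (.node (.node (.node (.node (.leaf 168651) 480 (.leaf 106200)) 686 (.node (.leaf 175168) 472 (.leaf 286919))) 1218 (.node (.node (.leaf 138200) 118 (.leaf 283969)) 344 (.node (.leaf 186253) 97 (.node (.leaf 196108) 57 (.leaf 304469))))) 1734 (.node (.node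 (.node (.leaf 297461) 476 (.leaf 273473)) 884 (.node (.leaf 223247) 257 (.leaf 176265))) 2080 (.node (.node (.leaf 241281) 191 (.leaf 98547)) 550 (.node (.leaf 59497) 8 (.node (.leaf 146681) 85 (.leaf 298476)))))) 4567 (.node (.node (.node (.node (.leaf 246901) 55 (.leaf 259268)) 76 (.node (.leaf 47442) 167 (.leaf 267268))) 364 (.node (.node (.leaf 137896) 558 (.leaf 272023)) 876 (.node (.leaf 60577) 200 (.node (.leaf 269425) 406 (.leaf 63658))))) 1919 (.node (.node (.node (.leaf 42482) 625 (.leaf 144993)) 788 (.node (.leaf 286521) 38 (.node (.leaf 219572) 83 (.leaf 189681)))) 1797 (.node (.node (.leaf 86784) 48 (.leaf 182078)) 948 (.node (.leaf 190951) 213 (.node (.leaf 131046) 17 (.leaf 69138))))))))) 26712 (.node (.node (.node (.node (.node (.node (.node (.leaf 113802) 124 (.leaf 280300)) 562 (.node (.leaf 77483) 494 (.leaf 147941))) 1110 (.node (.node (.leaf 281286) 145 (.leaf 106437)) 333 (.node (.leaf 104717) 4 (.node (.leaf 259855) 257 (.leaf 109490))))) 2108 (.node (.node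 (.node (.leaf 95482) 18 (.leaf 282302)) 130 (.node (.leaf 245251) 16 (.leaf 125444))) 324 (.node (.node (.leaf 116997) 1026 (.leaf 164336)) 1266 (.node (.leaf 228817) 95 (.node (.leaf 271942) 29 (.leaf 207501)))))) 4225 (.node (.node (.node (.node (.leaf 195147) 63 (.leaf 170506)) 181 (.node (.leaf 242660) 56 (.leaf 284639))) 540 (.node (.node (.leaf 74516) 60 (.leaf 47944)) 114 (.node (.leaf 167054) 14 (.node (.leaf 146591) 438 (.leaf 174424))))) 1119 (.node (.node (.node (.leaf 131454) 52 (.leaf 285573)) 115 (.node (.leaf 110475) 401 (.leaf 212387))) 699 (.node (.node (.leaf 230366) 161 (.leaf 183081)) 176 (.node (.leaf 234065) 19 (.node (.leaf 203741) 54 (.leaf 260711))))))) 6424 (.node (.node (.node (.node (.node (.leaf 230522) 111 (.leaf 44220)) 293 (.node (.leaf 59981) 14 (.leaf 254385))) 616 (.node (.node (.leaf 287240) 24 (.leaf 287216)) 151 (.node (.leaf 287367) 88 (.node (.leaf 87007) 148 (.leaf 261611))))) 1361 (.node (.node (.node (.leaf 87240) 8 (.leaf 300979)) 38 (.node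 (.leaf 287998) 230 (.leaf 98637))) 382 (.node (.node (.leaf 279804) 65 (.leaf 152718)) 661 (.node (.leaf 56742) 337 (.node (.leaf 169114) 55 (.leaf 289458)))))) 2934 (.node (.node (.node (.node (.leaf 131868) 262 (.leaf 107218)) 319 (.node (.leaf 105731) 224 (.leaf 193541))) 915 (.node (.node (.leaf 108850) 62 (.leaf 78956)) 143 (.node (.leaf 166615) 67 (.node (.leaf 306882) 71 (.leaf 249872))))) 1379 (.node (.node (.node (.leaf 73573) 29 (.leaf 207870)) 49 (.node (.leaf 208817) 157 (.node (.leaf 74579) 162 (.leaf 291281)))) 588 (.node (.node (.leaf 289852) 468 (.leaf 176808)) 791 (.node (.leaf 143090) 34 (.node (.leaf 187040) 98 (.leaf 274853)))))))) 12495 (.node (.node (.node (.node (.node (.node (.leaf 170029) 94 (.leaf 177323)) 113 (.node (.leaf 283455) 55 (.leaf 153635))) 209 (.node (.node (.leaf 297517) 298 (.leaf 191193)) 402 (.node (.leaf 141969) 150 (.node (.leaf 249155) 29 (.leaf 100245))))) 912 (.node (.node (.node (.leaf 122803) 20 (.leaf 248905)) 87 (.node (.leaf 226585)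 35 (.leaf 167010))) 549 (.node (.node (.leaf 305186) 493 (.leaf 195734)) 530 (.node (.leaf 294662) 22 (.node (.leaf 295162) 253 (.leaf 238848)))))) 2969 (.node (.node (.node (.node (.leaf 89680) 121 (.leaf 291904)) 213 (.node (.leaf 149174) 532 (.leaf 265945))) 805 (.node (.node (.leaf 242629) 143 (.leaf 158440)) 203 (.node (.leaf 165384) 5 (.node (.leaf 299185) 138 (.leaf 217357))))) 1290 (.node (.node (.node (.leaf 296930) 177 (.leaf 219512)) 188 (.node (.leaf 283638) 372 (.leaf 81765))) 586 (.node (.node (.leaf 297516) 279 (.leaf 297795)) 468 (.node (.leaf 286716) 724 (.node (.leaf 46735) 132 (.leaf 71799))))))) 6514 (.node (.node (.node (.node (.node (.leaf 296653) 107 (.leaf 52398)) 110 (.node (.leaf 203562) 42 (.leaf 109198))) 338 (.node (.node (.leaf 118680) 41 (.leaf 192875)) 353 (.node (.leaf 198307) 126 (.node (.leaf 144737) 23 (.leaf 300025))))) 911 (.node (.node (.node (.leaf 78716) 44 (.leaf 151632)) 621 (.node (.leaf 218197) 262 (.leaf 287969))) 1440 (.node (.node (.leaf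 36441) 366 (.leaf 299452)) 448 (.node (.leaf 243330) 88 (.node (.leaf 165248) 94 (.leaf 40555)))))) 3176 (.node (.node (.node (.node (.leaf 80829) 139 (.leaf 277252)) 415 (.node (.leaf 302776) 556 (.leaf 133770))) 1357 (.node (.node (.leaf 212870) 482 (.leaf 267588)) 747 (.node (.leaf 304465) 148 (.node (.leaf 196472) 239 (.leaf 70549))))) 2581 (.node (.node (.node (.leaf 304942) 55 (.leaf 285308)) 506 (.node (.leaf 193840) 131 (.node (.leaf 73369) 130 (.leaf 305709)))) 923 (.node (.node (.leaf 187819) 9 (.leaf 226887)) 322 (.node (.leaf 240655) 486 (.node (.leaf 236868) 209 (.leaf 290659)))))))))))))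

/-- table of generator 7 -/
def tab7 : Tab :=
  (.node (.node (.node (.node (.node (.node (.node (.node (.node (.node (.leaf 0) 1 (.node (.leaf 1) 1 (.leaf 2))) 3 (.node (.leaf 3) 1 (.node (.leaf 4) 1 (.leaf 5)))) 6 (.node (.node (.leaf 6) 1 (.node (.leaf 8) 1 (.leaf 7))) 5 (.node (.node (.leaf 11) 1 (.leaf 12)) 11 (.node (.leaf 1248) 24 (.leaf 46))))) 50 (.node (.node (.node (.leaf 50) 8 (.node (.leaf 58) 1 (.leaf 60))) 10 (.node (.leaf 59) 1 (.node (.leaf 301) 1 (.leaf 134)))) 13 (.node (.node (.leaf 147) 1 (.node (.leaf 217) 2 (.leaf 66))) 4 (.node (.node (.leaf 67) 1 (.leaf 69)) 2 (.node (.leaf 68) 29 (.leaf 99)))))) 99 (.node (.node (.node (.node (.leaf 98) 1 (.node (.leaf 100) 30 (.leaf 132))) 32 (.node (.leaf 131) 1 (.node (.leaf 130) 1 (.leaf 140)))) 35 (.node (.node (.leaf 62) 1 (.node (.leaf 136) 1 (.leaf 135))) 3 (.node (.node (.leaf 186) 1 (.leaf 138)) 2 (.node (.leaf 139) 1 (.leaf 133))))) 42 (.node (.node (.node (.leaf 141) 1 (.node (.leaf 142) 2 (.leaf 144))) 5 (.node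 (.node (.leaf 146) 1 (.leaf 63)) 2 (.node (.leaf 149) 1 (.leaf 148)))) 10 (.node (.node (.leaf 4665) 3 (.node (.leaf 154) 1 (.leaf 155))) 5 (.node (.node (.leaf 156) 1 (.leaf 157)) 2 (.node (.leaf 158) 1 (.leaf 159))))))) 160 (.node (.node (.node (.node (.node (.leaf 160) 1 (.node (.leaf 161) 1 (.leaf 162))) 3 (.node (.leaf 163) 1 (.node (.leaf 4848) 5 (.leaf 191)))) 26 (.node (.node (.leaf 137) 1 (.node (.leaf 187) 30 (.leaf 64))) 50 (.node (.node (.leaf 236) 26 (.leaf 263)) 27 (.node (.leaf 262) 1 (.leaf 797))))) 106 (.node (.node (.node (.leaf 267) 1 (.node (.leaf 266) 1 (.leaf 268))) 3 (.node (.node (.leaf 269) 26 (.leaf 296)) 29 (.node (.leaf 298) 2 (.leaf 300)))) 35 (.node (.node (.leaf 61) 1 (.node (.leaf 367) 1 (.leaf 368))) 3 (.node (.node (.leaf 304) 36 (.leaf 451)) 43 (.node (.leaf 347) 3 (.leaf 351)))))) 196 (.node (.node (.node (.node (.leaf 4456) 1 (.node (.leaf 360) 1 (.leaf 359))) 3 (.node (.leaf 358) 1 (.node (.leaf 357) 2 (.leaf 4468)))) 9 (.node (.node (.leaf 4464)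 1 (.node (.leaf 366) 1 (.leaf 302))) 3 (.node (.node (.leaf 303) 1 (.leaf 436)) 3 (.node (.leaf 438) 42 (.leaf 419))))) 78 (.node (.node (.node (.leaf 434) 1 (.node (.leaf 435) 1 (.leaf 369))) 4 (.node (.node (.leaf 371) 2 (.leaf 440)) 14 (.node (.leaf 935) 15 (.leaf 468)))) 34 (.node (.node (.leaf 467) 12 (.node (.leaf 430) 19 (.leaf 4809))) 32 (.node (.node (.leaf 612) 3 (.leaf 503)) 50 (.node (.leaf 4796) 41 (.leaf 1317)))))))) 612 (.node (.node (.node (.node (.node (.node (.leaf 500) 1 (.node (.leaf 714) 1 (.leaf 614))) 26 (.node (.leaf 637) 33 (.node (.leaf 672) 1 (.leaf 671)))) 71 (.node (.node (.leaf 683) 31 (.node (.leaf 613) 58 (.leaf 4470))) 116 (.node (.node (.leaf 799) 72 (.leaf 899)) 98 (.node (.leaf 897) 3 (.leaf 900))))) 323 (.node (.node (.node (.leaf 452) 25 (.node (.leaf 4743) 2 (.leaf 1034))) 84 (.node (.leaf 1018) 3 (.node (.leaf 7914) 1 (.leaf 4705)))) 92 (.node (.node (.leaf 4806) 7 (.node (.leaf 962) 38 (.leaf 1071))) 168 (.node (.node (.leaf 1194) 119 (.leaf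 1315)) 120 (.node (.leaf 1314) 175 (.leaf 25241)))))) 919 (.node (.node (.node (.node (.leaf 1531) 389 (.node (.leaf 24177) 160 (.leaf 1922))) 1022 (.node (.leaf 21483) 28 (.node (.leaf 2582) 1 (.leaf 2581)))) 1285 (.node (.node (.leaf 23523) 33 (.node (.leaf 2849) 18 (.leaf 22259))) 719 (.node (.node (.leaf 3535) 669 (.leaf 22497)) 874 (.node (.leaf 4409) 1 (.leaf 4410))))) 2911 (.node (.node (.node (.leaf 4442) 14 (.node (.leaf 356) 3 (.leaf 4459))) 18 (.node (.node (.leaf 355) 1 (.leaf 4461)) 3 (.node (.leaf 4463) 1 (.leaf 365)))) 26 (.node (.node (.leaf 362) 1 (.node (.leaf 361) 1 (.leaf 772))) 125 (.node (.node (.leaf 422) 33 (.leaf 4658)) 34 (.node (.leaf 4627) 31 (.leaf 4626))))))) 4049 (.node (.node (.node (.node (.node (.leaf 4661) 1 (.node (.leaf 4663) 1 (.leaf 4662))) 3 (.node (.leaf 4664) 1 (.node (.leaf 151) 4 (.leaf 5090)))) 62 (.node (.node (.leaf 7938) 1 (.node (.leaf 4724) 19 (.leaf 960))) 21 (.node (.node (.leaf 11868) 24 (.leaf 4767)) 29 (.node (.leaf 4773) 2 (.leaf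 8005))))) 126 (.node (.node (.node (.leaf 4787) 8 (.node (.leaf 4839) 11 (.leaf 1027))) 22 (.node (.node (.leaf 499) 30 (.leaf 4795)) 31 (.node (.leaf 4840) 8 (.leaf 164)))) 105 (.node (.node (.leaf 4892) 3 (.node (.leaf 4802) 136 (.leaf 429))) 398 (.node (.node (.leaf 5290) 17 (.leaf 5307)) 46 (.node (.leaf 29340) 193 (.leaf 11277)))))) 1161 (.node (.node (.node (.node (.leaf 25044) 142 (.node (.leaf 28507) 448 (.leaf 13881))) 1108 (.node (.leaf 6929) 465 (.node (.leaf 7395) 42 (.leaf 11337)))) 1888 (.node (.node (.leaf 7710) 31 (.node (.leaf 1400) 121 (.leaf 7861))) 296 (.node (.node (.leaf 4416) 248 (.leaf 18678)) 454 (.node (.leaf 15526) 109 (.leaf 20890))))) 3028 (.node (.node (.node (.leaf 14268) 322 (.node (.leaf 10472) 12 (.leaf 24864))) 581 (.node (.node (.leaf 19050) 223 (.leaf 9653)) 230 (.node (.leaf 9662) 1 (.leaf 9661)))) 960 (.node (.node (.leaf 19937) 16 (.node (.leaf 9827) 231 (.leaf 14691))) 412 (.node (.node (.leaf 15899) 139 (.leaf 21078)) 170 (.node (.leaf 10392)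 80 (.leaf 9172))))))))) 10577 (.node (.node (.node (.node (.node (.node (.node (.leaf 10578) 253 (.node (.leaf 22376) 133 (.leaf 11039))) 536 (.node (.leaf 11114) 545 (.node (.leaf 6112) 210 (.leaf 4744)))) 1514 (.node (.node (.leaf 1502) 20 (.node (.leaf 8361) 76 (.leaf 22307))) 148 (.node (.node (.leaf 19068) 53 (.leaf 9720)) 56 (.node (.leaf 21867) 28 (.leaf 22101))))) 1964 (.node (.node (.node (.leaf 26654) 1 (.node (.leaf 28157) 248 (.leaf 30168))) 402 (.node (.leaf 10841) 25 (.node (.leaf 14406) 216 (.leaf 6217)))) 834 (.node (.node (.leaf 6694) 107 (.node (.leaf 19978) 344 (.leaf 13826))) 515 (.node (.node (.leaf 10408) 8 (.leaf 19109)) 121 (.node (.leaf 22013) 892 (.leaf 14904)))))) 4509 (.node (.node (.node (.node (.leaf 15086) 10 (.node (.leaf 5272) 58 (.leaf 31439))) 189 (.node (.leaf 15275) 27 (.node (.leaf 3938) 27 (.leaf 29836)))) 296 (.node (.node (.leaf 29263) 339 (.node (.leaf 24295) 131 (.leaf 13635))) 504 (.node (.node (.leaf 15887) 687 (.leaf 7764)) 2686 (.node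 (.leaf 20269) 89 (.leaf 18616))))) 3884 (.node (.node (.node (.leaf 22284) 57 (.node (.leaf 19027) 169 (.leaf 29179))) 451 (.node (.node (.leaf 24405) 52 (.leaf 30821)) 57 (.node (.leaf 30446) 95 (.leaf 22634)))) 931 (.node (.node (.leaf 21038) 70 (.node (.leaf 27825) 205 (.leaf 20175))) 748 (.node (.node (.leaf 20649) 178 (.leaf 19217)) 505 (.node (.leaf 21155) 12 (.leaf 10861))))))) 10906 (.node (.node (.node (.node (.node (.leaf 2553) 19 (.node (.leaf 21590) 88 (.leaf 21502))) 776 (.node (.leaf 2867) 48 (.node (.leaf 12187) 146 (.leaf 22452)))) 1300 (.node (.node (.leaf 12197) 26 (.node (.leaf 22809) 595 (.leaf 16097))) 887 (.node (.node (.leaf 23670) 16 (.leaf 24525)) 246 (.node (.leaf 1492) 291 (.leaf 9543))))) 2933 (.node (.node (.node (.leaf 24416) 677 (.node (.leaf 25093) 348 (.leaf 18666))) 1088 (.node (.node (.leaf 10669) 86 (.leaf 26761)) 201 (.node (.leaf 16612) 237 (.leaf 608)))) 1998 (.node (.node (.leaf 26413) 268 (.node (.leaf 20864) 302 (.leaf 6685))) 666 (.node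 (.node (.leaf 25368) 289 (.leaf 15678)) 333 (.node (.leaf 12200) 280 (.leaf 20490)))))) 6580 (.node (.node (.node (.node (.leaf 4167) 207 (.node (.leaf 2839) 369 (.leaf 23543))) 1106 (.node (.leaf 29169) 14 (.node (.leaf 23464) 523 (.leaf 24992)))) 2129 (.node (.node (.leaf 27233) 98 (.node (.leaf 30534) 545 (.leaf 9206))) 653 (.node (.node (.leaf 30845) 45 (.leaf 28687)) 371 (.node (.leaf 21716) 456 (.leaf 31672))))) 3610 (.node (.node (.node (.leaf 31673) 1 (.node (.leaf 31674) 1 (.leaf 31675))) 3 (.node (.node (.leaf 31676) 68 (.leaf 51917)) 75 (.node (.leaf 31751) 1 (.leaf 31752)))) 80 (.node (.node (.leaf 31753) 1 (.node (.leaf 31754) 1 (.leaf 31756))) 3 (.node (.node (.leaf 31755) 3 (.leaf 31759)) 4 (.node (.leaf 31760) 5 (.leaf 31765)))))))) 21189 (.node (.node (.node (.node (.node (.node (.leaf 31767) 1 (.node (.leaf 31766) 3 (.leaf 31896))) 5 (.node (.leaf 31771) 2 (.node (.leaf 31773) 1 (.leaf 31774)))) 122 (.node (.node (.leaf 84820) 4 (.node (.leaf 32042) 1 (.leaf 33362)))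 6 (.node (.node (.leaf 31895) 1 (.leaf 31894)) 2 (.node (.leaf 31770) 1 (.leaf 31748))))) 132 (.node (.node (.node (.leaf 31898) 2 (.node (.leaf 31900) 1 (.leaf 31901))) 7 (.node (.node (.leaf 31906) 1 (.leaf 31905)) 2 (.node (.leaf 55952) 21 (.leaf 56089)))) 135 (.node (.node (.leaf 84660) 5 (.node (.leaf 32038) 1 (.leaf 32039))) 8 (.node (.node (.leaf 32786) 1 (.leaf 31892)) 99 (.node (.leaf 32140) 2 (.leaf 32142)))))) 641 (.node (.node (.node (.node (.leaf 32408) 1 (.node (.leaf 32407) 1 (.leaf 32409))) 4 (.node (.leaf 32411) 132 (.node (.leaf 32544) 1 (.leaf 32543)))) 146 (.node (.node (.leaf 32554) 2 (.node (.leaf 32677) 1 (.leaf 32678))) 54 (.node (.node (.leaf 56876) 70 (.leaf 32555)) 171 (.node (.leaf 57890) 98 (.leaf 32876))))) 470 (.node (.node (.node (.leaf 32877) 150 (.node (.leaf 33027) 1 (.leaf 33029))) 152 (.node (.node (.leaf 33028) 116 (.leaf 33145)) 117 (.node (.leaf 33146) 46 (.leaf 33193)))) 368 (.node (.node (.leaf 33372) 1 (.node (.leaf 32881) 14 (.leaf 181887)))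 118 (.node (.node (.leaf 33363) 1 (.leaf 33364)) 10 (.node (.leaf 33373) 183 (.leaf 33030))))))) 1980 (.node (.node (.node (.node (.node (.leaf 58785) 64 (.node (.leaf 33863) 98 (.leaf 58759))) 214 (.node (.leaf 84865) 27 (.node (.leaf 191467) 12 (.leaf 33999)))) 307 (.node (.node (.leaf 127873) 56 (.node (.leaf 34109) 4 (.leaf 34113))) 69 (.node (.node (.leaf 151035) 68 (.leaf 46463)) 135 (.node (.leaf 183993) 28 (.leaf 128949))))) 551 (.node (.node (.node (.leaf 34297) 7 (.node (.leaf 55261) 6 (.leaf 34102))) 24 (.node (.node (.leaf 129748) 23 (.leaf 34344)) 190 (.node (.leaf 34511) 2 (.leaf 130442)))) 271 (.node (.node (.leaf 230366) 97 (.node (.leaf 57029) 1 (.leaf 55007))) 233 (.node (.node (.leaf 34801) 36 (.leaf 85358)) 124 (.node (.leaf 96891) 62 (.leaf 45075)))))) 1248 (.node (.node (.node (.node (.leaf 35266) 83 (.node (.leaf 118651) 202 (.leaf 37884))) 649 (.node (.leaf 284950) 24 (.node (.leaf 35667) 55 (.leaf 253972)))) 1060 (.node (.node (.leaf 36054) 220 (.node (.leaf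 36088) 30 (.leaf 99759))) 254 (.node (.node (.leaf 36309) 119 (.leaf 232632)) 172 (.node (.leaf 101838) 13 (.leaf 190562))))) 1508 (.node (.node (.node (.leaf 36502) 192 (.node (.leaf 33113) 106 (.leaf 172652))) 322 (.node (.node (.leaf 113021) 152 (.leaf 141006)) 321 (.node (.leaf 37146) 71 (.leaf 114186)))) 830 (.node (.node (.leaf 116591) 5 (.node (.leaf 85462) 427 (.leaf 139092))) 502 (.node (.node (.leaf 37835) 990 (.leaf 109698)) 1861 (.node (.leaf 296070) 443 (.leaf 274106)))))))))) 40186 (.node (.node (.node (.node (.node (.node (.node (.node (.leaf 268809) 216 (.node (.leaf 40678) 153 (.leaf 242833))) 492 (.node (.leaf 40402) 94 (.node (.leaf 286893) 29 (.leaf 254637)))) 901 (.node (.node (.leaf 41088) 203 (.node (.leaf 39465) 18 (.leaf 41307))) 477 (.node (.node (.leaf 229212) 154 (.leaf 68429)) 424 (.node (.leaf 41987) 92 (.leaf 271292))))) 2273 (.node (.node (.node (.leaf 241279) 23 (.node (.leaf 162520) 11 (.leaf 140211))) 443 (.node (.leaf 49413) 466 (.node (.leaf 85474)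 67 (.leaf 253003)))) 1055 (.node (.node (.leaf 63687) 237 (.node (.leaf 242255) 19 (.leaf 43771))) 263 (.node (.node (.leaf 222791) 141 (.leaf 92641)) 324 (.node (.leaf 48801) 339 (.leaf 104393)))))) 4297 (.node (.node (.node (.node (.leaf 61181) 1017 (.node (.leaf 184727) 85 (.leaf 166011))) 1150 (.node (.leaf 56888) 1 (.node (.leaf 57663) 705 (.leaf 66076)))) 2696 (.node (.node (.leaf 213010) 183 (.node (.leaf 274161) 83 (.leaf 40890))) 483 (.node (.node (.leaf 127961) 87 (.leaf 186605)) 486 (.node (.leaf 47540) 98 (.leaf 48247))))) 3872 (.node (.node (.node (.leaf 40768) 106 (.node (.leaf 276395) 86 (.leaf 201425))) 319 (.node (.node (.leaf 119931) 389 (.leaf 289004)) 617 (.node (.leaf 49022) 122 (.leaf 42902)))) 1246 (.node (.node (.leaf 251788) 195 (.node (.leaf 53503) 168 (.leaf 252416))) 555 (.node (.node (.leaf 302500) 211 (.leaf 189469)) 212 (.node (.leaf 57549) 1 (.leaf 50370))))))) 10184 (.node (.node (.node (.node (.node (.leaf 50369) 157 (.node (.leaf 51918) 186 (.leaf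 50714))) 344 (.node (.leaf 50713) 117 (.node (.leaf 256396) 242 (.leaf 148004)))) 1099 (.node (.node (.leaf 240909) 90 (.node (.leaf 202644) 53 (.leaf 120537))) 448 (.node (.node (.leaf 31744) 1 (.leaf 50527)) 201 (.node (.leaf 104191) 38 (.leaf 82982))))) 1797 (.node (.node (.node (.leaf 234569) 85 (.node (.leaf 292765) 436 (.leaf 52687))) 608 (.node (.node (.leaf 112056) 9 (.leaf 34679)) 10 (.node (.leaf 34678) 14 (.leaf 128656)))) 660 (.node (.node (.leaf 52826) 142 (.node (.leaf 119985) 42 (.leaf 246875))) 235 (.node (.node (.leaf 50052) 94 (.leaf 293603)) 716 (.node (.leaf 53944) 170 (.leaf 53782)))))) 3717 (.node (.node (.node (.node (.leaf 54088) 310 (.node (.leaf 53086) 5 (.leaf 152062))) 316 (.node (.leaf 54403) 2 (.node (.leaf 54405) 5 (.leaf 54410)))) 324 (.node (.node (.leaf 54411) 4 (.node (.leaf 54414) 90 (.leaf 210623))) 144 (.node (.node (.leaf 54555) 78 (.leaf 54633)) 196 (.node (.leaf 141023) 399 (.leaf 55150))))) 1317 (.node (.node (.node (.leaf 55404) 421 (.node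 (.leaf 57374) 125 (.leaf 33857))) 548 (.node (.node (.leaf 31907) 16 (.leaf 31801)) 18 (.node (.leaf 55969) 105 (.leaf 56075)))) 678 (.node (.node (.leaf 84344) 262 (.node (.leaf 177498) 36 (.leaf 33021))) 313 (.node (.node (.leaf 56396) 178 (.leaf 58026)) 215 (.node (.leaf 85691) 80 (.leaf 56690)))))))) 16556 (.node (.node (.node (.node (.node (.node (.leaf 93698) 58 (.node (.leaf 83922) 4 (.leaf 59494))) 67 (.node (.leaf 56887) 67 (.node (.leaf 32607) 7 (.leaf 56883)))) 146 (.node (.node (.leaf 45633) 240 (.node (.leaf 35546) 2 (.leaf 57273))) 384 (.node (.node (.leaf 113338) 1 (.leaf 57130)) 2 (.node (.leaf 57550) 100 (.leaf 55825))))) 633 (.node (.node (.node (.leaf 153499) 26 (.node (.leaf 86145) 4 (.leaf 130446))) 31 (.node (.leaf 113336) 97 (.node (.leaf 222218) 25 (.leaf 263772)))) 171 (.node (.node (.leaf 131029) 3 (.node (.leaf 50368) 347 (.leaf 84958))) 352 (.node (.node (.leaf 32043) 46 (.leaf 123014)) 74 (.node (.leaf 143125) 77 (.leaf 58049)))))) 1308 (.node (.node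 (.node (.node (.leaf 58050) 162 (.node (.leaf 118372) 271 (.leaf 33376))) 578 (.node (.leaf 84959) 3 (.node (.leaf 85688) 87 (.leaf 50372)))) 694 (.node (.node (.leaf 217421) 7 (.node (.leaf 34677) 175 (.leaf 58926))) 209 (.node (.node (.leaf 287945) 22 (.leaf 58975)) 126 (.node (.leaf 58927) 155 (.leaf 63485))))) 1271 (.node (.node (.node (.leaf 176451) 176 (.node (.leaf 87810) 238 (.leaf 134796))) 568 (.node (.node (.leaf 146441) 366 (.leaf 60309)) 473 (.node (.leaf 220024) 10 (.leaf 116261)))) 1187 (.node (.node (.leaf 290985) 395 (.node (.leaf 48433) 29 (.leaf 60932))) 486 (.node (.node (.leaf 60994) 187 (.leaf 44483)) 348 (.node (.leaf 168949) 74 (.leaf 152064))))))) 4727 (.node (.node (.node (.node (.node (.leaf 66367) 314 (.node (.leaf 47708) 77 (.leaf 306395))) 718 (.node (.leaf 62186) 174 (.node (.leaf 162419) 52 (.leaf 195562)))) 1030 (.node (.node (.leaf 138128) 415 (.node (.leaf 152464) 330 (.leaf 216096))) 933 (.node (.node (.leaf 42111) 53 (.leaf 59234)) 94 (.node (.leaf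 182681) 132 (.leaf 197241))))) 2273 (.node (.node (.node (.leaf 94383) 156 (.node (.leaf 63897) 309 (.leaf 223487))) 1002 (.node (.node (.leaf 64744) 89 (.leaf 79614)) 466 (.node (.leaf 125740) 545 (.leaf 268448)))) 2124 (.node (.node (.leaf 66140) 1 (.node (.leaf 185708) 83 (.leaf 137655))) 223 (.node (.node (.leaf 185007) 51 (.leaf 65866)) 124 (.node (.leaf 48715) 562 (.leaf 165330)))))) 5383 (.node (.node (.node (.node (.leaf 170031) 278 (.node (.leaf 41883) 4 (.leaf 130345))) 1010 (.node (.leaf 67862) 68 (.node (.leaf 67929) 47 (.leaf 171643)))) 1297 (.node (.node (.leaf 68148) 57 (.node (.leaf 215826) 223 (.leaf 41718))) 440 (.node (.node (.leaf 181171) 267 (.leaf 68857)) 275 (.node (.leaf 247148) 58 (.leaf 291930))))) 2287 (.node (.node (.node (.leaf 147836) 191 (.node (.leaf 243394) 104 (.leaf 74088))) 316 (.node (.node (.leaf 69455) 2 (.leaf 69456)) 56 (.node (.leaf 69512) 70 (.leaf 69582)))) 992 (.node (.node (.leaf 70130) 60 (.node (.leaf 265737) 358 (.leaf 70549))) 758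 (.node (.node (.leaf 76986) 226 (.leaf 230522)) 681 (.node (.leaf 71488) 47 (.leaf 215798))))))))) 31462 (.node (.node (.node (.node (.node (.node (.node (.leaf 89367) 21 (.node (.leaf 71668) 591 (.leaf 271086))) 1614 (.node (.leaf 167302) 77 (.node (.leaf 162546) 115 (.leaf 183163)))) 1895 (.node (.node (.leaf 191515) 30 (.node (.leaf 43895) 42 (.leaf 31849))) 104 (.node (.node (.leaf 73647) 47 (.leaf 237533)) 259 (.node (.leaf 73906) 673 (.leaf 74579))))) 3063 (.node (.node (.node (.leaf 70418) 65 (.node (.leaf 216116) 844 (.leaf 101138))) 1001 (.node (.leaf 75713) 78 (.node (.leaf 107172) 782 (.leaf 87427)))) 1899 (.node (.node (.leaf 97231) 289 (.node (.leaf 157384) 147 (.leaf 77046))) 674 (.node (.node (.leaf 102434) 55 (.leaf 176593)) 199 (.node (.leaf 265274) 57 (.leaf 77541)))))) 6003 (.node (.node (.node (.node (.leaf 123553) 539 (.node (.leaf 74831) 405 (.leaf 78839))) 1712 (.node (.leaf 184707) 315 (.node (.leaf 202986) 7 (.leaf 79684)))) 2048 (.node (.node (.leaf 95783)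 144 (.node (.leaf 258177) 222 (.leaf 79846))) 531 (.node (.node (.leaf 287999) 1 (.leaf 198696)) 244 (.node (.leaf 104901) 69 (.leaf 223002))))) 3178 (.node (.node (.node (.leaf 251565) 89 (.node (.leaf 190828) 1 (.leaf 63246))) 92 (.node (.node (.leaf 225747) 347 (.leaf 81268)) 541 (.node (.leaf 303456) 303 (.leaf 107935)))) 988 (.node (.node (.leaf 183647) 212 (.node (.leaf 288960) 205 (.leaf 82234))) 443 (.node (.node (.leaf 82261) 491 (.leaf 203081)) 725 (.node (.leaf 224593) 25 (.leaf 40019))))))) 11374 (.node (.node (.node (.node (.node (.leaf 54647) 198 (.node (.leaf 252923) 71 (.leaf 202008))) 542 (.node (.leaf 83564) 234 (.node (.leaf 232567) 1 (.leaf 164133)))) 817 (.node (.node (.leaf 99064) 246 (.node (.leaf 112180) 83 (.leaf 297799))) 457 (.node (.node (.leaf 84297) 41 (.leaf 84696)) 129 (.node (.leaf 84425) 28 (.leaf 50371))))) 1432 (.node (.node (.node (.leaf 55154) 31 (.node (.leaf 102123) 48 (.leaf 100269))) 110 (.node (.node (.leaf 130444) 134 (.leaf 55153)) 163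 (.node (.leaf 114627) 93 (.leaf 31888)))) 409 (.node (.node (.leaf 84863) 95 (.node (.leaf 57896) 1 (.leaf 58628))) 97 (.node (.node (.leaf 84961) 1 (.leaf 84960)) 19 (.node (.leaf 85126) 2 (.leaf 113480)))))) 2094 (.node (.node (.node (.node (.leaf 53548) 10 (.node (.leaf 84979) 232 (.leaf 34837))) 243 (.node (.leaf 58478) 16 (.node (.leaf 34162) 81 (.leaf 55155)))) 666 (.node (.node (.leaf 56885) 110 (.node (.leaf 85892) 74 (.leaf 109044))) 241 (.node (.node (.leaf 86024) 2 (.leaf 86025)) 122 (.node (.leaf 57401) 2 (.leaf 130447))))) 1032 (.node (.node (.node (.leaf 87062) 241 (.node (.leaf 103197) 265 (.leaf 87212))) 709 (.node (.node (.leaf 193016) 43 (.leaf 87063)) 87 (.node (.leaf 221032) 39 (.leaf 264768)))) 853 (.node (.node (.leaf 115831) 6 (.node (.leaf 131895) 113 (.leaf 274978))) 120 (.node (.node (.leaf 62172) 95 (.leaf 130436)) 286 (.node (.leaf 87406) 32 (.leaf 87439)))))))) 15792 (.node (.node (.node (.node (.node (.node (.leaf 233127) 117 (.node (.leaf 87557) 21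 (.leaf 231679))) 177 (.node (.leaf 198619) 113 (.node (.leaf 127612) 80 (.leaf 59497)))) 408 (.node (.node (.leaf 198931) 49 (.node (.leaf 87898) 251 (.leaf 182909))) 452 (.node (.node (.leaf 103562) 30 (.leaf 176861)) 79 (.node (.leaf 131127) 220 (.leaf 266951))))) 1260 (.node (.node (.node (.leaf 88700) 296 (.node (.leaf 54385) 59 (.leaf 89054))) 864 (.node (.node (.leaf 89563) 116 (.leaf 258543)) 224 (.node (.leaf 190447) 127 (.leaf 278831)))) 1473 (.node (.node (.leaf 33717) 40 (.node (.leaf 262936) 384 (.leaf 90244))) 576 (.node (.node (.leaf 113089) 626 (.leaf 96548)) 634 (.node (.leaf 129499) 10 (.leaf 186895)))))) 4708 (.node (.node (.node (.node (.leaf 92148) 192 (.node (.leaf 92341) 1 (.leaf 92340))) 493 (.node (.leaf 43918) 181 (.node (.leaf 92590) 142 (.leaf 255156)))) 941 (.node (.node (.leaf 40700) 67 (.node (.leaf 100667) 45 (.leaf 111251))) 549 (.node (.node (.leaf 300979) 410 (.leaf 169832)) 556 (.node (.leaf 231361) 80 (.leaf 244449))))) 2798 (.node (.node (.node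 (.leaf 94945) 59 (.node (.leaf 95005) 477 (.leaf 250615))) 732 (.node (.node (.leaf 95678) 480 (.leaf 96159)) 726 (.node (.leaf 96404) 457 (.leaf 174577)))) 1945 (.node (.node (.leaf 34925) 158 (.node (.leaf 298563) 187 (.leaf 235019))) 700 (.node (.node (.leaf 146993) 398 (.leaf 97988)) 534 (.node (.leaf 188336) 307 (.leaf 50352))))))) 11109 (.node (.node (.node (.node (.node (.leaf 61247) 88 (.node (.leaf 230927) 17 (.leaf 98654))) 373 (.node (.leaf 100226) 580 (.node (.leaf 176612) 513 (.leaf 108920)))) 1696 (.node (.node (.leaf 269302) 24 (.node (.leaf 84533) 42 (.leaf 100310))) 97 (.node (.node (.leaf 149645) 194 (.leaf 119847)) 1115 (.node (.leaf 112709) 113 (.leaf 135051))))) 3123 (.node (.node (.node (.leaf 231657) 662 (.node (.leaf 102334) 23 (.leaf 256235))) 762 (.node (.node (.leaf 77284) 101 (.leaf 267365)) 714 (.node (.leaf 218962) 49 (.leaf 86389)))) 1738 (.node (.node (.leaf 87622) 102 (.node (.leaf 49123) 1169 (.leaf 297516))) 1307 (.node (.node (.leaf 68750) 20 (.leaf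 83145)) 737 (.node (.leaf 228529) 109 (.leaf 226242)))))) 7743 (.node (.node (.node (.node (.leaf 106293) 398 (.node (.leaf 200657) 336 (.leaf 116015))) 914 (.node (.leaf 108486) 13 (.node (.leaf 115588) 267 (.leaf 126968)))) 1337 (.node (.node (.leaf 262654) 241 (.node (.leaf 195125) 61 (.leaf 35371))) 382 (.node (.node (.leaf 128936) 394 (.leaf 174275)) 475 (.node (.leaf 107206) 364 (.leaf 129408))))) 2752 (.node (.node (.node (.leaf 85966) 332 (.node (.leaf 79895) 167 (.leaf 211740))) 945 (.node (.node (.leaf 183187) 10 (.leaf 83732)) 440 (.node (.leaf 46977) 17 (.leaf 36564)))) 1518 (.node (.node (.leaf 110562) 309 (.node (.leaf 110871) 32 (.leaf 110903))) 689 (.node (.node (.leaf 93201) 186 (.leaf 111620)) 188 (.node (.leaf 111621) 40 (.leaf 111298))))))))))) 111502 (.node (.node (.node (.node (.node (.node (.node (.node (.node (.leaf 233878) 227 (.node (.leaf 152960) 31 (.leaf 273638))) 278 (.node (.leaf 111788) 26 (.node (.leaf 91777) 43 (.leaf 238320)))) 429 (.node (.node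 (.leaf 111932) 20 (.node (.leaf 111951) 55 (.leaf 169631))) 125 (.node (.node (.leaf 52775) 10 (.leaf 58042)) 393 (.node (.leaf 58727) 97 (.leaf 92953))))) 1304 (.node (.node (.node (.leaf 70219) 320 (.node (.leaf 194085) 210 (.leaf 57406))) 657 (.node (.leaf 113463) 10 (.node (.leaf 130595) 73 (.leaf 33092)))) 1368 (.node (.node (.leaf 114174) 12 (.node (.leaf 37216) 1 (.leaf 37215))) 72 (.node (.node (.leaf 36429) 157 (.leaf 134156)) 280 (.node (.leaf 131682) 101 (.leaf 84727)))))) 3333 (.node (.node (.node (.node (.leaf 39595) 76 (.node (.leaf 88596) 272 (.leaf 44664))) 458 (.node (.leaf 37106) 12 (.node (.leaf 115305) 501 (.leaf 103808)))) 1024 (.node (.node (.leaf 115859) 501 (.node (.leaf 160172) 89 (.leaf 150449))) 856 (.node (.node (.leaf 116590) 174 (.leaf 116888)) 368 (.node (.leaf 119728) 231 (.leaf 46050))))) 2561 (.node (.node (.node (.leaf 129782) 11 (.node (.leaf 244387) 210 (.leaf 117618))) 524 (.node (.node (.leaf 260021) 72 (.leaf 117991)) 107 (.node (.leaf 103660)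 326 (.leaf 144157)))) 1134 (.node (.node (.leaf 226774) 149 (.node (.leaf 258761) 1 (.leaf 127344))) 241 (.node (.node (.leaf 94613) 63 (.leaf 119844)) 244 (.node (.leaf 269954) 508 (.leaf 119522))))))) 8137 (.node (.node (.node (.node (.node (.leaf 235573) 83 (.node (.leaf 119721) 122 (.leaf 118834))) 235 (.node (.leaf 189275) 111 (.node (.leaf 52969) 393 (.leaf 137564)))) 873 (.node (.node (.leaf 204427) 14 (.node (.leaf 92061) 283 (.leaf 73183))) 372 (.node (.node (.leaf 276068) 382 (.leaf 262211)) 543 (.node (.leaf 242212) 61 (.leaf 127872))))) 2042 (.node (.node (.node (.leaf 121880) 376 (.node (.leaf 198121) 321 (.leaf 67553))) 1566 (.node (.node (.leaf 109308) 285 (.leaf 290522)) 824 (.node (.leaf 262441) 350 (.leaf 163482)))) 2998 (.node (.node (.leaf 190282) 12 (.node (.leaf 124755) 51 (.leaf 71811))) 76 (.node (.node (.leaf 124691) 78 (.leaf 111347)) 418 (.node (.leaf 59948) 449 (.leaf 76353)))))) 6855 (.node (.node (.node (.node (.leaf 215121) 316 (.node (.leaf 132464)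 518 (.leaf 220700))) 944 (.node (.leaf 132175) 122 (.node (.leaf 127559) 385 (.leaf 68243)))) 1457 (.node (.node (.leaf 244502) 39 (.node (.leaf 110877) 114 (.leaf 192875))) 165 (.node (.node (.leaf 118094) 305 (.leaf 116969)) 620 (.node (.leaf 261757) 171 (.leaf 171089))))) 2442 (.node (.node (.node (.leaf 108011) 5 (.node (.leaf 243460) 65 (.leaf 129006))) 150 (.node (.node (.leaf 129087) 1 (.leaf 129086)) 29 (.node (.leaf 70208) 242 (.leaf 129358)))) 472 (.node (.node (.leaf 108850) 276 (.node (.leaf 119580) 64 (.leaf 34321))) 376 (.node (.node (.leaf 129784) 137 (.leaf 129920)) 237 (.node (.leaf 220476) 20 (.leaf 35549)))))))) 18773 (.node (.node (.node (.node (.node (.node (.leaf 295731) 172 (.node (.leaf 86147) 58 (.leaf 220397))) 266 (.node (.leaf 130542) 44 (.node (.leaf 55019) 217 (.leaf 284455)))) 775 (.node (.node (.leaf 250452) 71 (.node (.leaf 206135) 182 (.leaf 124609))) 292 (.node (.node (.leaf 131343) 1 (.leaf 131342)) 120 (.node (.leaf 233575) 76 (.leaf 289534)))))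 1384 (.node (.node (.node (.leaf 222598) 29 (.node (.leaf 248124) 146 (.leaf 34673))) 225 (.node (.leaf 131885) 1 (.node (.leaf 131884) 180 (.leaf 132065)))) 516 (.node (.node (.leaf 127438) 142 (.node (.leaf 47848) 792 (.leaf 220193))) 1542 (.node (.node (.leaf 230811) 53 (.leaf 275135)) 144 (.node (.leaf 136790) 286 (.leaf 90556)))))) 4299 (.node (.node (.node (.node (.leaf 292717) 249 (.node (.leaf 272008) 228 (.leaf 101570))) 1507 (.node (.leaf 184445) 553 (.node (.leaf 43862) 26 (.leaf 273746)))) 2956 (.node (.node (.leaf 87868) 34 (.node (.leaf 120378) 478 (.leaf 138042))) 699 (.node (.node (.leaf 50410) 486 (.leaf 217700)) 718 (.node (.leaf 194742) 145 (.leaf 37764))))) 4537 (.node (.node (.node (.leaf 217530) 1 (.node (.leaf 275537) 258 (.leaf 194088))) 641 (.node (.node (.leaf 243330) 5 (.leaf 139758)) 33 (.node (.leaf 278589) 34 (.leaf 124230)))) 774 (.node (.node (.leaf 177315) 127 (.node (.leaf 249082) 652 (.leaf 148464))) 811 (.node (.node (.leaf 221384) 934 (.leaf 141576))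 1155 (.node (.leaf 288766) 19 (.leaf 141871))))))) 11777 (.node (.node (.node (.node (.node (.leaf 306355) 206 (.node (.leaf 223854) 31 (.leaf 140446))) 272 (.node (.leaf 195604) 119 (.node (.leaf 231052) 458 (.leaf 237091)))) 1898 (.node (.node (.leaf 292528) 204 (.node (.leaf 144342) 16 (.leaf 166429))) 286 (.node (.node (.leaf 131409) 93 (.leaf 144144)) 501 (.node (.leaf 184656) 113 (.leaf 144850))))) 2806 (.node (.node (.node (.leaf 144857) 135 (.node (.leaf 144992) 757 (.leaf 145749))) 899 (.node (.node (.leaf 183903) 903 (.leaf 146659)) 1240 (.node (.leaf 55591) 164 (.leaf 39034)))) 2325 (.node (.node (.leaf 150131) 7 (.node (.leaf 147190) 954 (.leaf 146352))) 1548 (.node (.node (.leaf 214230) 132 (.leaf 262940)) 443 (.node (.leaf 229806) 91 (.leaf 149423)))))) 7517 (.node (.node (.node (.node (.leaf 262431) 776 (.node (.leaf 272322) 104 (.leaf 116449))) 974 (.node (.leaf 216735) 75 (.node (.leaf 150619) 269 (.leaf 60108)))) 1625 (.node (.node (.leaf 151193) 96 (.node (.leaf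 151289) 342 (.leaf 275674))) 589 (.node (.node (.leaf 111499) 279 (.leaf 54402)) 426 (.node (.leaf 172516) 179 (.leaf 152388))))) 2895 (.node (.node (.node (.leaf 62914) 12 (.node (.leaf 116640) 83 (.leaf 152559))) 539 (.node (.node (.leaf 59538) 86 (.leaf 217460)) 418 (.node (.leaf 153420) 78 (.leaf 57375)))) 1144 (.node (.node (.leaf 205707) 673 (.node (.leaf 292292) 18 (.leaf 154299))) 780 (.node (.node (.leaf 141531) 354 (.leaf 55033)) 732 (.node (.leaf 293548) 97 (.leaf 155382))))))))) 43841 (.node (.node (.node (.node (.node (.node (.node (.leaf 248252) 14 (.node (.leaf 43324) 276 (.leaf 209131))) 502 (.node (.leaf 96550) 5 (.node (.leaf 114508) 463 (.leaf 219916)))) 1224 (.node (.node (.leaf 246704) 71 (.node (.leaf 130775) 122 (.leaf 201262))) 337 (.node (.node (.leaf 130024) 125 (.leaf 268739)) 306 (.node (.leaf 157211) 1 (.leaf 157210))))) 2017 (.node (.node (.node (.leaf 297107) 24 (.node (.leaf 76899) 84 (.leaf 157467))) 558 (.node (.leaf 168708) 216 (.node (.leaf 264327)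 676 (.leaf 215005)))) 1635 (.node (.node (.leaf 158995) 219 (.node (.leaf 159215) 133 (.leaf 158017))) 354 (.node (.node (.leaf 94288) 208 (.leaf 159557)) 517 (.node (.leaf 128813) 306 (.leaf 116360)))))) 4834 (.node (.node (.node (.node (.leaf 159966) 183 (.node (.leaf 160921) 943 (.leaf 161303))) 1697 (.node (.leaf 85171) 90 (.node (.leaf 297804) 582 (.leaf 73339)))) 2391 (.node (.node (.leaf 305366) 552 (.node (.leaf 163120) 23 (.leaf 74271))) 877 (.node (.node (.leaf 192773) 32 (.leaf 175189)) 920 (.node (.leaf 84900) 2120 (.leaf 166639))))) 6347 (.node (.node (.node (.leaf 153905) 91 (.node (.leaf 120065) 114 (.leaf 204204))) 281 (.node (.node (.leaf 296385) 539 (.leaf 198678)) 672 (.node (.leaf 154487) 61 (.leaf 186946)))) 1171 (.node (.node (.leaf 223901) 430 (.node (.leaf 305955) 407 (.leaf 253094))) 1052 (.node (.node (.leaf 201470) 846 (.leaf 302623)) 1068 (.node (.leaf 169815) 17 (.leaf 94048))))))) 14928 (.node (.node (.node (.node (.node (.leaf 291740) 235 (.node (.leaf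 282414) 282 (.leaf 170788))) 615 (.node (.leaf 119532) 114 (.node (.leaf 276796) 424 (.leaf 139106)))) 1603 (.node (.node (.leaf 37889) 109 (.node (.leaf 200554) 533 (.leaf 152209))) 1088 (.node (.node (.leaf 172962) 462 (.leaf 146678)) 631 (.node (.leaf 172660) 509 (.leaf 111370))))) 3999 (.node (.node (.node (.leaf 61122) 63 (.node (.leaf 59495) 2 (.leaf 50054))) 178 (.node (.node (.leaf 88738) 129 (.leaf 96861)) 201 (.node (.leaf 174650) 1 (.leaf 174649)))) 463 (.node (.node (.leaf 174621) 866 (.node (.leaf 278241) 172 (.leaf 119715))) 1269 (.node (.node (.leaf 288874) 32 (.leaf 173470)) 161 (.node (.leaf 176162) 102 (.leaf 262650)))))) 6014 (.node (.node (.node (.node (.leaf 34585) 650 (.node (.leaf 203659) 503 (.leaf 234323))) 1209 (.node (.leaf 193529) 4 (.node (.leaf 56344) 309 (.leaf 49829)))) 1640 (.node (.node (.leaf 197376) 279 (.node (.leaf 286380) 452 (.leaf 233256))) 774 (.node (.node (.leaf 232903) 125 (.leaf 300232)) 792 (.node (.leaf 179491) 32 (.leaf 191882)))))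 3321 (.node (.node (.node (.leaf 179606) 86 (.node (.leaf 55765) 166 (.leaf 225045))) 1170 (.node (.node (.leaf 96994) 99 (.leaf 218139)) 167 (.node (.leaf 180943) 4 (.leaf 180947)))) 1736 (.node (.node (.leaf 219591) 129 (.node (.leaf 181471) 1062 (.leaf 156874))) 1454 (.node (.node (.leaf 188189) 385 (.leaf 39998)) 391 (.node (.leaf 109989) 224 (.leaf 183412)))))))) 28080 (.node (.node (.node (.node (.node (.node (.leaf 183423) 184 (.node (.leaf 235104) 40 (.leaf 81817))) 480 (.node (.leaf 145757) 90 (.node (.leaf 34257) 201 (.leaf 259149)))) 960 (.node (.node (.leaf 226437) 309 (.node (.leaf 184693) 15 (.leaf 79363))) 325 (.node (.node (.leaf 257167) 259 (.leaf 297385)) 299 (.node (.leaf 66089) 302 (.leaf 185309))))) 2209 (.node (.node (.node (.leaf 42297) 76 (.node (.leaf 65867) 19 (.leaf 243757))) 183 (.node (.node (.leaf 90589) 102 (.leaf 265294)) 202 (.node (.leaf 247340) 495 (.leaf 186512)))) 1111 (.node (.node (.leaf 128159) 109 (.node (.leaf 282336) 94 (.leaf 167538)))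 297 (.node (.node (.leaf 223986) 118 (.leaf 190684)) 651 (.node (.leaf 174748) 249 (.leaf 236689)))))) 4847 (.node (.node (.node (.node (.leaf 154910) 304 (.node (.leaf 188573) 177 (.leaf 156124))) 924 (.node (.leaf 189195) 1 (.node (.leaf 189194) 207 (.leaf 189402)))) 1199 (.node (.node (.leaf 50367) 104 (.node (.leaf 288681) 39 (.leaf 189612))) 149 (.node (.node (.leaf 62442) 357 (.leaf 99101)) 932 (.node (.leaf 190551) 1 (.leaf 190550))))) 2354 (.node (.node (.node (.leaf 190624) 143 (.node (.leaf 113490) 61 (.leaf 80918))) 223 (.node (.node (.leaf 190847) 95 (.leaf 214376)) 622 (.node (.leaf 139374) 1 (.leaf 250809)))) 1209 (.node (.node (.leaf 191834) 49 (.node (.leaf 179523) 291 (.leaf 175137))) 406 (.node (.node (.leaf 284444) 344 (.leaf 241950)) 534 (.node (.leaf 163445) 39 (.leaf 227817))))))) 9444 (.node (.node (.node (.node (.node (.leaf 228226) 8 (.node (.leaf 128104) 126 (.leaf 151279))) 141 (.node (.leaf 214305) 176 (.node (.leaf 59666) 357 (.leaf 274148)))) 1006 (.node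 (.node (.leaf 223249) 206 (.node (.leaf 104431) 191 (.leaf 179550))) 768 (.node (.node (.leaf 258933) 10 (.leaf 77487)) 19 (.node (.leaf 60293) 82 (.leaf 138947))))) 2122 (.node (.node (.node (.leaf 43949) 136 (.node (.leaf 107870) 17 (.leaf 230401))) 572 (.node (.node (.leaf 187509) 43 (.leaf 142324)) 80 (.node (.leaf 251774) 93 (.leaf 195733)))) 802 (.node (.node (.leaf 175232) 24 (.node (.leaf 40809) 30 (.leaf 82623))) 58 (.node (.node (.leaf 202447) 40 (.leaf 195889)) 489 (.node (.leaf 299292) 62 (.leaf 283912)))))) 3763 (.node (.node (.node (.node (.leaf 89972) 216 (.node (.leaf 270606) 240 (.leaf 227144))) 476 (.node (.leaf 174629) 2 (.node (.leaf 33887) 133 (.leaf 63658)))) 826 (.node (.node (.leaf 197456) 72 (.node (.leaf 290599) 86 (.leaf 56515))) 399 (.node (.node (.leaf 190671) 295 (.leaf 234518)) 304 (.node (.leaf 161422) 310 (.leaf 188784))))) 1986 (.node (.node (.node (.leaf 198615) 62 (.node (.leaf 167344) 38 (.leaf 203452))) 691 (.node (.node (.leaf 215924) 366 (.leaf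 245906)) 974 (.node (.leaf 201028) 227 (.leaf 200509)))) 1893 (.node (.node (.leaf 200508) 604 (.node (.leaf 266730) 294 (.leaf 201408))) 916 (.node (.node (.leaf 48547) 619 (.leaf 153484)) 772 (.node (.leaf 291116) 69 (.leaf 124489)))))))))) 91398 (.node (.node (.node (.node (.node (.node (.node (.node (.leaf 249106) 86 (.node (.leaf 79678) 138 (.leaf 44165))) 399 (.node (.leaf 203299) 153 (.node (.leaf 198716) 74 (.leaf 192729)))) 662 (.node (.node (.leaf 257376) 97 (.node (.leaf 176935) 566 (.leaf 204113))) 731 (.node (.node (.leaf 247622) 572 (.leaf 113367)) 636 (.node (.leaf 218172) 367 (.leaf 248082))))) 2559 (.node (.node (.node (.leaf 127286) 643 (.node (.leaf 206103) 1 (.leaf 206102))) 829 (.node (.leaf 206537) 42 (.node (.leaf 144545) 562 (.leaf 97182)))) 1891 (.node (.node (.leaf 284704) 151 (.node (.leaf 203604) 2 (.leaf 266128))) 520 (.node (.node (.leaf 223248) 356 (.leaf 161483)) 493 (.node (.leaf 135281) 126 (.leaf 275921)))))) 5590 (.node (.node (.node (.node (.leaf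 143606) 383 (.node (.leaf 253341) 86 (.leaf 264239))) 541 (.node (.leaf 122071) 101 (.node (.leaf 78759) 194 (.leaf 301532)))) 1603 (.node (.node (.leaf 297984) 251 (.node (.leaf 168433) 155 (.leaf 152898))) 1463 (.node (.node (.leaf 211557) 1 (.leaf 211556)) 184 (.node (.leaf 109543) 96 (.leaf 264594))))) 3353 (.node (.node (.node (.leaf 140485) 277 (.node (.leaf 160557) 27 (.leaf 212147))) 361 (.node (.node (.leaf 84768) 150 (.leaf 296014)) 183 (.node (.leaf 109901) 960 (.leaf 240577)))) 1765 (.node (.node (.leaf 242851) 351 (.node (.leaf 270284) 675 (.leaf 55793))) 1042 (.node (.node (.leaf 223443) 172 (.leaf 247985)) 195 (.node (.leaf 43173) 83 (.leaf 38896))))))) 12029 (.node (.node (.node (.node (.node (.leaf 208727) 76 (.node (.leaf 158810) 752 (.leaf 197389))) 869 (.node (.leaf 71617) 28 (.node (.leaf 68206) 7 (.leaf 215761)))) 1032 (.node (.node (.leaf 203215) 128 (.node (.leaf 216088) 554 (.leaf 247092))) 826 (.node (.node (.leaf 235524) 665 (.leaf 231133)) 913 (.node (.leaf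 138715) 497 (.leaf 53008))))) 3642 (.node (.node (.node (.leaf 217432) 82 (.node (.leaf 218653) 271 (.leaf 35161))) 391 (.node (.node (.leaf 103148) 13 (.leaf 203160)) 105 (.node (.leaf 248406) 103 (.leaf 219264)))) 1055 (.node (.node (.leaf 219699) 205 (.node (.leaf 219830) 298 (.leaf 89008))) 1208 (.node (.node (.leaf 220834) 197 (.leaf 234231)) 504 (.node (.leaf 169935) 47 (.leaf 101410)))))) 6803 (.node (.node (.node (.node (.leaf 87957) 364 (.node (.leaf 222096) 282 (.leaf 304997))) 1516 (.node (.leaf 207870) 113 (.node (.leaf 57689) 337 (.leaf 230947)))) 2028 (.node (.node (.leaf 128960) 153 (.node (.leaf 228457) 73 (.leaf 187040))) 492 (.node (.node (.leaf 168738) 27 (.leaf 243301)) 37 (.node (.leaf 108422) 36 (.leaf 208908))))) 2802 (.node (.node (.node (.leaf 251591) 391 (.node (.leaf 224926) 517 (.leaf 225441))) 1011 (.node (.node (.leaf 103991) 253 (.leaf 262657)) 417 (.node (.leaf 176728) 475 (.leaf 184383)))) 1904 (.node (.node (.leaf 40218) 300 (.node (.leaf 262735)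 149 (.leaf 265055))) 624 (.node (.node (.leaf 226953) 154 (.leaf 219403)) 275 (.node (.leaf 220261) 96 (.leaf 263129)))))))) 24908 (.node (.node (.node (.node (.node (.node (.leaf 285867) 9 (.node (.leaf 192812) 547 (.leaf 105236))) 735 (.node (.leaf 239921) 804 (.node (.leaf 267491) 85 (.leaf 276613)))) 1883 (.node (.node (.leaf 278744) 100 (.node (.leaf 305752) 40 (.leaf 90588))) 233 (.node (.node (.leaf 194113) 49 (.leaf 197104)) 442 (.node (.leaf 34568) 156 (.leaf 71115))))) 2871 (.node (.node (.node (.leaf 248722) 132 (.node (.leaf 133717) 235 (.leaf 169371))) 498 (.node (.leaf 262320) 58 (.node (.leaf 231235) 6 (.leaf 206257)))) 607 (.node (.node (.leaf 281522) 157 (.node (.leaf 214170) 219 (.leaf 246014))) 393 (.node (.node (.leaf 87578) 3 (.leaf 70540)) 462 (.node (.leaf 203126) 30 (.leaf 110288)))))) 4400 (.node (.node (.node (.node (.leaf 283245) 359 (.node (.leaf 83798) 689 (.leaf 178656))) 1168 (.node (.leaf 119401) 694 (.node (.leaf 234070) 196 (.leaf 203995)))) 2197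 (.node (.node (.leaf 81403) 478 (.node (.leaf 247929) 499 (.leaf 82001))) 1036 (.node (.node (.leaf 305171) 27 (.leaf 150257)) 132 (.node (.leaf 119639) 473 (.leaf 236045))))) 4185 (.node (.node (.node (.leaf 124656) 333 (.node (.leaf 169157) 102 (.leaf 306118))) 561 (.node (.node (.leaf 180295) 137 (.leaf 142901)) 908 (.node (.leaf 269033) 176 (.leaf 306187)))) 2426 (.node (.node (.leaf 44343) 306 (.node (.leaf 253804) 23 (.leaf 272707))) 504 (.node (.node (.leaf 247527) 408 (.leaf 165747)) 922 (.node (.leaf 245620) 24 (.leaf 240269))))))) 13087 (.node (.node (.node (.node (.node (.leaf 197274) 14 (.node (.leaf 51469) 52 (.leaf 267330))) 257 (.node (.leaf 143264) 24 (.node (.leaf 261100) 105 (.leaf 279837)))) 860 (.node (.node (.leaf 222976) 250 (.node (.leaf 255986) 207 (.leaf 121427))) 716 (.node (.node (.leaf 90348) 229 (.leaf 218902)) 453 (.node (.leaf 207210) 325 (.leaf 152143))))) 2435 (.node (.node (.node (.leaf 139752) 55 (.node (.leaf 262459) 168 (.leaf 81430))) 372 (.node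 (.node (.leaf 234142) 97 (.leaf 241736)) 241 (.node (.leaf 225627) 191 (.leaf 128440)))) 1013 (.node (.node (.leaf 244343) 51 (.node (.leaf 244527) 133 (.leaf 244394))) 836 (.node (.node (.leaf 106591) 108 (.leaf 300783)) 147 (.node (.leaf 85848) 301 (.leaf 92817)))))) 5011 (.node (.node (.node (.node (.leaf 199673) 217 (.node (.leaf 171072) 109 (.leaf 65690))) 412 (.node (.leaf 153567) 386 (.node (.leaf 156567) 54 (.leaf 261802)))) 1434 (.node (.node (.leaf 186017) 239 (.node (.leaf 305229) 197 (.leaf 247775))) 537 (.node (.node (.leaf 254829) 16 (.leaf 292600)) 107 (.node (.leaf 301690) 422 (.leaf 219067))))) 2816 (.node (.node (.node (.leaf 230679) 83 (.node (.leaf 293583) 81 (.leaf 76491))) 422 (.node (.node (.leaf 249145) 568 (.leaf 265758)) 909 (.node (.leaf 250053) 539 (.leaf 219919)))) 2024 (.node (.node (.leaf 138364) 213 (.node (.leaf 272340) 205 (.leaf 301446))) 566 (.node (.node (.leaf 226934) 734 (.leaf 104192)) 1197 (.node (.leaf 252509) 183 (.leaf 278889))))))))) 49811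 (.node (.node (.node (.node (.node (.node (.node (.leaf 269020) 220 (.node (.leaf 252931) 72 (.leaf 43435))) 383 (.node (.leaf 168532) 460 (.node (.leaf 215902) 7 (.leaf 202026)))) 1049 (.node (.node (.leaf 45969) 44 (.node (.leaf 239125) 158 (.leaf 270242))) 490 (.node (.node (.leaf 202289) 148 (.leaf 262356)) 387 (.node (.leaf 40801) 56 (.leaf 174641))))) 2134 (.node (.node (.node (.leaf 231106) 311 (.node (.leaf 92964) 57 (.leaf 255213))) 528 (.node (.leaf 255366) 100 (.node (.leaf 271929) 281 (.leaf 255753)))) 1422 (.node (.node (.leaf 82734) 95 (.node (.leaf 138369) 34 (.leaf 50831))) 163 (.node (.node (.leaf 95995) 14 (.leaf 62749)) 234 (.node (.leaf 238881) 142 (.leaf 256807)))))) 4242 (.node (.node (.node (.node (.leaf 197541) 214 (.node (.leaf 184708) 516 (.leaf 257683))) 1911 (.node (.leaf 258864) 559 (.node (.leaf 230881) 78 (.leaf 83626)))) 2636 (.node (.node (.leaf 81635) 105 (.node (.leaf 259694) 445 (.leaf 44885))) 1122 (.node (.node (.leaf 183053) 615 (.leaf 101403))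 906 (.node (.leaf 89885) 102 (.leaf 261719))))) 4849 (.node (.node (.node (.leaf 246758) 629 (.node (.leaf 149569) 28 (.leaf 243385))) 848 (.node (.node (.leaf 176265) 58 (.leaf 39891)) 86 (.node (.leaf 80698) 32 (.leaf 246307)))) 1064 (.node (.node (.leaf 243749) 495 (.node (.leaf 263361) 81 (.leaf 302072))) 760 (.node (.node (.leaf 258247) 91 (.leaf 124556)) 146 (.node (.leaf 57528) 537 (.leaf 264310))))))) 11616 (.node (.node (.node (.node (.node (.leaf 158134) 110 (.node (.leaf 159641) 331 (.leaf 86983))) 583 (.node (.leaf 221623) 257 (.node (.leaf 84409) 107 (.leaf 77483)))) 1058 (.node (.node (.leaf 265435) 201 (.node (.leaf 299876) 115 (.leaf 265700))) 373 (.node (.node (.leaf 249712) 32 (.leaf 265791)) 228 (.node (.leaf 39857) 184 (.leaf 266169))))) 1983 (.node (.node (.node (.leaf 145214) 530 (.node (.leaf 266840) 192 (.leaf 216904))) 891 (.node (.node (.leaf 247395) 34 (.leaf 134808)) 314 (.node (.leaf 241443) 190 (.leaf 232877)))) 1405 (.node (.node (.leaf 104773) 563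 (.node (.leaf 268279) 1 (.leaf 268278))) 1318 (.node (.node (.leaf 237862) 136 (.leaf 116264)) 269 (.node (.leaf 100245) 652 (.leaf 119015)))))) 5915 (.node (.node (.node (.node (.leaf 253962) 364 (.node (.leaf 196846) 114 (.leaf 231860))) 1584 (.node (.leaf 209445) 182 (.node (.leaf 134823) 15 (.leaf 272023)))) 2465 (.node (.node (.leaf 239148) 210 (.node (.leaf 133022) 183 (.leaf 82420))) 774 (.node (.node (.leaf 273481) 157 (.leaf 111760)) 1401 (.node (.leaf 274939) 305 (.leaf 206445))))) 5245 (.node (.node (.node (.leaf 99607) 50 (.node (.leaf 139112) 209 (.leaf 254685))) 427 (.node (.node (.leaf 302226) 7 (.leaf 208489)) 481 (.node (.leaf 48461) 218 (.leaf 229432)))) 1476 (.node (.node (.leaf 258280) 46 (.node (.leaf 241849) 116 (.leaf 237840))) 286 (.node (.node (.leaf 265733) 33 (.leaf 112512)) 236 (.node (.leaf 40058) 333 (.leaf 281435)))))))) 25140 (.node (.node (.node (.node (.node (.node (.leaf 254562) 346 (.node (.leaf 286065) 329 (.leaf 204402))) 738 (.node (.leaf 139785)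 464 (.node (.leaf 82559) 59 (.leaf 151172)))) 1735 (.node (.node (.leaf 162767) 590 (.node (.leaf 284885) 400 (.leaf 280576))) 1261 (.node (.node (.leaf 258268) 149 (.leaf 123359)) 209 (.node (.leaf 226948) 35 (.leaf 48375))))) 3671 (.node (.node (.node (.leaf 231286) 624 (.node (.leaf 186373) 106 (.leaf 252355))) 780 (.node (.node (.leaf 99870) 808 (.leaf 306152)) 895 (.node (.leaf 254986) 923 (.leaf 185795)))) 2718 (.node (.node (.leaf 64820) 204 (.node (.leaf 192239) 11 (.leaf 130802))) 254 (.node (.node (.leaf 114059) 145 (.leaf 238436)) 391 (.node (.leaf 280176) 40 (.leaf 269723)))))) 7209 (.node (.node (.node (.node (.leaf 204636) 454 (.node (.leaf 214779) 22 (.leaf 232526))) 513 (.node (.leaf 269846) 807 (.node (.leaf 178204) 38 (.leaf 152375)))) 2597 (.node (.node (.leaf 124748) 127 (.node (.leaf 100584) 237 (.leaf 41927))) 1024 (.node (.node (.leaf 189573) 323 (.leaf 49063)) 875 (.node (.leaf 154621) 191 (.leaf 289747))))) 5039 (.node (.node (.node (.leaf 72620) 4 (.node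 (.leaf 249884) 31 (.leaf 297721))) 196 (.node (.node (.leaf 49513) 967 (.leaf 155142)) 1028 (.node (.leaf 170147) 384 (.leaf 299826)))) 1805 (.node (.node (.leaf 204394) 26 (.node (.leaf 68922) 59 (.leaf 220456))) 329 (.node (.node (.leaf 140969) 94 (.leaf 127849)) 216 (.node (.leaf 292880) 79 (.leaf 143950))))))) 14777 (.node (.node (.node (.node (.node (.leaf 108852) 105 (.node (.leaf 101778) 251 (.leaf 218399))) 728 (.node (.leaf 283269) 247 (.node (.leaf 53156) 149 (.leaf 167825)))) 2034 (.node (.node (.leaf 294662) 1069 (.node (.leaf 130275) 84 (.leaf 281621))) 1408 (.node (.node (.leaf 39695) 11 (.leaf 201481)) 114 (.node (.leaf 270920) 404 (.leaf 296588))))) 4136 (.node (.node (.node (.leaf 222668) 50 (.node (.leaf 281232) 129 (.leaf 302481))) 552 (.node (.node (.leaf 44335) 200 (.leaf 104681)) 203 (.node (.leaf 227813) 285 (.leaf 161964)))) 1205 (.node (.node (.leaf 211830) 92 (.node (.leaf 208769) 167 (.leaf 298228))) 356 (.node (.node (.leaf 237193) 14 (.leaf 79571)) 375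 (.node (.leaf 98031) 83 (.leaf 260217)))))) 6347 (.node (.node (.node (.node (.leaf 205176) 362 (.node (.leaf 299337) 115 (.leaf 150662))) 723 (.node (.leaf 76794) 650 (.node (.leaf 242406) 631 (.leaf 93638)))) 2104 (.node (.node (.leaf 83266) 25 (.node (.leaf 191497) 324 (.leaf 193826))) 367 (.node (.node (.leaf 251164) 572 (.leaf 79626)) 1248 (.node (.leaf 149733) 82 (.leaf 74517))))) 3868 (.node (.node (.node (.leaf 302824) 42 (.node (.leaf 149444) 35 (.leaf 164121))) 328 (.node (.node (.leaf 37481) 498 (.leaf 303669)) 599 (.node (.leaf 136585) 942 (.leaf 271764)))) 2099 (.node (.node (.leaf 304942) 244 (.node (.leaf 72694) 523 (.leaf 250302))) 810 (.node (.node (.leaf 229791) 435 (.leaf 238038)) 646 (.node (.leaf 234762) 275 (.leaf 306673))))))))))))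

/-- table of generator 8 -/
def tab8 : Tab :=
  (.node (.node (.node (.node (.node (.node (.node (.node (.node (.node (.leaf 0) 1 (.leaf 1)) 2 (.node (.leaf 2) 1 (.leaf 3))) 4 (.node (.node (.leaf 4) 1 (.leaf 5)) 4 (.node (.leaf 9) 1 (.leaf 8)))) 11 (.node (.node (.node (.leaf 11) 1 (.leaf 12)) 15 (.node (.leaf 1531) 20 (.leaf 46))) 39 (.node (.node (.leaf 50) 9 (.leaf 501)) 13 (.node (.leaf 63) 1 (.node (.leaf 64) 2 (.leaf 66)))))) 67 (.node (.node (.node (.node (.leaf 67) 1 (.leaf 68)) 2 (.node (.leaf 70) 30 (.leaf 100))) 33 (.node (.node (.leaf 99) 30 (.leaf 130)) 31 (.node (.leaf 131) 3 (.leaf 300)))) 68 (.node (.node (.node (.leaf 158) 1 (.leaf 136)) 2 (.node (.leaf 137) 1 (.leaf 138))) 4 (.node (.node (.leaf 139) 1 (.leaf 140)) 2 (.node (.leaf 141) 1 (.node (.leaf 142) 2 (.leaf 350))))))) 147 (.node (.node (.node (.node (.node (.leaf 346) 7 (.leaf 154)) 8 (.node (.leaf 155) 1 (.leaf 156))) 11 (.node (.node (.leaf 135) 1 (.leaf 159)) 2 (.node (.leaf 160) 1 (.leaf 161)))) 15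 (.node (.node (.node (.leaf 186) 1 (.leaf 267)) 7 (.node (.leaf 169) 17 (.leaf 162))) 55 (.node (.node (.leaf 366) 46 (.leaf 263)) 49 (.node (.leaf 266) 1 (.node (.leaf 163) 1 (.leaf 302)))))) 122 (.node (.node (.node (.node (.leaf 269) 27 (.leaf 297)) 29 (.node (.leaf 340) 2 (.leaf 134))) 32 (.node (.node (.leaf 305) 1 (.leaf 268)) 2 (.node (.leaf 303) 1 (.node (.leaf 369) 55 (.leaf 4661))))) 93 (.node (.node (.node (.leaf 362) 5 (.leaf 367)) 6 (.node (.leaf 435) 1 (.leaf 304))) 58 (.node (.node (.leaf 20649) 6 (.leaf 440)) 9 (.node (.leaf 442) 1 (.node (.leaf 7983) 4 (.leaf 434)))))))) 435 (.node (.node (.node (.node (.node (.node (.leaf 368) 1 (.leaf 436)) 3 (.node (.leaf 438) 14 (.leaf 452))) 31 (.node (.node (.leaf 4775) 88 (.leaf 5307)) 148 (.node (.leaf 614) 23 (.leaf 11760)))) 236 (.node (.node (.node (.leaf 671) 2 (.leaf 672)) 12 (.node (.leaf 1468) 116 (.leaf 799))) 229 (.node (.node (.leaf 4662) 97 (.leaf 11303)) 133 (.node (.leaf 1034) 37 (.node (.leaf 15086) 89 (.leaf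 7710)))))) 753 (.node (.node (.node (.node (.leaf 1022) 8 (.leaf 1195)) 13 (.node (.leaf 24207) 41 (.leaf 22))) 126 (.node (.node (.leaf 4892) 178 (.leaf 23925)) 1535 (.node (.leaf 17238) 43 (.node (.leaf 17134) 508 (.leaf 21154))))) 2414 (.node (.node (.node (.leaf 19971) 450 (.leaf 21502)) 565 (.node (.leaf 17898) 243 (.leaf 4410))) 814 (.node (.node (.leaf 4787) 27 (.leaf 935)) 38 (.node (.leaf 4453) 10 (.node (.leaf 4464) 163 (.leaf 4460))))))) 4199 (.node (.node (.node (.node (.node (.leaf 1490) 24 (.leaf 4658)) 28 (.node (.leaf 900) 72 (.leaf 12239))) 135 (.node (.node (.leaf 4768) 26 (.leaf 552)) 40 (.node (.leaf 4809) 83 (.leaf 1314)))) 397 (.node (.node (.node (.leaf 5031) 59 (.leaf 5090)) 267 (.node (.leaf 8460) 919 (.leaf 29230))) 1372 (.node (.node (.leaf 21483) 39 (.leaf 5822)) 282 (.node (.leaf 20894) 9 (.node (.leaf 22188) 100 (.leaf 12111)))))) 2389 (.node (.node (.node (.node (.leaf 19027) 548 (.leaf 10830)) 566 (.node (.leaf 5529) 138 (.leaf 25093))) 722 (.node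 (.node (.leaf 7741) 193 (.leaf 13890)) 509 (.node (.leaf 8254) 178 (.node (.leaf 12541) 483 (.leaf 19243))))) 2130 (.node (.node (.node (.leaf 9233) 80 (.leaf 9153)) 501 (.node (.leaf 9654) 66 (.leaf 14061))) 744 (.node (.node (.leaf 20176) 575 (.leaf 25804)) 964 (.node (.leaf 24420) 127 (.node (.leaf 22809) 126 (.leaf 11115))))))))) 11303 (.node (.node (.node (.node (.node (.node (.node (.leaf 997) 34 (.leaf 11217)) 794 (.node (.leaf 14011) 103 (.leaf 22817))) 1294 (.node (.node (.leaf 28639) 14 (.leaf 27693)) 59 (.node (.leaf 25705) 1170 (.leaf 470)))) 2578 (.node (.node (.node (.leaf 6842) 387 (.leaf 24863)) 1394 (.node (.leaf 16212) 165 (.leaf 21741))) 2018 (.node (.node (.leaf 16458) 1076 (.leaf 30192)) 1463 (.node (.leaf 30175) 160 (.node (.leaf 15329) 294 (.leaf 22453)))))) 6943 (.node (.node (.node (.node (.leaf 19478) 284 (.leaf 27369)) 370 (.node (.leaf 3784) 50 (.leaf 3229))) 503 (.node (.node (.leaf 1691) 301 (.leaf 1377)) 360 (.node (.leaf 19109) 763 (.leaf 30290))))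 2287 (.node (.node (.node (.leaf 24416) 331 (.leaf 29410)) 505 (.node (.leaf 21038) 445 (.leaf 6403))) 969 (.node (.node (.leaf 4052) 239 (.leaf 15440)) 599 (.node (.leaf 1712) 183 (.node (.leaf 22284) 85 (.leaf 29169))))))) 11331 (.node (.node (.node (.node (.node (.leaf 6483) 830 (.leaf 10576)) 873 (.node (.leaf 30702) 909 (.leaf 20533))) 1962 (.node (.node (.leaf 15302) 268 (.leaf 27163)) 497 (.node (.leaf 7727) 124 (.leaf 20827)))) 3170 (.node (.node (.node (.leaf 10472) 1140 (.leaf 15154)) 1725 (.node (.leaf 27697) 628 (.leaf 20268))) 3375 (.node (.node (.leaf 9766) 84 (.leaf 5337)) 1523 (.node (.leaf 23507) 119 (.node (.leaf 30821) 632 (.leaf 25590)))))) 9038 (.node (.node (.node (.node (.leaf 31672) 1 (.leaf 31673)) 2 (.node (.leaf 31674) 1 (.leaf 31675))) 4 (.node (.node (.leaf 31676) 75 (.leaf 31751)) 77 (.node (.leaf 31753) 1 (.node (.leaf 31754) 2 (.leaf 32039))))) 87 (.node (.node (.node (.leaf 33028) 1 (.leaf 56809)) 6 (.node (.leaf 57404) 1 (.leaf 55150))) 12 (.node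 (.node (.leaf 31771) 2 (.leaf 31773)) 3 (.node (.leaf 31774) 121 (.node (.leaf 32038) 1 (.leaf 33027)))))))) 20595 (.node (.node (.node (.node (.node (.node (.leaf 56610) 4 (.leaf 57270)) 7 (.node (.leaf 34311) 127 (.leaf 34105))) 140 (.node (.node (.leaf 31895) 1 (.leaf 31756)) 100 (.node (.leaf 86654) 2 (.leaf 32140)))) 510 (.node (.node (.node (.leaf 32409) 1 (.leaf 32408)) 2 (.node (.leaf 32555) 134 (.leaf 32545))) 137 (.node (.node (.leaf 32544) 9 (.leaf 32554)) 10 (.node (.leaf 32410) 122 (.node (.leaf 32677) 1 (.leaf 32678)))))) 1129 (.node (.node (.node (.node (.leaf 31896) 1 (.leaf 31759)) 3 (.node (.leaf 58926) 62 (.leaf 176398))) 166 (.node (.node (.leaf 33194) 49 (.leaf 57406)) 52 (.node (.leaf 33245) 117 (.node (.leaf 33808) 1 (.leaf 33363))))) 337 (.node (.node (.node (.leaf 33364) 10 (.leaf 31897)) 362 (.node (.leaf 88599) 131 (.leaf 33373))) 558 (.node (.node (.leaf 58628) 49 (.leaf 218924)) 77 (.node (.leaf 221590) 114 (.node (.leaf 55952) 49 (.leaf 34161)))))))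 2387 (.node (.node (.node (.node (.node (.leaf 34285) 12 (.leaf 50367)) 26 (.node (.leaf 31905) 10 (.leaf 178392))) 256 (.node (.node (.leaf 51695) 27 (.leaf 95712)) 44 (.node (.leaf 277881) 159 (.leaf 256430)))) 963 (.node (.node (.node (.leaf 59081) 1 (.leaf 87216)) 181 (.node (.leaf 155850) 117 (.leaf 57129))) 419 (.node (.node (.leaf 107250) 421 (.leaf 36278)) 445 (.node (.leaf 42493) 140 (.node (.leaf 36504) 177 (.leaf 263771)))))) 2229 (.node (.node (.node (.node (.leaf 111931) 202 (.leaf 150143)) 209 (.node (.leaf 198159) 373 (.leaf 37332))) 588 (.node (.node (.leaf 37337) 379 (.leaf 132286)) 662 (.node (.leaf 290942) 120 (.node (.leaf 113130) 336 (.leaf 38220))))) 3181 (.node (.node (.node (.leaf 54196) 363 (.leaf 40059)) 523 (.node (.leaf 260144) 145 (.leaf 235544))) 1005 (.node (.node (.leaf 141871) 109 (.leaf 41359)) 607 (.node (.leaf 286747) 411 (.node (.leaf 121931) 269 (.leaf 181143)))))))))) 42297 (.node (.node (.node (.node (.node (.node (.node (.node (.leaf 254402)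 51 (.leaf 252931)) 161 (.node (.leaf 42459) 444 (.leaf 192583))) 1027 (.node (.node (.leaf 224403) 111 (.leaf 57527)) 433 (.node (.leaf 64207) 78 (.leaf 44101)))) 1652 (.node (.node (.node (.leaf 63837) 202 (.leaf 274970)) 245 (.node (.leaf 233256) 149 (.leaf 70779))) 1803 (.node (.node (.leaf 48355) 217 (.leaf 257703)) 1048 (.node (.leaf 234405) 177 (.node (.leaf 208027) 771 (.leaf 47749)))))) 6078 (.node (.node (.node (.node (.leaf 49063) 58 (.leaf 93439)) 112 (.node (.leaf 262431) 228 (.leaf 40270))) 550 (.node (.node (.leaf 186512) 97 (.leaf 49292)) 138 (.node (.leaf 48375) 60 (.leaf 40293)))) 1324 (.node (.node (.node (.leaf 163445) 97 (.leaf 49796)) 356 (.node (.leaf 41062) 297 (.leaf 50351))) 670 (.node (.node (.leaf 33243) 2 (.leaf 59078)) 3 (.node (.leaf 58925) 459 (.node (.leaf 70807) 193 (.leaf 146660))))))) 8776 (.node (.node (.node (.node (.node (.leaf 51073) 96 (.leaf 243943)) 196 (.node (.leaf 68206) 200 (.leaf 286600))) 622 (.node (.node (.leaf 34541) 223 (.leaf 107008))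 383 (.node (.leaf 126494) 284 (.leaf 52362)))) 1325 (.node (.node (.node (.leaf 282252) 2 (.leaf 198358)) 287 (.node (.leaf 262866) 141 (.leaf 79268))) 571 (.node (.node (.leaf 161317) 187 (.leaf 108154)) 390 (.node (.leaf 250592) 345 (.node (.leaf 276664) 18 (.leaf 148863)))))) 2798 (.node (.node (.node (.node (.leaf 194079) 73 (.leaf 131655)) 217 (.node (.leaf 54089) 108 (.leaf 39695))) 532 (.node (.node (.leaf 54403) 7 (.leaf 54410)) 8 (.node (.leaf 54411) 222 (.node (.leaf 54633) 2 (.leaf 190550))))) 776 (.node (.node (.node (.leaf 276758) 360 (.leaf 58270)) 386 (.node (.leaf 154743) 117 (.leaf 31766))) 506 (.node (.node (.leaf 87093) 1 (.leaf 87214)) 2 (.node (.leaf 112811) 102 (.node (.leaf 33908) 693 (.leaf 55950)))))))) 13655 (.node (.node (.node (.node (.node (.node (.leaf 34113) 123 (.leaf 33855)) 137 (.node (.leaf 89242) 80 (.leaf 35722))) 394 (.node (.node (.leaf 125766) 43 (.leaf 37145)) 143 (.node (.leaf 204293) 83 (.leaf 56573)))) 659 (.node (.node (.node (.leaf 57278)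 274 (.leaf 31899)) 662 (.node (.leaf 57273) 5 (.leaf 56611))) 682 (.node (.node (.leaf 237313) 81 (.leaf 57375)) 82 (.node (.leaf 57374) 31 (.node (.leaf 33242) 121 (.leaf 43435)))))) 1714 (.node (.node (.node (.node (.leaf 84961) 193 (.leaf 239251)) 224 (.node (.leaf 42115) 77 (.leaf 192239))) 360 (.node (.node (.leaf 54126) 457 (.leaf 58483)) 676 (.node (.leaf 148731) 19 (.node (.leaf 58050) 27 (.leaf 37834))))) 1260 (.node (.node (.node (.leaf 33030) 541 (.leaf 59233)) 612 (.node (.leaf 59538) 128 (.leaf 59281))) 1022 (.node (.node (.leaf 61532) 693 (.leaf 53778)) 780 (.node (.leaf 92340) 204 (.node (.leaf 226246) 62 (.leaf 60995))))))) 5229 (.node (.node (.node (.node (.node (.leaf 254277) 166 (.leaf 298325)) 878 (.node (.leaf 255213) 126 (.leaf 201113))) 1467 (.node (.node (.leaf 55968) 246 (.leaf 62894)) 532 (.node (.leaf 112806) 30 (.leaf 63210)))) 2322 (.node (.node (.node (.leaf 183187) 184 (.leaf 84084)) 396 (.node (.leaf 63898) 498 (.leaf 247340))) 1241 (.node (.node (.leaf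 64744) 76 (.leaf 125622)) 226 (.node (.leaf 235441) 153 (.node (.leaf 124071) 86 (.leaf 65210)))))) 4440 (.node (.node (.node (.node (.leaf 65867) 246 (.leaf 65621)) 2241 (.node (.leaf 178336) 284 (.leaf 277009))) 2585 (.node (.node (.leaf 51269) 544 (.leaf 222648)) 1250 (.node (.leaf 69456) 126 (.node (.leaf 109445) 626 (.leaf 249498))))) 4797 (.node (.node (.node (.leaf 47019) 389 (.leaf 50831)) 1110 (.node (.leaf 111729) 140 (.leaf 230931))) 1313 (.node (.node (.leaf 72001) 270 (.leaf 71731)) 276 (.node (.leaf 71570) 492 (.node (.leaf 132317) 121 (.leaf 245287))))))))) 30570 (.node (.node (.node (.node (.node (.node (.node (.leaf 240245) 147 (.leaf 277092)) 472 (.node (.leaf 219685) 567 (.leaf 73906))) 1611 (.node (.node (.leaf 225962) 1146 (.leaf 84296)) 2078 (.node (.leaf 131343) 238 (.leaf 76793)))) 4119 (.node (.node (.node (.leaf 148740) 76 (.leaf 284062)) 555 (.node (.leaf 77542) 332 (.leaf 183541))) 1810 (.node (.node (.leaf 78795) 43 (.leaf 78839)) 881 (.node (.leaf 79678)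 1 (.node (.leaf 79677) 6 (.leaf 41135)))))) 6979 (.node (.node (.node (.node (.leaf 93528) 1225 (.leaf 81071)) 1584 (.node (.leaf 94116) 205 (.leaf 259648))) 2230 (.node (.node (.leaf 110952) 98 (.leaf 162568)) 158 (.node (.leaf 189786) 131 (.node (.leaf 139752) 170 (.leaf 296814))))) 2777 (.node (.node (.node (.leaf 242964) 612 (.leaf 239731)) 664 (.node (.leaf 100342) 300 (.leaf 44440))) 1096 (.node (.node (.leaf 130021) 123 (.leaf 54397)) 425 (.node (.leaf 84145) 1 (.node (.leaf 84144) 280 (.leaf 84424))))))) 11996 (.node (.node (.node (.node (.node (.leaf 215630) 595 (.leaf 58049)) 929 (.node (.leaf 86389) 56 (.leaf 226749))) 1029 (.node (.node (.leaf 86934) 133 (.leaf 86024)) 213 (.node (.leaf 291707) 181 (.leaf 214822)))) 1526 (.node (.node (.node (.leaf 85792) 395 (.leaf 49601)) 460 (.node (.leaf 97682) 190 (.leaf 179491))) 824 (.node (.node (.leaf 130447) 10 (.leaf 234883)) 193 (.node (.leaf 47975) 33 (.node (.leaf 87440) 118 (.leaf 128721)))))) 3005 (.node (.node (.node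 (.node (.leaf 242063) 30 (.leaf 87899)) 89 (.node (.leaf 57413) 1372 (.leaf 177494))) 1499 (.node (.node (.leaf 195375) 196 (.leaf 195718)) 518 (.node (.leaf 242225) 703 (.node (.leaf 215699) 624 (.leaf 163143))))) 3514 (.node (.node (.node (.leaf 91383) 395 (.leaf 129821)) 679 (.node (.leaf 181342) 279 (.leaf 60728))) 1498 (.node (.node (.leaf 50499) 73 (.leaf 88095)) 758 (.node (.leaf 168529) 60 (.node (.leaf 268598) 1249 (.leaf 94946)))))))) 22138 (.node (.node (.node (.node (.node (.node (.leaf 254596) 334 (.leaf 279053)) 673 (.node (.leaf 246351) 34 (.leaf 34568))) 1154 (.node (.node (.leaf 96160) 389 (.leaf 120682)) 732 (.node (.leaf 280776) 103 (.leaf 305097)))) 2226 (.node (.node (.node (.leaf 97231) 123 (.leaf 34122)) 452 (.node (.leaf 261539) 765 (.leaf 243799))) 1384 (.node (.node (.leaf 191469) 351 (.leaf 148144)) 1611 (.node (.leaf 143626) 43 (.node (.leaf 183942) 83 (.leaf 142052)))))) 5540 (.node (.node (.node (.node (.leaf 67130) 39 (.leaf 215257)) 865 (.node (.leaf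 196445) 160 (.leaf 245675))) 1120 (.node (.node (.leaf 186852) 877 (.leaf 198678)) 968 (.node (.leaf 266840) 282 (.node (.leaf 73694) 29 (.leaf 62499))))) 2596 (.node (.node (.node (.leaf 178824) 793 (.leaf 197855)) 1214 (.node (.leaf 225329) 326 (.leaf 242089))) 1910 (.node (.node (.leaf 214940) 681 (.leaf 298228)) 1782 (.node (.leaf 128540) 175 (.node (.leaf 51918) 621 (.leaf 107629))))))) 12930 (.node (.node (.node (.node (.node (.leaf 35374) 197 (.leaf 231046)) 219 (.node (.leaf 53156) 537 (.leaf 36427))) 1109 (.node (.node (.leaf 226065) 499 (.leaf 266861)) 857 (.node (.leaf 138693) 387 (.leaf 258515)))) 2627 (.node (.node (.node (.leaf 109998) 100 (.leaf 227808)) 263 (.node (.leaf 119844) 85 (.leaf 119832))) 808 (.node (.node (.leaf 57573) 56 (.leaf 56380)) 88 (.node (.leaf 129006) 162 (.node (.leaf 50034) 168 (.leaf 131310)))))) 4016 (.node (.node (.node (.node (.leaf 219298) 1138 (.leaf 150820)) 1529 (.node (.leaf 241312) 322 (.leaf 297804))) 2206 (.node (.node (.leaf 236726)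 239 (.leaf 79699)) 820 (.node (.leaf 63244) 328 (.node (.leaf 104017) 526 (.leaf 156322))))) 4310 (.node (.node (.node (.leaf 116261) 3 (.leaf 231292)) 329 (.node (.leaf 115164) 235 (.leaf 239809))) 627 (.node (.node (.leaf 245440) 204 (.leaf 202044)) 1115 (.node (.leaf 189402) 369 (.node (.leaf 242005) 157 (.leaf 118530))))))))))) 119730 (.node (.node (.node (.node (.node (.node (.node (.node (.node (.leaf 117083) 114 (.leaf 110825)) 116 (.node (.leaf 152476) 219 (.leaf 119888))) 1613 (.node (.node (.leaf 160177) 84 (.leaf 219267)) 538 (.node (.leaf 306398) 50 (.leaf 41718)))) 2712 (.node (.node (.node (.leaf 186733) 2114 (.leaf 75656)) 2214 (.node (.leaf 276856) 35 (.leaf 124910))) 2468 (.node (.node (.leaf 124691) 477 (.leaf 125387)) 692 (.node (.leaf 113463) 164 (.node (.leaf 56346) 910 (.leaf 66852)))))) 7239 (.node (.node (.node (.node (.leaf 107486) 375 (.leaf 104876)) 577 (.node (.leaf 150543) 13 (.leaf 114918))) 644 (.node (.node (.leaf 87730) 260 (.leaf 121488)) 331 (.node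 (.leaf 204865) 26 (.leaf 259718)))) 1135 (.node (.node (.node (.leaf 128104) 13 (.leaf 191833)) 336 (.node (.leaf 128439) 216 (.leaf 128785))) 709 (.node (.node (.leaf 176953) 147 (.leaf 95685)) 184 (.node (.leaf 157074) 89 (.node (.leaf 129086) 272 (.leaf 212611))))))) 9678 (.node (.node (.node (.node (.node (.leaf 252058) 325 (.leaf 248722)) 512 (.node (.leaf 196700) 121 (.leaf 130041))) 736 (.node (.node (.leaf 84666) 131 (.leaf 130275)) 298 (.node (.leaf 59077) 2 (.leaf 87215)))) 1037 (.node (.node (.node (.leaf 152062) 2 (.leaf 87213)) 3 (.node (.leaf 196377) 94 (.leaf 130543))) 150 (.node (.node (.leaf 235940) 156 (.leaf 176935)) 180 (.node (.leaf 128040) 270 (.node (.leaf 197086) 298 (.leaf 76556)))))) 2001 (.node (.node (.node (.node (.leaf 147170) 12 (.leaf 85116)) 228 (.node (.leaf 80919) 45 (.leaf 280716))) 425 (.node (.node (.leaf 131834) 149 (.leaf 303669)) 231 (.node (.leaf 55650) 110 (.node (.leaf 132176) 1 (.leaf 132175))))) 855 (.node (.node (.node (.leaf 262708)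 473 (.leaf 111849)) 838 (.node (.leaf 93156) 1694 (.leaf 295969))) 2559 (.node (.node (.leaf 134823) 458 (.leaf 130382)) 1293 (.node (.leaf 42080) 1741 (.node (.leaf 197456) 69 (.leaf 292733)))))))) 18312 (.node (.node (.node (.node (.node (.node (.leaf 256259) 1080 (.leaf 296081)) 1225 (.node (.leaf 127951) 485 (.leaf 82365))) 1716 (.node (.node (.leaf 143728) 11 (.leaf 269302)) 377 (.node (.leaf 56574) 871 (.leaf 35632)))) 5908 (.node (.node (.node (.leaf 232835) 194 (.leaf 144330)) 395 (.node (.leaf 144154) 505 (.leaf 120809))) 907 (.node (.node (.leaf 43065) 511 (.leaf 162170)) 900 (.node (.leaf 297965) 349 (.node (.leaf 241949) 335 (.leaf 148663)))))) 8432 (.node (.node (.node (.node (.leaf 194270) 207 (.leaf 52118)) 522 (.node (.leaf 179523) 840 (.leaf 147836))) 1750 (.node (.node (.leaf 177925) 5 (.leaf 258864)) 216 (.node (.leaf 68864) 24 (.node (.leaf 213972) 959 (.leaf 129010))))) 3496 (.node (.node (.node (.leaf 85101) 173 (.leaf 36716)) 502 (.node (.leaf 190624) 190 (.leaf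 75128))) 1223 (.node (.node (.leaf 186333) 778 (.leaf 187691)) 869 (.node (.leaf 130445) 326 (.node (.leaf 152389) 1 (.leaf 152388))))))) 14518 (.node (.node (.node (.node (.node (.leaf 152559) 189 (.leaf 103526)) 860 (.node (.leaf 239835) 147 (.leaf 304852))) 1222 (.node (.node (.leaf 259423) 123 (.leaf 231945)) 517 (.node (.leaf 154299) 516 (.leaf 263361)))) 2831 (.node (.node (.node (.leaf 209186) 1640 (.leaf 156904)) 1683 (.node (.leaf 128997) 247 (.leaf 188270))) 1992 (.node (.node (.leaf 157384) 1 (.leaf 157383)) 84 (.node (.leaf 35452) 545 (.node (.leaf 128279) 1203 (.leaf 291832)))))) 6787 (.node (.node (.node (.node (.leaf 159347) 2 (.leaf 159349)) 1048 (.node (.leaf 198469) 162 (.leaf 241275))) 1970 (.node (.node (.leaf 52969) 166 (.leaf 274288)) 219 (.node (.leaf 131688) 338 (.node (.leaf 161874) 893 (.leaf 226400))))) 4098 (.node (.node (.node (.leaf 49699) 511 (.leaf 118353)) 634 (.node (.leaf 157360) 42 (.leaf 47363))) 1405 (.node (.node (.leaf 201407) 895 (.leaf 195849))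 996 (.node (.leaf 302018) 24 (.node (.leaf 119803) 769 (.leaf 166805))))))))) 47168 (.node (.node (.node (.node (.node (.node (.node (.leaf 166898) 640 (.leaf 291406)) 1396 (.node (.leaf 168293) 139 (.leaf 210345))) 1541 (.node (.node (.leaf 56367) 90 (.leaf 93638)) 269 (.node (.leaf 212498) 30 (.leaf 260498)))) 2051 (.node (.node (.node (.leaf 247607) 682 (.leaf 40199)) 882 (.node (.leaf 186966) 104 (.leaf 56503))) 1081 (.node (.node (.leaf 63742) 758 (.leaf 190767)) 1260 (.node (.leaf 171291) 903 (.node (.leaf 209132) 581 (.leaf 247996)))))) 6287 (.node (.node (.node (.node (.leaf 210093) 160 (.leaf 265671)) 285 (.node (.leaf 48970) 303 (.leaf 173773))) 1456 (.node (.node (.leaf 179921) 496 (.leaf 175137)) 548 (.node (.leaf 175188) 582 (.leaf 175771)))) 2766 (.node (.node (.node (.leaf 188574) 211 (.leaf 127366)) 314 (.node (.leaf 176265) 596 (.leaf 302166))) 968 (.node (.node (.leaf 81369) 16 (.leaf 130751)) 93 (.node (.leaf 299337) 303 (.node (.leaf 112659) 459 (.leaf 98654)))))))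 11338 (.node (.node (.node (.node (.node (.leaf 298733) 100 (.leaf 67862)) 156 (.node (.leaf 34321) 17 (.leaf 228364))) 1087 (.node (.node (.leaf 115183) 180 (.leaf 179133)) 945 (.node (.leaf 253561) 462 (.leaf 180875)))) 2711 (.node (.node (.node (.leaf 293163) 14 (.leaf 180961)) 224 (.node (.leaf 181043) 560 (.leaf 213299))) 940 (.node (.node (.leaf 84708) 794 (.leaf 182681)) 1022 (.node (.leaf 53822) 144 (.node (.leaf 243545) 27 (.leaf 183081)))))) 4845 (.node (.node (.node (.node (.leaf 183080) 82 (.leaf 163120)) 106 (.node (.leaf 63503) 137 (.leaf 245627))) 460 (.node (.node (.leaf 77873) 106 (.leaf 304912)) 164 (.node (.leaf 106292) 237 (.node (.leaf 100269) 785 (.leaf 79116))))) 1662 (.node (.node (.node (.leaf 280576) 984 (.leaf 185727)) 1196 (.node (.leaf 227433) 334 (.leaf 69511))) 1630 (.node (.node (.leaf 288229) 105 (.leaf 99502)) 593 (.node (.leaf 169831) 646 (.node (.leaf 84485) 524 (.leaf 260169)))))))) 21556 (.node (.node (.node (.node (.node (.node (.leaf 188454)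 741 (.leaf 189196)) 742 (.node (.leaf 189195) 273 (.leaf 189469))) 1350 (.node (.node (.leaf 246861) 478 (.leaf 91650)) 643 (.node (.leaf 181288) 103 (.leaf 54635)))) 2097 (.node (.node (.node (.leaf 190551) 11 (.leaf 202227)) 133 (.node (.leaf 183410) 55 (.leaf 244527))) 296 (.node (.node (.leaf 200995) 104 (.leaf 277145)) 612 (.node (.leaf 174733) 780 (.node (.leaf 57967) 344 (.leaf 42902)))))) 4168 (.node (.node (.node (.node (.leaf 305752) 107 (.leaf 67316)) 190 (.node (.leaf 249787) 1019 (.leaf 139819))) 1466 (.node (.node (.leaf 158079) 416 (.leaf 224925)) 1037 (.node (.leaf 296101) 48 (.node (.leaf 70235) 268 (.leaf 208959))))) 2982 (.node (.node (.node (.leaf 205381) 285 (.leaf 185126)) 322 (.node (.leaf 195561) 609 (.leaf 196630))) 1242 (.node (.node (.leaf 279553) 372 (.leaf 230811)) 395 (.node (.leaf 220495) 33 (.node (.leaf 44282) 115 (.leaf 215901))))))) 9390 (.node (.node (.node (.node (.node (.leaf 242924) 739 (.leaf 292628)) 770 (.node (.leaf 93493) 64 (.leaf 102542)))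 1749 (.node (.node (.leaf 89031) 1064 (.leaf 237105)) 1402 (.node (.leaf 190847) 33 (.leaf 195130)))) 3418 (.node (.node (.node (.leaf 41959) 746 (.leaf 33148)) 1027 (.node (.leaf 202289) 355 (.leaf 184690))) 1396 (.node (.node (.leaf 43368) 215 (.leaf 202873)) 502 (.node (.leaf 108718) 139 (.node (.leaf 129872) 153 (.leaf 249934)))))) 5760 (.node (.node (.node (.node (.leaf 237854) 736 (.leaf 204225)) 790 (.node (.leaf 236162) 8 (.leaf 123603))) 1708 (.node (.node (.leaf 301428) 48 (.leaf 246704)) 69 (.node (.leaf 195604) 326 (.node (.leaf 125945) 353 (.leaf 147161))))) 2499 (.node (.node (.node (.leaf 206103) 32 (.leaf 161598)) 1912 (.node (.leaf 88300) 1116 (.leaf 54894))) 3083 (.node (.node (.leaf 155391) 815 (.leaf 290295)) 1706 (.node (.leaf 168748) 218 (.node (.leaf 253094) 2044 (.leaf 292233)))))))))) 93569 (.node (.node (.node (.node (.node (.node (.node (.node (.leaf 181731) 11 (.leaf 301446)) 217 (.node (.leaf 282284) 138 (.leaf 171874))) 448 (.node (.node (.leaf 70949)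 610 (.leaf 129684)) 629 (.node (.leaf 34528) 469 (.leaf 214845)))) 1641 (.node (.node (.node (.leaf 105051) 9 (.leaf 58744)) 65 (.node (.leaf 282649) 52 (.leaf 256444))) 231 (.node (.node (.leaf 129784) 109 (.leaf 228543)) 917 (.node (.leaf 162169) 28 (.node (.leaf 258457) 506 (.leaf 60933)))))) 4816 (.node (.node (.node (.node (.leaf 240269) 42 (.leaf 183423)) 538 (.node (.leaf 133710) 326 (.leaf 46339))) 1149 (.node (.node (.leaf 185040) 3 (.leaf 121427)) 34 (.node (.leaf 111951) 103 (.leaf 227216)))) 1570 (.node (.node (.node (.leaf 73339) 339 (.leaf 212584)) 508 (.node (.leaf 130148) 302 (.leaf 197241))) 1347 (.node (.node (.leaf 43029) 352 (.leaf 221384)) 591 (.node (.leaf 156566) 19 (.node (.leaf 59321) 956 (.leaf 170462))))))) 9677 (.node (.node (.node (.node (.node (.leaf 61847) 467 (.leaf 274805)) 738 (.node (.leaf 57944) 202 (.leaf 191882))) 1010 (.node (.node (.leaf 270111) 426 (.leaf 290913)) 498 (.node (.leaf 40772) 58 (.leaf 254398)))) 1617 (.node (.node (.node (.leaf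 222439) 451 (.leaf 266170)) 1027 (.node (.leaf 305874) 368 (.leaf 270818))) 1472 (.node (.node (.leaf 109044) 177 (.leaf 288861)) 581 (.node (.leaf 155217) 415 (.node (.leaf 289556) 105 (.leaf 103227)))))) 4837 (.node (.node (.node (.node (.leaf 227813) 55 (.leaf 80921)) 202 (.node (.leaf 286418) 17 (.leaf 247776))) 693 (.node (.node (.leaf 182025) 356 (.leaf 248805)) 1038 (.node (.leaf 140012) 594 (.node (.leaf 161303) 263 (.leaf 153244))))) 2998 (.node (.node (.node (.leaf 197218) 241 (.leaf 304650)) 295 (.node (.leaf 305100) 255 (.leaf 189038))) 755 (.node (.node (.leaf 231679) 96 (.leaf 231662)) 113 (.node (.leaf 231566) 4 (.node (.leaf 231682) 177 (.leaf 94735)))))))) 18575 (.node (.node (.node (.node (.node (.node (.leaf 255894) 693 (.leaf 289647)) 961 (.node (.leaf 143950) 42 (.leaf 43288))) 1029 (.node (.node (.leaf 41075) 102 (.leaf 193001)) 353 (.node (.leaf 44194) 319 (.leaf 194465)))) 2196 (.node (.node (.node (.leaf 234070) 161 (.leaf 234231)) 448 (.node (.leaf 234518)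 205 (.leaf 237341))) 1454 (.node (.node (.leaf 230424) 31 (.leaf 235468)) 49 (.node (.leaf 268317) 1155 (.node (.leaf 236728) 100 (.leaf 236828)))))) 5375 (.node (.node (.node (.node (.leaf 271826) 177 (.leaf 78190)) 613 (.node (.leaf 302894) 121 (.leaf 167960))) 1187 (.node (.node (.leaf 111001) 1629 (.leaf 220129)) 2098 (.node (.leaf 276963) 54 (.node (.leaf 115806) 1361 (.leaf 146106))))) 4840 (.node (.node (.node (.leaf 104681) 1024 (.leaf 170271)) 1085 (.node (.leaf 220834) 84 (.leaf 296588))) 1170 (.node (.node (.leaf 164393) 42 (.leaf 188744)) 771 (.node (.leaf 207503) 139 (.node (.leaf 256267) 358 (.leaf 190739))))))) 13474 (.node (.node (.node (.node (.node (.leaf 236046) 327 (.leaf 101570)) 383 (.node (.leaf 266583) 973 (.leaf 205360))) 1410 (.node (.node (.leaf 250223) 354 (.leaf 89055)) 582 (.node (.leaf 64397) 187 (.leaf 38736)))) 2734 (.node (.node (.node (.leaf 187675) 640 (.leaf 129733)) 1024 (.node (.leaf 209256) 681 (.leaf 192812))) 1852 (.node (.node (.leaf 203452)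 8 (.leaf 256953)) 289 (.node (.leaf 246758) 229 (.node (.leaf 245954) 463 (.leaf 251312)))))) 6243 (.node (.node (.node (.node (.leaf 220641) 183 (.leaf 121838)) 315 (.node (.leaf 255560) 152 (.leaf 129408))) 630 (.node (.node (.leaf 232141) 195 (.leaf 122421)) 288 (.node (.leaf 288584) 414 (.node (.leaf 252923) 171 (.leaf 211110))))) 2686 (.node (.node (.node (.leaf 61181) 302 (.leaf 267032)) 408 (.node (.leaf 302469) 681 (.leaf 226089))) 1153 (.node (.node (.leaf 150683) 237 (.leaf 267235)) 281 (.node (.leaf 94274) 183 (.node (.leaf 231874) 140 (.leaf 277249))))))))) 42928 (.node (.node (.node (.node (.node (.node (.node (.leaf 234004) 8 (.leaf 199045)) 579 (.node (.leaf 256806) 570 (.leaf 259765))) 1456 (.node (.node (.leaf 258906) 494 (.leaf 80315)) 1513 (.node (.leaf 73262) 498 (.leaf 103265)))) 3778 (.node (.node (.node (.leaf 265586) 164 (.leaf 188136)) 1095 (.node (.leaf 234722) 356 (.leaf 248900))) 1714 (.node (.node (.leaf 261719) 42 (.leaf 224325)) 66 (.node (.leaf 160360)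 210 (.node (.leaf 171983) 436 (.leaf 48487)))))) 6278 (.node (.node (.node (.node (.leaf 290103) 231 (.leaf 262736)) 431 (.node (.leaf 225381) 387 (.leaf 184707))) 848 (.node (.node (.leaf 122057) 956 (.leaf 264309)) 1241 (.node (.leaf 235026) 174 (.node (.leaf 278716) 406 (.leaf 301079))))) 2769 (.node (.node (.node (.leaf 189975) 397 (.leaf 173345)) 409 (.node (.leaf 191470) 108 (.leaf 146529))) 1314 (.node (.node (.leaf 148767) 252 (.leaf 102633)) 516 (.node (.leaf 144170) 559 (.node (.leaf 150618) 389 (.leaf 64833))))))) 11949 (.node (.node (.node (.node (.node (.leaf 250746) 77 (.leaf 180548)) 103 (.node (.leaf 268279) 38 (.leaf 235573))) 633 (.node (.node (.leaf 82259) 216 (.leaf 243249)) 493 (.node (.leaf 139769) 123 (.leaf 273638)))) 1531 (.node (.node (.node (.leaf 34190) 139 (.leaf 231947)) 190 (.node (.leaf 111577) 214 (.leaf 223986))) 577 (.node (.node (.leaf 178022) 121 (.leaf 194641)) 292 (.node (.leaf 117617) 344 (.node (.leaf 175356) 915 (.leaf 63432)))))) 3753 (.node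 (.node (.node (.node (.leaf 248313) 94 (.leaf 238199)) 778 (.node (.leaf 280513) 931 (.leaf 269425))) 1817 (.node (.node (.leaf 259787) 241 (.leaf 285060)) 360 (.node (.leaf 196019) 864 (.node (.leaf 44151) 174 (.leaf 182533))))) 3593 (.node (.node (.node (.leaf 225798) 30 (.leaf 223698)) 546 (.node (.leaf 262333) 327 (.leaf 282196))) 1142 (.node (.node (.leaf 53704) 588 (.leaf 291262)) 1577 (.node (.leaf 278240) 267 (.node (.leaf 281522) 208 (.leaf 264768)))))))) 22604 (.node (.node (.node (.node (.node (.node (.leaf 170353) 253 (.leaf 209031)) 560 (.node (.leaf 273100) 162 (.leaf 196846))) 1102 (.node (.node (.leaf 192867) 580 (.leaf 272707)) 843 (.node (.leaf 96891) 386 (.leaf 118284)))) 2575 (.node (.node (.node (.leaf 53011) 116 (.leaf 278508)) 677 (.node (.leaf 103571) 113 (.leaf 276395))) 1243 (.node (.node (.leaf 215005) 1225 (.leaf 284455)) 1263 (.node (.leaf 275302) 543 (.node (.leaf 283874) 249 (.leaf 95774)))))) 6477 (.node (.node (.node (.node (.leaf 277851) 757 (.leaf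 256936)) 1005 (.node (.leaf 100015) 287 (.leaf 51469))) 2138 (.node (.node (.leaf 252711) 499 (.leaf 262895)) 552 (.node (.leaf 252046) 564 (.node (.leaf 147190) 204 (.leaf 65834))))) 3518 (.node (.node (.node (.leaf 185309) 48 (.leaf 288874)) 134 (.node (.leaf 288960) 687 (.leaf 232567))) 1136 (.node (.node (.leaf 275914) 328 (.leaf 72260)) 560 (.node (.leaf 76602) 77 (.node (.leaf 128940) 343 (.leaf 37764))))))) 12154 (.node (.node (.node (.node (.node (.leaf 163074) 131 (.leaf 122052)) 421 (.node (.leaf 167538) 524 (.leaf 291930))) 1463 (.node (.node (.leaf 292449) 152 (.leaf 250667)) 269 (.node (.leaf 292717) 794 (.leaf 171000)))) 2563 (.node (.node (.node (.leaf 237525) 205 (.leaf 293752)) 591 (.node (.leaf 172224) 1962 (.leaf 195125))) 3837 (.node (.node (.leaf 216364) 336 (.leaf 203749)) 414 (.node (.leaf 179759) 5 (.node (.leaf 113802) 161 (.leaf 145757)))))) 6984 (.node (.node (.node (.node (.leaf 297969) 133 (.leaf 80918)) 594 (.node (.leaf 188578) 170 (.leaf 178236)))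 3477 (.node (.node (.leaf 213310) 137 (.leaf 242700)) 244 (.node (.leaf 300717) 791 (.node (.leaf 119321) 142 (.leaf 102460))))) 4775 (.node (.node (.node (.leaf 302885) 80 (.leaf 303827)) 150 (.node (.leaf 237862) 338 (.leaf 302694))) 712 (.node (.node (.leaf 302300) 1009 (.leaf 298295)) 1456 (.node (.leaf 183647) 840 (.node (.leaf 192622) 203 (.leaf 305211))))))))))))

/-- table of generator 9 -/
def tab9 : Tab :=
  (.node (.node (.node (.node (.node (.node (.node (.node (.leaf 0) 2 (.node (.leaf 2) 1 (.leaf 3))) 5 (.node (.node (.leaf 5) 6 (.leaf 300)) 56 (.node (.leaf 61) 3 (.leaf 64)))) 66 (.node (.node (.node (.leaf 66) 2 (.leaf 68)) 4 (.node (.leaf 71) 29 (.leaf 99))) 34 (.node (.node (.leaf 101) 30 (.leaf 130)) 35 (.node (.leaf 135) 1 (.leaf 136))))) 137 (.node (.node (.node (.node (.leaf 137) 1 (.leaf 138)) 3 (.node (.leaf 140) 1 (.leaf 141))) 5 (.node (.node (.leaf 142) 14 (.leaf 156)) 16 (.node (.leaf 159) 3 (.leaf 163)))) 25 (.node (.node (.node (.leaf 160) 1 (.leaf 161))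 24 (.node (.leaf 186) 80 (.leaf 266))) 105 (.node (.node (.leaf 267) 1 (.leaf 268)) 2 (.node (.leaf 304) 28 (.leaf 297)))))) 298 (.node (.node (.node (.node (.leaf 298) 2 (.node (.leaf 11) 2 (.leaf 303))) 5 (.node (.node (.leaf 302) 37 (.leaf 409)) 43 (.node (.leaf 415) 7 (.leaf 420)))) 60 (.node (.node (.node (.leaf 426) 9 (.leaf 368)) 10 (.node (.leaf 367) 1 (.leaf 369))) 77 (.node (.node (.leaf 435) 1 (.leaf 436)) 2 (.node (.leaf 437) 1 (.leaf 438))))) 172 (.node (.node (.node (.node (.leaf 4464) 4 (.leaf 50)) 82 (.node (.leaf 503) 62 (.leaf 614))) 201 (.node (.node (.leaf 671) 128 (.leaf 799)) 300 (.node (.leaf 25217) 183 (.leaf 1033)))) 809 (.node (.node (.node (.leaf 1188) 98 (.leaf 21917)) 128 (.node (.leaf 169) 125 (.leaf 26))) 433 (.node (.node (.leaf 11449) 1517 (.leaf 7050)) 2072 (.node (.leaf 18663) 685 (.leaf 5031))))))) 4658 (.node (.node (.node (.node (.node (.leaf 4659) 1 (.node (.leaf 4658) 2 (.leaf 4661))) 151 (.node (.node (.leaf 4809) 83 (.leaf 4892)) 392 (.node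 (.leaf 17522) 1202 (.leaf 30137)))) 4242 (.node (.node (.node (.leaf 29183) 1983 (.leaf 6794)) 2299 (.node (.leaf 11113) 104 (.leaf 25093))) 2860 (.node (.node (.leaf 12097) 3326 (.leaf 12211)) 3727 (.node (.leaf 31453) 2411 (.leaf 24845))))) 14451 (.node (.node (.node (.node (.leaf 19109) 1153 (.leaf 6442)) 1785 (.node (.leaf 30247) 1294 (.leaf 22189))) 3175 (.node (.node (.leaf 26241) 283 (.leaf 9897)) 1641 (.node (.leaf 22297) 359 (.leaf 12542)))) 5307 (.node (.node (.node (.leaf 30702) 677 (.leaf 11303)) 1388 (.node (.leaf 25804) 1359 (.leaf 31218))) 2817 (.node (.node (.leaf 24581) 592 (.leaf 7186)) 1875 (.node (.leaf 17816) 49 (.leaf 8432)))))) 24572 (.node (.node (.node (.node (.leaf 24828) 180 (.node (.leaf 20275) 642 (.leaf 7023))) 907 (.node (.node (.leaf 6403) 397 (.leaf 27776)) 565 (.node (.leaf 24416) 970 (.leaf 31672)))) 2443 (.node (.node (.node (.leaf 31673) 1 (.leaf 31674)) 2 (.node (.leaf 31675) 6 (.leaf 33364))) 78 (.node (.node (.leaf 31751) 3 (.leaf 31754)) 22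 (.node (.leaf 31773) 265 (.leaf 32140))))) 2809 (.node (.node (.node (.node (.leaf 32141) 99 (.leaf 32138)) 101 (.node (.leaf 32038) 269 (.leaf 32409))) 371 (.node (.node (.leaf 32410) 144 (.leaf 32408)) 267 (.node (.leaf 33809) 199 (.leaf 33374)))) 988 (.node (.node (.node (.leaf 33369) 121 (.leaf 33148)) 342 (.node (.leaf 33027) 439 (.leaf 32788))) 782 (.node (.node (.leaf 32677) 46 (.leaf 33370)) 78 (.node (.leaf 98615) 84 (.leaf 33971)))))))) 34012 (.node (.node (.node (.node (.node (.node (.leaf 43757) 272 (.node (.leaf 34285) 244 (.leaf 116690))) 1362 (.node (.node (.leaf 143101) 78 (.leaf 227278)) 258 (.node (.leaf 143093) 621 (.leaf 36514)))) 2862 (.node (.node (.node (.leaf 131421) 1136 (.leaf 301583)) 3325 (.node (.leaf 40198) 876 (.leaf 226632))) 5085 (.node (.node (.leaf 157182) 152 (.leaf 63663)) 156 (.node (.leaf 197046) 343 (.leaf 42458))))) 11499 (.node (.node (.node (.node (.leaf 197528) 3155 (.leaf 102944)) 3413 (.node (.leaf 48925) 368 (.leaf 54018))) 4188 (.node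 (.node (.leaf 111745) 5 (.leaf 121343)) 800 (.node (.leaf 140028) 770 (.leaf 51269)))) 6566 (.node (.node (.node (.leaf 52078) 1627 (.leaf 161964)) 1701 (.node (.leaf 53778) 855 (.leaf 54635))) 2558 (.node (.node (.leaf 54633) 259 (.leaf 213568)) 1315 (.node (.leaf 55950) 293 (.leaf 51073)))))) 22562 (.node (.node (.node (.node (.leaf 56573) 316 (.node (.leaf 57666) 485 (.leaf 57375))) 830 (.node (.node (.leaf 57546) 169 (.leaf 211086)) 1224 (.node (.leaf 58628) 298 (.leaf 58926)))) 2707 (.node (.node (.node (.leaf 59281) 257 (.leaf 295795)) 1455 (.node (.leaf 267663) 197 (.leaf 110753))) 1953 (.node (.node (.leaf 269707) 298 (.leaf 89847)) 825 (.node (.leaf 62059) 27 (.leaf 282196))))) 6929 (.node (.node (.node (.node (.leaf 240526) 334 (.leaf 179323)) 397 (.node (.leaf 63899) 1197 (.leaf 72007))) 4156 (.node (.node (.leaf 40363) 1320 (.leaf 218979)) 1922 (.node (.leaf 69581) 59 (.leaf 139769)))) 7304 (.node (.node (.node (.leaf 70807) 721 (.leaf 71528)) 2000 (.node (.leaf 254277)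 376 (.leaf 187921))) 3099 (.node (.node (.leaf 75090) 1222 (.leaf 74155)) 1750 (.node (.leaf 188192) 900 (.leaf 110183))))))) 42590 (.node (.node (.node (.node (.node (.leaf 300815) 373 (.node (.leaf 205312) 1820 (.leaf 161368))) 2514 (.node (.node (.leaf 79116) 152 (.leaf 108486)) 561 (.node (.leaf 225225) 638 (.leaf 80580)))) 4096 (.node (.node (.node (.leaf 80697) 275 (.leaf 243259)) 608 (.node (.leaf 265174) 2227 (.leaf 266840))) 3726 (.node (.node (.leaf 224906) 284 (.leaf 187364)) 2510 (.node (.leaf 201168) 260 (.leaf 97354))))) 11297 (.node (.node (.node (.node (.leaf 87900) 204 (.leaf 219298)) 440 (.node (.leaf 159349) 2363 (.leaf 178336))) 3805 (.node (.node (.leaf 183705) 1824 (.leaf 183304)) 1923 (.node (.leaf 279933) 1377 (.leaf 95005)))) 7586 (.node (.node (.node (.leaf 95712) 200 (.leaf 95461)) 227 (.node (.leaf 95485) 334 (.leaf 282649))) 1221 (.node (.node (.leaf 86849) 64 (.leaf 265683)) 525 (.node (.leaf 97231) 1336 (.leaf 205360)))))) 22813 (.node (.node (.node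 (.node (.node (.leaf 74711) 388 (.leaf 159347)) 3045 (.node (.leaf 217933) 1066 (.leaf 197801))) 4147 (.node (.node (.leaf 140882) 380 (.leaf 81071)) 455 (.node (.leaf 62928) 174 (.leaf 127970)))) 4777 (.node (.node (.node (.leaf 81174) 684 (.leaf 219494)) 1527 (.node (.leaf 196535) 325 (.leaf 110825))) 3058 (.node (.node (.leaf 110289) 904 (.leaf 241107)) 1317 (.node (.leaf 111458) 1424 (.leaf 35429))))) 10768 (.node (.node (.node (.node (.leaf 76556) 642 (.leaf 106044)) 818 (.node (.leaf 168066) 530 (.leaf 261785))) 1562 (.node (.node (.leaf 49699) 3154 (.leaf 178392)) 3173 (.node (.leaf 190196) 246 (.leaf 115304)))) 6078 (.node (.node (.node (.leaf 172199) 2742 (.leaf 290099)) 3060 (.node (.leaf 145313) 358 (.leaf 103512))) 3454 (.node (.node (.leaf 147130) 173 (.leaf 68732)) 558 (.node (.leaf 120526) 326 (.leaf 229544))))))))) 120682 (.node (.node (.node (.node (.node (.node (.node (.leaf 120683) 1389 (.node (.leaf 122071) 291 (.leaf 45752))) 4228 (.node (.node (.leaf 228049)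 223 (.leaf 284240)) 477 (.node (.leaf 241755) 1979 (.leaf 254098)))) 6931 (.node (.node (.node (.leaf 127613) 193 (.leaf 193831)) 826 (.node (.leaf 289249) 282 (.leaf 270675))) 1397 (.node (.node (.leaf 43297) 535 (.leaf 213516)) 723 (.node (.leaf 227885) 88 (.leaf 189575))))) 9190 (.node (.node (.node (.node (.leaf 118261) 141 (.leaf 85458)) 510 (.node (.leaf 252071) 161 (.leaf 130544))) 1438 (.node (.node (.leaf 152443) 235 (.leaf 91382)) 866 (.node (.leaf 132177) 1 (.leaf 132176)))) 2392 (.node (.node (.node (.leaf 132264) 190 (.leaf 213654)) 1197 (.node (.leaf 42348) 734 (.leaf 243258))) 3839 (.node (.node (.leaf 219267) 100 (.leaf 262505)) 2248 (.node (.leaf 226646) 342 (.leaf 97412)))))) 18348 (.node (.node (.node (.node (.leaf 119730) 739 (.node (.leaf 69640) 986 (.leaf 231566))) 3294 (.node (.node (.leaf 181731) 1302 (.leaf 41708)) 4150 (.node (.leaf 146474) 55 (.leaf 146529)))) 8140 (.node (.node (.node (.leaf 147170) 359 (.leaf 231683)) 786 (.node (.leaf 51024) 273 (.leaf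 148229))) 1270 (.node (.node (.leaf 148440) 133 (.leaf 244030)) 223 (.node (.leaf 148149) 1809 (.leaf 150472))))) 11653 (.node (.node (.node (.node (.leaf 277019) 596 (.leaf 37439)) 1692 (.node (.leaf 152374) 14 (.leaf 152389))) 1876 (.node (.node (.leaf 203913) 2184 (.leaf 154744)) 3763 (.node (.leaf 104125) 244 (.leaf 181996)))) 6174 (.node (.node (.node (.leaf 195441) 1902 (.leaf 108132)) 4446 (.node (.leaf 77062) 119 (.leaf 106833))) 4741 (.node (.node (.leaf 286836) 42 (.leaf 270111)) 366 (.node (.leaf 53704) 2885 (.leaf 164850))))))) 46021 (.node (.node (.node (.node (.node (.leaf 287446) 599 (.node (.leaf 237983) 41 (.leaf 167344))) 641 (.node (.node (.leaf 167343) 3009 (.leaf 300119)) 3118 (.node (.leaf 170462) 829 (.leaf 171292)))) 5490 (.node (.node (.node (.leaf 172193) 2428 (.leaf 111490)) 2555 (.node (.leaf 266588) 389 (.leaf 146868))) 2995 (.node (.node (.leaf 175188) 168 (.leaf 182760)) 1263 (.node (.leaf 217055) 161 (.leaf 175221))))) 11633 (.node (.node (.node (.node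 (.leaf 90702) 56 (.leaf 114899)) 320 (.node (.leaf 260009) 1520 (.leaf 261761))) 1932 (.node (.node (.leaf 180268) 462 (.leaf 180730)) 502 (.node (.leaf 168439) 273 (.leaf 48513)))) 2807 (.node (.node (.node (.leaf 181143) 588 (.leaf 142324)) 2646 (.node (.leaf 73454) 1579 (.leaf 95339))) 4796 (.node (.node (.leaf 185939) 333 (.leaf 186273)) 394 (.node (.leaf 204612) 400 (.leaf 47751)))))) 20054 (.node (.node (.node (.node (.leaf 251164) 918 (.node (.leaf 271140) 1363 (.leaf 232376))) 2739 (.node (.node (.leaf 252058) 3126 (.leaf 195041)) 4346 (.node (.leaf 224412) 623 (.leaf 197294)))) 8284 (.node (.node (.node (.leaf 192622) 89 (.leaf 198821)) 677 (.node (.leaf 224820) 301 (.leaf 264327))) 1042 (.node (.node (.leaf 214949) 19 (.leaf 56169)) 162 (.node (.leaf 127546) 200 (.leaf 129156))))) 9943 (.node (.node (.node (.node (.leaf 87006) 518 (.leaf 296773)) 841 (.node (.leaf 106386) 1175 (.leaf 298733))) 2345 (.node (.node (.leaf 214683) 772 (.leaf 219685)) 2203 (.node (.leaf 268317)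 497 (.leaf 126676)))) 7049 (.node (.node (.node (.leaf 251586) 557 (.leaf 278508)) 589 (.node (.leaf 56572) 1022 (.leaf 98567))) 2842 (.node (.node (.leaf 260005) 3754 (.leaf 92672)) 5993 (.node (.leaf 241970) 27 (.leaf 62845)))))))) 92372 (.node (.node (.node (.node (.node (.node (.leaf 51169) 629 (.node (.leaf 65123) 1416 (.leaf 215171))) 2203 (.node (.node (.leaf 191483) 328 (.leaf 185727)) 373 (.node (.leaf 215630) 271 (.leaf 215901)))) 3401 (.node (.node (.node (.leaf 275522) 115 (.leaf 255667)) 2812 (.node (.leaf 136103) 31 (.leaf 88103))) 3230 (.node (.node (.leaf 199817) 2963 (.leaf 61097)) 5540 (.node (.leaf 79677) 156 (.leaf 271152))))) 13011 (.node (.node (.node (.node (.leaf 258761) 21 (.leaf 118003)) 335 (.node (.leaf 80508) 1485 (.leaf 129733))) 1984 (.node (.node (.leaf 124910) 1155 (.leaf 33192)) 2354 (.node (.leaf 195142) 21 (.leaf 231263)))) 5501 (.node (.node (.node (.leaf 140755) 2665 (.leaf 234231)) 3196 (.node (.leaf 294139) 236 (.leaf 249787))) 4374 (.node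 (.node (.leaf 214657) 222 (.leaf 236161)) 1165 (.node (.leaf 100450) 208 (.leaf 255991)))))) 24652 (.node (.node (.node (.node (.leaf 98448) 148 (.node (.leaf 210869) 1747 (.leaf 244169))) 2129 (.node (.node (.leaf 39016) 597 (.leaf 260169)) 691 (.node (.leaf 63503) 62 (.leaf 240588)))) 3401 (.node (.node (.node (.leaf 108154) 205 (.leaf 202665)) 742 (.node (.leaf 207176) 376 (.leaf 111875))) 1857 (.node (.node (.leaf 242964) 581 (.leaf 227519)) 3152 (.node (.leaf 98966) 235 (.leaf 168561))))) 9155 (.node (.node (.node (.node (.leaf 77540) 251 (.leaf 247112)) 2039 (.node (.leaf 262499) 598 (.leaf 287546))) 2926 (.node (.node (.leaf 234998) 880 (.leaf 237806)) 1377 (.node (.leaf 186757) 78 (.leaf 136116)))) 4452 (.node (.node (.node (.leaf 250915) 423 (.leaf 69457)) 745 (.node (.leaf 189496) 865 (.leaf 279371))) 2245 (.node (.node (.leaf 139122) 719 (.leaf 72807)) 844 (.node (.leaf 131513) 160 (.leaf 254622))))))) 42478 (.node (.node (.node (.node (.node (.leaf 148224) 22 (.node (.leaf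 290290) 1007 (.leaf 289647))) 1879 (.node (.node (.leaf 170030) 292 (.leaf 67035)) 1350 (.node (.leaf 226065) 1248 (.leaf 178656)))) 4637 (.node (.node (.node (.leaf 240432) 1499 (.leaf 103934)) 1550 (.node (.leaf 295834) 1079 (.leaf 237249))) 2726 (.node (.node (.leaf 54284) 620 (.leaf 65209)) 2071 (.node (.leaf 75624) 308 (.leaf 265274))))) 10261 (.node (.node (.node (.node (.leaf 154815) 1047 (.leaf 83533)) 1068 (.node (.leaf 115439) 119 (.leaf 197844))) 1320 (.node (.node (.leaf 268279) 1166 (.leaf 267113)) 1204 (.node (.leaf 201248) 708 (.leaf 269025)))) 4318 (.node (.node (.node (.leaf 161640) 2268 (.leaf 291406)) 4694 (.node (.leaf 274805) 339 (.leaf 275144))) 5191 (.node (.node (.leaf 275302) 1456 (.leaf 127305)) 2938 (.node (.leaf 73758) 268 (.leaf 204306)))))) 23184 (.node (.node (.node (.node (.node (.leaf 304460) 1797 (.leaf 282598)) 2000 (.node (.leaf 199405) 60 (.leaf 303509))) 2104 (.node (.node (.leaf 293753) 1376 (.leaf 62086)) 1516 (.node (.leaf 277357) 262 (.leaf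 280513)))) 3933 (.node (.node (.node (.leaf 96046) 629 (.leaf 237426)) 810 (.node (.leaf 256806) 415 (.leaf 297721))) 2457 (.node (.node (.leaf 53722) 761 (.leaf 294651)) 4340 (.node (.leaf 34744) 201 (.leaf 256561))))) 12690 (.node (.node (.node (.node (.leaf 272379) 524 (.leaf 291930)) 1311 (.node (.leaf 128377) 1310 (.leaf 183324))) 3824 (.node (.node (.leaf 240534) 739 (.leaf 200753)) 1543 (.node (.leaf 197218) 948 (.leaf 283874)))) 7327 (.node (.node (.node (.leaf 198716) 3567 (.leaf 211724)) 3736 (.node (.leaf 108114) 763 (.leaf 303232))) 4776 (.node (.node (.leaf 280776) 951 (.leaf 278716)) 1141 (.node (.leaf 82573) 450 (.leaf 243806))))))))))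

/-- table of generator 10 -/
def tab10 : Tab :=
  (.node (.node (.node (.node (.node (.node (.node (.node (.node (.node (.leaf 0) 1 (.node (.leaf 1) 1 (.leaf 2))) 3 (.node (.leaf 3) 1 (.node (.leaf 4) 1 (.leaf 5)))) 6 (.node (.node (.leaf 138) 1 (.node (.leaf 62) 1 (.leaf 134))) 3 (.node (.node (.leaf 300) 1 (.leaf 11)) 2 (.node (.leaf 10) 1 (.leaf 12))))) 13 (.node (.node (.node (.leaf 503) 33 (.node (.leaf 3907) 8 (.leaf 53))) 42 (.node (.leaf 298) 1 (.node (.leaf 681) 1 (.leaf 466)))) 45 (.node (.node (.leaf 4773) 1 (.node (.leaf 4795) 1 (.leaf 4839))) 3 (.node (.node (.leaf 61) 1 (.leaf 7)) 2 (.node (.leaf 63) 1 (.leaf 64)))))) 66 (.node (.node (.node (.node (.leaf 66) 1 (.node (.leaf 139) 1 (.leaf 140))) 3 (.node (.leaf 133) 1 (.node (.leaf 347) 1 (.leaf 72)))) 31 (.node (.node (.leaf 131) 1 (.node (.leaf 130) 1 (.leaf 132))) 3 (.node (.node (.leaf 348) 1 (.leaf 102)) 12 (.node (.leaf 111) 18 (.leaf 98))))) 65 (.node (.node (.node (.leaf 97) 1 (.node (.leaf 99) 1 (.leaf 69)))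 3 (.node (.node (.leaf 8) 1 (.leaf 186)) 2 (.node (.leaf 137) 1 (.leaf 136)))) 7 (.node (.node (.leaf 6) 1 (.node (.leaf 67) 1 (.leaf 68))) 3 (.node (.node (.leaf 142) 1 (.leaf 141)) 5 (.node (.leaf 146) 1 (.leaf 147))))))) 149 (.node (.node (.node (.node (.node (.leaf 149) 3 (.node (.leaf 152) 2 (.leaf 154))) 6 (.node (.leaf 155) 1 (.node (.leaf 799) 1 (.leaf 157)))) 9 (.node (.node (.leaf 162) 1 (.node (.leaf 160) 1 (.leaf 159))) 3 (.node (.node (.leaf 161) 1 (.leaf 158)) 2 (.node (.leaf 163) 1 (.leaf 871))))) 16 (.node (.node (.node (.leaf 897) 1 (.node (.leaf 801) 20 (.leaf 135))) 46 (.node (.leaf 11746) 6 (.node (.leaf 217) 3 (.leaf 221)))) 97 (.node (.node (.leaf 262) 1 (.node (.leaf 263) 2 (.leaf 264))) 4 (.node (.node (.leaf 266) 1 (.leaf 267)) 2 (.node (.leaf 268) 1 (.leaf 269)))))) 148 (.node (.node (.node (.node (.leaf 682) 3 (.node (.leaf 9) 1 (.leaf 301))) 5 (.node (.leaf 302) 1 (.node (.leaf 303) 38 (.leaf 340)))) 49 (.node (.node (.leaf 346) 2 (.node (.leaf 100) 2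 (.leaf 350))) 7 (.node (.node (.leaf 353) 2 (.leaf 4470)) 3 (.node (.leaf 362) 1 (.leaf 361))))) 61 (.node (.node (.node (.leaf 358) 2 (.node (.leaf 4469) 1 (.leaf 357))) 4 (.node (.node (.leaf 356) 3 (.leaf 365)) 5 (.node (.leaf 367) 1 (.leaf 368)))) 11 (.node (.node (.leaf 369) 2 (.node (.leaf 371) 38 (.leaf 410))) 42 (.node (.node (.leaf 4593) 2 (.leaf 413)) 4 (.node (.leaf 415) 19 (.leaf 434)))))))) 435 (.node (.node (.node (.node (.node (.node (.leaf 435) 1 (.node (.leaf 436) 6 (.leaf 441))) 9 (.node (.leaf 4179) 4 (.node (.leaf 554) 2 (.leaf 451)))) 32 (.node (.node (.leaf 621) 1 (.node (.leaf 469) 1 (.leaf 468))) 6 (.node (.node (.leaf 472) 2 (.leaf 475)) 26 (.node (.leaf 500) 1 (.leaf 499))))) 66 (.node (.node (.node (.leaf 552) 2 (.node (.leaf 13) 108 (.leaf 611))) 111 (.node (.leaf 4809) 2 (.node (.leaf 614) 7 (.leaf 467)))) 170 (.node (.node (.leaf 19109) 3 (.node (.leaf 4410) 2 (.leaf 4771))) 43 (.node (.node (.leaf 4810) 1 (.leaf 616)) 83 (.node (.leaf 798) 2 (.leaf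 156)))))) 366 (.node (.node (.node (.node (.leaf 166) 31 (.node (.leaf 2579) 39 (.leaf 164))) 94 (.node (.leaf 895) 2 (.node (.leaf 165) 3 (.leaf 900)))) 109 (.node (.node (.leaf 971) 29 (.node (.leaf 1407) 21 (.leaf 960))) 52 (.node (.node (.leaf 962) 19 (.leaf 7539)) 35 (.node (.leaf 6652) 22 (.leaf 1019))))) 226 (.node (.node (.node (.leaf 1027) 7 (.node (.leaf 1034) 65 (.leaf 1159))) 127 (.node (.node (.leaf 1154) 34 (.leaf 4366)) 39 (.node (.leaf 11429) 39 (.leaf 1242)))) 290 (.node (.node (.leaf 1317) 151 (.node (.leaf 4919) 64 (.leaf 1532))) 1263 (.node (.node (.leaf 4664) 2 (.leaf 4851)) 920 (.node (.leaf 30137) 616 (.leaf 4116))))))) 3923 (.node (.node (.node (.node (.node (.leaf 4294) 27 (.node (.leaf 4384) 18 (.leaf 4180))) 51 (.node (.leaf 4455) 1 (.node (.leaf 674) 32 (.leaf 4443)))) 97 (.node (.node (.leaf 4409) 4 (.node (.leaf 4459) 2 (.leaf 4461))) 9 (.node (.node (.leaf 4464) 114 (.leaf 474)) 131 (.node (.leaf 11979) 34 (.leaf 5376))))) 301 (.node (.node (.node (.leaf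 4659) 2 (.node (.leaf 4661) 1 (.leaf 4662))) 5 (.node (.node (.leaf 2580) 1 (.leaf 4665)) 41 (.node (.leaf 4842) 19 (.leaf 4840)))) 74 (.node (.node (.leaf 4734) 34 (.node (.leaf 5516) 4 (.leaf 676))) 40 (.node (.node (.leaf 58) 14 (.leaf 4787)) 22 (.node (.leaf 59) 11 (.leaf 4806)))))) 449 (.node (.node (.node (.node (.leaf 4807) 2 (.node (.leaf 612) 1 (.leaf 714))) 32 (.node (.leaf 60) 11 (.node (.leaf 4850) 1 (.leaf 2582)))) 72 (.node (.node (.leaf 617) 13 (.node (.leaf 4892) 27 (.leaf 1468))) 315 (.node (.node (.leaf 805) 83 (.leaf 4875)) 96 (.node (.leaf 5290) 437 (.leaf 7710))))) 1013 (.node (.node (.node (.leaf 1196) 111 (.node (.leaf 30174) 114 (.leaf 6046))) 558 (.node (.node (.leaf 25804) 35 (.leaf 6412)) 105 (.node (.leaf 9777) 169 (.leaf 997)))) 1074 (.node (.node (.leaf 8534) 156 (.node (.leaf 6199) 136 (.leaf 10997))) 565 (.node (.node (.leaf 29108) 173 (.leaf 7396)) 626 (.node (.leaf 8085) 21 (.leaf 8107))))))))) 8252 (.node (.node (.node (.node (.node (.node (.node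 (.leaf 8253) 349 (.node (.leaf 9235) 300 (.leaf 8900))) 983 (.node (.leaf 8601) 80 (.node (.leaf 2849) 542 (.leaf 9858)))) 2010 (.node (.node (.leaf 25942) 408 (.node (.leaf 10116) 171 (.leaf 19612))) 726 (.node (.node (.leaf 10988) 29 (.leaf 10883)) 229 (.node (.leaf 5413) 232 (.leaf 1821))))) 3610 (.node (.node (.node (.leaf 24284) 6 (.node (.leaf 11868) 229 (.leaf 12097))) 255 (.node (.leaf 1279) 94 (.node (.leaf 3937) 36 (.leaf 12246)))) 479 (.node (.node (.leaf 4634) 977 (.node (.leaf 25799) 1870 (.leaf 5201))) 3185 (.node (.node (.leaf 27194) 316 (.leaf 15722)) 686 (.node (.leaf 16211) 36 (.leaf 16248)))))) 8360 (.node (.node (.node (.node (.leaf 29217) 522 (.node (.leaf 10778) 1234 (.leaf 20279))) 2051 (.node (.leaf 16065) 165 (.node (.leaf 2946) 281 (.leaf 671)))) 2610 (.node (.node (.leaf 31156) 21 (.node (.leaf 15719) 286 (.leaf 21726))) 440 (.node (.node (.leaf 21590) 613 (.leaf 2627)) 617 (.node (.leaf 18368) 659 (.leaf 15142))))) 4348 (.node (.node (.node (.leaf 31259)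 195 (.node (.leaf 21156) 435 (.leaf 19662))) 751 (.node (.node (.leaf 20262) 76 (.leaf 24969)) 206 (.node (.leaf 13714) 272 (.leaf 26879)))) 1337 (.node (.node (.leaf 17821) 369 (.node (.leaf 15404) 37 (.leaf 15382))) 520 (.node (.node (.leaf 22800) 4 (.leaf 24526)) 177 (.node (.leaf 15765) 174 (.leaf 31258))))))) 15255 (.node (.node (.node (.node (.node (.leaf 23551) 36 (.node (.leaf 30207) 8 (.leaf 23507))) 264 (.node (.leaf 23771) 649 (.node (.leaf 21976) 161 (.leaf 24581)))) 1196 (.node (.node (.leaf 24703) 87 (.node (.leaf 18886) 38 (.leaf 13186))) 142 (.node (.node (.leaf 20928) 130 (.leaf 11199)) 523 (.node (.leaf 7440) 81 (.leaf 24073))))) 2185 (.node (.node (.node (.leaf 5938) 112 (.node (.leaf 6378) 437 (.leaf 18967))) 561 (.node (.node (.leaf 15487) 160 (.leaf 27178)) 376 (.node (.leaf 29157) 540 (.leaf 10108)))) 2016 (.node (.node (.leaf 28687) 68 (.node (.leaf 19409) 73 (.leaf 29713))) 771 (.node (.node (.leaf 30052) 169 (.leaf 28070)) 690 (.node (.leaf 21001) 23 (.leaf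 4342)))))) 5707 (.node (.node (.node (.node (.leaf 15096) 179 (.node (.leaf 19901) 537 (.leaf 28062))) 923 (.node (.leaf 3500) 38 (.node (.leaf 30176) 72 (.leaf 9276)))) 1161 (.node (.node (.leaf 10787) 183 (.node (.leaf 15885) 28 (.leaf 30586))) 392 (.node (.node (.leaf 22567) 227 (.leaf 31550)) 420 (.node (.leaf 9817) 31 (.leaf 23060))))) 2173 (.node (.node (.node (.leaf 29526) 52 (.node (.leaf 31215) 111 (.leaf 30994))) 285 (.node (.node (.leaf 31672) 1 (.leaf 31673)) 2 (.node (.leaf 31674) 1 (.leaf 31675)))) 293 (.node (.node (.leaf 31681) 3 (.node (.leaf 32144) 65 (.leaf 31748))) 70 (.node (.node (.leaf 31755) 1 (.leaf 31752)) 2 (.node (.leaf 31751) 1 (.leaf 31753)))))))) 23502 (.node (.node (.node (.node (.node (.node (.leaf 31754) 1 (.node (.leaf 31750) 1 (.leaf 31757))) 3 (.node (.leaf 31756) 2 (.node (.leaf 31759) 1 (.leaf 31760)))) 10 (.node (.node (.leaf 33242) 2 (.node (.leaf 31766) 5 (.leaf 31772))) 8 (.node (.node (.leaf 31771) 1 (.leaf 31773)) 8 (.node (.leaf 31781)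 115 (.leaf 31896))))) 142 (.node (.node (.node (.leaf 31895) 1 (.node (.leaf 31897) 1 (.leaf 31898))) 3 (.node (.leaf 31899) 1 (.node (.leaf 31901) 2 (.leaf 33146)))) 9 (.node (.node (.leaf 31905) 2 (.node (.leaf 31907) 5 (.leaf 57033))) 8 (.node (.node (.leaf 31914) 119 (.leaf 52775)) 125 (.node (.leaf 33027) 1 (.leaf 32142)))))) 288 (.node (.node (.node (.node (.leaf 33860) 1 (.node (.leaf 33915) 1 (.leaf 34102))) 94 (.node (.leaf 84661) 3 (.node (.leaf 32138) 1 (.leaf 33369)))) 99 (.node (.node (.leaf 32272) 1 (.node (.leaf 32039) 2 (.leaf 31683))) 265 (.node (.node (.leaf 32406) 2 (.leaf 32555)) 3 (.node (.leaf 32410) 1 (.leaf 32409))))) 465 (.node (.node (.node (.leaf 183541) 38 (.node (.leaf 149477) 8 (.leaf 33809))) 47 (.node (.node (.leaf 33760) 2 (.leaf 32556)) 33 (.node (.leaf 59823) 199 (.leaf 33863)))) 280 (.node (.node (.leaf 32787) 1 (.node (.leaf 32788) 88 (.leaf 32876))) 92 (.node (.node (.leaf 33855) 47 (.leaf 193842)) 148 (.node (.leaf 32038) 1 (.leaf 33028)))))))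 1392 (.node (.node (.node (.node (.node (.leaf 31902) 2 (.node (.leaf 33148) 94 (.leaf 31764))) 97 (.node (.leaf 31763) 2 (.node (.leaf 55950) 118 (.leaf 33363)))) 219 (.node (.node (.leaf 58483) 4 (.node (.leaf 32140) 1 (.leaf 33246))) 7 (.node (.node (.leaf 33857) 208 (.leaf 33579)) 347 (.node (.leaf 56611) 43 (.leaf 57128))))) 664 (.node (.node (.node (.leaf 32041) 1 (.node (.leaf 33761) 49 (.leaf 32042))) 75 (.node (.node (.leaf 270182) 29 (.leaf 34111)) 30 (.node (.leaf 32043) 46 (.leaf 111295)))) 160 (.node (.node (.leaf 33971) 125 (.node (.leaf 54424) 1 (.leaf 58719))) 129 (.node (.node (.leaf 57663) 2 (.leaf 34309)) 3 (.node (.leaf 32044) 7 (.leaf 56886)))))) 965 (.node (.node (.node (.node (.leaf 33914) 44 (.node (.leaf 35721) 142 (.leaf 34297))) 188 (.node (.leaf 84338) 2 (.node (.leaf 56888) 3 (.leaf 34304)))) 198 (.node (.node (.leaf 34101) 2 (.node (.leaf 34311) 200 (.leaf 34511))) 205 (.node (.node (.leaf 34514) 7 (.leaf 37143)) 27 (.node (.leaf 140998) 126 (.leaf 34667)))))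 641 (.node (.node (.node (.leaf 34751) 497 (.node (.leaf 54554) 17 (.leaf 85687))) 947 (.node (.node (.leaf 266348) 210 (.leaf 36833)) 554 (.node (.leaf 36253) 21 (.leaf 36274)))) 1699 (.node (.node (.leaf 260009) 53 (.node (.leaf 36504) 108 (.leaf 71648))) 264 (.node (.node (.leaf 36716) 1 (.leaf 36715)) 70 (.node (.leaf 276664) 90 (.leaf 36874)))))))))) 36971 (.node (.node (.node (.node (.node (.node (.node (.node (.leaf 52614) 149 (.node (.leaf 157074) 234 (.leaf 281162))) 468 (.node (.leaf 37438) 145 (.node (.leaf 85375) 577 (.leaf 209186)))) 1317 (.node (.node (.leaf 111426) 603 (.node (.leaf 96706) 125 (.leaf 39015))) 746 (.node (.node (.leaf 87114) 391 (.leaf 145260)) 606 (.node (.leaf 106877) 183 (.leaf 186272))))) 3096 (.node (.node (.node (.leaf 243661) 131 (.node (.leaf 40198) 269 (.leaf 149770))) 449 (.node (.leaf 240588) 349 (.node (.leaf 268740) 197 (.leaf 175517)))) 1068 (.node (.node (.leaf 218851) 224 (.node (.leaf 41647) 349 (.leaf 41708))) 714 (.node (.node (.leaf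 265793) 75 (.leaf 288021)) 949 (.node (.leaf 42798) 487 (.leaf 43284)))))) 6326 (.node (.node (.node (.node (.leaf 43297) 717 (.node (.leaf 119925) 137 (.leaf 103721))) 1778 (.node (.leaf 172516) 811 (.node (.leaf 213816) 425 (.leaf 180770)))) 3063 (.node (.node (.leaf 265671) 1180 (.node (.leaf 47540) 197 (.leaf 179503))) 1391 (.node (.node (.leaf 47752) 97 (.leaf 265244)) 212 (.node (.leaf 228862) 466 (.leaf 149142))))) 5153 (.node (.node (.node (.leaf 48537) 63 (.node (.leaf 48513) 1094 (.leaf 139030))) 1347 (.node (.node (.leaf 49796) 76 (.leaf 90901)) 147 (.node (.leaf 239273) 90 (.leaf 84963)))) 1880 (.node (.node (.leaf 102956) 37 (.node (.leaf 50367) 1 (.leaf 50368))) 40 (.node (.node (.leaf 57273) 3 (.leaf 56077)) 4 (.node (.leaf 84457) 1 (.leaf 58721))))))) 13638 (.node (.node (.node (.node (.node (.leaf 206102) 660 (.node (.leaf 51269) 147 (.leaf 283459))) 911 (.node (.leaf 135011) 19 (.node (.leaf 231067) 452 (.leaf 244364)))) 1509 (.node (.node (.leaf 104189) 8 (.node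 (.leaf 52362) 236 (.leaf 52126))) 309 (.node (.node (.leaf 53759) 348 (.leaf 32032)) 616 (.node (.leaf 87218) 211 (.leaf 229973))))) 2892 (.node (.node (.node (.leaf 265293) 79 (.node (.leaf 269169) 126 (.leaf 271031))) 321 (.node (.leaf 266153) 196 (.node (.leaf 255993) 71 (.leaf 54089)))) 745 (.node (.node (.leaf 87213) 5 (.node (.leaf 85255) 33 (.leaf 88279))) 156 (.node (.node (.leaf 152060) 3 (.leaf 52421)) 4 (.node (.leaf 54406) 3 (.leaf 54261)))))) 3801 (.node (.node (.node (.node (.leaf 54410) 1 (.node (.leaf 54411) 4 (.leaf 57406))) 6 (.node (.leaf 57547) 44 (.node (.leaf 117327) 73 (.leaf 122941)))) 144 (.node (.node (.leaf 35249) 1 (.node (.leaf 58761) 1 (.leaf 95435))) 79 (.node (.node (.leaf 112958) 3 (.leaf 53758)) 386 (.node (.leaf 102396) 131 (.leaf 55150))))) 746 (.node (.node (.node (.leaf 55639) 1 (.node (.leaf 85458) 227 (.leaf 56075))) 382 (.node (.node (.leaf 58484) 99 (.leaf 55638)) 112 (.node (.leaf 128833) 155 (.leaf 269392)))) 795 (.node (.node (.leaf 55951)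 187 (.node (.leaf 56137) 117 (.leaf 56690))) 305 (.node (.node (.leaf 56257) 134 (.leaf 56389)) 135 (.node (.leaf 56391) 4 (.leaf 60626)))))))) 19532 (.node (.node (.node (.node (.node (.node (.leaf 56503) 108 (.node (.leaf 33719) 103 (.leaf 56713))) 383 (.node (.leaf 34109) 2 (.node (.leaf 34301) 2 (.leaf 56890)))) 526 (.node (.node (.leaf 54867) 101 (.node (.leaf 50369) 7 (.leaf 57413))) 241 (.node (.node (.leaf 57403) 3 (.leaf 50370)) 105 (.node (.leaf 78209) 28 (.leaf 57270))))) 903 (.node (.node (.node (.leaf 54415) 4 (.node (.leaf 55542) 3 (.leaf 57137))) 122 (.node (.leaf 79831) 18 (.node (.leaf 57546) 1 (.leaf 54416)))) 144 (.node (.node (.leaf 50371) 113 (.node (.leaf 34099) 233 (.leaf 57896))) 415 (.node (.node (.leaf 57966) 1 (.leaf 57965)) 81 (.node (.leaf 33377) 2 (.leaf 58049)))))) 1547 (.node (.node (.node (.node (.leaf 86150) 119 (.node (.leaf 303619) 18 (.leaf 91212))) 162 (.node (.leaf 58212) 58 (.node (.leaf 58271) 2 (.leaf 31782)))) 223 (.node (.node (.leaf 31915)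 1 (.node (.leaf 56258) 204 (.leaf 84846))) 236 (.node (.node (.leaf 44777) 413 (.leaf 59076)) 417 (.node (.leaf 58926) 2 (.leaf 59232))))) 901 (.node (.node (.node (.leaf 58952) 127 (.node (.leaf 54247) 3 (.leaf 190550))) 277 (.node (.node (.leaf 110925) 5 (.leaf 59468)) 52 (.node (.leaf 59876) 1 (.leaf 59667)))) 436 (.node (.node (.leaf 59238) 301 (.node (.leaf 142752) 187 (.leaf 59386))) 567 (.node (.node (.leaf 268793) 55 (.leaf 168189)) 360 (.node (.leaf 123415) 83 (.leaf 213568))))))) 4123 (.node (.node (.node (.node (.node (.leaf 56395) 7 (.node (.leaf 60633) 8 (.leaf 248428))) 76 (.node (.leaf 61234) 293 (.node (.leaf 60995) 102 (.leaf 61096)))) 496 (.node (.node (.leaf 61121) 563 (.node (.leaf 132264) 401 (.leaf 174158))) 1106 (.node (.node (.leaf 295731) 203 (.leaf 62894)) 521 (.node (.leaf 62748) 96 (.leaf 62844))))) 2302 (.node (.node (.node (.leaf 104432) 275 (.node (.leaf 63204) 7 (.leaf 63211))) 283 (.node (.node (.leaf 63210) 297 (.leaf 96770)) 314 (.node (.leaf 63526)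 138 (.leaf 63664)))) 777 (.node (.node (.leaf 87194) 132 (.node (.leaf 258515) 560 (.leaf 66197))) 980 (.node (.node (.leaf 117674) 413 (.leaf 65097)) 420 (.node (.leaf 169737) 17 (.leaf 213683)))))) 5196 (.node (.node (.node (.node (.leaf 218115) 375 (.node (.leaf 64397) 36 (.leaf 232120))) 746 (.node (.leaf 166524) 467 (.node (.leaf 258336) 923 (.leaf 273987)))) 2444 (.node (.node (.leaf 253021) 79 (.node (.leaf 182788) 387 (.leaf 166618))) 1130 (.node (.node (.leaf 173119) 19 (.leaf 175951)) 244 (.node (.leaf 88519) 101 (.leaf 37059))))) 4216 (.node (.node (.node (.leaf 70039) 181 (.node (.leaf 83687) 16 (.leaf 234826))) 730 (.node (.node (.leaf 151199) 11 (.leaf 120207)) 38 (.node (.leaf 70807) 1 (.leaf 70806)))) 903 (.node (.node (.leaf 109849) 8 (.node (.leaf 91541) 9 (.leaf 137857))) 135 (.node (.node (.leaf 71076) 735 (.leaf 239472)) 832 (.node (.leaf 42458) 93 (.leaf 182670))))))))) 35529 (.node (.node (.node (.node (.node (.node (.node (.leaf 74433) 307 (.node (.leaf 201998)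 207 (.leaf 142038))) 843 (.node (.leaf 103942) 462 (.node (.leaf 108567) 95 (.leaf 73900)))) 1488 (.node (.node (.leaf 272265) 167 (.node (.leaf 175772) 246 (.leaf 74159))) 445 (.node (.node (.leaf 72500) 657 (.leaf 65417)) 763 (.node (.leaf 241107) 16 (.leaf 254521))))) 2910 (.node (.node (.node (.leaf 62059) 677 (.node (.leaf 76088) 812 (.leaf 77149))) 1565 (.node (.leaf 76975) 174 (.node (.leaf 76899) 81 (.leaf 267783)))) 2014 (.node (.node (.leaf 184569) 7 (.node (.leaf 240812) 612 (.leaf 243113))) 785 (.node (.node (.leaf 57375) 101 (.leaf 78311)) 631 (.node (.leaf 78595) 53 (.leaf 133102)))))) 6613 (.node (.node (.node (.node (.leaf 79112) 3 (.node (.leaf 204174) 68 (.leaf 148595))) 183 (.node (.leaf 166898) 67 (.node (.leaf 257167) 672 (.leaf 239384)))) 1395 (.node (.node (.leaf 195436) 72 (.node (.leaf 80314) 16 (.leaf 223714))) 189 (.node (.node (.leaf 242431) 275 (.leaf 80973)) 394 (.node (.leaf 80823) 83 (.leaf 62466))))) 2188 (.node (.node (.node (.leaf 290747) 78 (.node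 (.leaf 45511) 60 (.leaf 104296))) 775 (.node (.node (.leaf 82076) 98 (.leaf 82174)) 344 (.node (.leaf 256945) 153 (.leaf 63144)))) 2232 (.node (.node (.leaf 154227) 143 (.node (.leaf 151201) 408 (.leaf 84083))) 612 (.node (.node (.leaf 84145) 72 (.leaf 130041)) 417 (.node (.leaf 50032) 98 (.leaf 84660))))))) 12166 (.node (.node (.node (.node (.node (.leaf 84666) 293 (.node (.leaf 84959) 2 (.leaf 84961))) 311 (.node (.leaf 84977) 2 (.node (.leaf 84979) 122 (.leaf 254477)))) 681 (.node (.node (.leaf 85347) 11 (.node (.leaf 85358) 333 (.leaf 85691))) 383 (.node (.node (.leaf 166485) 23 (.leaf 301104)) 237 (.node (.leaf 127873) 64 (.leaf 201454))))) 1484 (.node (.node (.node (.leaf 58050) 364 (.node (.leaf 255532) 111 (.leaf 125037))) 856 (.node (.node (.leaf 113941) 57 (.leaf 87385)) 207 (.node (.leaf 54246) 3 (.leaf 54248)))) 1068 (.node (.node (.leaf 53043) 196 (.node (.leaf 59383) 1 (.leaf 87520))) 290 (.node (.node (.leaf 115831) 392 (.leaf 254936)) 595 (.node (.leaf 114768) 29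 (.leaf 173512)))))) 3583 (.node (.node (.node (.node (.leaf 231986) 7 (.node (.leaf 150472) 263 (.leaf 69640))) 717 (.node (.leaf 265385) 65 (.node (.leaf 89032) 6 (.leaf 215099)))) 954 (.node (.node (.leaf 216012) 201 (.node (.leaf 89404) 378 (.leaf 132737))) 644 (.node (.node (.leaf 249617) 200 (.leaf 90047)) 397 (.node (.leaf 186922) 457 (.leaf 90702))))) 2453 (.node (.node (.node (.leaf 90701) 948 (.node (.leaf 225366) 1022 (.leaf 244770))) 2381 (.node (.node (.leaf 59637) 410 (.leaf 68199)) 584 (.node (.leaf 93900) 296 (.leaf 93962)))) 3287 (.node (.node (.leaf 93988) 154 (.node (.leaf 94374) 99 (.leaf 131758))) 937 (.node (.node (.leaf 128879) 19 (.leaf 273233)) 463 (.node (.leaf 83093) 71 (.leaf 95460)))))))) 22985 (.node (.node (.node (.node (.node (.node (.leaf 282458) 289 (.node (.leaf 95775) 272 (.leaf 96047))) 562 (.node (.leaf 96046) 472 (.node (.leaf 96439) 406 (.leaf 84332)))) 1746 (.node (.node (.leaf 146292) 137 (.node (.leaf 47436) 29 (.leaf 193029))) 181 (.node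 (.node (.leaf 73559) 187 (.leaf 33743)) 257 (.node (.leaf 275552) 308 (.leaf 97977))))) 2502 (.node (.node (.node (.leaf 177828) 248 (.node (.leaf 72088) 211 (.leaf 237706))) 502 (.node (.leaf 98488) 4 (.node (.leaf 60736) 74 (.leaf 191178)))) 666 (.node (.node (.leaf 151471) 157 (.node (.leaf 120599) 747 (.leaf 99803))) 1116 (.node (.node (.leaf 131904) 275 (.leaf 105719)) 539 (.node (.leaf 69581) 142 (.leaf 114146)))))) 5160 (.node (.node (.node (.node (.leaf 141999) 187 (.node (.leaf 100833) 540 (.leaf 101372))) 813 (.node (.leaf 47432) 938 (.node (.leaf 55019) 145 (.leaf 265000)))) 2269 (.node (.node (.leaf 102915) 86 (.node (.leaf 112208) 571 (.leaf 281837))) 807 (.node (.node (.leaf 44151) 80 (.leaf 131303)) 335 (.node (.leaf 170146) 69 (.leaf 159577))))) 3786 (.node (.node (.node (.leaf 62929) 215 (.node (.leaf 285004) 384 (.leaf 141851))) 805 (.node (.node (.leaf 105236) 337 (.leaf 90018)) 519 (.node (.leaf 239221) 147 (.leaf 105263)))) 1613 (.node (.node (.leaf 288628) 342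 (.node (.leaf 106386) 109 (.leaf 95004))) 1967 (.node (.node (.leaf 172224) 103 (.leaf 200424)) 304 (.node (.leaf 220462) 171 (.leaf 108487))))))) 13002 (.node (.node (.node (.node (.node (.leaf 108486) 205 (.node (.leaf 108691) 233 (.leaf 171283))) 1211 (.node (.leaf 227729) 288 (.node (.leaf 296773) 197 (.leaf 154318)))) 1802 (.node (.node (.leaf 216247) 116 (.node (.leaf 204146) 157 (.leaf 110562))) 300 (.node (.node (.leaf 291550) 164 (.leaf 263035)) 282 (.node (.leaf 252081) 104 (.leaf 189571))))) 2807 (.node (.node (.node (.leaf 130013) 4 (.node (.leaf 231550) 128 (.leaf 38288))) 196 (.node (.node (.leaf 81170) 87 (.leaf 276580)) 255 (.node (.leaf 140493) 15 (.leaf 111761)))) 467 (.node (.node (.leaf 111760) 7 (.node (.leaf 172193) 107 (.leaf 65357))) 275 (.node (.node (.leaf 252004) 150 (.leaf 175614)) 172 (.node (.leaf 103000) 451 (.leaf 238331)))))) 4208 (.node (.node (.node (.node (.leaf 232274) 257 (.node (.leaf 188415) 6 (.leaf 54633))) 388 (.node (.leaf 175354) 47 (.node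 (.leaf 32279) 206 (.leaf 54414)))) 643 (.node (.node (.leaf 86145) 1 (.node (.leaf 54403) 28 (.leaf 265201))) 125 (.node (.node (.leaf 197075) 27 (.leaf 172758)) 615 (.node (.leaf 302744) 104 (.leaf 131036))))) 1575 (.node (.node (.node (.leaf 270389) 78 (.node (.leaf 211481) 279 (.leaf 173078))) 405 (.node (.node (.leaf 222505) 93 (.leaf 88103)) 215 (.node (.leaf 161929) 9 (.leaf 178483)))) 1034 (.node (.node (.leaf 45649) 135 (.node (.leaf 300046) 57 (.leaf 182618))) 299 (.node (.node (.leaf 171404) 256 (.leaf 115859)) 286 (.node (.leaf 177852) 76 (.leaf 246337))))))))))) 116014 (.node (.node (.node (.node (.node (.node (.node (.node (.node (.leaf 32696) 330 (.node (.leaf 196083) 247 (.leaf 37331))) 626 (.node (.leaf 231524) 44 (.node (.leaf 70217) 6 (.leaf 116690)))) 743 (.node (.node (.leaf 258098) 241 (.node (.leaf 268404) 67 (.leaf 88330))) 311 (.node (.node (.leaf 117069) 310 (.leaf 140755)) 483 (.node (.leaf 158848) 484 (.leaf 130788))))) 2156 (.node (.node (.node (.leaf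 282598) 17 (.node (.leaf 83842) 17 (.leaf 242893))) 91 (.node (.leaf 118262) 9 (.node (.leaf 290068) 32 (.leaf 188058)))) 380 (.node (.node (.leaf 203744) 299 (.node (.leaf 82234) 317 (.leaf 297223))) 1030 (.node (.node (.leaf 178412) 99 (.leaf 119679)) 196 (.node (.leaf 185411) 27 (.leaf 109555)))))) 3818 (.node (.node (.node (.node (.leaf 119832) 679 (.node (.leaf 120266) 17 (.leaf 120273))) 749 (.node (.leaf 95060) 102 (.node (.leaf 188116) 1155 (.leaf 121839)))) 2007 (.node (.node (.leaf 121838) 78 (.node (.leaf 196472) 135 (.leaf 71065))) 232 (.node (.node (.leaf 71483) 531 (.leaf 227885)) 1735 (.node (.leaf 173185) 254 (.leaf 124060))))) 4334 (.node (.node (.node (.leaf 186237) 743 (.node (.leaf 228049) 478 (.leaf 125387))) 1241 (.node (.node (.leaf 125408) 260 (.leaf 125668)) 359 (.node (.leaf 267534) 143 (.leaf 212734)))) 2539 (.node (.node (.leaf 292970) 209 (.node (.leaf 126913) 207 (.leaf 186161))) 600 (.node (.node (.leaf 158968) 274 (.leaf 49704)) 277 (.node (.leaf 265594)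 458 (.leaf 55014))))))) 12118 (.node (.node (.node (.node (.node (.leaf 128133) 1 (.node (.leaf 128132) 55 (.leaf 113895))) 100 (.node (.leaf 143745) 47 (.node (.leaf 91338) 98 (.leaf 128249)))) 248 (.node (.node (.leaf 128380) 160 (.node (.leaf 59690) 94 (.leaf 295230))) 405 (.node (.node (.leaf 181388) 5 (.leaf 34284)) 170 (.node (.leaf 128955) 185 (.leaf 129141))))) 1024 (.node (.node (.node (.leaf 172896) 376 (.node (.leaf 182234) 13 (.leaf 206893))) 626 (.node (.leaf 64562) 366 (.node (.leaf 130147) 112 (.leaf 34152)))) 1280 (.node (.node (.leaf 54249) 2 (.node (.leaf 234070) 4 (.leaf 112726))) 108 (.node (.node (.leaf 164243) 207 (.leaf 180776)) 503 (.node (.leaf 87527) 466 (.leaf 273686)))))) 3382 (.node (.node (.node (.node (.leaf 228900) 32 (.node (.leaf 131545) 358 (.leaf 99769))) 663 (.node (.leaf 192220) 109 (.node (.leaf 132286) 78 (.leaf 82006)))) 1433 (.node (.node (.leaf 132947) 191 (.node (.leaf 225620) 323 (.leaf 133461))) 593 (.node (.node (.leaf 199817) 2055 (.leaf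 178036)) 2132 (.node (.leaf 135672) 431 (.leaf 299331))))) 4967 (.node (.node (.node (.leaf 91680) 3 (.node (.leaf 48666) 158 (.leaf 231353))) 554 (.node (.node (.leaf 104355) 738 (.leaf 100409)) 1121 (.node (.leaf 204306) 60 (.leaf 138216)))) 2611 (.node (.node (.leaf 250069) 53 (.node (.leaf 186966) 73 (.leaf 223232))) 178 (.node (.node (.leaf 64504) 758 (.leaf 77577)) 865 (.node (.leaf 148740) 76 (.leaf 140211)))))))) 24261 (.node (.node (.node (.node (.node (.node (.leaf 304842) 122 (.node (.leaf 140397) 96 (.leaf 111745))) 480 (.node (.leaf 117378) 127 (.node (.leaf 45418) 3 (.leaf 93389)))) 616 (.node (.node (.leaf 67083) 1 (.node (.leaf 179971) 61 (.leaf 263237))) 107 (.node (.node (.leaf 34541) 1040 (.leaf 73014)) 1197 (.node (.leaf 213834) 224 (.leaf 186051))))) 2178 (.node (.node (.node (.leaf 142454) 39 (.node (.leaf 218303) 447 (.leaf 230403))) 640 (.node (.leaf 154609) 8 (.node (.leaf 286770) 644 (.leaf 128232)))) 1337 (.node (.node (.leaf 196815) 115 (.node (.leaf 289446)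 377 (.leaf 35077))) 699 (.node (.node (.leaf 239601) 130 (.leaf 234782)) 824 (.node (.leaf 235795) 143 (.leaf 215585)))))) 5474 (.node (.node (.node (.node (.leaf 200777) 357 (.node (.leaf 146107) 1 (.leaf 146106))) 378 (.node (.leaf 125133) 289 (.node (.leaf 39335) 113 (.leaf 194644)))) 803 (.node (.node (.leaf 197658) 316 (.node (.leaf 94540) 166 (.leaf 259589))) 578 (.node (.node (.leaf 147130) 40 (.leaf 194978)) 671 (.node (.leaf 147956) 348 (.leaf 81836))))) 2473 (.node (.node (.node (.leaf 291084) 218 (.node (.leaf 148440) 258 (.leaf 82535))) 518 (.node (.node (.leaf 140135) 27 (.leaf 242090)) 292 (.node (.leaf 227166) 110 (.leaf 48429)))) 1255 (.node (.node (.leaf 32545) 91 (.node (.leaf 272379) 202 (.leaf 40467))) 357 (.node (.node (.leaf 182235) 409 (.leaf 74560)) 423 (.node (.leaf 219797) 30 (.leaf 274630))))))) 10167 (.node (.node (.node (.node (.node (.leaf 128124) 221 (.node (.leaf 148229) 157 (.leaf 98306))) 612 (.node (.leaf 131050) 58 (.node (.leaf 241924) 419 (.leaf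 302776)))) 1364 (.node (.node (.leaf 151806) 254 (.node (.leaf 54402) 314 (.leaf 114380))) 583 (.node (.node (.leaf 239681) 54 (.leaf 272169)) 403 (.node (.leaf 172010) 281 (.leaf 153073))))) 2900 (.node (.node (.node (.leaf 153343) 1 (.node (.leaf 153342) 884 (.leaf 83533))) 976 (.node (.node (.leaf 110183) 100 (.leaf 275144)) 303 (.node (.leaf 154621) 6 (.leaf 109991)))) 1402 (.node (.node (.leaf 225121) 166 (.node (.leaf 276370) 232 (.leaf 155142))) 1286 (.node (.node (.leaf 38549) 265 (.leaf 58575)) 1044 (.node (.leaf 37120) 108 (.leaf 41958)))))) 7637 (.node (.node (.node (.node (.leaf 285313) 63 (.node (.leaf 264966) 1036 (.leaf 152076))) 1478 (.node (.leaf 220953) 84 (.node (.leaf 36764) 484 (.leaf 200583)))) 2189 (.node (.node (.leaf 70895) 298 (.node (.leaf 104447) 17 (.leaf 186757))) 438 (.node (.node (.leaf 250619) 662 (.leaf 149231)) 934 (.node (.leaf 229317) 67 (.leaf 269902))))) 3764 (.node (.node (.node (.leaf 32339) 335 (.node (.leaf 225225) 264 (.leaf 162442))) 1074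 (.node (.node (.leaf 129481) 1202 (.leaf 302920)) 1337 (.node (.leaf 218527) 28 (.leaf 63900)))) 2466 (.node (.node (.leaf 261783) 275 (.node (.leaf 101769) 77 (.leaf 282236))) 540 (.node (.node (.leaf 247252) 83 (.leaf 52077)) 481 (.node (.leaf 184656) 1373 (.leaf 166703))))))))) 50719 (.node (.node (.node (.node (.node (.node (.node (.leaf 165846) 205 (.node (.leaf 245717) 74 (.leaf 215798))) 608 (.node (.leaf 100210) 2 (.node (.leaf 220064) 213 (.leaf 210893)))) 1122 (.node (.node (.leaf 253890) 105 (.node (.leaf 167960) 106 (.leaf 168066))) 438 (.node (.node (.leaf 186827) 159 (.leaf 122362)) 236 (.node (.leaf 168529) 32 (.leaf 241988))))) 1964 (.node (.node (.node (.leaf 191692) 450 (.node (.leaf 60709) 536 (.leaf 169683))) 1765 (.node (.leaf 170462) 341 (.node (.leaf 170804) 23 (.leaf 148902)))) 2183 (.node (.node (.leaf 218157) 79 (.node (.leaf 170959) 333 (.leaf 301453))) 716 (.node (.node (.leaf 181856) 103 (.leaf 277019)) 603 (.node (.leaf 197865) 25 (.leaf 108011))))))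 6262 (.node (.node (.node (.node (.leaf 172996) 83 (.node (.leaf 114627) 15 (.leaf 80930))) 301 (.node (.leaf 234998) 123 (.node (.leaf 146474) 93 (.leaf 88132)))) 734 (.node (.node (.leaf 270064) 429 (.node (.leaf 62086) 252 (.leaf 174409))) 966 (.node (.node (.leaf 106656) 372 (.leaf 228450)) 389 (.node (.leaf 281194) 104 (.leaf 46812))))) 2226 (.node (.node (.node (.leaf 66646) 406 (.node (.leaf 71528) 324 (.leaf 69415))) 1128 (.node (.node (.leaf 176349) 49 (.leaf 176398)) 227 (.node (.leaf 153180) 233 (.leaf 306673)))) 1681 (.node (.node (.leaf 168840) 312 (.node (.leaf 134329) 381 (.leaf 40186))) 1120 (.node (.node (.leaf 178021) 214 (.leaf 259678)) 461 (.node (.leaf 114899) 187 (.leaf 156870))))))) 12699 (.node (.node (.node (.node (.node (.leaf 179431) 1107 (.node (.leaf 277779) 9 (.leaf 151091))) 1298 (.node (.leaf 180730) 329 (.node (.leaf 268598) 84 (.leaf 60472)))) 1776 (.node (.node (.leaf 245230) 607 (.node (.leaf 139757) 181 (.leaf 204964))) 845 (.node (.node (.leaf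 174505) 182 (.leaf 149834)) 205 (.node (.leaf 229691) 6 (.leaf 111392))))) 2953 (.node (.node (.node (.leaf 261766) 285 (.node (.leaf 72001) 90 (.leaf 56362))) 403 (.node (.node (.leaf 68345) 180 (.leaf 227761)) 236 (.node (.leaf 232027) 280 (.leaf 290163)))) 931 (.node (.node (.leaf 60508) 225 (.node (.leaf 32507) 398 (.leaf 275173))) 758 (.node (.node (.leaf 140887) 309 (.leaf 183250)) 495 (.node (.leaf 77424) 87 (.leaf 165330)))))) 5275 (.node (.node (.node (.node (.leaf 184708) 310 (.node (.leaf 185939) 23 (.leaf 185002))) 434 (.node (.leaf 48924) 28 (.node (.leaf 201425) 140 (.leaf 233075)))) 639 (.node (.node (.leaf 146996) 23 (.node (.leaf 185368) 42 (.leaf 119776))) 362 (.node (.node (.leaf 188939) 269 (.leaf 246318)) 423 (.node (.leaf 216455) 61 (.leaf 108988))))) 1530 (.node (.node (.node (.leaf 124166) 133 (.node (.leaf 264973) 235 (.leaf 250647))) 520 (.node (.node (.leaf 160583) 209 (.leaf 139145)) 327 (.node (.leaf 185758) 74 (.leaf 187158)))) 1126 (.node (.node (.leaf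 187364) 1 (.node (.leaf 187363) 145 (.leaf 187509))) 192 (.node (.node (.leaf 251736) 22 (.leaf 50712)) 50 (.node (.leaf 204989) 316 (.leaf 253146)))))))) 21459 (.node (.node (.node (.node (.node (.node (.leaf 75655) 161 (.node (.leaf 261995) 62 (.leaf 112952))) 557 (.node (.leaf 265274) 172 (.node (.leaf 195889) 18 (.leaf 185708)))) 1002 (.node (.node (.leaf 140750) 2 (.node (.leaf 189197) 1 (.leaf 189196))) 4 (.node (.node (.leaf 189198) 55 (.leaf 241636)) 271 (.node (.leaf 189469) 25 (.leaf 202865))))) 1304 (.node (.node (.node (.leaf 281086) 79 (.node (.leaf 270392) 38 (.leaf 214657))) 308 (.node (.leaf 217000) 169 (.node (.leaf 43253) 223 (.leaf 38310)))) 979 (.node (.node (.leaf 77041) 239 (.node (.leaf 240432) 114 (.leaf 77294))) 372 (.node (.node (.leaf 220481) 181 (.leaf 34349)) 331 (.node (.leaf 98567) 8 (.leaf 56243)))))) 3224 (.node (.node (.node (.node (.leaf 285178) 51 (.node (.leaf 33887) 16 (.leaf 191482))) 444 (.node (.leaf 229825) 157 (.node (.leaf 192107) 90 (.leaf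 192017)))) 693 (.node (.node (.leaf 170108) 50 (.node (.leaf 211843) 61 (.leaf 132177))) 263 (.node (.node (.leaf 296935) 36 (.leaf 58702)) 657 (.node (.leaf 97397) 382 (.leaf 119683))))) 1997 (.node (.node (.node (.leaf 282926) 390 (.node (.leaf 183789) 101 (.leaf 119003))) 1350 (.node (.node (.leaf 240895) 278 (.leaf 260541)) 1339 (.node (.leaf 196102) 137 (.leaf 271568)))) 3059 (.node (.node (.leaf 121917) 146 (.node (.leaf 99812) 7 (.leaf 189959))) 259 (.node (.node (.leaf 235938) 84 (.leaf 143790)) 315 (.node (.leaf 196935) 151 (.leaf 214845))))))) 9070 (.node (.node (.node (.node (.node (.leaf 197071) 32 (.node (.leaf 197294) 14 (.leaf 199858))) 352 (.node (.leaf 197669) 55 (.node (.leaf 197614) 132 (.leaf 103525)))) 839 (.node (.node (.leaf 99185) 72 (.node (.leaf 244787) 185 (.leaf 287723))) 720 (.node (.node (.leaf 216495) 217 (.leaf 239429)) 314 (.node (.leaf 132454) 270 (.leaf 276566))))) 2291 (.node (.node (.node (.leaf 199553) 264 (.node (.leaf 133540) 121 (.leaf 199938)))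 393 (.node (.node (.leaf 142520) 96 (.leaf 207408)) 637 (.node (.leaf 160125) 170 (.leaf 194540)))) 1615 (.node (.node (.leaf 130012) 80 (.node (.leaf 201248) 535 (.leaf 59381))) 750 (.node (.node (.leaf 155511) 80 (.leaf 72807)) 178 (.node (.leaf 130842) 131 (.leaf 202721)))))) 5403 (.node (.node (.node (.node (.leaf 84713) 289 (.node (.leaf 202954) 97 (.leaf 34315))) 459 (.node (.leaf 138351) 616 (.node (.leaf 203739) 173 (.leaf 162627)))) 1330 (.node (.node (.leaf 293387) 79 (.node (.leaf 245675) 137 (.leaf 213154))) 311 (.node (.node (.leaf 138156) 306 (.leaf 171154)) 1039 (.node (.leaf 95464) 218 (.leaf 285106))))) 2994 (.node (.node (.node (.leaf 238477) 297 (.node (.leaf 271706) 146 (.leaf 50609))) 933 (.node (.node (.leaf 206591) 56 (.leaf 277718)) 301 (.node (.leaf 129545) 283 (.leaf 207176)))) 1749 (.node (.node (.leaf 200042) 619 (.node (.leaf 220467) 77 (.leaf 237557))) 1187 (.node (.node (.leaf 136203) 63 (.leaf 265389)) 124 (.node (.leaf 260251) 467 (.leaf 38161))))))))))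 93563 (.node (.node (.node (.node (.node (.node (.node (.node (.leaf 191663) 128 (.node (.leaf 209748) 541 (.leaf 289897))) 1292 (.node (.leaf 177301) 217 (.node (.leaf 247071) 23 (.leaf 211109)))) 1986 (.node (.node (.leaf 306661) 161 (.node (.leaf 79290) 509 (.leaf 68551))) 853 (.node (.node (.leaf 33938) 883 (.leaf 213300)) 884 (.node (.leaf 213299) 268 (.leaf 60397))))) 4164 (.node (.node (.node (.leaf 277000) 93 (.node (.leaf 142195) 678 (.leaf 250753))) 916 (.node (.leaf 189613) 26 (.node (.leaf 303664) 717 (.leaf 141594)))) 1775 (.node (.node (.leaf 118969) 114 (.node (.leaf 215630) 75 (.leaf 215705))) 282 (.node (.node (.leaf 167012) 103 (.leaf 286731)) 298 (.node (.leaf 84292) 526 (.leaf 174118)))))) 7101 (.node (.node (.node (.node (.leaf 172999) 322 (.node (.leaf 189804) 55 (.leaf 258460))) 576 (.node (.leaf 161028) 130 (.node (.leaf 296415) 228 (.leaf 117093)))) 1008 (.node (.node (.leaf 91704) 233 (.node (.leaf 217918) 14 (.leaf 217934))) 420 (.node (.node (.leaf 213054)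 46 (.leaf 101380)) 849 (.node (.leaf 285710) 273 (.leaf 67659))))) 2788 (.node (.node (.node (.leaf 187559) 28 (.node (.leaf 220285) 424 (.leaf 96894))) 453 (.node (.node (.leaf 97369) 145 (.leaf 167343)) 422 (.node (.leaf 220396) 135 (.leaf 243657)))) 1015 (.node (.node (.leaf 190847) 213 (.node (.leaf 51559) 25 (.leaf 284925))) 903 (.node (.node (.leaf 191915) 32 (.leaf 247322)) 206 (.node (.leaf 248324) 418 (.leaf 275149))))))) 13091 (.node (.node (.node (.node (.node (.leaf 106836) 123 (.node (.leaf 294557) 180 (.leaf 223051))) 495 (.node (.leaf 297120) 316 (.node (.leaf 251242) 877 (.leaf 257620)))) 1742 (.node (.node (.leaf 127806) 237 (.node (.leaf 105933) 173 (.leaf 47720))) 482 (.node (.node (.leaf 239640) 14 (.leaf 46081)) 169 (.node (.leaf 156857) 164 (.leaf 162178))))) 2938 (.node (.node (.node (.leaf 258850) 25 (.node (.leaf 303509) 116 (.leaf 80888))) 483 (.node (.node (.leaf 283191) 543 (.leaf 159348)) 926 (.node (.leaf 227016) 129 (.leaf 100844)))) 1672 (.node (.node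 (.leaf 228855) 241 (.node (.leaf 90097) 72 (.leaf 227591))) 483 (.node (.node (.leaf 182968) 52 (.leaf 195629)) 124 (.node (.leaf 122602) 97 (.leaf 153781)))))) 5347 (.node (.node (.node (.node (.leaf 180457) 34 (.node (.leaf 124909) 479 (.leaf 228528))) 1151 (.node (.leaf 35285) 151 (.node (.leaf 161640) 309 (.leaf 229626)))) 1810 (.node (.node (.leaf 191860) 148 (.node (.leaf 53254) 13 (.leaf 134193))) 268 (.node (.node (.leaf 34012) 276 (.leaf 150515)) 309 (.node (.leaf 111531) 1 (.leaf 142939))))) 2492 (.node (.node (.node (.leaf 299295) 315 (.node (.leaf 282126) 109 (.leaf 219300))) 610 (.node (.node (.leaf 157205) 146 (.leaf 73553)) 236 (.node (.leaf 136642) 101 (.leaf 292404)))) 1043 (.node (.node (.leaf 111298) 95 (.node (.leaf 95580) 280 (.leaf 291119))) 591 (.node (.node (.leaf 232142) 235 (.leaf 288342)) 570 (.node (.leaf 213348) 124 (.leaf 281050)))))))) 23550 (.node (.node (.node (.node (.node (.node (.leaf 280231) 237 (.node (.leaf 262798) 385 (.leaf 99415))) 705 (.node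 (.leaf 254250) 234 (.node (.leaf 253967) 96 (.leaf 189839)))) 1104 (.node (.node (.leaf 242885) 195 (.node (.leaf 228976) 296 (.leaf 258362))) 596 (.node (.node (.leaf 180961) 171 (.leaf 173296)) 199 (.node (.leaf 87526) 605 (.leaf 221941))))) 2918 (.node (.node (.node (.leaf 245351) 103 (.node (.leaf 49798) 13 (.leaf 132733))) 132 (.node (.leaf 296409) 551 (.node (.leaf 84566) 465 (.leaf 244031)))) 1268 (.node (.node (.leaf 115205) 212 (.node (.leaf 207973) 32 (.leaf 208104))) 493 (.node (.node (.leaf 281870) 331 (.leaf 231703)) 393 (.node (.leaf 249688) 395 (.leaf 195796)))))) 6124 (.node (.node (.node (.node (.leaf 73250) 22 (.node (.leaf 49944) 408 (.leaf 152389))) 650 (.node (.leaf 78712) 20 (.node (.leaf 228542) 511 (.leaf 190714)))) 1275 (.node (.node (.leaf 285788) 232 (.node (.leaf 173773) 54 (.leaf 77431))) 383 (.node (.node (.leaf 298972) 198 (.leaf 75196)) 365 (.node (.leaf 261723) 1 (.leaf 187545))))) 2557 (.node (.node (.node (.leaf 167709) 79 (.node (.leaf 73774) 83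 (.leaf 241970))) 255 (.node (.node (.leaf 70511) 28 (.leaf 196499)) 287 (.node (.leaf 68979) 75 (.leaf 229988)))) 1156 (.node (.node (.leaf 242964) 394 (.node (.leaf 127613) 303 (.leaf 40067))) 705 (.node (.node (.leaf 171913) 19 (.leaf 112709)) 80 (.node (.leaf 136724) 57 (.leaf 137254))))))) 10771 (.node (.node (.node (.node (.node (.leaf 187612) 60 (.node (.leaf 182608) 16 (.leaf 102961))) 184 (.node (.leaf 252221) 150 (.node (.leaf 229204) 111 (.leaf 244343)))) 466 (.node (.node (.leaf 51991) 85 (.node (.leaf 244591) 199 (.leaf 274537))) 963 (.node (.node (.leaf 245326) 113 (.leaf 189401)) 348 (.node (.leaf 204074) 339 (.leaf 174097))))) 2238 (.node (.node (.node (.leaf 165745) 655 (.node (.leaf 91925) 28 (.leaf 269033))) 739 (.node (.node (.leaf 109750) 73 (.leaf 147529)) 237 (.node (.leaf 247112) 33 (.leaf 204338)))) 1116 (.node (.node (.leaf 164849) 70 (.node (.leaf 221416) 73 (.leaf 247395))) 355 (.node (.node (.leaf 276591) 168 (.leaf 165215)) 378 (.node (.leaf 119075) 11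 (.leaf 186842)))))) 4415 (.node (.node (.node (.node (.leaf 214936) 115 (.node (.leaf 60641) 421 (.leaf 83587))) 738 (.node (.leaf 114400) 94 (.node (.leaf 150288) 485 (.leaf 259745)))) 1337 (.node (.node (.leaf 108229) 13 (.node (.leaf 263910) 406 (.leaf 139092))) 799 (.node (.node (.leaf 196307) 170 (.leaf 160706)) 482 (.node (.leaf 299982) 293 (.leaf 297721))))) 3174 (.node (.node (.node (.leaf 213167) 99 (.node (.leaf 225630) 202 (.leaf 294167))) 584 (.node (.node (.leaf 83257) 284 (.leaf 271528)) 1001 (.node (.leaf 196245) 291 (.leaf 176919)))) 2243 (.node (.node (.leaf 253730) 368 (.node (.leaf 235917) 462 (.leaf 138086))) 892 (.node (.node (.leaf 65234) 933 (.leaf 255554)) 938 (.node (.leaf 134647) 16 (.leaf 224484))))))))) 46414 (.node (.node (.node (.node (.node (.node (.node (.leaf 249285) 76 (.node (.leaf 180176) 167 (.leaf 102357))) 268 (.node (.leaf 135299) 92 (.node (.leaf 296216) 210 (.leaf 276673)))) 641 (.node (.node (.leaf 256633) 31 (.node (.leaf 73869) 193 (.leaf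 272769))) 535 (.node (.node (.leaf 79363) 1059 (.leaf 186057)) 1202 (.node (.leaf 223759) 27 (.leaf 258453))))) 2434 (.node (.node (.node (.leaf 258426) 90 (.node (.leaf 63837) 157 (.leaf 278786))) 481 (.node (.leaf 247656) 448 (.node (.leaf 259354) 5 (.leaf 208873)))) 1253 (.node (.node (.leaf 178236) 40 (.node (.leaf 181070) 116 (.leaf 80498))) 203 (.node (.node (.leaf 38010) 128 (.leaf 36451)) 370 (.node (.leaf 208719) 290 (.leaf 195041)))))) 4647 (.node (.node (.node (.node (.leaf 246116) 537 (.node (.leaf 87066) 364 (.leaf 265592))) 924 (.node (.leaf 303232) 106 (.node (.leaf 261668) 98 (.leaf 182385)))) 1467 (.node (.node (.leaf 233607) 251 (.node (.leaf 134075) 126 (.leaf 61608))) 394 (.node (.node (.leaf 284942) 151 (.leaf 292518)) 155 (.node (.leaf 233869) 656 (.leaf 163956))))) 3689 (.node (.node (.node (.leaf 257965) 226 (.node (.leaf 264553) 447 (.leaf 102541))) 847 (.node (.node (.leaf 252485) 70 (.leaf 47848)) 85 (.node (.leaf 193707) 3 (.leaf 81306)))) 1344 (.node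 (.node (.leaf 46360) 62 (.node (.leaf 45092) 402 (.leaf 148573))) 498 (.node (.node (.leaf 211570) 53 (.leaf 296070)) 119 (.node (.leaf 110807) 60 (.leaf 35699))))))) 10592 (.node (.node (.node (.node (.node (.leaf 75953) 147 (.node (.leaf 279388) 207 (.leaf 229924))) 368 (.node (.leaf 102531) 162 (.node (.leaf 267113) 421 (.leaf 125766)))) 1469 (.node (.node (.leaf 268052) 546 (.node (.leaf 181059) 195 (.leaf 59954))) 972 (.node (.node (.leaf 269025) 9 (.leaf 246819)) 145 (.node (.leaf 53580) 223 (.leaf 55805))))) 2924 (.node (.node (.node (.leaf 301402) 898 (.node (.leaf 270405) 270 (.leaf 116384))) 1453 (.node (.node (.leaf 257411) 180 (.leaf 288605)) 192 (.node (.leaf 293918) 629 (.leaf 192830)))) 2310 (.node (.node (.leaf 247984) 448 (.node (.leaf 73988) 114 (.leaf 149568))) 810 (.node (.node (.leaf 266980) 415 (.leaf 224534)) 1521 (.node (.leaf 287131) 657 (.leaf 157829)))))) 8534 (.node (.node (.node (.node (.leaf 82751) 32 (.node (.leaf 222008) 153 (.leaf 176258))) 482 (.node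 (.leaf 134195) 8 (.node (.leaf 185352) 1057 (.leaf 36785)))) 1556 (.node (.node (.leaf 256561) 327 (.node (.leaf 213741) 1 (.leaf 277001))) 346 (.node (.node (.leaf 171699) 126 (.leaf 195019)) 253 (.node (.leaf 139267) 85 (.leaf 266094))))) 2371 (.node (.node (.node (.leaf 157503) 166 (.node (.leaf 278526) 227 (.leaf 277881))) 490 (.node (.node (.leaf 277978) 559 (.leaf 186177)) 1041 (.node (.leaf 180268) 352 (.leaf 233304)))) 2024 (.node (.node (.leaf 304460) 41 (.node (.leaf 305824) 246 (.leaf 139829))) 1064 (.node (.node (.leaf 262750) 474 (.leaf 232835)) 475 (.node (.leaf 155653) 35 (.leaf 189496)))))))) 26155 (.node (.node (.node (.node (.node (.node (.leaf 282146) 30 (.node (.leaf 144330) 102 (.leaf 299612))) 138 (.node (.leaf 160493) 71 (.node (.leaf 282355) 103 (.leaf 95485)))) 452 (.node (.node (.leaf 118170) 801 (.node (.leaf 87040) 146 (.leaf 170339))) 1308 (.node (.node (.leaf 212954) 156 (.leaf 196548)) 340 (.node (.leaf 93627) 61 (.leaf 269296))))) 2280 (.node (.node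 (.node (.leaf 207617) 3 (.node (.leaf 267893) 634 (.leaf 285063))) 752 (.node (.leaf 191416) 264 (.node (.leaf 214146) 346 (.leaf 240526)))) 1401 (.node (.node (.leaf 306796) 88 (.node (.leaf 83235) 279 (.leaf 190186))) 499 (.node (.node (.leaf 194086) 421 (.leaf 248821)) 434 (.node (.leaf 120884) 76 (.leaf 158876)))))) 4859 (.node (.node (.node (.node (.leaf 251313) 40 (.node (.leaf 157057) 239 (.leaf 137926))) 541 (.node (.leaf 280942) 311 (.node (.leaf 260543) 93 (.leaf 287950)))) 1306 (.node (.node (.leaf 148968) 44 (.node (.leaf 127970) 229 (.leaf 130357))) 317 (.node (.node (.leaf 106044) 233 (.leaf 257025)) 246 (.node (.leaf 293025) 375 (.leaf 82165))))) 3097 (.node (.node (.node (.leaf 277489) 542 (.node (.leaf 253558) 41 (.leaf 80037))) 1053 (.node (.node (.leaf 284339) 677 (.leaf 61861)) 775 (.node (.leaf 291931) 1 (.leaf 291930)))) 2416 (.node (.node (.leaf 262650) 1509 (.node (.leaf 294027) 506 (.leaf 294533))) 2133 (.node (.node (.leaf 96290) 662 (.leaf 164079)) 922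 (.node (.leaf 199908) 158 (.leaf 62228))))))) 13649 (.node (.node (.node (.node (.node (.leaf 212138) 39 (.node (.leaf 262871) 236 (.leaf 266222))) 523 (.node (.leaf 88339) 455 (.node (.leaf 109986) 80 (.leaf 79301)))) 1325 (.node (.node (.leaf 223163) 103 (.node (.leaf 119166) 294 (.leaf 297517))) 601 (.node (.node (.leaf 251224) 381 (.leaf 48292)) 507 (.node (.leaf 154779) 744 (.leaf 240909))))) 3387 (.node (.node (.node (.leaf 170693) 149 (.node (.leaf 136103) 191 (.leaf 274062))) 485 (.node (.node (.leaf 299667) 6 (.leaf 196827)) 159 (.node (.leaf 284371) 293 (.leaf 290258)))) 977 (.node (.node (.leaf 286178) 86 (.node (.leaf 196219) 224 (.leaf 206890))) 656 (.node (.node (.leaf 295526) 140 (.leaf 226086)) 540 (.node (.leaf 280820) 98 (.leaf 171292)))))) 6431 (.node (.node (.node (.node (.leaf 302226) 477 (.node (.leaf 150729) 73 (.leaf 151531))) 672 (.node (.leaf 136869) 42 (.node (.leaf 216570) 323 (.leaf 201745)))) 1283 (.node (.node (.leaf 225631) 110 (.node (.leaf 58169)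 97 (.leaf 84293))) 272 (.node (.node (.leaf 158759) 295 (.leaf 188454)) 313 (.node (.leaf 47088) 57 (.leaf 258299))))) 2234 (.node (.node (.node (.leaf 279512) 5 (.node (.leaf 304465) 746 (.leaf 222825))) 1364 (.node (.node (.leaf 279553) 294 (.leaf 112365)) 357 (.node (.leaf 306181) 7 (.leaf 227107)))) 1804 (.node (.node (.leaf 304738) 91 (.node (.leaf 295100) 131 (.leaf 306486))) 394 (.node (.node (.leaf 283278) 15 (.leaf 176809)) 212 (.node (.leaf 283998) 53 (.leaf 263515))))))))))))

/-- table of generator 11 -/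
def tab11 : Tab :=
  (.node (.node (.node (.node (.node (.node (.node (.node (.node (.leaf 0) 1 (.leaf 1)) 2 (.node (.leaf 2) 1 (.node (.leaf 3) 1 (.leaf 4)))) 5 (.node (.node (.leaf 5) 1 (.node (.leaf 6) 1 (.leaf 7))) 3 (.node (.leaf 8) 4 (.node (.leaf 11) 1 (.leaf 415))))) 53 (.node (.node (.node (.leaf 4442) 5 (.node (.leaf 146) 1 (.leaf 147))) 8 (.node (.leaf 62) 1 (.node (.leaf 61) 1 (.leaf 60)))) 11 (.node (.node (.leaf 469) 2 (.node (.leaf 66) 45 (.leaf 8598))) 68 (.node (.leaf 371) 2 (.node (.leaf 301) 1 (.leaf 369)))))) 136 (.node (.node (.node (.node (.leaf 436) 1 (.leaf 137)) 2 (.node (.leaf 154) 1 (.node (.leaf 614) 1 (.leaf 437)))) 5 (.node (.node (.leaf 155) 1 (.node (.leaf 142) 4 (.leaf 58))) 6 (.node (.leaf 59) 4 (.node (.leaf 2582) 1 (.leaf 4724))))) 18 (.node (.node (.node (.leaf 138) 1 (.node (.leaf 141) 1 (.leaf 157))) 3 (.node (.leaf 156) 1 (.node (.leaf 304) 1 (.leaf 269)))) 6 (.node (.node (.leaf 160) 2 (.node (.leaf 162) 1 (.leaf 163))) 4 (.node (.leaf 4662)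 1 (.node (.leaf 4661) 1 (.leaf 359))))))) 186 (.node (.node (.node (.node (.node (.leaf 186) 80 (.leaf 266)) 81 (.node (.leaf 267) 1 (.node (.leaf 268) 1 (.leaf 159)))) 113 (.node (.node (.leaf 56) 2 (.node (.leaf 134) 1 (.leaf 302))) 43 (.node (.leaf 341) 17 (.node (.leaf 166) 8 (.leaf 367))))) 182 (.node (.node (.node (.leaf 368) 1 (.node (.leaf 135) 46 (.leaf 13))) 62 (.node (.leaf 5194) 5 (.node (.leaf 435) 1 (.leaf 136)))) 70 (.node (.node (.leaf 130) 3 (.node (.leaf 220) 10 (.leaf 452))) 31 (.node (.leaf 64) 3 (.node (.leaf 23670) 139 (.leaf 612)))))) 428 (.node (.node (.node (.node (.leaf 139) 2 (.leaf 349)) 3 (.node (.leaf 4461) 56 (.node (.leaf 4595) 2 (.leaf 676)))) 62 (.node (.node (.leaf 675) 123 (.node (.leaf 799) 96 (.leaf 895))) 224 (.node (.leaf 187) 60 (.node (.leaf 960) 2 (.leaf 962))))) 413 (.node (.node (.node (.leaf 1027) 7 (.node (.leaf 1034) 208 (.leaf 1242))) 441 (.node (.leaf 1468) 223 (.node (.leaf 12247) 891 (.leaf 151)))) 1919 (.node (.node (.leaf 12611)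 279 (.node (.leaf 27849) 1117 (.leaf 4341))) 1438 (.node (.leaf 9654) 26 (.node (.leaf 4358) 43 (.leaf 4403)))))))) 4482 (.node (.node (.node (.node (.node (.node (.leaf 30586) 111 (.leaf 4629)) 179 (.node (.leaf 165) 1 (.node (.leaf 164) 111 (.leaf 4773)))) 313 (.node (.node (.leaf 4795) 11 (.node (.leaf 4806) 1 (.leaf 4807))) 44 (.node (.leaf 4839) 11 (.node (.leaf 4850) 1 (.leaf 4851))))) 393 (.node (.node (.node (.leaf 4895) 17 (.node (.leaf 4892) 198 (.leaf 211))) 1063 (.node (.leaf 18916) 1458 (.node (.leaf 24703) 143 (.leaf 7589)))) 2835 (.node (.node (.leaf 7745) 273 (.node (.leaf 444) 270 (.leaf 8254))) 1234 (.node (.leaf 27708) 209 (.node (.leaf 9235) 53 (.leaf 9319)))))) 4753 (.node (.node (.node (.node (.leaf 9153) 531 (.leaf 16248)) 582 (.node (.leaf 21913) 298 (.node (.leaf 28687) 663 (.leaf 5931)))) 2900 (.node (.node (.leaf 22666) 1797 (.node (.leaf 23168) 129 (.leaf 20960))) 3587 (.node (.leaf 15721) 43 (.node (.leaf 23626) 447 (.leaf 16212))))) 7223 (.node (.node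 (.node (.leaf 13318) 1910 (.node (.leaf 21741) 360 (.leaf 25449))) 2382 (.node (.leaf 9777) 46 (.node (.leaf 29066) 2830 (.leaf 15842)))) 5268 (.node (.node (.leaf 18246) 15 (.node (.leaf 18368) 1810 (.leaf 29172))) 2694 (.node (.leaf 24420) 106 (.node (.leaf 3157) 337 (.leaf 27169))))))) 20487 (.node (.node (.node (.node (.node (.leaf 18530) 2728 (.leaf 6045)) 3101 (.node (.leaf 24596) 437 (.node (.leaf 29930) 707 (.leaf 30994)))) 4557 (.node (.node (.leaf 29535) 1468 (.node (.leaf 29214) 678 (.leaf 31672))) 2147 (.node (.leaf 31673) 1 (.node (.leaf 31674) 1 (.leaf 31675))))) 6707 (.node (.node (.node (.leaf 32876) 72 (.node (.leaf 33245) 2 (.leaf 32785))) 75 (.node (.leaf 33554) 1 (.node (.leaf 31752) 1 (.leaf 31753)))) 78 (.node (.node (.leaf 31754) 1 (.node (.leaf 31755) 10 (.leaf 54416))) 12 (.node (.leaf 56888) 5 (.node (.leaf 33363) 126 (.leaf 33372)))))) 6930 (.node (.node (.node (.node (.leaf 55257) 6 (.leaf 32044)) 139 (.node (.leaf 32038) 5 (.node (.leaf 55952) 1 (.leaf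 31905)))) 241 (.node (.node (.leaf 32140) 4 (.node (.leaf 34113) 195 (.leaf 161536))) 415 (.node (.leaf 32555) 230 (.node (.leaf 31750) 243 (.leaf 32553))))) 1130 (.node (.node (.node (.leaf 32554) 1 (.node (.leaf 32408) 332 (.leaf 32042))) 340 (.node (.leaf 32406) 210 (.node (.leaf 247877) 181 (.leaf 33760)))) 886 (.node (.node (.leaf 33915) 196 (.node (.leaf 50368) 2 (.leaf 32144))) 394 (.node (.leaf 55151) 202 (.node (.leaf 56886) 2 (.leaf 34095))))))))) 34514 (.node (.node (.node (.node (.node (.node (.node (.leaf 33365) 152 (.leaf 34096)) 237 (.node (.leaf 205459) 86 (.node (.leaf 34837) 412 (.leaf 54555)))) 736 (.node (.node (.leaf 54636) 449 (.node (.leaf 105051) 355 (.leaf 128380))) 1236 (.node (.leaf 34521) 229 (.node (.leaf 208719) 49 (.leaf 217254))))) 2319 (.node (.node (.node (.leaf 37576) 226 (.node (.leaf 228506) 61 (.leaf 247322))) 1903 (.node (.leaf 156295) 168 (.node (.leaf 131904) 521 (.leaf 39425)))) 3226 (.node (.node (.leaf 96519) 211 (.node (.leaf 95389) 1377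 (.leaf 41924))) 2970 (.node (.leaf 95460) 259 (.node (.leaf 150243) 965 (.leaf 232141)))))) 10263 (.node (.node (.node (.node (.leaf 44231) 1211 (.leaf 90047)) 2655 (.node (.leaf 38824) 4 (.node (.leaf 267104) 104 (.leaf 48375)))) 2931 (.node (.node (.leaf 60314) 140 (.node (.leaf 48487) 127 (.leaf 89404))) 667 (.node (.leaf 47540) 54 (.node (.leaf 281050) 58 (.leaf 47848))))) 4193 (.node (.node (.node (.leaf 209705) 828 (.node (.leaf 49797) 553 (.leaf 229166))) 1398 (.node (.leaf 34111) 1 (.node (.leaf 86900) 1 (.leaf 87063)))) 1401 (.node (.node (.leaf 50373) 1136 (.node (.leaf 139828) 918 (.leaf 54556))) 2055 (.node (.leaf 52427) 1154 (.node (.leaf 53580) 315 (.leaf 287950))))))) 19732 (.node (.node (.node (.node (.node (.leaf 86150) 1 (.leaf 58273)) 2 (.node (.leaf 87414) 1 (.node (.leaf 54251) 166 (.leaf 33960)))) 170 (.node (.node (.leaf 31765) 451 (.node (.leaf 191028) 284 (.leaf 34309))) 738 (.node (.leaf 55637) 1 (.node (.leaf 55156) 796 (.leaf 57663))))) 1706 (.node (.node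 (.node (.leaf 32043) 17 (.node (.leaf 49873) 168 (.leaf 294317))) 439 (.node (.leaf 56390) 178 (.node (.leaf 259123) 41 (.leaf 32879)))) 761 (.node (.node (.leaf 43835) 173 (.node (.leaf 34511) 1 (.leaf 33811))) 175 (.node (.leaf 31766) 249 (.node (.leaf 57137) 135 (.leaf 34155)))))) 3027 (.node (.node (.node (.node (.leaf 130260) 101 (.leaf 248406)) 130 (.node (.leaf 33961) 124 (.node (.leaf 57528) 1 (.leaf 57527)))) 274 (.node (.node (.leaf 57547) 116 (.node (.leaf 55951) 233 (.leaf 57896))) 419 (.node (.leaf 57967) 1 (.node (.leaf 57966) 303 (.leaf 31780))))) 998 (.node (.node (.node (.leaf 58272) 542 (.node (.leaf 118035) 112 (.leaf 31912))) 655 (.node (.leaf 32409) 151 (.node (.leaf 58922) 1 (.leaf 31913)))) 1552 (.node (.node (.leaf 192408) 285 (.node (.leaf 114270) 185 (.leaf 162917))) 810 (.node (.leaf 56395) 95 (.node (.leaf 191416) 140 (.leaf 132947)))))))) 26481 (.node (.node (.node (.node (.node (.node (.leaf 60995) 126 (.leaf 217384)) 2216 (.node (.leaf 173512) 1293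 (.node (.leaf 64970) 240 (.leaf 77424)))) 6321 (.node (.node (.leaf 304151) 1235 (.node (.leaf 246232) 864 (.leaf 69415))) 2901 (.node (.leaf 89384) 499 (.node (.leaf 292417) 63 (.leaf 70779))))) 10070 (.node (.node (.node (.leaf 265174) 11 (.node (.leaf 125986) 833 (.leaf 58951))) 2582 (.node (.leaf 306486) 111 (.node (.leaf 285875) 111 (.leaf 78729)))) 2835 (.node (.node (.leaf 73615) 146 (.node (.leaf 74045) 1165 (.leaf 75212))) 2893 (.node (.leaf 285442) 248 (.node (.leaf 250954) 383 (.leaf 64744)))))) 16804 (.node (.node (.node (.node (.leaf 100645) 436 (.leaf 240812)) 1313 (.node (.leaf 263353) 719 (.node (.leaf 243358) 1089 (.leaf 115603)))) 3131 (.node (.node (.leaf 56489) 412 (.node (.leaf 81091) 1023 (.leaf 277000))) 2215 (.node (.leaf 186370) 697 (.node (.leaf 83842) 303 (.leaf 244364))))) 6494 (.node (.node (.node (.leaf 92822) 160 (.node (.leaf 34299) 109 (.leaf 84562))) 553 (.node (.leaf 85249) 131 (.node (.leaf 84977) 213 (.leaf 73014)))) 1054 (.node (.node (.leaf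 85347) 11 (.node (.leaf 85358) 434 (.leaf 112208))) 677 (.node (.leaf 32136) 121 (.node (.leaf 84217) 5 (.leaf 54246))))))) 26045 (.node (.node (.node (.node (.node (.leaf 87039) 22 (.leaf 58046)) 53 (.node (.leaf 56255) 111 (.node (.leaf 60641) 9 (.leaf 58048)))) 174 (.node (.node (.leaf 56256) 1 (.node (.leaf 57410) 1 (.leaf 58928))) 4 (.node (.leaf 152060) 307 (.node (.leaf 299667) 2 (.leaf 295551))))) 1055 (.node (.node (.node (.leaf 59228) 1147 (.node (.leaf 73988) 1002 (.leaf 90244))) 5344 (.node (.leaf 93667) 257 (.node (.leaf 93696) 420 (.leaf 36971)))) 6279 (.node (.node (.leaf 52252) 552 (.node (.leaf 94926) 134 (.leaf 111502))) 1786 (.node (.leaf 108315) 244 (.node (.leaf 78310) 146 (.leaf 156030)))))) 9854 (.node (.node (.node (.node (.leaf 306188) 435 (.node (.leaf 300159) 68 (.leaf 166660))) 2918 (.node (.leaf 202658) 58 (.node (.leaf 87508) 963 (.leaf 268176)))) 5463 (.node (.node (.leaf 72279) 39 (.node (.leaf 102396) 565 (.leaf 82174))) 908 (.node (.leaf 151806)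 368 (.node (.leaf 166733) 1188 (.leaf 76087))))) 8099 (.node (.node (.node (.leaf 72088) 58 (.node (.leaf 35699) 212 (.leaf 94744))) 940 (.node (.leaf 243174) 504 (.node (.leaf 278537) 399 (.leaf 296853)))) 2013 (.node (.node (.leaf 107008) 2 (.node (.leaf 107006) 1003 (.leaf 263771))) 1223 (.node (.leaf 142352) 257 (.node (.leaf 108691) 205 (.leaf 108486)))))))))) 108718 (.node (.node (.node (.node (.node (.node (.node (.node (.leaf 118270) 270 (.leaf 81268)) 590 (.node (.leaf 160268) 541 (.node (.leaf 181471) 1449 (.leaf 111426)))) 2708 (.node (.node (.leaf 111298) 151 (.node (.leaf 111577) 631 (.leaf 85792))) 1086 (.node (.leaf 139218) 214 (.node (.leaf 201783) 85 (.leaf 58274))))) 4618 (.node (.node (.node (.leaf 234162) 2 (.node (.leaf 114182) 1 (.leaf 203051))) 118 (.node (.leaf 236177) 720 (.node (.leaf 277001) 1031 (.leaf 149151)))) 3661 (.node (.node (.leaf 116998) 72 (.node (.leaf 225934) 24 (.leaf 117092))) 677 (.node (.leaf 160395) 1287 (.node (.leaf 175067) 571 (.leaf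 49607)))))) 10939 (.node (.node (.node (.node (.leaf 265737) 119 (.leaf 183080)) 174 (.node (.leaf 297223) 435 (.node (.leaf 120512) 271 (.leaf 189494)))) 2182 (.node (.node (.leaf 121839) 78 (.node (.leaf 142195) 14 (.leaf 237557))) 582 (.node (.leaf 160566) 1639 (.node (.leaf 236906) 106 (.leaf 129086))))) 4832 (.node (.node (.node (.leaf 140953) 548 (.node (.leaf 185917) 350 (.leaf 128104))) 1179 (.node (.leaf 183260) 1245 (.node (.leaf 297969) 1191 (.leaf 125387)))) 3644 (.node (.node (.leaf 190739) 953 (.node (.leaf 124166) 900 (.leaf 143790))) 2311 (.node (.leaf 50374) 1 (.node (.leaf 201918) 2 (.leaf 55157))))))) 22033 (.node (.node (.node (.node (.node (.leaf 176349) 91 (.leaf 130842)) 278 (.node (.leaf 55538) 729 (.node (.leaf 198583) 110 (.leaf 258425)))) 1153 (.node (.node (.leaf 38904) 285 (.node (.leaf 297690) 758 (.leaf 60868))) 1045 (.node (.leaf 266288) 761 (.node (.leaf 196239) 446 (.leaf 249663))))) 4072 (.node (.node (.node (.leaf 200583) 1730 (.node (.leaf 146552)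 1533 (.leaf 206330))) 3393 (.node (.leaf 253363) 656 (.node (.leaf 39640) 957 (.leaf 50549)))) 5892 (.node (.node (.leaf 140891) 816 (.node (.leaf 294533) 45 (.leaf 282176))) 1156 (.node (.leaf 204036) 324 (.node (.leaf 121917) 259 (.leaf 142455)))))) 11729 (.node (.node (.node (.node (.leaf 44014) 272 (.leaf 142753)) 1310 (.node (.leaf 129986) 2762 (.node (.leaf 136553) 441 (.leaf 286194)))) 5356 (.node (.node (.leaf 182264) 1066 (.node (.leaf 243702) 66 (.leaf 198173))) 1641 (.node (.leaf 188415) 293 (.node (.leaf 296101) 745 (.leaf 72179))))) 8719 (.node (.node (.node (.leaf 151290) 861 (.node (.leaf 87218) 2 (.leaf 59280))) 877 (.node (.leaf 62648) 32 (.node (.leaf 140885) 610 (.leaf 277019)))) 2144 (.node (.node (.leaf 153343) 1278 (.node (.leaf 129140) 4252 (.leaf 243688))) 6214 (.node (.leaf 159557) 257 (.node (.leaf 230403) 1503 (.leaf 191860)))))))) 52877 (.node (.node (.node (.node (.node (.node (.leaf 42798) 334 (.leaf 202873)) 574 (.node (.leaf 116014) 273 (.node (.leaf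 174576) 1040 (.leaf 164254)))) 3735 (.node (.node (.leaf 79184) 1330 (.node (.leaf 97397) 394 (.leaf 164584))) 2859 (.node (.leaf 74478) 1494 (.node (.leaf 247579) 54 (.leaf 199307))))) 8513 (.node (.node (.node (.leaf 208490) 39 (.node (.leaf 104056) 192 (.leaf 85536))) 696 (.node (.leaf 131983) 155 (.node (.leaf 288562) 324 (.leaf 37354)))) 2116 (.node (.node (.leaf 93963) 775 (.node (.leaf 249378) 79 (.leaf 173078))) 895 (.node (.leaf 234723) 393 (.node (.leaf 63211) 897 (.leaf 77288)))))) 12910 (.node (.node (.node (.node (.leaf 169815) 71 (.leaf 162442)) 73 (.node (.leaf 253730) 404 (.node (.leaf 198101) 1210 (.leaf 176352)))) 1844 (.node (.node (.leaf 130751) 49 (.node (.leaf 176398) 195 (.leaf 169147))) 604 (.node (.leaf 241808) 899 (.node (.leaf 93989) 169 (.leaf 239901))))) 4540 (.node (.node (.node (.leaf 189804) 714 (.node (.leaf 181208) 162 (.leaf 284307))) 926 (.node (.leaf 127121) 1088 (.node (.leaf 181059) 229 (.leaf 112036)))) 2343 (.node (.node (.leaf 261175) 846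 (.node (.leaf 272265) 1 (.leaf 222955))) 888 (.node (.leaf 182385) 54 (.node (.leaf 229626) 55 (.leaf 182276))))))) 21013 (.node (.node (.node (.node (.node (.leaf 144282) 10 (.leaf 197873)) 62 (.node (.leaf 182788) 118 (.node (.leaf 182670) 292 (.leaf 119776)))) 642 (.node (.node (.leaf 123548) 692 (.node (.leaf 222008) 766 (.leaf 114835))) 2102 (.node (.leaf 114157) 699 (.node (.leaf 53992) 6 (.leaf 46800))))) 3780 (.node (.node (.node (.leaf 172995) 976 (.node (.leaf 83719) 195 (.leaf 287657))) 1670 (.node (.leaf 286090) 357 (.node (.leaf 149477) 163 (.leaf 93083)))) 2809 (.node (.node (.leaf 189198) 1 (.node (.leaf 189197) 373 (.leaf 140275))) 415 (.node (.leaf 189613) 347 (.node (.leaf 87223) 591 (.leaf 59387)))))) 7943 (.node (.node (.node (.node (.leaf 59875) 111 (.node (.leaf 205956) 77 (.leaf 128133))) 865 (.node (.leaf 60728) 247 (.node (.leaf 223916) 197 (.leaf 161317)))) 1556 (.node (.node (.leaf 297965) 476 (.node (.leaf 223232) 858 (.leaf 54460))) 1600 (.node (.leaf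 105573) 471 (.node (.leaf 129545) 841 (.leaf 230822))))) 5245 (.node (.node (.node (.leaf 195796) 423 (.node (.leaf 196219) 88 (.leaf 171602))) 550 (.node (.leaf 112186) 31 (.node (.leaf 87415) 122 (.leaf 253105)))) 1683 (.node (.node (.leaf 70941) 179 (.node (.leaf 215833) 490 (.leaf 197071))) 984 (.node (.leaf 135011) 2046 (.node (.leaf 303619) 74 (.leaf 134823))))))))) 92059 (.node (.node (.node (.node (.node (.node (.node (.leaf 152792) 2177 (.leaf 58789)) 2438 (.node (.leaf 150442) 145 (.node (.leaf 197262) 381 (.leaf 203740)))) 3369 (.node (.node (.leaf 195791) 273 (.node (.leaf 50330) 570 (.leaf 139442))) 2744 (.node (.leaf 292085) 517 (.node (.leaf 207408) 1 (.leaf 207407))))) 7942 (.node (.node (.node (.leaf 36715) 537 (.node (.leaf 231117) 492 (.leaf 220694))) 1993 (.node (.leaf 151112) 181 (.node (.leaf 210892) 216 (.leaf 211110)))) 2391 (.node (.node (.leaf 211109) 371 (.node (.leaf 268957) 1017 (.leaf 63203))) 1624 (.node (.leaf 100545) 220 (.node (.leaf 293511) 213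 (.leaf 89782)))))) 13039 (.node (.node (.node (.node (.leaf 213817) 981 (.leaf 104590)) 1889 (.node (.leaf 270482) 307 (.node (.leaf 85883) 352 (.leaf 285827)))) 4501 (.node (.node (.leaf 101372) 534 (.node (.leaf 238137) 1410 (.leaf 83676))) 3064 (.node (.leaf 40718) 627 (.node (.leaf 183942) 88 (.leaf 295573))))) 8623 (.node (.node (.node (.leaf 227015) 67 (.node (.leaf 114675) 285 (.leaf 222791))) 516 (.node (.leaf 182235) 208 (.node (.leaf 238038) 69 (.leaf 192583)))) 810 (.node (.node (.leaf 142492) 326 (.node (.leaf 66446) 279 (.leaf 74401))) 1137 (.node (.leaf 146416) 17 (.node (.leaf 40865) 488 (.leaf 224892))))))) 25469 (.node (.node (.node (.node (.node (.leaf 216622) 1515 (.leaf 111337)) 1737 (.node (.leaf 227982) 545 (.node (.leaf 80596) 219 (.leaf 176902)))) 2616 (.node (.node (.leaf 228862) 350 (.node (.leaf 208658) 594 (.leaf 167341))) 1111 (.node (.leaf 229973) 14 (.node (.leaf 229986) 1366 (.leaf 186858))))) 5701 (.node (.node (.node (.leaf 136481) 39 (.node (.leaf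 131834) 41 (.leaf 225075))) 173 (.node (.leaf 291989) 154 (.node (.leaf 232274) 1597 (.leaf 170506)))) 2057 (.node (.node (.leaf 269507) 718 (.node (.leaf 234722) 60 (.leaf 246791))) 1022 (.node (.leaf 235026) 912 (.node (.leaf 109543) 790 (.leaf 236728)))))) 10660 (.node (.node (.node (.node (.leaf 124060) 651 (.leaf 121931)) 807 (.node (.leaf 177214) 325 (.node (.leaf 223163) 293 (.leaf 285063)))) 1572 (.node (.node (.leaf 205659) 543 (.node (.leaf 241887) 4 (.leaf 290685))) 951 (.node (.leaf 177595) 380 (.node (.leaf 259354) 624 (.leaf 240432))))) 3906 (.node (.node (.node (.leaf 78235) 824 (.node (.leaf 199938) 427 (.leaf 242063))) 1277 (.node (.leaf 242090) 1 (.node (.leaf 242089) 165 (.leaf 250931)))) 2081 (.node (.node (.leaf 118529) 220 (.node (.leaf 243113) 544 (.leaf 117992))) 768 (.node (.leaf 250223) 703 (.node (.leaf 84145) 1076 (.leaf 245440)))))))) 44898 (.node (.node (.node (.node (.node (.node (.leaf 245675) 42 (.leaf 240102)) 1577 (.node (.leaf 161874) 70 (.node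 (.leaf 37120) 755 (.leaf 176576)))) 2577 (.node (.node (.leaf 105755) 72 (.node (.leaf 277488) 82 (.leaf 57374))) 1466 (.node (.leaf 116757) 505 (.node (.leaf 243661) 79 (.leaf 232711))))) 5078 (.node (.node (.node (.leaf 281051) 2268 (.node (.leaf 204340) 869 (.leaf 157031))) 3214 (.node (.leaf 114396) 1786 (.node (.leaf 215400) 141 (.leaf 269392)))) 5240 (.node (.node (.leaf 98235) 943 (.node (.leaf 113083) 1363 (.leaf 302322))) 2343 (.node (.leaf 258396) 117 (.node (.leaf 139122) 90 (.leaf 282284)))))) 13086 (.node (.node (.node (.node (.leaf 153073) 89 (.leaf 98263)) 145 (.node (.leaf 258906) 1238 (.node (.leaf 184074) 321 (.leaf 259745)))) 1737 (.node (.node (.leaf 135672) 45 (.node (.leaf 185346) 3228 (.leaf 108011))) 4006 (.node (.leaf 264553) 49 (.node (.leaf 264504) 740 (.leaf 72867))))) 6624 (.node (.node (.node (.leaf 265385) 2398 (.node (.leaf 268879) 110 (.leaf 34479))) 3354 (.node (.leaf 96925) 54 (.node (.leaf 304912) 599 (.leaf 255894)))) 5433 (.node (.node (.leaf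 174695) 213 (.node (.leaf 89329) 1738 (.leaf 103141))) 3244 (.node (.leaf 256362) 226 (.node (.leaf 161707) 249 (.leaf 177012))))))) 28955 (.node (.node (.node (.node (.node (.leaf 298975) 364 (.leaf 299182)) 1044 (.node (.leaf 194303) 917 (.node (.leaf 211503) 265 (.leaf 135595)))) 2370 (.node (.node (.leaf 82365) 19 (.node (.leaf 152718) 760 (.leaf 182258))) 978 (.node (.leaf 249781) 808 (.node (.leaf 76916) 2264 (.leaf 48429))))) 6564 (.node (.node (.node (.leaf 110495) 427 (.node (.leaf 262482) 615 (.leaf 194044))) 1436 (.node (.leaf 215516) 1709 (.node (.leaf 196588) 665 (.leaf 145368)))) 4119 (.node (.node (.leaf 286326) 397 (.node (.leaf 114078) 811 (.leaf 109698))) 3647 (.node (.leaf 51539) 937 (.node (.leaf 126969) 1187 (.leaf 77179)))))) 16920 (.node (.node (.node (.node (.leaf 243898) 854 (.node (.leaf 242425) 566 (.leaf 188353))) 1613 (.node (.leaf 199553) 2851 (.node (.leaf 224356) 87 (.leaf 149770)))) 4666 (.node (.node (.leaf 38220) 719 (.node (.leaf 139875) 288 (.leaf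 119831))) 1245 (.node (.leaf 117551) 180 (.node (.leaf 161996) 49 (.leaf 132189))))) 6415 (.node (.node (.node (.leaf 192107) 1326 (.node (.leaf 302776) 321 (.leaf 195029))) 4738 (.node (.leaf 302703) 916 (.node (.leaf 200509) 1119 (.leaf 291501)))) 6947 (.node (.node (.leaf 268793) 786 (.node (.leaf 266937) 454 (.leaf 306870))) 1269 (.node (.leaf 210001) 214 (.node (.leaf 279799) 116 (.leaf 60533)))))))))))

/-- the tables -/
def tabsAll : List Tab := [tab0, tab1, tab2, tab3, tab4, tab5, tab6, tab7, tab8, tab9, tab10, tab11]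

end CfsgLib.KnownB.Fi24Mult
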