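import Cfsg.Agent.Lib.KnownB.Fi24Mult.TabChk0
import Cfsg.Agent.Lib.KnownB.Fi24Mult.TabChk1
import Cfsg.Agent.Lib.KnownB.Fi24Mult.TabChk2
import Cfsg.Agent.Lib.KnownB.Fi24Mult.TabChk3
import Cfsg.Agent.Lib.KnownB.Fi24Mult.TabChk4
import Cfsg.Agent.Lib.KnownB.Fi24Mult.TabChk5
import Cfsg.Agent.Lib.KnownB.Fi24Mult.TabChk6
import Cfsg.Agent.Lib.KnownB.Fi24Mult.TabChk7
import Cfsg.Agent.Lib.KnownB.Fi24Mult.TabChk8
import Cfsg.Agent.Lib.KnownB.Fi24Mult.TabChk9
import Cfsg.Agent.Lib.KnownB.Fi24Mult.TabChk10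
import Cfsg.Agent.Lib.KnownB.Fi24Mult.TabChk11

/-! The tables give values of the generators. -/

set_option autoImplicit false

namespace CfsgLib.KnownB.Fi24Mult

open CfsgLib.BitPerm

theorem tab_sound {i x y : ℕ} {t : Tab} (hi : i < 12)
    (h : ∀ j < 19, t.okPlane CfsgLib.Spor.Fi24.sys i j = true) (hlt : t.valsLt (2 ^ 19) = true)
    (hl : t.look x = some y) :
    i < 12 ∧ ∀ v : Pt, (v : ℕ) = x → ((act24 (Fi24Mult.gen i) v : Pt) : ℕ) = y := by
  refine ⟨hi, fun v hv => ?_⟩
  subst hv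
  have hm := Tab.mem_of_look hl
  have hpt := act_gen hi v
  have hb : CfsgLib.Spor.Fi24.sys.pt i v < 2 ^ CfsgLib.Spor.Fi24.sys.k := by
    rw [← hpt, CfsgLib.Spor.Fi24.sys_k]
    exact lt_trans (act24 (Fi24Mult.gen i) v).2 (by norm_num)
  rw [hpt]
  refine Nat.eq_of_testBit_eq fun j => ?_
  by_cases hj : j < 19
  · exact Tab.eq_of_okPlane CfsgLib.Spor.Fi24.okNets hm hb (h j hj)
  · rw [CfsgLib.Spor.Fi24.sys_k] at hb
    rw [Nat.testBit_lt_two_pow (lt_of_lt_of_le hb (Nat.pow_le_pow_right (by norm_num) (not_lt.1 hj))),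
      Nat.testBit_lt_two_pow (lt_of_lt_of_le (Tab.lt_of_valsLt hlt hm)
        (Nat.pow_le_pow_right (by norm_num) (not_lt.1 hj)))]

theorem planes_all {f : ℕ → Bool} (h0 : ([0, 1, 2, 3, 4] : List ℕ).all f = true)
    (h1 : ([5, 6, 7, 8, 9] : List ℕ).all f = true) (h2 : ([10, 11, 12, 13, 14] : List ℕ).all f = true)
    (h3 : ([15, 16, 17, 18] : List ℕ).all f = true) : ∀ j < 19, f j = true := by
  simp only [List.all_cons, List.all_nil, Bool.and_eq_true, and_true] at h0 h1 h2 h3
  intro j hj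
  interval_cases j <;> simp_all

theorem eval_tabs : Eval (lookTabs tabsAll) := by
  intro i x y h
  rw [lookTabs] at h
  cases hb : Nat.blt i 12
  · rw [hb, cond_false] at h; simp at h
  rw [hb, cond_true] at h
  have hi : i < 12 := Nat.blt_eq.mp hb
  interval_cases i
  · exact tab_sound (by norm_num) (planes_all tab0_planes0 tab0_planes1 tab0_planes2 tab0_planes3) tab0_lt h
  · exact tab_sound (by norm_num) (planes_all tab1_planes0 tab1_planes1 tab1_planes2 tab1_planes3) tab1_lt h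
  · exact tab_sound (by norm_num) (planes_all tab2_planes0 tab2_planes1 tab2_planes2 tab2_planes3) tab2_lt h
  · exact tab_sound (by norm_num) (planes_all tab3_planes0 tab3_planes1 tab3_planes2 tab3_planes3) tab3_lt h
  · exact tab_sound (by norm_num) (planes_all tab4_planes0 tab4_planes1 tab4_planes2 tab4_planes3) tab4_lt h
  · exact tab_sound (by norm_num) (planes_all tab5_planes0 tab5_planes1 tab5_planes2 tab5_planes3) tab5_lt h
  · exact tab_sound (by norm_num) (planes_all tab6_planes0 tab6_planes1 tab6_planes2 tab6_planes3) tab6_lt h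
  · exact tab_sound (by norm_num) (planes_all tab7_planes0 tab7_planes1 tab7_planes2 tab7_planes3) tab7_lt h
  · exact tab_sound (by norm_num) (planes_all tab8_planes0 tab8_planes1 tab8_planes2 tab8_planes3) tab8_lt h
  · exact tab_sound (by norm_num) (planes_all tab9_planes0 tab9_planes1 tab9_planes2 tab9_planes3) tab9_lt h
  · exact tab_sound (by norm_num) (planes_all tab10_planes0 tab10_planes1 tab10_planes2 tab10_planes3) tab10_lt h
  · exact tab_sound (by norm_num) (planes_all tab11_planes0 tab11_planes1 tab11_planes2 tab11_planes3) tab11_lt h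

end CfsgLib.KnownB.Fi24Mult
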