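import Cfsg.Agent.Lib.KnownB.Fi24Mult.Pres

/-!
Lifts of the generators of `Fi₂₄` to an extension by an abelian group of odd order which they invert.
-/

set_option autoImplicit false
set_option maxRecDepth 100000

namespace CfsgLib.KnownB.Fi24Mult

open Cfsg.Spor

variable {X : Type*} [Group X] [Finite X]

/-- a kernel of odd order inverted by the lifts of the generators -/
structure Twist (σ : X →* Fi24) : Prop where
  surj : Function.Surjective σ
  odd : Odd (Nat.card σ.ker)
  inv : ∀ m ∈ σ.ker, ∀ (i : ℕ) (y : X), σ y = gen i → y * m * y⁻¹ = m⁻¹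

theorem eq_one_of_eq_inv {σ : X →* Fi24} (T : Twist σ) {m : X} (hm : m ∈ σ.ker) (h : m = m⁻¹) :
    m = 1 := by
  have h1 : orderOf (⟨m, hm⟩ : σ.ker) ∣ Nat.card σ.ker := orderOf_dvd_natCard _
  rw [Subgroup.orderOf_mk] at h1
  have h2 : orderOf m ∣ 2 := orderOf_dvd_of_pow_eq_one (by rw [pow_two]; nth_rewrite 2 [h]; rw [mul_inv_cancel])
  have h3 := Nat.dvd_gcd h1 h2
  rw [Nat.Coprime.gcd_eq_one (Nat.coprime_two_right.2 T.odd), Nat.dvd_one, orderOf_eq_one_iff] at h3
  exact h3

theorem eq_one_of_commute {σ : X →* Fi24} (T : Twist σ) {m y : X} {i : ℕ} (hy : σ y = gen i)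
    (hm : σ m = 1) (h : y * m = m * y) : m = 1 :=
  eq_one_of_eq_inv T hm (by
    have e := T.inv m hm i y hy
    rwa [h, mul_inv_cancel_right] at e)

theorem sq_of_lift {σ : X →* Fi24} (T : Twist σ) {y : X} {i : ℕ} (hy : σ y = gen i) : y * y = 1 :=
  eq_one_of_commute T hy (by rw [map_mul, hy, gen_sq]) (mul_assoc y y y).symm

theorem exists_commuting {σ : X →* Fi24} (T : Twist σ) {x y : X} {i j : ℕ} (hx : σ x = gen i)
    (hy : σ y = gen j) (h : gen i * gen j = gen j * gen i) :
    ∃ y', σ y' = gen j ∧ x * y' = y' * x := by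
  have hu : σ (x * y * x * y) = 1 := by
    rw [map_mul, map_mul, map_mul, hx, hy, h, mul_assoc (gen j), gen_sq, mul_one, gen_sq]
  obtain ⟨r, hr⟩ := T.odd
  set u := x * y * x * y with hudef
  have ho : u ^ (2 * r + 1) = 1 := by
    have h1 : (⟨u, hu⟩ : σ.ker) ^ Nat.card σ.ker = 1 := pow_card_eq_one'
    rw [hr] at h1
    exact congrArg Subtype.val h1
  have hm : σ (u ^ r) = 1 := by rw [map_pow, hu, one_pow]
  refine ⟨y * u ^ r, by rw [map_mul, hy, hm, mul_one], ?_⟩
  have hx2 := sq_of_lift T hx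
  have hy2 := sq_of_lift T (show σ (y * u ^ r) = gen j by rw [map_mul, hy, hm, mul_one])
  have hym := T.inv _ hm j y hy
  have hxm := T.inv _ hm i x hx
  have key : x * (y * u ^ r) * (x * (y * u ^ r)) = 1 := by
    have e1 : u ^ r * x = x * (u ^ r)⁻¹ := by
      rw [← hxm, ← mul_assoc, ← mul_assoc, hx2, one_mul,
        inv_eq_of_mul_eq_one_right hx2]
    have e2 : (u ^ r)⁻¹ * y = y * u ^ r := by
      rw [← hym]; group
    calc x * (y * u ^ r) * (x * (y * u ^ r)) = x * y * (u ^ r * x) * y * u ^ r := by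
          simp only [mul_assoc]
      _ = x * y * x * ((u ^ r)⁻¹ * y) * u ^ r := by rw [e1]; simp only [mul_assoc]
      _ = u * u ^ r * u ^ r := by rw [e2, hudef]; simp only [mul_assoc]
      _ = u ^ (2 * r + 1) := by rw [← pow_succ', ← pow_add]; congr 1; omega
      _ = 1 := ho
  calc x * (y * u ^ r) = (x * (y * u ^ r))⁻¹ := eq_inv_of_mul_eq_one_left key
    _ = y * u ^ r * x := by
      rw [mul_inv_rev, inv_eq_of_mul_eq_one_right hy2, inv_eq_of_mul_eq_one_right hx2]

/-- lifts satisfying all relations except possibly the relation of the arms -/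
structure Norm (σ : X →* Fi24) (x : ℕ → X) : Prop where
  map : ∀ i, σ (x i) = gen i
  sq : ∀ i, x i * x i = 1
  edge : ∀ i < 12, ∀ j < 12, edgeX i j = true → (x i * x j) ^ 3 = 1
  comm : ∀ i < 12, ∀ j < 12, edgeX i j = false → x i * x j = x j * x i
  seven : val x sevenW ^ 9 = x 0

theorem exists_norm {σ : X →* Fi24} (T : Twist σ) : ∃ x : ℕ → X, Norm σ x := by
  classical
  let x₀ := Function.surjInv T.surj (gen 0)
  have hx₀ : σ x₀ = gen 0 := Function.surjInv_eq T.surj _
  have h0 : ∀ j, ∃ y, σ y = gen j ∧ ((gen 0 * gen j = gen j * gen 0) → x₀ * y = y * x₀) ∧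
      (j = 0 → y = x₀) := by
    intro j
    by_cases hj : j = 0
    · exact ⟨x₀, hj ▸ hx₀, fun _ => rfl, fun _ => rfl⟩
    by_cases hc : gen 0 * gen j = gen j * gen 0
    · obtain ⟨y, hy, hyc⟩ := exists_commuting T hx₀ (Function.surjInv_eq T.surj (gen j)) hc
      exact ⟨y, hy, fun _ => hyc, fun h => absurd h hj⟩
    · exact ⟨_, Function.surjInv_eq T.surj (gen j), fun h => absurd h hc, fun h => absurd h hj⟩
  choose w hw hwc hw0 using h0
  have hw00 : w 0 = x₀ := hw0 0 rfl
  obtain ⟨y₁, hy₁, hy₁c⟩ := exists_commuting T (hw 9) (hw 1)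
    (gen_comm (by norm_num) (by norm_num) (by decide))
  let x := Function.update w 1 y₁
  have hx : ∀ i, σ (x i) = gen i := fun i => by
    by_cases h : i = 1
    · subst h; rw [show x 1 = y₁ from Function.update_self ..]; exact hy₁
    · rw [show x i = w i from Function.update_of_ne h ..]; exact hw i
  have hsq : ∀ i, x i * x i = 1 := fun i => sq_of_lift T (hx i)
  have c0 : ∀ j < 12, edgeX 0 j = false → x 0 * x j = x j * x 0 := by
    intro j hj h
    have h1 : j ≠ 1 := by rintro rfl; revert h; decide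
    rw [show x 0 = w 0 from Function.update_of_ne (by norm_num) .., hw00,
      show x j = w j from Function.update_of_ne h1 ..]
    exact hwc j (gen_comm (by norm_num) hj h)
  have hfix : ∀ (s : ℕ) (r : X), σ r = 1 → x s * r = r * x s → r = 1 := fun s r h h' =>
    eq_one_of_commute T (hx s) h h'
  have hσc : ∀ i < 12, ∀ j < 12, edgeX i j = false → σ (x i * x j * x i * x j) = 1 := by
    intro i hi j hj h
    simp only [map_mul, hx]
    rw [gen_comm hi hj h, mul_assoc (gen j), gen_sq, mul_one, gen_sq]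
  have hσ3 : ∀ i < 12, ∀ j < 12, edgeX i j = true → σ ((x i * x j) ^ 3) = 1 := fun i hi j hj h => by
    rw [map_pow, map_mul, hx, hx, gen_pow_three hi hj h]
  have toComm : ∀ i j, x i * x j * x i * x j = 1 → x i * x j = x j * x i := fun i j h => by
    have h' : x i * x j * (x i * x j) = 1 := by rw [← h]; simp only [mul_assoc]
    rw [eq_inv_of_mul_eq_one_left h', mul_inv_rev, inv_eq_of_mul_eq_one_right (hsq i),
      inv_eq_of_mul_eq_one_right (hsq j)]
  have ofTwo : ∀ (s i j : ℕ), x s * x i = x i * x s → x s * x j = x j * x s →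
      Commute (x s) (x i * x j * x i * x j) ∧ Commute (x s) ((x i * x j) ^ 3) := by
    intro s i j h1 h2
    exact ⟨((Commute.mul_right (Commute.mul_right h1 h2) h1).mul_right h2),
      ((Commute.mul_right h1 h2).pow_right 3)⟩
  have e2 : ∀ i < 12, ∀ j < 12, i ≠ 1 → j ≠ 1 →
      (edgeX i j = false → x i * x j = x j * x i) ∧ (edgeX i j = true → (x i * x j) ^ 3 = 1) := by
    intro i hi j hj hi1 hj1
    have g : ∀ s < 12, s ≠ 1 → edgeX 0 s = false := by decide
    have hs := ofTwo 0 i j (c0 i hi (g i hi hi1)) (c0 j hj (g j hj hj1))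
    exact ⟨fun h => toComm i j (hfix 0 _ (hσc i hi j hj h) hs.1),
      fun h => hfix 0 _ (hσ3 i hi j hj h) hs.2⟩
  have h19 : x 9 * x 1 = x 1 * x 9 := by
    rw [show x 9 = w 9 from Function.update_of_ne (by norm_num) .., show x 1 = y₁ from Function.update_self ..]
    exact hy₁c
  have c9 : ∀ j < 12, edgeX 9 j = false → x 9 * x j = x j * x 9 := by
    intro j hj h
    by_cases h1 : j = 1
    · subst h1; exact h19
    · exact (e2 9 (by norm_num) j hj (by norm_num) h1).1 h
  have e1 : ∀ j < 12,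
      (edgeX 1 j = false → x 1 * x j = x j * x 1) ∧ (edgeX 1 j = true → (x 1 * x j) ^ 3 = 1) := by
    intro j hj
    by_cases h1 : j = 1
    · subst h1
      exact ⟨fun _ => rfl, fun h => absurd h (by decide)⟩
    by_cases h8 : edgeX 9 j = false
    · have hs := ofTwo 9 1 j h19 (c9 j hj h8)
      exact ⟨fun h => toComm 1 j (hfix 9 _ (hσc 1 (by norm_num) j hj h) hs.1),
        fun h => hfix 9 _ (hσ3 1 (by norm_num) j hj h) hs.2⟩
    · have hj8 : j = 8 := by
        have g : ∀ j < 12, edgeX 9 j ≠ false → j = 8 := by decide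
        exact g j hj h8
      subst hj8
      have h11 : x 11 * x 1 = x 1 * x 11 := by
        have hs := ofTwo 9 11 1 (c9 11 (by norm_num) (by decide)) h19
        exact toComm 11 1 (hfix 9 _ (hσc 11 (by norm_num) 1 (by norm_num) (by decide)) hs.1)
      have hs := ofTwo 11 1 8 h11
        ((e2 11 (by norm_num) 8 (by norm_num) (by norm_num) (by norm_num)).1 (by decide))
      exact ⟨fun h => toComm 1 8 (hfix 11 _ (hσc 1 (by norm_num) 8 (by norm_num) h) hs.1),
        fun h => absurd h (by decide)⟩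
  refine ⟨x, hx, hsq, fun i hi j hj h => ?_, fun i hi j hj h => ?_, ?_⟩
  · by_cases hi1 : i = 1
    · subst hi1; exact (e1 j hj).2 h
    by_cases hj1 : j = 1
    · subst hj1
      have h' := (e1 i hi).2 (by rw [edgeX_symm 1 (by norm_num) i hi]; exact h)
      have e : (x i * x 1) ^ 3 = ((x 1 * x i) ^ 3)⁻¹ := by
        rw [← inv_pow, mul_inv_rev, inv_eq_of_mul_eq_one_right (hsq i),
          inv_eq_of_mul_eq_one_right (hsq 1)]
      rw [e, h', inv_one]
    exact (e2 i hi j hj hi1 hj1).2 h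
  · by_cases hi1 : i = 1
    · subst hi1; exact (e1 j hj).1 h
    by_cases hj1 : j = 1
    · subst hj1; exact ((e1 i hi).1 (by rw [edgeX_symm 1 (by norm_num) i hi]; exact h)).symm
    exact (e2 i hi j hj hi1 hj1).1 h
  · have hr : σ (val x sevenW ^ 9 * (x 0)⁻¹) = 1 := by
      rw [map_mul, map_inv, map_pow, val_map σ hx, seven_eq, hx, mul_inv_cancel]
    have hcomm : Commute (x 9) (val x sevenW ^ 9 * (x 0)⁻¹) := by
      refine (Commute.pow_right (Commute.list_prod_right _ _ fun z hz => ?_) 9).mul_right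
        (Commute.inv_right (c9 0 (by norm_num) (by decide)))
      obtain ⟨j, hj, rfl⟩ := List.mem_map.1 hz
      exact c9 j ((by decide : ∀ j ∈ sevenW, j < 12) j hj)
        ((by decide : ∀ j ∈ sevenW, edgeX 9 j = false) j hj)
    exact mul_inv_eq_one.1 (hfix 9 _ hr hcomm)

end CfsgLib.KnownB.Fi24Mult
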