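import Cfsg.Agent.Lib.KnownB.Fi24Mult.Pts

/-! Monomial lifts of the generators to three times 306936 points. -/

set_option autoImplicit false
set_option maxRecDepth 100000

namespace CfsgLib.KnownB.Fi24Mult

open CfsgLib.BitPerm

/-- residue coded by two bits -/
def tri (a b : Bool) : ZMod 3 := (if a then 1 else 0) + (if b then 2 else 0)

/-- residue of a point coded by two bit sets -/
def planeVal (G : ℕ × ℕ) (v : ℕ) : ZMod 3 := tri (G.1.testBit v) (G.2.testBit v)

/-- addition of coded residues -/
noncomputable def addP (G H : ℕ × ℕ) : ℕ × ℕ :=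
  force (Nat.xor G.1 (Nat.land G.1 G.2)) fun a => force (Nat.xor G.2 (Nat.land G.1 G.2)) fun b =>
    force (Nat.xor H.1 (Nat.land H.1 H.2)) fun c => force (Nat.xor H.2 (Nat.land H.1 H.2)) fun d =>
      force (Nat.lor a b) fun ab => force (Nat.lor c d) fun cd =>
        force (Nat.lor (Nat.lor (Nat.xor a (Nat.land a cd)) (Nat.xor c (Nat.land c ab))) (Nat.land b d))
          fun r₁ => force (Nat.lor (Nat.lor (Nat.xor b (Nat.land b cd)) (Nat.xor d (Nat.land d ab)))
            (Nat.land a c)) fun r₂ => (r₁, r₂)

theorem planeVal_addP (G H : ℕ × ℕ) (v : ℕ) : planeVal (addP G H) v = planeVal G v + planeVal H v := by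
  have key : ∀ a b c d : Bool,
      (let A := a ^^ (a && b); let B := b ^^ (a && b); let C := c ^^ (c && d); let D := d ^^ (c && d)
       tri ((A ^^ (A && (C || D))) || (C ^^ (C && (A || B))) || (B && D))
        ((B ^^ (B && (C || D))) || (D ^^ (D && (A || B))) || (A && C))) = tri a b + tri c d := by decide
  simp only [addP, force_eq, planeVal]
  rw [← key (G.1.testBit v) (G.2.testBit v) (H.1.testBit v) (H.2.testBit v)]
  congr 1 <;>
    simp only [show ∀ a b, Nat.lor a b = a ||| b from fun _ _ => rfl,
      show ∀ a b, Nat.land a b = a &&& b from fun _ _ => rfl,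
      show ∀ a b, Nat.xor a b = a ^^^ b from fun _ _ => rfl, Nat.testBit_or, Nat.testBit_and,
      Nat.testBit_xor]

/-- weights of the generators: a list of pairs of bit sets -/
abbrev Wts : Type := List (ℕ × ℕ)

/-- the weight of a letter with a sign -/
noncomputable def wLet (W : Wts) (neg : Bool) (i : ℕ) : ℕ × ℕ :=
  bif neg then ((W.getD i (0, 0)).2, (W.getD i (0, 0)).1) else W.getD i (0, 0)

/-- the weights of the prefixes of a word -/
noncomputable def wsum (S : Sys) (W : Wts) : List ℕ → Bool → ℕ × ℕ → ℕ × ℕ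
  | [], _, G => G
  | i :: w, neg, G =>
    force (S.act i G.1) fun a => force (S.act i G.2) fun b => wsum S W w (!neg) (addP (a, b) (wLet W neg i))

/-- the weight of a segment of a word is as given -/
noncomputable def okSum (S : Sys) (W : Wts) (w : List ℕ) (G G' : ℕ × ℕ) : Bool :=
  (w.all fun i => Nat.blt i 12) && Nat.beq (w.length % 2) 0 &&
    (fun R => Nat.beq R.1 G'.1 && Nat.beq R.2 G'.2) (wsum S W w false G)

/-- the lift of a generator -/
noncomputable def liftP (W : Wts) (i : ℕ) : Equiv.Perm (Pt × ZMod 3) :=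
  @dite _ (∀ v : Pt, planeVal (W.getD i (0, 0)) (act24 (gen i) v) = planeVal (W.getD i (0, 0)) v)
    (Classical.propDecidable _) (fun h =>
    { toFun := fun p => (act24 (gen i) p.1, -p.2 + planeVal (W.getD i (0, 0)) p.1)
      invFun := fun p => (act24 (gen i) p.1, -p.2 + planeVal (W.getD i (0, 0)) p.1)
      left_inv := fun p => Prod.ext
        (by
          show act24 (gen i) (act24 (gen i) p.1) = p.1
          rw [← Equiv.Perm.mul_apply, ← map_mul, gen_sq, map_one, Equiv.Perm.one_apply])
        (by show -(-p.2 + _) + _ = _; rw [h]; ring)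
      right_inv := fun p => Prod.ext
        (by
          show act24 (gen i) (act24 (gen i) p.1) = p.1
          rw [← Equiv.Perm.mul_apply, ← map_mul, gen_sq, map_one, Equiv.Perm.one_apply])
        (by show -(-p.2 + _) + _ = _; rw [h]; ring) })
    (fun _ => 1)

theorem liftP_apply {W : Wts} {i : ℕ}
    (h : ∀ v : Pt, planeVal (W.getD i (0, 0)) (act24 (gen i) v) = planeVal (W.getD i (0, 0)) v)
    (v : Pt) (m : ZMod 3) :
    liftP W i (v, m) = (act24 (gen i) v, -m + planeVal (W.getD i (0, 0)) v) := by
  rw [liftP, dif_pos h]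
  rfl

/-- the weights are symmetric -/
def Symm (W : Wts) : Prop :=
  ∀ i < 12, ∀ v : Pt, planeVal (W.getD i (0, 0)) (act24 (gen i) v) = planeVal (W.getD i (0, 0)) v

/-- the sign of a parity -/
def sgn (neg : Bool) : ZMod 3 := if neg then -1 else 1

/-- the effect of a word -/
def Effect (W : Wts) (u : List ℕ) (neg : Bool) (G : ℕ × ℕ) : Prop :=
  ∀ (v : Pt) (m : ZMod 3),
    val (liftP W) u (v, m) = (act24 (val gen u) v, sgn neg * m + planeVal G v)

theorem effect_nil (W : Wts) : Effect W [] false (0, 0) := fun v m => by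
  simp [val_nil, sgn, planeVal, tri]

theorem effect_wsum {W : Wts} (hW : Symm W) : ∀ (w : List ℕ), (∀ i ∈ w, i < 12) → ∀ (u : List ℕ)
    (neg : Bool) (G : ℕ × ℕ), Effect W u neg G →
      Effect W (u ++ w) (w.foldl (fun b _ => !b) neg) (wsum CfsgLib.Spor.Fi24.sys W w neg G)
  | [], _, u, neg, G, h => by simpa [wsum] using h
  | i :: w, hw, u, neg, G, h => by
    rw [wsum, force_eq, force_eq, List.foldl_cons, show u ++ i :: w = u ++ [i] ++ w by simp]
    refine effect_wsum hW w (fun k hk => hw k (List.mem_cons_of_mem _ hk)) _ _ _ fun v m => ?_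
    have hi := hw i List.mem_cons_self
    have hs := hW i hi
    have hl := liftP_apply hs v m
    rw [val_append, show val (liftP W) [i] = liftP W i by simp [val], Equiv.Perm.mul_apply, hl, h,
      planeVal_addP, val_append, show val gen [i] = gen i by simp [val], map_mul, Equiv.Perm.mul_apply]
    refine Prod.ext rfl ?_
    have hG : planeVal (CfsgLib.Spor.Fi24.sys.act i G.1, CfsgLib.Spor.Fi24.sys.act i G.2) v =
        planeVal G (act24 (gen i) v) := by
      simp only [planeVal, Sys.testBit_act CfsgLib.Spor.Fi24.okNets, act_gen hi]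
    show sgn neg * (-m + planeVal (W.getD i (0, 0)) v) + planeVal G (act24 (gen i) v) =
      sgn (!neg) * m + (planeVal (CfsgLib.Spor.Fi24.sys.act i G.1, CfsgLib.Spor.Fi24.sys.act i G.2) v +
        planeVal (wLet W neg i) v)
    rw [hG]
    cases neg
    · simp only [sgn, wLet, cond_false, Bool.not_false, Bool.false_eq_true, if_true, if_false]
      ring
    · have hneg : planeVal (wLet W true i) v = -planeVal (W.getD i (0, 0)) v := by
        have key : ∀ a b : Bool, tri b a = -tri a b := by decide
        exact key _ _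
      rw [hneg]
      simp only [sgn, Bool.not_true, Bool.false_eq_true, if_true, if_false]
      ring

theorem foldl_not : ∀ (w : List ℕ) (b : Bool),
    w.foldl (fun b _ => !b) b = if w.length % 2 = 0 then b else !b
  | [], b => by simp
  | i :: w, b => by
    rw [List.foldl_cons, foldl_not w, List.length_cons]
    rcases Nat.mod_two_eq_zero_or_one w.length with h | h
    · rw [if_pos h, if_neg (by omega)]
    · rw [if_neg (by omega), if_pos (by omega), Bool.not_not]

theorem effect_okSum {W : Wts} (hW : Symm W) {w u : List ℕ} {G G' : ℕ × ℕ} (h : Effect W u false G)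
    (hok : okSum CfsgLib.Spor.Fi24.sys W w G G' = true) : Effect W (u ++ w) false G' := by
  simp only [okSum, Bool.and_eq_true, Nat.beq_eq, List.all_eq_true, Nat.blt_eq] at hok
  obtain ⟨⟨hw, hev⟩, h1, h2⟩ := hok
  have := effect_wsum hW w hw u false G h
  rw [foldl_not, if_pos hev, show wsum CfsgLib.Spor.Fi24.sys W w false G = G' from Prod.ext h1 h2] at this
  exact this

/-- symmetric weights, as a check -/
noncomputable def okSymm (S : Sys) (W : Wts) : Bool :=
  (List.range 12).all fun i => Nat.beq (S.act i (W.getD i (0, 0)).1) (W.getD i (0, 0)).1 &&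
    Nat.beq (S.act i (W.getD i (0, 0)).2) (W.getD i (0, 0)).2

theorem symm_of_okSymm {W : Wts} (h : okSymm CfsgLib.Spor.Fi24.sys W = true) : Symm W := by
  intro i hi v
  have := List.all_eq_true.1 h i (List.mem_range.2 hi)
  simp only [Bool.and_eq_true, Nat.beq_eq] at this
  have e1 := congrArg (fun B => Nat.testBit B v) this.1
  have e2 := congrArg (fun B => Nat.testBit B v) this.2
  simp only [Sys.testBit_act CfsgLib.Spor.Fi24.okNets, ← act_gen hi] at e1 e2
  simp only [planeVal, e1, e2]

end CfsgLib.KnownB.Fi24Mult
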