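import Cfsg.Agent.Lib.KnownB.Fi24Mult.WtsData
import Cfsg.Agent.Lib.KnownB.Fi24Mult.WtsArmData

/-! Weight checks (generated). -/

set_option Elab.async false
set_option maxRecDepth 100000

namespace CfsgLib.KnownB.Fi24Mult

theorem sumArm0 : okSum CfsgLib.Spor.Fi24.sys wtsAll segArm0 (0, 0) (stArmA0, stArmB0) = true := by
  decide +kernel

theorem sumArm1 : okSum CfsgLib.Spor.Fi24.sys wtsAll segArm1 (stArmA0, stArmB0) (stArmA1, stArmB1) = true := by
  decide +kernel

theorem sumArm2 : okSum CfsgLib.Spor.Fi24.sys wtsAll segArm2 (stArmA1, stArmB1) (stArmA2, stArmB2) = true := by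
  decide +kernel

end CfsgLib.KnownB.Fi24Mult
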