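import Cfsg.Agent.Lib.KnownB.Fi24Mult.WtsData
import Cfsg.Agent.Lib.KnownB.Fi24Mult.WtsArmData

/-! Weight checks (generated). -/

set_option Elab.async false
set_option maxRecDepth 100000

namespace CfsgLib.KnownB.Fi24Mult

theorem sumArm6 : okSum CfsgLib.Spor.Fi24.sys wtsAll segArm6 (stArmA5, stArmB5) (stArmA6, stArmB6) = true := by
  decide +kernel

theorem sumArm7 : okSum CfsgLib.Spor.Fi24.sys wtsAll segArm7 (stArmA6, stArmB6) (stArmA7, stArmB7) = true := by
  decide +kernel

theorem sumArm8 : okSum CfsgLib.Spor.Fi24.sys wtsAll segArm8 (stArmA7, stArmB7) (0, Nat.sub (Nat.shiftLeft 1 306936) (Nat.shiftLeft 1 0)) = true := by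
  decide +kernel

end CfsgLib.KnownB.Fi24Mult
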