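import Cfsg.Agent.Lib.KnownB.Fi24Mult.WtsData

/-! Weight checks (generated). -/

set_option Elab.async false
set_option maxRecDepth 100000

namespace CfsgLib.KnownB.Fi24Mult

theorem wts_symm : okSymm CfsgLib.Spor.Fi24.sys wtsAll = true := by decide +kernel

theorem sumRel0 : okSum CfsgLib.Spor.Fi24.sys wtsAll [0, 0] (0, 0) (0, 0) = true := by
  decide +kernel

theorem sumRel1 : okSum CfsgLib.Spor.Fi24.sys wtsAll [1, 1] (0, 0) (0, 0) = true := by
  decide +kernel

theorem sumRel2 : okSum CfsgLib.Spor.Fi24.sys wtsAll [2, 2] (0, 0) (0, 0) = true := by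
  decide +kernel

theorem sumRel3 : okSum CfsgLib.Spor.Fi24.sys wtsAll [3, 3] (0, 0) (0, 0) = true := by
  decide +kernel

theorem sumRel4 : okSum CfsgLib.Spor.Fi24.sys wtsAll [4, 4] (0, 0) (0, 0) = true := by
  decide +kernel

theorem sumRel5 : okSum CfsgLib.Spor.Fi24.sys wtsAll [5, 5] (0, 0) (0, 0) = true := by
  decide +kernel

theorem sumRel6 : okSum CfsgLib.Spor.Fi24.sys wtsAll [6, 6] (0, 0) (0, 0) = true := by
  decide +kernel

theorem sumRel7 : okSum CfsgLib.Spor.Fi24.sys wtsAll [7, 7] (0, 0) (0, 0) = true := by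
  decide +kernel

theorem sumRel8 : okSum CfsgLib.Spor.Fi24.sys wtsAll [8, 8] (0, 0) (0, 0) = true := by
  decide +kernel

theorem sumRel9 : okSum CfsgLib.Spor.Fi24.sys wtsAll [9, 9] (0, 0) (0, 0) = true := by
  decide +kernel

theorem sumRel10 : okSum CfsgLib.Spor.Fi24.sys wtsAll [10, 10] (0, 0) (0, 0) = true := by
  decide +kernel

theorem sumRel11 : okSum CfsgLib.Spor.Fi24.sys wtsAll [11, 11] (0, 0) (0, 0) = true := by
  decide +kernel

theorem sumRel12 : okSum CfsgLib.Spor.Fi24.sys wtsAll [0, 1, 0, 1, 0, 1] (0, 0) (0, 0) = true := by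
  decide +kernel

theorem sumRel13 : okSum CfsgLib.Spor.Fi24.sys wtsAll [0, 2, 0, 2] (0, 0) (0, 0) = true := by
  decide +kernel

theorem sumRel14 : okSum CfsgLib.Spor.Fi24.sys wtsAll [0, 3, 0, 3] (0, 0) (0, 0) = true := by
  decide +kernel

theorem sumRel15 : okSum CfsgLib.Spor.Fi24.sys wtsAll [0, 4, 0, 4] (0, 0) (0, 0) = true := by
  decide +kernel

theorem sumRel16 : okSum CfsgLib.Spor.Fi24.sys wtsAll [0, 5, 0, 5] (0, 0) (0, 0) = true := by
  decide +kernel

theorem sumRel17 : okSum CfsgLib.Spor.Fi24.sys wtsAll [0, 6, 0, 6] (0, 0) (0, 0) = true := by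
  decide +kernel

theorem sumRel18 : okSum CfsgLib.Spor.Fi24.sys wtsAll [0, 7, 0, 7] (0, 0) (0, 0) = true := by
  decide +kernel

theorem sumRel19 : okSum CfsgLib.Spor.Fi24.sys wtsAll [0, 8, 0, 8] (0, 0) (0, 0) = true := by
  decide +kernel

theorem sumRel20 : okSum CfsgLib.Spor.Fi24.sys wtsAll [0, 9, 0, 9] (0, 0) (0, 0) = true := by
  decide +kernel

theorem sumRel21 : okSum CfsgLib.Spor.Fi24.sys wtsAll [0, 10, 0, 10] (0, 0) (0, 0) = true := by
  decide +kernel

theorem sumRel22 : okSum CfsgLib.Spor.Fi24.sys wtsAll [0, 11, 0, 11] (0, 0) (0, 0) = true := by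
  decide +kernel

theorem sumRel23 : okSum CfsgLib.Spor.Fi24.sys wtsAll [1, 2, 1, 2, 1, 2] (0, 0) (0, 0) = true := by
  decide +kernel

theorem sumRel24 : okSum CfsgLib.Spor.Fi24.sys wtsAll [1, 3, 1, 3] (0, 0) (0, 0) = true := by
  decide +kernel

theorem sumRel25 : okSum CfsgLib.Spor.Fi24.sys wtsAll [1, 4, 1, 4] (0, 0) (0, 0) = true := by
  decide +kernel

end CfsgLib.KnownB.Fi24Mult
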