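import Cfsg.Agent.Lib.KnownB.Fi24Mult.WtsData

/-! Weight checks (generated). -/

set_option Elab.async false
set_option maxRecDepth 100000

namespace CfsgLib.KnownB.Fi24Mult

theorem sumRel26 : okSum CfsgLib.Spor.Fi24.sys wtsAll [1, 5, 1, 5] (0, 0) (0, 0) = true := by
  decide +kernel

theorem sumRel27 : okSum CfsgLib.Spor.Fi24.sys wtsAll [1, 6, 1, 6] (0, 0) (0, 0) = true := by
  decide +kernel

theorem sumRel28 : okSum CfsgLib.Spor.Fi24.sys wtsAll [1, 7, 1, 7] (0, 0) (0, 0) = true := by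
  decide +kernel

theorem sumRel29 : okSum CfsgLib.Spor.Fi24.sys wtsAll [1, 8, 1, 8] (0, 0) (0, 0) = true := by
  decide +kernel

theorem sumRel30 : okSum CfsgLib.Spor.Fi24.sys wtsAll [1, 9, 1, 9] (0, 0) (0, 0) = true := by
  decide +kernel

theorem sumRel31 : okSum CfsgLib.Spor.Fi24.sys wtsAll [1, 10, 1, 10] (0, 0) (0, 0) = true := by
  decide +kernel

theorem sumRel32 : okSum CfsgLib.Spor.Fi24.sys wtsAll [1, 11, 1, 11] (0, 0) (0, 0) = true := by
  decide +kernel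

theorem sumRel33 : okSum CfsgLib.Spor.Fi24.sys wtsAll [2, 3, 2, 3, 2, 3] (0, 0) (0, 0) = true := by
  decide +kernel

theorem sumRel34 : okSum CfsgLib.Spor.Fi24.sys wtsAll [2, 4, 2, 4] (0, 0) (0, 0) = true := by
  decide +kernel

theorem sumRel35 : okSum CfsgLib.Spor.Fi24.sys wtsAll [2, 5, 2, 5] (0, 0) (0, 0) = true := by
  decide +kernel

theorem sumRel36 : okSum CfsgLib.Spor.Fi24.sys wtsAll [2, 6, 2, 6] (0, 0) (0, 0) = true := by
  decide +kernel

theorem sumRel37 : okSum CfsgLib.Spor.Fi24.sys wtsAll [2, 7, 2, 7] (0, 0) (0, 0) = true := by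
  decide +kernel

theorem sumRel38 : okSum CfsgLib.Spor.Fi24.sys wtsAll [2, 8, 2, 8] (0, 0) (0, 0) = true := by
  decide +kernel

theorem sumRel39 : okSum CfsgLib.Spor.Fi24.sys wtsAll [2, 9, 2, 9] (0, 0) (0, 0) = true := by
  decide +kernel

theorem sumRel40 : okSum CfsgLib.Spor.Fi24.sys wtsAll [2, 10, 2, 10] (0, 0) (0, 0) = true := by
  decide +kernel

theorem sumRel41 : okSum CfsgLib.Spor.Fi24.sys wtsAll [2, 11, 2, 11] (0, 0) (0, 0) = true := by
  decide +kernel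

theorem sumRel42 : okSum CfsgLib.Spor.Fi24.sys wtsAll [3, 4, 3, 4, 3, 4] (0, 0) (0, 0) = true := by
  decide +kernel

theorem sumRel43 : okSum CfsgLib.Spor.Fi24.sys wtsAll [3, 5, 3, 5] (0, 0) (0, 0) = true := by
  decide +kernel

theorem sumRel44 : okSum CfsgLib.Spor.Fi24.sys wtsAll [3, 6, 3, 6] (0, 0) (0, 0) = true := by
  decide +kernel

theorem sumRel45 : okSum CfsgLib.Spor.Fi24.sys wtsAll [3, 7, 3, 7] (0, 0) (0, 0) = true := by
  decide +kernel

theorem sumRel46 : okSum CfsgLib.Spor.Fi24.sys wtsAll [3, 8, 3, 8] (0, 0) (0, 0) = true := by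
  decide +kernel

theorem sumRel47 : okSum CfsgLib.Spor.Fi24.sys wtsAll [3, 9, 3, 9] (0, 0) (0, 0) = true := by
  decide +kernel

theorem sumRel48 : okSum CfsgLib.Spor.Fi24.sys wtsAll [3, 10, 3, 10] (0, 0) (0, 0) = true := by
  decide +kernel

theorem sumRel49 : okSum CfsgLib.Spor.Fi24.sys wtsAll [3, 11, 3, 11] (0, 0) (0, 0) = true := by
  decide +kernel

theorem sumRel50 : okSum CfsgLib.Spor.Fi24.sys wtsAll [4, 5, 4, 5, 4, 5] (0, 0) (0, 0) = true := by
  decide +kernel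

theorem sumRel51 : okSum CfsgLib.Spor.Fi24.sys wtsAll [4, 6, 4, 6] (0, 0) (0, 0) = true := by
  decide +kernel

end CfsgLib.KnownB.Fi24Mult
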