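import Cfsg.Agent.Lib.KnownB.Fi24Mult.WtsData

/-! Weight checks (generated). -/

set_option Elab.async false
set_option maxRecDepth 100000

namespace CfsgLib.KnownB.Fi24Mult

theorem sumRel52 : okSum CfsgLib.Spor.Fi24.sys wtsAll [4, 7, 4, 7] (0, 0) (0, 0) = true := by
  decide +kernel

theorem sumRel53 : okSum CfsgLib.Spor.Fi24.sys wtsAll [4, 8, 4, 8] (0, 0) (0, 0) = true := by
  decide +kernel

theorem sumRel54 : okSum CfsgLib.Spor.Fi24.sys wtsAll [4, 9, 4, 9] (0, 0) (0, 0) = true := by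
  decide +kernel

theorem sumRel55 : okSum CfsgLib.Spor.Fi24.sys wtsAll [4, 10, 4, 10] (0, 0) (0, 0) = true := by
  decide +kernel

theorem sumRel56 : okSum CfsgLib.Spor.Fi24.sys wtsAll [4, 11, 4, 11] (0, 0) (0, 0) = true := by
  decide +kernel

theorem sumRel57 : okSum CfsgLib.Spor.Fi24.sys wtsAll [5, 6, 5, 6, 5, 6] (0, 0) (0, 0) = true := by
  decide +kernel

theorem sumRel58 : okSum CfsgLib.Spor.Fi24.sys wtsAll [5, 7, 5, 7] (0, 0) (0, 0) = true := by
  decide +kernel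

theorem sumRel59 : okSum CfsgLib.Spor.Fi24.sys wtsAll [5, 8, 5, 8] (0, 0) (0, 0) = true := by
  decide +kernel

theorem sumRel60 : okSum CfsgLib.Spor.Fi24.sys wtsAll [5, 9, 5, 9] (0, 0) (0, 0) = true := by
  decide +kernel

theorem sumRel61 : okSum CfsgLib.Spor.Fi24.sys wtsAll [5, 10, 5, 10, 5, 10] (0, 0) (0, 0) = true := by
  decide +kernel

theorem sumRel62 : okSum CfsgLib.Spor.Fi24.sys wtsAll [5, 11, 5, 11] (0, 0) (0, 0) = true := by
  decide +kernel

theorem sumRel63 : okSum CfsgLib.Spor.Fi24.sys wtsAll [6, 7, 6, 7, 6, 7] (0, 0) (0, 0) = true := by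
  decide +kernel

theorem sumRel64 : okSum CfsgLib.Spor.Fi24.sys wtsAll [6, 8, 6, 8] (0, 0) (0, 0) = true := by
  decide +kernel

theorem sumRel65 : okSum CfsgLib.Spor.Fi24.sys wtsAll [6, 9, 6, 9] (0, 0) (0, 0) = true := by
  decide +kernel

theorem sumRel66 : okSum CfsgLib.Spor.Fi24.sys wtsAll [6, 10, 6, 10] (0, 0) (0, 0) = true := by
  decide +kernel

theorem sumRel67 : okSum CfsgLib.Spor.Fi24.sys wtsAll [6, 11, 6, 11] (0, 0) (0, 0) = true := by
  decide +kernel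

theorem sumRel68 : okSum CfsgLib.Spor.Fi24.sys wtsAll [7, 8, 7, 8, 7, 8] (0, 0) (0, 0) = true := by
  decide +kernel

theorem sumRel69 : okSum CfsgLib.Spor.Fi24.sys wtsAll [7, 9, 7, 9] (0, 0) (0, 0) = true := by
  decide +kernel

theorem sumRel70 : okSum CfsgLib.Spor.Fi24.sys wtsAll [7, 10, 7, 10] (0, 0) (0, 0) = true := by
  decide +kernel

theorem sumRel71 : okSum CfsgLib.Spor.Fi24.sys wtsAll [7, 11, 7, 11] (0, 0) (0, 0) = true := by
  decide +kernel

theorem sumRel72 : okSum CfsgLib.Spor.Fi24.sys wtsAll [8, 9, 8, 9, 8, 9] (0, 0) (0, 0) = true := by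
  decide +kernel

theorem sumRel73 : okSum CfsgLib.Spor.Fi24.sys wtsAll [8, 10, 8, 10] (0, 0) (0, 0) = true := by
  decide +kernel

theorem sumRel74 : okSum CfsgLib.Spor.Fi24.sys wtsAll [8, 11, 8, 11] (0, 0) (0, 0) = true := by
  decide +kernel

theorem sumRel75 : okSum CfsgLib.Spor.Fi24.sys wtsAll [9, 10, 9, 10] (0, 0) (0, 0) = true := by
  decide +kernel

theorem sumRel76 : okSum CfsgLib.Spor.Fi24.sys wtsAll [9, 11, 9, 11] (0, 0) (0, 0) = true := by
  decide +kernel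

theorem sumRel77 : okSum CfsgLib.Spor.Fi24.sys wtsAll [10, 11, 10, 11, 10, 11] (0, 0) (0, 0) = true := by
  decide +kernel

end CfsgLib.KnownB.Fi24Mult
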