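import Cfsg.Agent.Lib.KnownB.Fi24Mult.WtsData
import Cfsg.Agent.Lib.KnownB.Fi24Mult.WtsSevenData

/-! Weight checks (generated). -/

set_option Elab.async false
set_option maxRecDepth 100000

namespace CfsgLib.KnownB.Fi24Mult

theorem sumSeven0 : okSum CfsgLib.Spor.Fi24.sys wtsAll segSeven0 (0, 0) (stSevenA0, stSevenB0) = true := by
  decide +kernel

theorem sumSeven1 : okSum CfsgLib.Spor.Fi24.sys wtsAll segSeven1 (stSevenA0, stSevenB0) (0, 0) = true := by
  decide +kernel

end CfsgLib.KnownB.Fi24Mult
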