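import Cfsg.Agent.Lib.KnownB.Fi24Mult.WtsChkSeven0
import Cfsg.Agent.Lib.KnownB.Fi24Mult.WtsChkArm0
import Cfsg.Agent.Lib.KnownB.Fi24Mult.WtsChkArm1
import Cfsg.Agent.Lib.KnownB.Fi24Mult.WtsChkArm2
import Cfsg.Agent.Lib.KnownB.Fi24Mult.WtsChkRel0
import Cfsg.Agent.Lib.KnownB.Fi24Mult.WtsChkRel1
import Cfsg.Agent.Lib.KnownB.Fi24Mult.WtsChkRel2
import Cfsg.Agent.Lib.BitPerm.Orbit

/-! The monomial lifts satisfy the relations up to a translation. -/

set_option autoImplicit false
set_option maxRecDepth 100000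

namespace CfsgLib.KnownB.Fi24Mult

open CfsgLib.BitPerm Cfsg.Spor

attribute [local irreducible] wtsAll okSum wsum

/-- the lifts -/
noncomputable def liftW (i : ℕ) : Equiv.Perm (Pt × ZMod 3) := liftP wtsAll i

/-- the translation -/
def shiftT : Equiv.Perm (Pt × ZMod 3) where
  toFun p := (p.1, p.2 + 1)
  invFun p := (p.1, p.2 - 1)
  left_inv p := by simp
  right_inv p := by simp

theorem symm_wts : Symm wtsAll := symm_of_okSymm wts_symm

theorem effect_one {w : List ℕ} (hok : okSum CfsgLib.Spor.Fi24.sys wtsAll w (0, 0) (0, 0) = true)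
    (hg : val gen w = 1) : val liftW w = 1 := by
  have h := effect_okSum symm_wts (effect_nil wtsAll) hok
  rw [List.nil_append] at h
  refine Equiv.ext fun p => ?_
  obtain ⟨v, m⟩ := p
  show val (liftP wtsAll) w (v, m) = (v, m)
  rw [h, hg]
  simp [sgn, planeVal, tri]

theorem liftW_apply {i : ℕ} (hi : i < 12) (v : Pt) (m : ZMod 3) :
    liftW i (v, m) = (act24 (gen i) v, -m + planeVal (wtsAll.getD i (0, 0)) v) := by
  exact liftP_apply (symm_wts i hi) v m

theorem liftW_sq : ∀ i < 12, liftW i * liftW i = 1 := by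
  intro i hi
  have key : val liftW [i, i] = 1 := by
    refine effect_one ?_ (by simp [val, gen_sq])
    interval_cases i
    exacts [sumRel0, sumRel1, sumRel2, sumRel3, sumRel4, sumRel5, sumRel6, sumRel7, sumRel8, sumRel9,
      sumRel10, sumRel11]
  simpa [val] using key

theorem liftW_pair : ∀ i < 12, ∀ j < 12, i < j →
    val liftW (repW (if edgeX i j then 3 else 2) [i, j]) = 1 := by
  intro i hi j hj h
  refine effect_one ?_ ?_
  · interval_cases i <;> interval_cases j
    exacts [sumRel12, sumRel13, sumRel14, sumRel15, sumRel16, sumRel17, sumRel18, sumRel19, sumRel20, sumRel21, sumRel22, sumRel23, sumRel24, sumRel25, sumRel26, sumRel27, sumRel28, sumRel29, sumRel30, sumRel31, sumRel32, sumRel33, sumRel34, sumRel35, sumRel36, sumRel37, sumRel38, sumRel39, sumRel40, sumRel41, sumRel42, sumRel43, sumRel44, sumRel45, sumRel46, sumRel47, sumRel48, sumRel49, sumRel50, sumRel51, sumRel52, sumRel53, sumRel54, sumRel55, sumRel56, sumRel57, sumRel58, sumRel59, sumRel60, sumRel61, sumRel62, sumRel63, sumRel64,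 sumRel65, sumRel66, sumRel67, sumRel68, sumRel69, sumRel70, sumRel71, sumRel72, sumRel73, sumRel74, sumRel75, sumRel76, sumRel77]
  · rw [val_repW, show val gen [i, j] = gen i * gen j by simp [val]]
    cases he : edgeX i j
    · simp only [Bool.false_eq_true, if_false, pow_two]
      rw [mul_assoc, ← mul_assoc (gen j), ← gen_comm hi hj he, mul_assoc, gen_sq, mul_one, gen_sq]
    · simp only [if_true]
      exact gen_pow_three hi hj he

theorem liftW_seven : val liftW ([0] ++ repW 9 sevenW) = 1 := by
  refine Equiv.ext fun p => ?_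
  obtain ⟨v, m⟩ := p
  have h := effect_okSum symm_wts (effect_okSum symm_wts (effect_nil wtsAll) sumSeven0) sumSeven1
  rw [show [] ++ segSeven0 ++ segSeven1 = [0] ++ repW 9 sevenW by decide] at h
  show val (liftP wtsAll) _ (v, m) = (v, m)
  rw [h, val_append, val_repW, seven_eq, show val gen [0] = gen 0 by simp [val], gen_sq]
  simp [sgn, planeVal, tri]

theorem liftW_arm : val liftW (repW 17 armW) = shiftT ^ 2 := by
  refine Equiv.ext fun p => ?_
  obtain ⟨v, m⟩ := p
  have h := effect_okSum symm_wts (effect_okSum symm_wts (effect_okSum symm_wts (effect_okSum symm_wts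
    (effect_okSum symm_wts (effect_okSum symm_wts (effect_okSum symm_wts (effect_okSum symm_wts
    (effect_okSum symm_wts (effect_nil wtsAll) sumArm0) sumArm1) sumArm2) sumArm3) sumArm4) sumArm5)
    sumArm6) sumArm7) sumArm8
  rw [show [] ++ segArm0 ++ segArm1 ++ segArm2 ++ segArm3 ++ segArm4 ++ segArm5 ++ segArm6 ++ segArm7 ++
    segArm8 = repW 17 armW by decide] at h
  show val (liftP wtsAll) _ (v, m) = _
  rw [h, val_repW, arm_one]
  have hb : (Nat.sub (Nat.shiftLeft 1 306936) (Nat.shiftLeft 1 0)).testBit v = true := by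
    rw [Sys.testBit_interval (Nat.zero_le _)]
    simp [v.2]
  simp only [sgn, planeVal, hb, tri, map_one, Equiv.Perm.one_apply, pow_two, Equiv.Perm.mul_apply]
  refine Prod.ext rfl ?_
  show (if false = true then (-1 : ZMod 3) else 1) * m +
    ((if Nat.testBit 0 v then 1 else 0) + if true = true then 2 else 0) = m + 1 + 1
  rw [Nat.zero_testBit]
  simp only [Bool.false_eq_true, if_false, if_true, one_mul, zero_add]
  rw [add_assoc]
  rfl

end CfsgLib.KnownB.Fi24Mult
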